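import Cfsg.Agent.SporadicStructure.Co2RankThree

/-!
The order of `Spor.Co2`.
-/

set_option autoImplicit false

namespace Cfsg.Agent.Co2Type.CardCo2

open Cfsg Cfsg.Agent.SporadicStructure

/-- `Spor.Co2` is the stabiliser in `Co0` of the vector `(4, 4, 0²²)`. -/
theorem map_stabilizer : (MulAction.stabilizer Co0 Spor.leechU).map Co0.subtype = Spor.Co2 := by
  ext g
  constructor
  · rintro ⟨h, hh, rfl⟩
    exact ⟨h.2, hh⟩
  · rintro ⟨h1, h2⟩
    exact ⟨⟨g, h1⟩, h2, rfl⟩

theorem card_co2 : Nat.card Spor.Co2 = 42305421312000 := by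
  rw [← map_stabilizer, Subgroup.card_map_of_injective Co0.subtype_injective]
  exact Co2RankThree.card_stab_min _ Co2RankThree.dt_a0_a0

instance finite_co2 : Finite Spor.Co2 := Nat.finite_of_card_ne_zero (by rw [card_co2]; norm_num)

end Cfsg.Agent.Co2Type.CardCo2
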