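import Mathlib

/-!
The facts on the second Conway group `H` used in the closing argument (`C_G(z) ≤ H ≤ G` implies `H = G`), as one
structure: `T` is a Sylow 2-subgroup of `H` of order `2^18`, `E` an elementary abelian normal subgroup of `T`;
`z`, `y`, `v` are representatives of the three classes of involutions (2A, 2B, 2C).
All special elements lie in `E`. The theorem `CloseFacts Spor.Co2 ...` is in `Cfsg.Agent.Co2Type.FactsCo2`.
-/

set_option autoImplicit false

namespace Cfsg.Agent.Co2Type.Facts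

/-- `C_T(x)`. -/
def cent {H : Type*} [Group H] (T : Subgroup H) (x : H) : Subgroup H := T ⊓ Subgroup.centralizer {x}

/-- `C_T(x) ∩ C_T(y)`. -/
def cent2 {H : Type*} [Group H] (T : Subgroup H) (x y : H) : Subgroup H :=
  T ⊓ Subgroup.centralizer {x} ⊓ Subgroup.centralizer {y}

theorem mem_cent {H : Type*} [Group H] {T : Subgroup H} {x g : H} :
    g ∈ cent T x ↔ g ∈ T ∧ x * g = g * x := by
  simp only [cent, Subgroup.mem_inf, Subgroup.mem_centralizer_singleton_iff, eq_comm]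

theorem mem_cent2 {H : Type*} [Group H] {T : Subgroup H} {x y g : H} :
    g ∈ cent2 T x y ↔ g ∈ T ∧ x * g = g * x ∧ y * g = g * y := by
  simp only [cent2, Subgroup.mem_inf, Subgroup.mem_centralizer_singleton_iff, eq_comm, and_assoc]

/-- The facts on `H = Co2`. The class of an involution `x` is 2A, 2B, 2C if `IsConj z x`, `IsConj y x`, `IsConj v x`. -/
structure CloseFacts (H : Type*) [Group H] (T E : Subgroup H) (z y v : H) (z1 z2 u p : H) (a b c d : H) :
    Prop where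
  /-- the order of `T` -/
  cardT : Nat.card T = 2 ^ 18
  /-- `T` is a Sylow 2-subgroup of `H` -/
  odd_index : ¬ 2 ∣ T.index
  E_le : E ≤ T
  E_normal : ∀ t ∈ T, ∀ e ∈ E, t * e * t⁻¹ ∈ E
  E_comm : ∀ e ∈ E, ∀ f ∈ E, e * f = f * e
  E_sq : ∀ e ∈ E, e * e = 1
  cardE : Nat.card E = 2 ^ 10
  zE : z ∈ E
  yE : y ∈ E
  vE : v ∈ E
  z1E : z1 ∈ E
  z2E : z2 ∈ E
  uE : u ∈ E
  pE : p ∈ E
  aE : a ∈ E
  bE : b ∈ E
  cE : c ∈ E
  dE : d ∈ E
  /-- the centre of `T` -/
  z_comm : ∀ t ∈ T, t * z = z * t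
  center_T : ∀ t ∈ T, (∀ s ∈ T, s * t = t * s) → t = 1 ∨ t = z
  z_ne : z ≠ 1
  y_ne : y ≠ 1
  v_ne : v ≠ 1
  /-- the three classes of involutions -/
  classes : ∀ x : H, x * x = 1 → x ≠ 1 → IsConj z x ∨ IsConj y x ∨ IsConj v x
  not_zy : ¬ IsConj z y
  not_zv : ¬ IsConj z v
  not_yv : ¬ IsConj y v
  /-- centralisers in `T` of elements of 2A -/
  cent_le : ∀ x ∈ T, IsConj z x → x ≠ z → Nat.card (cent T x) ≤ 2 ^ 16
  cent_le_of_C : ∀ x ∈ T, IsConj z x → IsConj v (z * x) → Nat.card (cent T x) ≤ 2 ^ 14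
  /-- (D1): `v = z1 z2` is in 2C -/
  v_eq : v = z1 * z2
  z1A : IsConj z z1
  z2A : IsConj z z2
  cardv : Nat.card (cent T v) = 2 ^ 15
  only_v : ∀ x ∈ cent T v, IsConj z x → IsConj z (x * v) → x = z1 ∨ x = z2
  /-- (D2'): `Y = <y, p>`, pure 2B -/
  zy : IsConj y (z * y)
  zp : IsConj z (z * p)
  zyp : IsConj z (z * (y * p))
  p_ne : p ≠ 1
  pB : IsConj y p
  ypB : IsConj y (y * p)
  cardy : Nat.card (cent T y) = 2 ^ 17
  cardyp : Nat.card (cent2 T y p) = 2 ^ 16
  only_yp : ∀ x ∈ cent2 T y p, IsConj z x → IsConj y (x * y) → IsConj z (x * p) →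
    IsConj z (x * (y * p)) → x = z
  /-- (D2''): `u` is central in `C_T(y)` modulo `<y>` -/
  uA : IsConj z u
  uyA : IsConj z (u * y)
  u_comm : ∀ t ∈ cent T y, t * u * t⁻¹ = u ∨ t * u * t⁻¹ = u * y
  /-- the elements `s y = u x y` with `x` in `C_T(y)` of class 2A and `x y` of class 2B: they are in 2C or conjugate
  to `p` under the centraliser of `y` in `H` -/
  uxy : ∀ x ∈ cent T y, IsConj z x → IsConj y (x * y) →
    IsConj v (u * (x * y)) ∨ ∃ h : H, h * y * h⁻¹ = y ∧ h * (u * (x * y)) * h⁻¹ = p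
  /-- five elements of 2A in a subgroup of `E` of order 16 -/
  aA : IsConj z a
  bA : IsConj z b
  cA : IsConj z c
  dA : IsConj z d
  abcdA : IsConj z (a * b * c * d)

end Cfsg.Agent.Co2Type.Facts
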