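import Cfsg.Agent.Co2Type.TGroup

/-!
Orders of `E`, `T` and of centralisers in `T` of elements of `E`.
-/

set_option autoImplicit false

namespace Cfsg.Agent.Co2Type.TCard

open Cfsg Cfsg.Agent.SporadicA.GolayBase Cfsg.Agent.SporadicA.GolayPerm
open Cfsg.Agent.SporadicStructure.M24El
open Cfsg.Agent.Co2Type.Mono Cfsg.Agent.Co2Type.TData Cfsg.Agent.Co2Type.TGroup

/-- The indices of the masks of `E`. -/
def S10 : List ℕ := (List.range 4096).filter fun i => Nat.beq (Nat.land (enc i) 8388609) 0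

theorem length_S10 : S10.length = 1024 := by decide +kernel

theorem masks_eq : {m | inE m = true} = enc '' {i | i ∈ S10} := by
  ext m
  constructor
  · intro h
    have h' : inE m = true := h
    unfold inE at h'
    rw [Bool.and_eq_true] at h'
    obtain ⟨i, hi, rfl⟩ := isCode_iff_exists.1 h'.1
    exact ⟨i, List.mem_filter.2 ⟨List.mem_range.2 hi, h'.2⟩, rfl⟩
  · rintro ⟨i, hi, rfl⟩
    have h := (List.mem_filter.1 hi).2
    show inE (enc i) = true
    unfold inE
    rw [isCode_enc, Bool.true_and]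
    exact h

theorem ncard_list {l : List ℕ} (h : l.Nodup) : {i | i ∈ l}.ncard = l.length := by
  have : {i | i ∈ l} = (l.toFinset : Set ℕ) := by ext i; simp
  rw [this, Set.ncard_coe_finset, List.toFinset_card_of_nodup h]

theorem ncard_masks : {m | inE m = true}.ncard = 1024 := by
  rw [masks_eq, Set.InjOn.ncard_image, ncard_list, length_S10]
  · exact List.nodup_range.filter _
  · intro i hi j hj h
    exact enc_injOn (List.mem_range.1 (List.mem_filter.1 hi).1)
      (List.mem_range.1 (List.mem_filter.1 hj).1) h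

/-- The number of elements of `T` whose permutation satisfies `q`. -/
theorem ncard_filter (q : ℕ → Bool) :
    {g : Spor.Co2 | ∃ m P, inE m = true ∧ P ∈ L22 ∧ q P = true ∧ g = mo2 m P}.ncard =
      1024 * (L22.filter q).length := by
  have h : {g : Spor.Co2 | ∃ m P, inE m = true ∧ P ∈ L22 ∧ q P = true ∧ g = mo2 m P} =
      (fun x : ℕ × ℕ => mo2 x.1 x.2) '' ({m | inE m = true} ×ˢ {P | P ∈ L22.filter q}) := by
    ext g
    constructor
    · rintro ⟨m, P, hm, hP, hq, rfl⟩
      exact ⟨(m, P), ⟨hm, List.mem_filter.2 ⟨hP, hq⟩⟩, rfl⟩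
    · rintro ⟨⟨m, P⟩, ⟨hm, hP⟩, rfl⟩
      exact ⟨m, P, hm, (List.mem_filter.1 hP).1, (List.mem_filter.1 hP).2, rfl⟩
  rw [h, Set.InjOn.ncard_image, Set.ncard_prod, ncard_masks, ncard_list (nodup_L22.filter _)]
  rintro ⟨m, P⟩ ⟨hm, hP⟩ ⟨n, Q⟩ ⟨hn, hQ⟩ h2
  obtain ⟨h3, h4⟩ := mo2_injT hm hn (List.mem_filter.1 hP).1 (List.mem_filter.1 hQ).1 h2
  exact Prod.ext h3 h4

theorem card_T : Nat.card T = 2 ^ 18 := by
  rw [← SetLike.coe_sort_coe, Nat.card_coe_set_eq]
  have h : ((T : Subgroup Spor.Co2) : Set Spor.Co2) =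
      {g : Spor.Co2 | ∃ m P, inE m = true ∧ P ∈ L22 ∧ (fun _ : ℕ => true) P = true ∧ g = mo2 m P} := by
    ext g
    constructor
    · rintro ⟨m, P, hm, hP, rfl⟩
      exact ⟨m, P, hm, hP, rfl, rfl⟩
    · rintro ⟨m, P, hm, hP, -, rfl⟩
      exact ⟨m, P, hm, hP, rfl⟩
  rw [h, ncard_filter, List.filter_true, length_L22]
  norm_num

theorem card_E : Nat.card E = 2 ^ 10 := by
  rw [← SetLike.coe_sort_coe, Nat.card_coe_set_eq]
  have h : ((E : Subgroup Spor.Co2) : Set Spor.Co2) =
      {g : Spor.Co2 | ∃ m P, inE m = true ∧ P ∈ L22 ∧ (fun P : ℕ => Nat.beq P idP) P = true ∧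
        g = mo2 m P} := by
    ext g
    constructor
    · rintro ⟨m, hm, rfl⟩
      exact ⟨m, idP, hm, idP_mem, Nat.beq_refl _, rfl⟩
    · rintro ⟨m, P, hm, hP, h1, rfl⟩
      have h2 : P = idP := Nat.eq_of_beq_eq_true h1
      rw [h2]
      exact mo2_mem_E hm
  rw [h, ncard_filter]
  have : (L22.filter fun P : ℕ => Nat.beq P idP).length = 1 := by decide +kernel
  rw [this]
  norm_num

/-- Commuting with an element of `E`. -/
theorem comm_E_iff {m n P : ℕ} (hm : inE m = true) (hn : inE n = true) (hP : okP P = true)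
    (h : P < 2 ^ 120) : mo2 m P * mo2 n idP = mo2 n idP * mo2 m P ↔ pimg P n = n := by
  rw [mo2_conj_E hm hn hP h]
  constructor
  · intro h1
    have h2 := mul_right_cancel h1
    exact (mo2_inj (inE_pimg hP hn) hn okP_idP okP_idP idP_lt idP_lt h2).1
  · intro h1
    rw [h1]

end Cfsg.Agent.Co2Type.TCard
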