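import Cfsg.Agent.Co2Type.TGroup

/-!
`C_E(P)` for the involutions `P` of `T22`, as spans.
-/

set_option autoImplicit false

namespace Cfsg.Agent.Co2Type.TRows

open Cfsg Cfsg.Agent.SporadicA.GolayBase Cfsg.Agent.SporadicA.GolayPerm
open Cfsg.Agent.SporadicStructure.M24El
open Cfsg.Agent.Co2Type.Mono Cfsg.Agent.Co2Type.TData Cfsg.Agent.Co2Type.TGroup

theorem rows_mem : (rows.all fun r => memL r.P L22) = true := by decide +kernel

theorem row_mem {r : Row} (hr : r ∈ rows) : r.P ∈ L22 :=
  memL_iff.1 (List.all_eq_true.1 rows_mem r hr)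

theorem sp_rows : (rows.all fun r => allSp2 (B10.map fun b => (b, pimg r.P b))
    (fun n n' => cond (Nat.beq n n') (spB r.B n) true) 0 0) = true := by decide +kernel

/-- `C_E(P)` is contained in the span of the basis. -/
theorem sp_row {r : Row} (hr : r ∈ rows) {m : ℕ} (hm : inE m = true) (h : pimg r.P m = m) :
    Sp r.B m := by
  have h1 := List.all_eq_true.1 sp_rows r hr
  have h2 := allSp2_pimg (isPerm_of_mem (row_mem hr)) h1 (sp_B10 hm)
  rw [h, Nat.beq_refl, cond_true] at h2
  exact sp_of_spB h2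

theorem sp_rows' : (rows.all fun r => r.B.all fun b => inE b && Nat.beq (pimg r.P b) b) = true := by
  decide +kernel

theorem sp_of_all {P : ℕ} (hP : isPerm P = true) {l : List ℕ}
    (h : ∀ b ∈ l, inE b = true ∧ pimg P b = b) : ∀ {m : ℕ}, Sp l m → inE m = true ∧ pimg P m = m := by
  induction l with
  | nil =>
    intro m hm
    have hm' : m = 0 := hm
    subst hm'
    exact ⟨inE_zero, pimg_zero hP⟩
  | cons b l ih =>
    intro m hm
    have ih' : ∀ {m : ℕ}, Sp l m → inE m = true ∧ pimg P m = m :=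
      ih fun c hc => h c (List.mem_cons_of_mem _ hc)
    rcases hm with hm | hm
    · exact ih' hm
    · obtain ⟨h1, h2⟩ := ih' hm
      obtain ⟨h3, h4⟩ := h b List.mem_cons_self
      have e : (m ^^^ b) ^^^ b = m := by rw [Nat.xor_assoc, Nat.xor_self, Nat.xor_zero]
      refine ⟨by rw [← e]; exact inE_xor h1 h3, ?_⟩
      have h5 := pimg_xor hP (m ^^^ b) b
      rw [e, h2, h4, e] at h5
      exact h5

theorem sp_row_iff {r : Row} (hr : r ∈ rows) {m : ℕ} :
    Sp r.B m ↔ inE m = true ∧ pimg r.P m = m := by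
  constructor
  · apply sp_of_all (isPerm_of_mem (row_mem hr))
    intro b hb
    have h1 := List.all_eq_true.1 (List.all_eq_true.1 sp_rows' r hr) b hb
    rw [Bool.and_eq_true] at h1
    exact ⟨h1.1, Nat.eq_of_beq_eq_true h1.2⟩
  · rintro ⟨h1, h2⟩
    exact sp_row hr h1 h2

end Cfsg.Agent.Co2Type.TRows
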