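import Cfsg.Agent.Co2Type.TClass
import Cfsg.Agent.Co2Type.TCard
import Cfsg.Agent.Co2Type.TRows
import Cfsg.Agent.Co2Type.CardCo2
import Cfsg.Agent.Co2Type.Facts

/-!
The classes of involutions of `Spor.Co2` by the trace, and the bounds for centralisers in `T` of elements of
class 2A (fields `odd_index`, `classes`, `not_zy`, `not_zv`, `not_yv`, `cent_le`, `cent_le_of_C` of `CloseFacts`).
-/

set_option autoImplicit false

namespace Cfsg.Agent.Co2Type.FactsClass

open Cfsg Cfsg.Agent.SporadicA.GolayBase Cfsg.Agent.SporadicA.GolayPerm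
open Cfsg.Agent.SporadicStructure.M24El
open Cfsg.Agent.Co2Type.Mono Cfsg.Agent.Co2Type.TData Cfsg.Agent.Co2Type.TGroup
open Cfsg.Agent.Co2Type.TChecks Cfsg.Agent.Co2Type.TClass Cfsg.Agent.Co2Type.TCard
open Cfsg.Agent.Co2Type.TRows Cfsg.Agent.Co2Type.CardCo2 Cfsg.Agent.Co2Type.Facts

/-! ### Sylow -/

theorem index_T : T.index = 161382375 := by
  have h := T.card_mul_index
  rw [card_T, card_co2] at h
  omega

theorem odd_index : ¬ 2 ∣ T.index := by
  rw [index_T]
  norm_num

theorem isPGroup_T : IsPGroup 2 T := IsPGroup.of_card card_T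

/-- `T` as a Sylow 2-subgroup. -/
noncomputable def TSyl : Sylow 2 Spor.Co2 := isPGroup_T.toSylow odd_index

theorem coe_TSyl : (TSyl : Subgroup Spor.Co2) = T := rfl

theorem exists_conj_mem_T {x : Spor.Co2} (h : x * x = 1) : ∃ g : Spor.Co2, g * x * g⁻¹ ∈ T := by
  have hp : IsPGroup 2 (Subgroup.zpowers x) := by
    rintro ⟨y, hy⟩
    refine ⟨1, ?_⟩
    obtain ⟨m, rfl⟩ := Subgroup.mem_zpowers_iff.1 hy
    apply Subtype.ext
    show (x ^ m) ^ (2 ^ 1) = 1
    rw [pow_one, ← zpow_natCast, ← zpow_mul, mul_comm, zpow_mul]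
    have : x ^ ((2 : ℕ) : ℤ) = 1 := by rw [zpow_natCast, pow_two, h]
    rw [this, one_zpow]
  obtain ⟨S, hS⟩ := hp.exists_le_sylow
  obtain ⟨g, hg⟩ := MulAction.exists_smul_eq Spor.Co2 S TSyl
  refine ⟨g, ?_⟩
  have h1 : x ∈ (S : Subgroup Spor.Co2) := hS (Subgroup.mem_zpowers x)
  have h2 : g * x * g⁻¹ ∈ ((g • S : Sylow 2 Spor.Co2) : Subgroup Spor.Co2) := by
    rw [Sylow.coe_subgroup_smul]
    exact ⟨x, h1, rfl⟩
  rw [hg] at h2
  exact h2

theorem classes {x : Spor.Co2} (h : x * x = 1) (h1 : x ≠ 1) :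
    IsConj (mo2 mz idP) x ∨ IsConj (mo2 my idP) x ∨ IsConj (mo2 mv idP) x := by
  obtain ⟨g, hg⟩ := exists_conj_mem_T h
  have hc : IsConj x (g * x * g⁻¹) := isConj_iff.2 ⟨g, rfl⟩
  have h2 : g * x * g⁻¹ * (g * x * g⁻¹) = 1 := by
    have : g * x * g⁻¹ * (g * x * g⁻¹) = g * (x * x) * g⁻¹ := by group
    rw [this, h]
    group
  have h3 : g * x * g⁻¹ ≠ 1 := by
    intro h4
    rw [h4] at hc
    exact h1 (isConj_one_left.1 hc)
  rcases T_classes hg h2 h3 with h4 | h4 | h4
  · exact Or.inl (h4.trans hc.symm)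
  · exact Or.inr (Or.inl (h4.trans hc.symm))
  · exact Or.inr (Or.inr (h4.trans hc.symm))

/-! ### traces -/

theorem trN_idP {m : ℕ} (hm : inE m = true) : trN m idP = 24 - 2 * (popcount m : ℤ) := by
  have h1 : fixm idP = 16777215 := by decide +kernel
  have h2 : popcount 16777215 = 24 := by decide +kernel
  have h3 : 16777215 &&& m = m := by
    rw [Nat.and_comm, show 16777215 = 2 ^ 24 - 1 by norm_num]
    exact Nat.and_two_pow_sub_one_of_lt_two_pow (isCode_lt (isCode_of_inE hm))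
  unfold trN
  rw [h1, h2, h3]
  rfl

theorem tr_E {m : ℕ} (hm : inE m = true) : tr (mo2 m idP) = 24 - 2 * (popcount m : ℤ) := by
  rw [tr_mo2 hm okP_idP, trN_idP hm]

theorem tr_z : tr (mo2 mz idP) = -8 := by
  rw [tr_E inE_mz]
  have : popcount mz = 16 := by decide +kernel
  rw [this]; norm_num

theorem tr_y : tr (mo2 my idP) = 8 := by
  rw [tr_E inE_my]
  have : popcount my = 8 := by decide +kernel
  rw [this]; norm_num

theorem tr_v : tr (mo2 mv idP) = 0 := by
  rw [tr_E inE_mv]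
  have : popcount mv = 12 := by decide +kernel
  rw [this]; norm_num

theorem tr_one : tr (1 : Spor.Co2) = 24 := by
  rw [← mo2_one, tr_E inE_zero]
  have : popcount 0 = 0 := by decide +kernel
  rw [this]; norm_num

theorem not_zy : ¬ IsConj (mo2 mz idP) (mo2 my idP) := by
  intro h
  have := tr_of_isConj h
  rw [tr_z, tr_y] at this
  omega

theorem not_zv : ¬ IsConj (mo2 mz idP) (mo2 mv idP) := by
  intro h
  have := tr_of_isConj h
  rw [tr_z, tr_v] at this
  omega

theorem not_yv : ¬ IsConj (mo2 my idP) (mo2 mv idP) := by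
  intro h
  have := tr_of_isConj h
  rw [tr_y, tr_v] at this
  omega

theorem conj_z_of_tr {x : Spor.Co2} (h : x * x = 1) (ht : tr x = -8) : IsConj (mo2 mz idP) x := by
  have h1 : x ≠ 1 := by rintro rfl; rw [tr_one] at ht; omega
  rcases classes h h1 with h2 | h2 | h2
  · exact h2
  · have := tr_of_isConj h2; rw [tr_y, ht] at this; omega
  · have := tr_of_isConj h2; rw [tr_v, ht] at this; omega

theorem conj_y_of_tr {x : Spor.Co2} (h : x * x = 1) (ht : tr x = 8) : IsConj (mo2 my idP) x := by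
  have h1 : x ≠ 1 := by rintro rfl; rw [tr_one] at ht; omega
  rcases classes h h1 with h2 | h2 | h2
  · have := tr_of_isConj h2; rw [tr_z, ht] at this; omega
  · exact h2
  · have := tr_of_isConj h2; rw [tr_v, ht] at this; omega

theorem conj_v_of_tr {x : Spor.Co2} (h : x * x = 1) (ht : tr x = 0) : IsConj (mo2 mv idP) x := by
  have h1 : x ≠ 1 := by rintro rfl; rw [tr_one] at ht; omega
  rcases classes h h1 with h2 | h2 | h2
  · have := tr_of_isConj h2; rw [tr_z, ht] at this; omega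
  · have := tr_of_isConj h2; rw [tr_y, ht] at this; omega
  · exact h2

theorem E_sq {m : ℕ} (hm : inE m = true) : mo2 m idP * mo2 m idP = 1 := by
  rw [E_mul hm hm, Nat.xor_self, mo2_one]

theorem sq_of_isConj {m : ℕ} (hm : inE m = true) {x : Spor.Co2} (h : IsConj (mo2 m idP) x) :
    x * x = 1 := by
  obtain ⟨c, rfl⟩ := isConj_iff.1 h
  have : c * mo2 m idP * c⁻¹ * (c * mo2 m idP * c⁻¹) = c * (mo2 m idP * mo2 m idP) * c⁻¹ := by group
  rw [this, E_sq hm]
  group

/-! ### centralisers in `T` -/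

/-- Centraliser in `T` of an element of `E`. -/
theorem card_cent_E {c : ℕ} (hc : inE c = true) :
    Nat.card (cent T (mo2 c idP)) = 1024 * (L22.filter fun P => Nat.beq (pimg P c) c).length := by
  rw [← SetLike.coe_sort_coe, Nat.card_coe_set_eq, ← ncard_filter]
  congr 1
  ext g
  constructor
  · intro hg
    obtain ⟨⟨m, P, hm, hP, rfl⟩, h⟩ := mem_cent.1 hg
    have h1 := (comm_E_iff hm hc (okP_of_mem hP) (lt_of_mem hP)).1 h.symm
    exact ⟨m, P, hm, hP, by rw [h1]; exact Nat.beq_refl c, rfl⟩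
  · rintro ⟨m, P, hm, hP, hq, rfl⟩
    refine mem_cent.2 ⟨⟨m, P, hm, hP, rfl⟩, ?_⟩
    exact ((comm_E_iff hm hc (okP_of_mem hP) (lt_of_mem hP)).2 (Nat.eq_of_beq_eq_true hq)).symm

/-- Upper bound for the centraliser in `T` of an involution outside `E`. -/
theorem card_cent_le {r : Row} (hr : r ∈ rows) {c : ℕ} (hc : inE c = true) :
    Nat.card (cent T (mo2 c r.P)) ≤
      2 ^ r.B.length * (L22.filter fun Q => Nat.beq (pcomp Q r.P) (pcomp r.P Q)).length := by
  classical
  have hP := row_mem hr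
  let U : Set (ℕ × ℕ) := {x | inE x.1 = true ∧ x.2 ∈ L22 ∧
    x.1 ^^^ pimg x.2 c = c ^^^ pimg r.P x.1 ∧ pcomp x.2 r.P = pcomp r.P x.2}
  have hUfin : U.Finite := by
    refine Set.Finite.subset (s := {m | inE m = true} ×ˢ {P | P ∈ L22}) ?_ ?_
    · apply Set.Finite.prod
      · rw [masks_eq]
        exact (List.finite_toSet _).image _
      · exact List.finite_toSet _
    · rintro x ⟨h1, h2, -, -⟩
      exact ⟨h1, h2⟩
  have h1 : ((cent T (mo2 c r.P) : Subgroup Spor.Co2) : Set Spor.Co2) ⊆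
      (fun x : ℕ × ℕ => mo2 x.1 x.2) '' U := by
    intro g hg
    obtain ⟨⟨m, Q, hm, hQ, rfl⟩, h⟩ := mem_cent.1 hg
    rw [mo2_mul hc hm (okP_of_mem hP) (okP_of_mem hQ),
      mo2_mul hm hc (okP_of_mem hQ) (okP_of_mem hP)] at h
    have h2 := mo2_injT (inE_xor hc (inE_pimg (okP_of_mem hP) hm))
      (inE_xor hm (inE_pimg (okP_of_mem hQ) hc)) (pcomp_mem hP hQ) (pcomp_mem hQ hP) h
    exact ⟨(m, Q), ⟨hm, hQ, h2.1.symm, h2.2.symm⟩, rfl⟩
  rw [← SetLike.coe_sort_coe, Nat.card_coe_set_eq]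
  refine (Set.ncard_le_ncard h1 (hUfin.image _)).trans ?_
  refine (Set.ncard_image_le hUfin).trans ?_
  rw [Set.ncard_eq_toFinset_card U hUfin]
  have h3 := Finset.card_le_mul_card_image (s := hUfin.toFinset) (f := Prod.snd) (2 ^ r.B.length) (by
    intro Q _
    by_cases hne : (hUfin.toFinset.filter fun a => a.2 = Q).Nonempty
    · obtain ⟨⟨n0, Q0⟩, h0⟩ := hne
      rw [Finset.mem_filter, Set.Finite.mem_toFinset] at h0
      obtain ⟨⟨g1, g2, g3, g4⟩, g5⟩ := h0
      have g5' : Q0 = Q := g5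
      subst g5'
      refine le_trans ?_ (ncard_sp r.B).2
      rw [Set.ncard_eq_toFinset_card _ (ncard_sp r.B).1]
      apply Finset.card_le_card_of_injOn (fun a => a.1 ^^^ n0)
      · rintro ⟨n, Q'⟩ ha
        rw [Finset.mem_coe, Finset.mem_filter, Set.Finite.mem_toFinset] at ha
        obtain ⟨⟨k1, k2, k3, k4⟩, k5⟩ := ha
        have k5' : Q' = Q0 := k5
        subst k5'
        rw [Finset.mem_coe, Set.Finite.mem_toFinset]
        refine sp_row hr (inE_xor k1 g1) ?_
        rw [pimg_xor (isPerm_of_mem hP)]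
        have e1 : pimg r.P n = c ^^^ (n ^^^ pimg Q' c) := by
          have k3' : n ^^^ pimg Q' c = c ^^^ pimg r.P n := k3
          rw [k3', ← Nat.xor_assoc, Nat.xor_self, Nat.zero_xor]
        have e2 : pimg r.P n0 = c ^^^ (n0 ^^^ pimg Q' c) := by
          have g3' : n0 ^^^ pimg Q' c = c ^^^ pimg r.P n0 := g3
          rw [g3', ← Nat.xor_assoc, Nat.xor_self, Nat.zero_xor]
        rw [e1, e2]
        apply Nat.eq_of_testBit_eq
        intro i
        simp only [Nat.testBit_xor]
        cases c.testBit i <;> cases n.testBit i <;> cases n0.testBit i <;>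
          cases (pimg Q' c).testBit i <;> rfl
      · rintro ⟨n, Q1⟩ ha ⟨n', Q2⟩ hb hab
        rw [Finset.mem_coe, Finset.mem_filter] at ha hb
        have e3 : n ^^^ n0 = n' ^^^ n0 := hab
        have e4 : n = n' := by
          have := congrArg (fun t => t ^^^ n0) e3
          simp only [Nat.xor_assoc, Nat.xor_self, Nat.xor_zero] at this
          exact this
        have e5 : Q1 = Q0 := ha.2
        have e6 : Q2 = Q0 := hb.2
        rw [e4, e5, e6]
    · rw [Finset.not_nonempty_iff_eq_empty] at hne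
      rw [hne, Finset.card_empty]
      exact Nat.zero_le _)
  refine h3.trans (Nat.mul_le_mul_left _ ?_)
  have h4 : hUfin.toFinset.image Prod.snd ⊆
      (L22.filter fun Q => Nat.beq (pcomp Q r.P) (pcomp r.P Q)).toFinset := by
    intro Q hQ
    obtain ⟨⟨n, Q'⟩, ha, rfl⟩ := Finset.mem_image.1 hQ
    rw [Set.Finite.mem_toFinset] at ha
    obtain ⟨k1, k2, k3, k4⟩ := ha
    rw [List.mem_toFinset, List.mem_filter]
    have k4' : pcomp Q' r.P = pcomp r.P Q' := k4
    refine ⟨k2, ?_⟩
    show Nat.beq (pcomp Q' r.P) (pcomp r.P Q') = true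
    rw [k4']
    exact Nat.beq_refl _
  refine (Finset.card_le_card h4).trans ?_
  exact List.toFinset_card_le _

theorem rows_bound : (rows.all fun r => Nat.ble
    (2 ^ r.B.length * (L22.filter fun Q => Nat.beq (pcomp Q r.P) (pcomp r.P Q)).length) 16384) = true := by
  decide +kernel

theorem E_bound : allSp B10 (fun c => cond (Nat.beq (popcount c) 16) (cond (Nat.beq c mz) true
    (Nat.ble (L22.filter fun P => Nat.beq (pimg P c) c).length
      (cond (Nat.beq (popcount (Nat.xor mz c)) 12) 16 64))) true) 0 = true := by decide +kernel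

theorem cent_bound {x : Spor.Co2} (hx : x ∈ T) (h : IsConj (mo2 mz idP) x) (hne : x ≠ mo2 mz idP) :
    Nat.card (cent T x) ≤ 2 ^ 16 ∧
      (IsConj (mo2 mv idP) (mo2 mz idP * x) → Nat.card (cent T x) ≤ 2 ^ 14) := by
  obtain ⟨c, P, hc, hP, rfl⟩ := mem_T_iff.1 hx
  have hsq := sq_of_isConj inE_mz h
  obtain ⟨h1, h2⟩ := (sq_eq_one_iff hc hP).1 hsq
  by_cases hid : P = idP
  · subst hid
    have ht := tr_of_isConj h
    rw [tr_z, tr_E hc] at ht
    have h16 : popcount c = 16 := by omega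
    have hcz : c ≠ mz := by
      rintro rfl
      exact hne rfl
    have h3 := allSp_zero E_bound (sp_B10 hc)
    have h4 : Nat.beq c mz = false := by
      rw [Bool.eq_false_iff]
      intro h5
      exact hcz (Nat.eq_of_beq_eq_true h5)
    rw [h16, h4] at h3
    have h5 : Nat.ble (L22.filter fun P => Nat.beq (pimg P c) c).length
      (cond (Nat.beq (popcount (Nat.xor mz c)) 12) 16 64) = true := h3
    have h6 := Nat.le_of_ble_eq_true h5
    rw [card_cent_E hc]
    constructor
    · have h7 : (cond (Nat.beq (popcount (Nat.xor mz c)) 12) 16 64 : ℕ) ≤ 64 := by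
        cases Nat.beq (popcount (Nat.xor mz c)) 12 <;> simp
      have h8 := h6.trans h7
      omega
    · intro hv
      have ht2 := tr_of_isConj hv
      rw [E_mul inE_mz hc, tr_v, tr_E (inE_xor inE_mz hc)] at ht2
      have h9 : popcount (Nat.xor mz c) = 12 := by
        have : popcount (mz ^^^ c) = 12 := by omega
        exact this
      rw [h9] at h6
      have h10 : (cond (Nat.beq 12 12) 16 64 : ℕ) = 16 := rfl
      rw [h10] at h6
      omega
  · obtain ⟨r, hr, rfl⟩ := exists_row hP h1 hid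
    have h3 := card_cent_le hr hc
    have h4 := Nat.le_of_ble_eq_true (List.all_eq_true.1 rows_bound r hr)
    have h5 := h3.trans h4
    have e1 : (16384 : ℕ) = 2 ^ 14 := by norm_num
    have e2 : (16384 : ℕ) ≤ 2 ^ 16 := by norm_num
    exact ⟨h5.trans e2, fun _ => h5.trans e1.le⟩

end Cfsg.Agent.Co2Type.FactsClass
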