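import Mathlib
import Cfsg.Prelude.Def_Transfer

/-!
# Large extraspecial 2-subgroups as quadratic spaces (R03, helper902)

`Large Q z` : elementwise description of an extraspecial 2-group `Q` with centre `⟨z⟩`, normalised by
`C_G(z)` and containing its centraliser in `C_G(z)`.  `h.V` is `Q / ⟨z⟩` as a vector space over
`ZMod 2`, `h.pr : Q → h.V` the projection, `h.q` the squaring form, `h.b` the commutator form,
`h.act` the action of `C_G(z)`.
-/

set_option autoImplicit false

namespace Cfsg.Agent.Co2Type.Quad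

/-- `Q` is an extraspecial 2-group with centre `⟨z⟩`, normalised by `C_G(z)`, `C_G(Q) ≤ Q`. -/
structure Large {G : Type*} [Group G] (Q : Subgroup G) (z : G) : Prop where
  z_mem : z ∈ Q
  z_ne : z ≠ 1
  z_sq : z * z = 1
  comm_z : ∀ x ∈ Q, x * z = z * x
  conj_mem : ∀ g, g * z = z * g → ∀ x ∈ Q, g * x * g⁻¹ ∈ Q
  sq : ∀ x ∈ Q, x * x = 1 ∨ x * x = z
  comm : ∀ x ∈ Q, ∀ y ∈ Q, x * y = y * x ∨ x * y = y * x * z
  cent : ∀ x ∈ Q, (∀ y ∈ Q, x * y = y * x) → x = 1 ∨ x = z
  self : ∀ g, g * z = z * g → (∀ x ∈ Q, g * x = x * g) → g ∈ Q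

namespace Large

variable {G : Type*} [Group G] {Q : Subgroup G} {z : G}

theorem z_inv (h : Large Q z) : z⁻¹ = z := inv_eq_of_mul_eq_one_left h.z_sq

theorem mem_center (h : Large Q z) {x : Q} : x ∈ Subgroup.center Q ↔ (x : G) = 1 ∨ (x : G) = z := by
  constructor
  · intro hx
    refine h.cent x x.2 fun y hy => ?_
    have := Subgroup.mem_center_iff.1 hx ⟨y, hy⟩
    exact (congrArg Subtype.val this).symm
  · rintro (hx | hx)
    · have : x = 1 := Subtype.ext hx
      rw [this]; exact Subgroup.one_mem _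
    · rw [Subgroup.mem_center_iff]
      intro y
      apply Subtype.ext
      show (y : G) * x = x * y
      rw [hx]; exact h.comm_z y y.2

/-- The space `Q / ⟨z⟩`. -/
def V (_h : Large Q z) : Type _ := Additive (Q ⧸ Subgroup.center Q)

theorem sq_mem (h : Large Q z) (x : Q) : x * x ∈ Subgroup.center Q := by
  rw [h.mem_center]; exact h.sq x x.2

theorem comm_mem (h : Large Q z) (x y : Q) : (x * y)⁻¹ * (y * x) ∈ Subgroup.center Q := by
  rw [h.mem_center]
  rcases h.comm x x.2 y y.2 with hc | hc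
  · left
    show ((x : G) * y)⁻¹ * (y * x) = 1
    rw [hc]; group
  · right
    show ((x : G) * y)⁻¹ * (y * x) = z
    rw [hc, mul_inv_rev, h.z_inv]
    group

/-- the projection `Q → Q / ⟨z⟩` -/
def pr (h : Large Q z) (x : Q) : h.V := Additive.ofMul (QuotientGroup.mk x : Q ⧸ Subgroup.center Q)

theorem pr_surjective (h : Large Q z) : Function.Surjective h.pr := by
  intro v
  obtain ⟨x, hx⟩ := QuotientGroup.mk_surjective (Additive.toMul (show Additive (Q ⧸ Subgroup.center Q) from v))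
  exact ⟨x, by rw [pr, hx]; rfl⟩

noncomputable instance instAddGroup (h : Large Q z) : AddGroup h.V :=
  inferInstanceAs (AddGroup (Additive (Q ⧸ Subgroup.center Q)))

noncomputable instance instAddCommGroup (h : Large Q z) : AddCommGroup h.V :=
  { instAddGroup h with
    add_comm := by
      intro a b
      obtain ⟨x, rfl⟩ := h.pr_surjective a
      obtain ⟨y, rfl⟩ := h.pr_surjective b
      exact congrArg Additive.ofMul (QuotientGroup.eq.2 (h.comm_mem x y)) }

theorem pr_mul (h : Large Q z) (x y : Q) : h.pr (x * y) = h.pr x + h.pr y := rfl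

theorem pr_one (h : Large Q z) : h.pr 1 = 0 := rfl

theorem pr_inv (h : Large Q z) (x : Q) : h.pr x⁻¹ = - h.pr x := rfl

theorem pr_eq_pr (h : Large Q z) {x y : Q} : h.pr x = h.pr y ↔ (x : G) = y ∨ (x : G) = y * z := by
  have h1 : h.pr x = h.pr y ↔ y⁻¹ * x ∈ Subgroup.center Q := by
    constructor
    · intro hxy
      have : (QuotientGroup.mk y : Q ⧸ Subgroup.center Q) = QuotientGroup.mk x :=
        (Additive.ofMul.injective hxy).symm
      exact QuotientGroup.eq.1 this
    · intro hxy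
      exact (congrArg Additive.ofMul (QuotientGroup.eq.2 hxy)).symm
  rw [h1, h.mem_center]
  constructor
  · rintro (h2 | h2)
    · left
      have : (y : G)⁻¹ * x = 1 := h2
      exact (inv_mul_eq_one.1 this).symm
    · right
      have : (y : G)⁻¹ * x = z := h2
      rw [← this]; group
  · rintro (h2 | h2)
    · left
      show (y : G)⁻¹ * x = 1
      rw [h2]; group
    · right
      show (y : G)⁻¹ * x = z
      rw [h2]; group

theorem pr_eq_zero (h : Large Q z) {x : Q} : h.pr x = 0 ↔ (x : G) = 1 ∨ (x : G) = z := by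
  rw [← h.pr_one, h.pr_eq_pr]; simp

theorem add_self (h : Large Q z) (v : h.V) : v + v = 0 := by
  obtain ⟨x, rfl⟩ := h.pr_surjective v
  rw [← h.pr_mul, h.pr_eq_zero]
  exact h.sq x x.2

noncomputable instance instModule (h : Large Q z) : Module (ZMod 2) h.V :=
  AddCommGroup.zmodModule (n := 2) (by intro x; rw [two_nsmul]; exact h.add_self x)

theorem neg_eq (h : Large Q z) (v : h.V) : -v = v := by
  rw [neg_eq_iff_add_eq_zero]; exact h.add_self v

/-! ### counting -/

instance [Finite Q] (h : Large Q z) : Finite h.V := Finite.of_surjective h.pr h.pr_surjective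

theorem card_center (h : Large Q z) : Nat.card (Subgroup.center Q) = 2 := by
  have hz : (⟨z, h.z_mem⟩ : Q) ∈ Subgroup.center Q := h.mem_center.2 (Or.inr rfl)
  have hne : (⟨⟨z, h.z_mem⟩, hz⟩ : Subgroup.center Q) ≠ 1 := by
    intro he
    apply h.z_ne
    exact congrArg (fun t : Subgroup.center Q => ((t : Q) : G)) he
  rw [Nat.card_eq_two_iff]
  refine ⟨1, ⟨⟨z, h.z_mem⟩, hz⟩, hne.symm, ?_⟩
  ext x
  simp only [Set.mem_insert_iff, Set.mem_singleton_iff, Set.mem_univ, iff_true]
  rcases h.mem_center.1 x.2 with hx | hx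
  · left; exact Subtype.ext (Subtype.ext hx)
  · right; exact Subtype.ext (Subtype.ext hx)

theorem card_eq (h : Large Q z) : Nat.card Q = 2 * Nat.card h.V := by
  have h1 : Nat.card h.V = Nat.card (Q ⧸ Subgroup.center Q) := rfl
  rw [h1, ← h.card_center, mul_comm]
  exact Subgroup.card_eq_card_quotient_mul_card_subgroup (Subgroup.center Q)

/-! ### the forms -/

/-- the value in `ZMod 2` of a central element -/
noncomputable def val (g : G) : ZMod 2 := by classical exact if g = 1 then 0 else 1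

/-- squaring form -/
noncomputable def q (h : Large Q z) (v : h.V) : ZMod 2 :=
  val (((Function.surjInv h.pr_surjective v : Q) : G) * (Function.surjInv h.pr_surjective v : Q))

/-- commutator form, as a function -/
noncomputable def b0 (h : Large Q z) (v w : h.V) : ZMod 2 :=
  val (((Function.surjInv h.pr_surjective v : Q) : G) * (Function.surjInv h.pr_surjective w : Q) *
    (((Function.surjInv h.pr_surjective v : Q) : G)⁻¹ *
      ((Function.surjInv h.pr_surjective w : Q) : G)⁻¹))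

theorem val_one : val (1 : G) = 0 := by simp [val]

theorem val_of_ne {g : G} (hg : g ≠ 1) : val g = 1 := by simp [val, hg]

theorem val_z (h : Large Q z) : val z = 1 := val_of_ne h.z_ne

theorem q_pr (h : Large Q z) (x : Q) : h.q (h.pr x) = val ((x : G) * x) := by
  have h1 : h.pr (Function.surjInv h.pr_surjective (h.pr x)) = h.pr x :=
    Function.surjInv_eq h.pr_surjective (h.pr x)
  rw [q]
  rcases h.pr_eq_pr.1 h1 with h2 | h2
  · rw [h2]
  · rw [h2]
    have : (x : G) * z * (x * z) = x * x := by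
      rw [mul_assoc, ← mul_assoc z, ← h.comm_z x x.2, mul_assoc (x : G) z z, h.z_sq, mul_one]
    rw [this]

theorem commz (h : Large Q z) {g : G} (hg : g ∈ Q) : Commute g z := h.comm_z g hg

theorem b0_pr (h : Large Q z) (x y : Q) :
    h.b0 (h.pr x) (h.pr y) = val ((x : G) * y * ((x : G)⁻¹ * (y : G)⁻¹)) := by
  have h1 : h.pr (Function.surjInv h.pr_surjective (h.pr x)) = h.pr x :=
    Function.surjInv_eq h.pr_surjective (h.pr x)
  have h2 : h.pr (Function.surjInv h.pr_surjective (h.pr y)) = h.pr y :=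
    Function.surjInv_eq h.pr_surjective (h.pr y)
  rw [b0]
  have hx := h.commz x.2
  have hy := h.commz y.2
  have key1 : ∀ a b : G, Commute a z → Commute b z →
      (a * z) * b * ((a * z)⁻¹ * b⁻¹) = a * b * (a⁻¹ * b⁻¹) := by
    intro a b ha hb
    rw [mul_inv_rev, h.z_inv, mul_assoc a z b, ← hb.eq, ← mul_assoc a b z, mul_assoc (a * b) z,
      ← mul_assoc z (z * a⁻¹), ← mul_assoc z z, h.z_sq, one_mul]
  have key2 : ∀ a b : G, Commute a z → Commute b z →
      a * (b * z) * (a⁻¹ * (b * z)⁻¹) = a * b * (a⁻¹ * b⁻¹) := by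
    intro a b ha hb
    have ha' : Commute a⁻¹ z := ha.inv_left
    rw [mul_inv_rev, h.z_inv, ← mul_assoc a b z, mul_assoc (a * b) z, ← mul_assoc a⁻¹ z,
      ha'.eq, ← mul_assoc z (z * a⁻¹), ← mul_assoc z z, h.z_sq, one_mul]
  have hyz : Commute ((y : G) * z) z := hy.mul_left (Commute.refl z)
  rcases h.pr_eq_pr.1 h1 with h3 | h3 <;> rcases h.pr_eq_pr.1 h2 with h4 | h4 <;> rw [h3, h4]
  · rw [key2 _ _ hx hy]
  · rw [key1 _ _ hx hy]
  · rw [key1 _ _ hx hyz, key2 _ _ hx hy]

theorem b0_eq_zero (h : Large Q z) {x y : Q} :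
    h.b0 (h.pr x) (h.pr y) = 0 ↔ (x : G) * y = y * x := by
  rw [h.b0_pr]
  constructor
  · intro he
    by_contra hne
    have : (x : G) * y * ((x : G)⁻¹ * (y : G)⁻¹) ≠ 1 := by
      intro h1
      apply hne
      rw [← mul_inv_rev, mul_inv_eq_one] at h1
      exact h1
    rw [val_of_ne this] at he
    exact one_ne_zero he
  · intro he
    rw [he, ← mul_inv_rev, mul_inv_cancel, val_one]

theorem b0_eq_one (h : Large Q z) {x y : Q} :
    h.b0 (h.pr x) (h.pr y) = 1 ↔ (x : G) * y = y * x * z := by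
  have h01 : ∀ a : ZMod 2, a = 1 ↔ a ≠ 0 := by decide
  rw [h01, Ne, h.b0_eq_zero]
  constructor
  · intro hne
    exact (h.comm x x.2 y y.2).resolve_left hne
  · intro he hne
    rw [hne] at he
    exact h.z_ne (mul_eq_left.1 he.symm)

theorem q_eq_zero (h : Large Q z) {x : Q} : h.q (h.pr x) = 0 ↔ (x : G) * x = 1 := by
  rw [h.q_pr]
  constructor
  · intro he
    by_contra hne
    rw [val_of_ne hne] at he
    exact one_ne_zero he
  · intro he
    rw [he, val_one]

theorem q_eq_one (h : Large Q z) {x : Q} : h.q (h.pr x) = 1 ↔ (x : G) * x = z := by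
  have h01 : ∀ a : ZMod 2, a = 1 ↔ a ≠ 0 := by decide
  rw [h01, Ne, h.q_eq_zero]
  constructor
  · intro hne
    exact (h.sq x x.2).resolve_left hne
  · intro he hne
    rw [hne] at he
    exact h.z_ne he.symm

theorem q_zero (h : Large Q z) : h.q 0 = 0 := by
  rw [← h.pr_one, h.q_eq_zero]; simp

theorem b0_comm (h : Large Q z) (v w : h.V) : h.b0 v w = h.b0 w v := by
  obtain ⟨x, rfl⟩ := h.pr_surjective v
  obtain ⟨y, rfl⟩ := h.pr_surjective w
  by_cases hc : (x : G) * y = y * x
  · rw [h.b0_eq_zero.2 hc, h.b0_eq_zero.2 hc.symm]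
  · have h1 : h.b0 (h.pr x) (h.pr y) ≠ 0 := fun he => hc (h.b0_eq_zero.1 he)
    have h2 : h.b0 (h.pr y) (h.pr x) ≠ 0 := fun he => hc (h.b0_eq_zero.1 he).symm
    have h01 : ∀ a b : ZMod 2, a ≠ 0 → b ≠ 0 → a = b := by decide
    exact h01 _ _ h1 h2

theorem b0_self (h : Large Q z) (v : h.V) : h.b0 v v = 0 := by
  obtain ⟨x, rfl⟩ := h.pr_surjective v
  rw [h.b0_eq_zero]

theorem b0_add_left (h : Large Q z) (v v' w : h.V) : h.b0 (v + v') w = h.b0 v w + h.b0 v' w := by
  obtain ⟨x, rfl⟩ := h.pr_surjective v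
  obtain ⟨x', rfl⟩ := h.pr_surjective v'
  obtain ⟨y, rfl⟩ := h.pr_surjective w
  rw [← h.pr_mul]
  have hx := h.commz x.2
  have hx' := h.commz x'.2
  have hy := h.commz y.2
  rcases h.comm x x.2 y y.2 with h1 | h1 <;> rcases h.comm x' x'.2 y y.2 with h2 | h2
  · rw [h.b0_eq_zero.2 h1, h.b0_eq_zero.2 h2, h.b0_eq_zero.2]
    · rfl
    · show (x : G) * x' * y = y * (x * x')
      rw [mul_assoc, h2, ← mul_assoc, h1, mul_assoc]
  · rw [h.b0_eq_zero.2 h1, h.b0_eq_one.2 h2, h.b0_eq_one.2]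
    · rfl
    · show (x : G) * x' * y = y * (x * x') * z
      rw [mul_assoc, h2, ← mul_assoc, ← mul_assoc, h1, ← mul_assoc]
  · rw [h.b0_eq_one.2 h1, h.b0_eq_zero.2 h2, h.b0_eq_one.2]
    · rfl
    · show (x : G) * x' * y = y * (x * x') * z
      rw [mul_assoc, h2, ← mul_assoc, h1, mul_assoc (_ * _) z, ← hx'.eq]
      simp only [mul_assoc]
  · rw [h.b0_eq_one.2 h1, h.b0_eq_one.2 h2, h.b0_eq_zero.2]
    · decide
    · show (x : G) * x' * y = y * (x * x')
      rw [mul_assoc, h2, ← mul_assoc, ← mul_assoc, h1, mul_assoc (_ * _) z (x' : G), ← hx'.eq,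
        ← mul_assoc, mul_assoc _ z z, h.z_sq, mul_one, mul_assoc]

theorem b0_add_right (h : Large Q z) (v w w' : h.V) : h.b0 v (w + w') = h.b0 v w + h.b0 v w' := by
  rw [h.b0_comm v, h.b0_add_left, h.b0_comm w, h.b0_comm w']

theorem q_add (h : Large Q z) (v w : h.V) : h.q (v + w) = h.q v + h.q w + h.b0 v w := by
  obtain ⟨x, rfl⟩ := h.pr_surjective v
  obtain ⟨y, rfl⟩ := h.pr_surjective w
  rw [← h.pr_mul]
  have hy := h.commz y.2
  have hx := h.commz x.2
  -- (xy)^2 = x y x y
  have e1 : ∀ c : G, c = (y : G) * x → (x : G) * y * (x * y) = x * (y * x) * y := by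
    intro c _; group
  rcases h.comm y y.2 x x.2 with h1 | h1
  · -- commute
    have hsq : (x : G) * y * (x * y) = (x * x) * (y * y) := by
      rw [e1 _ rfl, h1, ← mul_assoc, mul_assoc]
    rw [h.b0_comm, h.b0_eq_zero.2 h1, add_zero]
    rcases h.sq x x.2 with hx2 | hx2 <;> rcases h.sq y y.2 with hy2 | hy2
    · rw [h.q_eq_zero.2 hx2, h.q_eq_zero.2 hy2, h.q_eq_zero.2]; · rfl
      show (x : G) * y * (x * y) = 1
      rw [hsq, hx2, hy2, one_mul]
    · rw [h.q_eq_zero.2 hx2, h.q_eq_one.2 hy2, h.q_eq_one.2]; · rfl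
      show (x : G) * y * (x * y) = z
      rw [hsq, hx2, hy2, one_mul]
    · rw [h.q_eq_one.2 hx2, h.q_eq_zero.2 hy2, h.q_eq_one.2]; · rfl
      show (x : G) * y * (x * y) = z
      rw [hsq, hx2, hy2, mul_one]
    · rw [h.q_eq_one.2 hx2, h.q_eq_one.2 hy2, h.q_eq_zero.2]; · decide
      show (x : G) * y * (x * y) = 1
      rw [hsq, hx2, hy2, h.z_sq]
  · have hsq : (x : G) * y * (x * y) = (x * x) * (y * y) * z := by
      rw [e1 _ rfl, h1, ← mul_assoc, ← mul_assoc, mul_assoc _ z (y : G), ← hy.eq]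
      simp only [mul_assoc]
    rw [h.b0_comm, h.b0_eq_one.2 h1]
    rcases h.sq x x.2 with hx2 | hx2 <;> rcases h.sq y y.2 with hy2 | hy2
    · rw [h.q_eq_zero.2 hx2, h.q_eq_zero.2 hy2, h.q_eq_one.2]; · rfl
      show (x : G) * y * (x * y) = z
      rw [hsq, hx2, hy2, one_mul, one_mul]
    · rw [h.q_eq_zero.2 hx2, h.q_eq_one.2 hy2, h.q_eq_zero.2]; · decide
      show (x : G) * y * (x * y) = 1
      rw [hsq, hx2, hy2, one_mul, h.z_sq]
    · rw [h.q_eq_one.2 hx2, h.q_eq_zero.2 hy2, h.q_eq_zero.2]; · decide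
      show (x : G) * y * (x * y) = 1
      rw [hsq, hx2, hy2, mul_one, h.z_sq]
    · rw [h.q_eq_one.2 hx2, h.q_eq_one.2 hy2, h.q_eq_one.2]; · decide
      show (x : G) * y * (x * y) = z
      rw [hsq, hx2, hy2, h.z_sq, one_mul]

/-- commutator form as a bilinear form -/
noncomputable def b (h : Large Q z) : LinearMap.BilinForm (ZMod 2) h.V :=
  (AddMonoidHom.toZModLinearMap 2
    { toFun := fun v => AddMonoidHom.toZModLinearMap 2
        { toFun := fun w => h.b0 v w
          map_zero' := by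
            have := h.b0_add_right v 0 0
            simpa using this
          map_add' := fun w w' => h.b0_add_right v w w' }
      map_zero' := by
        ext w
        show h.b0 0 w = 0
        have := h.b0_add_left 0 0 w
        simpa using this
      map_add' := fun v v' => by
        ext w
        exact h.b0_add_left v v' w })

theorem b_apply (h : Large Q z) (v w : h.V) : h.b v w = h.b0 v w := rfl

theorem b_pr (h : Large Q z) (x y : Q) : h.b (h.pr x) (h.pr y) = 0 ↔ (x : G) * y = y * x :=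
  h.b0_eq_zero

theorem b_pr_one (h : Large Q z) (x y : Q) :
    h.b (h.pr x) (h.pr y) = 1 ↔ (x : G) * y = y * x * z :=
  h.b0_eq_one

theorem b_self (h : Large Q z) (v : h.V) : h.b v v = 0 := h.b0_self v

theorem b_comm (h : Large Q z) (v w : h.V) : h.b v w = h.b w v := h.b0_comm v w

theorem q_add' (h : Large Q z) (v w : h.V) : h.q (v + w) = h.q v + h.q w + h.b v w := h.q_add v w

theorem b_nondeg (h : Large Q z) {v : h.V} (hv : ∀ w, h.b v w = 0) : v = 0 := by
  obtain ⟨x, rfl⟩ := h.pr_surjective v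
  rw [h.pr_eq_zero]
  refine h.cent x x.2 fun y hy => ?_
  exact (h.b_pr x ⟨y, hy⟩).1 (hv _)

/-! ### the action of `C_G(z)` -/

theorem conj_mem_cent (h : Large Q z) (g : Subgroup.centralizer ({z} : Set G)) (x : Q) :
    (g : G) * x * (g : G)⁻¹ ∈ Q :=
  h.conj_mem g (Subgroup.mem_centralizer_singleton_iff.1 g.2) x x.2

/-- conjugation `x ↦ g x g⁻¹` on `Q` -/
def conjQ (h : Large Q z) (g : Subgroup.centralizer ({z} : Set G)) (x : Q) : Q :=
  ⟨(g : G) * x * (g : G)⁻¹, h.conj_mem_cent g x⟩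

theorem conjQ_coe (h : Large Q z) (g : Subgroup.centralizer ({z} : Set G)) (x : Q) :
    ((h.conjQ g x : Q) : G) = (g : G) * x * (g : G)⁻¹ := rfl

theorem conjQ_mul (h : Large Q z) (g : Subgroup.centralizer ({z} : Set G)) (x y : Q) :
    h.conjQ g (x * y) = h.conjQ g x * h.conjQ g y := by
  apply Subtype.ext
  show (g : G) * (x * y) * (g : G)⁻¹ = (g : G) * x * (g : G)⁻¹ * (g * y * (g : G)⁻¹)
  group

theorem pr_conjQ_congr (h : Large Q z) (g : Subgroup.centralizer ({z} : Set G)) {x y : Q}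
    (hxy : h.pr x = h.pr y) : h.pr (h.conjQ g x) = h.pr (h.conjQ g y) := by
  rw [h.pr_eq_pr] at hxy ⊢
  rcases hxy with h1 | h1
  · left; rw [conjQ_coe, conjQ_coe, h1]
  · right
    have hg : (g : G) * z = z * g := Subgroup.mem_centralizer_singleton_iff.1 g.2
    have hg' : z * (g : G)⁻¹ = (g : G)⁻¹ * z := by
      rw [eq_inv_mul_iff_mul_eq, ← mul_assoc, hg, mul_assoc, mul_inv_cancel, mul_one]
    rw [conjQ_coe, conjQ_coe, h1, ← mul_assoc, mul_assoc _ z, hg', ← mul_assoc]

/-- the action of an element on `V`, as a function -/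
noncomputable def act0 (h : Large Q z) (g : Subgroup.centralizer ({z} : Set G)) (v : h.V) : h.V :=
  h.pr (h.conjQ g (Function.surjInv h.pr_surjective v))

theorem act0_pr (h : Large Q z) (g : Subgroup.centralizer ({z} : Set G)) (x : Q) :
    h.act0 g (h.pr x) = h.pr (h.conjQ g x) :=
  h.pr_conjQ_congr g (Function.surjInv_eq h.pr_surjective _)

theorem act0_add (h : Large Q z) (g : Subgroup.centralizer ({z} : Set G)) (v w : h.V) :
    h.act0 g (v + w) = h.act0 g v + h.act0 g w := by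
  obtain ⟨x, rfl⟩ := h.pr_surjective v
  obtain ⟨y, rfl⟩ := h.pr_surjective w
  rw [← h.pr_mul, h.act0_pr, h.act0_pr, h.act0_pr, h.conjQ_mul, h.pr_mul]

theorem act0_mul (h : Large Q z) (g g' : Subgroup.centralizer ({z} : Set G)) (v : h.V) :
    h.act0 (g * g') v = h.act0 g (h.act0 g' v) := by
  obtain ⟨x, rfl⟩ := h.pr_surjective v
  rw [h.act0_pr, h.act0_pr, h.act0_pr]
  congr 1
  apply Subtype.ext
  show ((g * g' : Subgroup.centralizer ({z} : Set G)) : G) * x *
    ((g * g' : Subgroup.centralizer ({z} : Set G)) : G)⁻¹ = (g : G) * (g' * x * (g' : G)⁻¹) * (g : G)⁻¹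
  rw [Subgroup.coe_mul]; group

theorem act0_one (h : Large Q z) (v : h.V) : h.act0 1 v = v := by
  obtain ⟨x, rfl⟩ := h.pr_surjective v
  rw [h.act0_pr]
  congr 1
  apply Subtype.ext
  show ((1 : Subgroup.centralizer ({z} : Set G)) : G) * x *
    ((1 : Subgroup.centralizer ({z} : Set G)) : G)⁻¹ = x
  simp

/-- the linear action of `C_G(z)` on `V` by conjugation `x ↦ g x g⁻¹` -/
noncomputable def act (h : Large Q z) :
    Subgroup.centralizer ({z} : Set G) →* (h.V ≃ₗ[ZMod 2] h.V) where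
  toFun g :=
    { (AddMonoidHom.toZModLinearMap 2
        ({ toFun := h.act0 g
           map_zero' := by
            have := h.act0_add g 0 0
            simpa using this
           map_add' := h.act0_add g } : h.V →+ h.V)) with
      invFun := h.act0 g⁻¹
      left_inv := fun v => by
        show h.act0 g⁻¹ (h.act0 g v) = v
        rw [← h.act0_mul, inv_mul_cancel, h.act0_one]
      right_inv := fun v => by
        show h.act0 g (h.act0 g⁻¹ v) = v
        rw [← h.act0_mul, mul_inv_cancel, h.act0_one] }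
  map_one' := by
    ext v
    exact h.act0_one v
  map_mul' g g' := by
    ext v
    exact h.act0_mul g g' v

theorem act_pr (h : Large Q z) (g : Subgroup.centralizer ({z} : Set G)) (x : Q) :
    h.act g (h.pr x) = h.pr (h.conjQ g x) := h.act0_pr g x

theorem q_act (h : Large Q z) (g : Subgroup.centralizer ({z} : Set G)) (v : h.V) :
    h.q (h.act g v) = h.q v := by
  obtain ⟨x, rfl⟩ := h.pr_surjective v
  rw [h.act_pr]
  have hg : (g : G) * z = z * g := Subgroup.mem_centralizer_singleton_iff.1 g.2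
  rcases h.sq x x.2 with h1 | h1
  · rw [h.q_eq_zero.2 h1, h.q_eq_zero]
    show (g : G) * x * (g : G)⁻¹ * (g * x * (g : G)⁻¹) = 1
    calc (g : G) * x * (g : G)⁻¹ * (g * x * (g : G)⁻¹) = g * (x * x) * (g : G)⁻¹ := by group
      _ = 1 := by rw [h1]; group
  · rw [h.q_eq_one.2 h1, h.q_eq_one]
    show (g : G) * x * (g : G)⁻¹ * (g * x * (g : G)⁻¹) = z
    calc (g : G) * x * (g : G)⁻¹ * (g * x * (g : G)⁻¹) = g * (x * x) * (g : G)⁻¹ := by group
      _ = z := by rw [h1, hg]; group

theorem b_act (h : Large Q z) (g : Subgroup.centralizer ({z} : Set G)) (v w : h.V) :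
    h.b (h.act g v) (h.act g w) = h.b v w := by
  have h1 := h.q_add' v w
  have h2 := h.q_add' (h.act g v) (h.act g w)
  rw [← map_add, h.q_act, h.q_act, h.q_act, h1] at h2
  exact (add_left_cancel h2).symm

/-- elements of `Q` act trivially -/
theorem act_mem (h : Large Q z) (g : Subgroup.centralizer ({z} : Set G)) (hg : (g : G) ∈ Q) :
    h.act g = 1 := by
  ext v
  obtain ⟨x, rfl⟩ := h.pr_surjective v
  rw [h.act_pr]
  show h.pr (h.conjQ g x) = h.pr x
  rw [h.pr_eq_pr, conjQ_coe]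
  rcases h.comm g hg x x.2 with h1 | h1
  · left; rw [h1]; group
  · right
    have hgz : z * (g : G)⁻¹ = (g : G)⁻¹ * z := (h.commz hg).inv_left.eq.symm
    rw [h1, mul_assoc _ z, hgz]; group

/-- duality: every linear functional on `V` is `b v ·` (finite case) -/
theorem exists_b_eq [Finite Q] (h : Large Q z) (f : h.V →ₗ[ZMod 2] ZMod 2) :
    ∃ v, ∀ w, h.b v w = f w := by
  have : Module.Finite (ZMod 2) h.V := Module.Finite.of_finite
  have hinj : Function.Injective h.b := by
    rw [← LinearMap.ker_eq_bot, LinearMap.ker_eq_bot']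
    intro v hv
    exact h.b_nondeg fun w => by rw [hv]; rfl
  have hsurj : Function.Surjective h.b :=
    (LinearMap.injective_iff_surjective_of_finrank_eq_finrank
      (Subspace.dual_finrank_eq (K := ZMod 2) (V := h.V)).symm).1 hinj
  obtain ⟨v, hv⟩ := hsurj f
  exact ⟨v, fun w => by rw [hv]⟩

/-- the kernel of the action is `Q` -/
theorem mem_of_act [Finite Q] (h : Large Q z) (g : Subgroup.centralizer ({z} : Set G))
    (hg : h.act g = 1) : (g : G) ∈ Q := by
  classical
  have hgz : (g : G) * z = z * g := Subgroup.mem_centralizer_singleton_iff.1 g.2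
  have h1 : ∀ x : Q, (g : G) * x * (g : G)⁻¹ = x ∨ (g : G) * x * (g : G)⁻¹ = x * z := by
    intro x
    have : h.act g (h.pr x) = h.pr x := by rw [hg]; rfl
    rw [h.act_pr, h.pr_eq_pr, conjQ_coe] at this
    exact this
  -- functional
  have hval : ∀ x : Q, (g : G) * x * (g : G)⁻¹ * (x : G)⁻¹ = 1 ∨
      (g : G) * x * (g : G)⁻¹ * (x : G)⁻¹ = z := by
    intro x
    rcases h1 x with h2 | h2
    · left; rw [h2]; group
    · right; rw [h2, (h.commz x.2).eq]; group
  let F : h.V → ZMod 2 := fun v =>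
    val ((g : G) * (Function.surjInv h.pr_surjective v : Q) * (g : G)⁻¹ *
      ((Function.surjInv h.pr_surjective v : Q) : G)⁻¹)
  have hF : ∀ x : Q, F (h.pr x) = val ((g : G) * x * (g : G)⁻¹ * (x : G)⁻¹) := by
    intro x
    show val _ = _
    have h2 : h.pr (Function.surjInv h.pr_surjective (h.pr x)) = h.pr x :=
      Function.surjInv_eq h.pr_surjective (h.pr x)
    rcases h.pr_eq_pr.1 h2 with h3 | h3
    · rw [h3]
    · rw [h3]
      congr 1
      have hzg : z * (g : G)⁻¹ = (g : G)⁻¹ * z := by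
        rw [eq_inv_mul_iff_mul_eq, ← mul_assoc, hgz, mul_assoc, mul_inv_cancel, mul_one]
      calc (g : G) * (x * z) * (g : G)⁻¹ * (x * z : G)⁻¹
          = g * x * (z * (g : G)⁻¹) * (z⁻¹ * (x : G)⁻¹) := by group
        _ = g * x * ((g : G)⁻¹ * z) * (z⁻¹ * (x : G)⁻¹) := by rw [hzg]
        _ = (g : G) * x * (g : G)⁻¹ * (x : G)⁻¹ := by group
  have hadd : ∀ v w, F (v + w) = F v + F w := by
    intro v w
    obtain ⟨x, rfl⟩ := h.pr_surjective v
    obtain ⟨y, rfl⟩ := h.pr_surjective w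
    rw [← h.pr_mul, hF, hF, hF]
    have e : (g : G) * ((x * y : Q) : G) * (g : G)⁻¹ * (((x * y : Q) : G))⁻¹
        = (g * x * (g : G)⁻¹ * (x : G)⁻¹) * (x * (g * y * (g : G)⁻¹ * (y : G)⁻¹) * (x : G)⁻¹) := by
      rw [Subgroup.coe_mul]; group
    rw [e]
    have hxz : (x : G) * z * (x : G)⁻¹ = z := by rw [(h.commz x.2).eq]; group
    rcases hval x with h2 | h2 <;> rcases hval y with h3 | h3 <;> rw [h2, h3]
    · simp [val_one]
    · rw [hxz, one_mul, val_one, zero_add]
    · rw [mul_one, mul_inv_cancel, mul_one, val_one, add_zero]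
    · rw [hxz, h.z_sq, h.val_z, val_one]; decide
  obtain ⟨v, hv⟩ := h.exists_b_eq (AddMonoidHom.toZModLinearMap 2
    { toFun := F
      map_zero' := by
        have := hadd 0 0
        simpa using this
      map_add' := hadd } : h.V →ₗ[ZMod 2] ZMod 2)
  obtain ⟨y, rfl⟩ := h.pr_surjective v
  -- y⁻¹ g centralises Q
  have key : (y : G)⁻¹ * g ∈ Q := by
    refine h.self _ ?_ ?_
    · rw [mul_assoc, hgz, ← mul_assoc, (h.commz y.2).inv_left.eq, mul_assoc]
    · intro x hx
      have h2 : h.b (h.pr y) (h.pr ⟨x, hx⟩) = F (h.pr ⟨x, hx⟩) := hv _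
      rw [hF] at h2
      rcases hval ⟨x, hx⟩ with h3 | h3
      · rw [h3, val_one] at h2
        have h4 := (h.b_pr y ⟨x, hx⟩).1 h2
        have h4' : (y : G)⁻¹ * x = x * (y : G)⁻¹ := by
          rw [inv_mul_eq_iff_eq_mul, ← mul_assoc, show (y : G) * x = x * y from h4, mul_assoc,
            mul_inv_cancel, mul_one]
        have h5 : (g : G) * x = x * g := by
          have : (g : G) * x * (g : G)⁻¹ * x⁻¹ = 1 := h3
          rw [mul_inv_eq_one, mul_inv_eq_iff_eq_mul] at this
          exact this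
        rw [mul_assoc, h5, ← mul_assoc, h4', mul_assoc]
      · rw [h3, h.val_z] at h2
        have h4 : (y : G) * x = x * y * z := (h.b_pr_one y ⟨x, hx⟩).1 h2
        have h5 : (g : G) * x = x * z * g := by
          have : (g : G) * x * (g : G)⁻¹ * x⁻¹ = z := h3
          rw [mul_inv_eq_iff_eq_mul, mul_inv_eq_iff_eq_mul] at this
          rw [this, ← (h.commz hx).eq]
        have h6 : (y : G)⁻¹ * x = x * z * (y : G)⁻¹ := by
          rw [inv_mul_eq_iff_eq_mul]
          have hyz := (h.commz y.2).eq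
          calc x = x * (z * z) * (y * (y : G)⁻¹) := by rw [h.z_sq]; group
            _ = x * (z * (z * y)) * (y : G)⁻¹ := by group
            _ = x * (z * (y * z)) * (y : G)⁻¹ := by rw [hyz]
            _ = x * ((z * y) * z) * (y : G)⁻¹ := by group
            _ = x * (y * z * z) * (y : G)⁻¹ := by rw [hyz]
            _ = (x * y * z) * (z * (y : G)⁻¹) := by group
            _ = (y * x) * (z * (y : G)⁻¹) := by rw [h4]
            _ = y * (x * z * (y : G)⁻¹) := by group
        rw [mul_assoc, h5, ← mul_assoc, ← mul_assoc, h6]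
        have hyz := (h.commz y.2).inv_left.eq
        calc x * z * (y : G)⁻¹ * z * g = x * z * ((y : G)⁻¹ * z) * g := by group
          _ = x * z * (z * (y : G)⁻¹) * g := by rw [hyz]
          _ = x * (z * z) * (y : G)⁻¹ * g := by group
          _ = x * ((y : G)⁻¹ * g) := by rw [h.z_sq]; group
  have := Q.mul_mem y.2 key
  rwa [mul_inv_cancel_left] at this

/-! ### transport by conjugation -/

theorem conj (h : Large Q z) (g : G) :
    Large (Q.map (MulAut.conj g).toMonoidHom) (g * z * g⁻¹) where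
  z_mem := ⟨z, h.z_mem, rfl⟩
  z_ne := by
    intro he
    apply h.z_ne
    have : z = g⁻¹ * (g * z * g⁻¹) * g := by group
    rw [this, he]; group
  z_sq := by
    calc g * z * g⁻¹ * (g * z * g⁻¹) = g * (z * z) * g⁻¹ := by group
      _ = 1 := by rw [h.z_sq]; group
  comm_z := by
    rintro _ ⟨x, hx, rfl⟩
    show g * x * g⁻¹ * (g * z * g⁻¹) = g * z * g⁻¹ * (g * x * g⁻¹)
    calc g * x * g⁻¹ * (g * z * g⁻¹) = g * (x * z) * g⁻¹ := by group
      _ = g * (z * x) * g⁻¹ := by rw [h.comm_z x hx]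
      _ = _ := by group
  conj_mem := by
    rintro c hc _ ⟨x, hx, rfl⟩
    have h1 : (g⁻¹ * c * g) * z = z * (g⁻¹ * c * g) := by
      calc (g⁻¹ * c * g) * z = g⁻¹ * (c * (g * z * g⁻¹)) * g := by group
        _ = g⁻¹ * ((g * z * g⁻¹) * c) * g := by rw [hc]
        _ = _ := by group
    refine ⟨_, h.conj_mem _ h1 x hx, ?_⟩
    show g * (g⁻¹ * c * g * x * (g⁻¹ * c * g)⁻¹) * g⁻¹ = c * (g * x * g⁻¹) * c⁻¹
    group
  sq := by
    rintro _ ⟨x, hx, rfl⟩
    show g * x * g⁻¹ * (g * x * g⁻¹) = 1 ∨ g * x * g⁻¹ * (g * x * g⁻¹) = g * z * g⁻¹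
    have e : g * x * g⁻¹ * (g * x * g⁻¹) = g * (x * x) * g⁻¹ := by group
    rw [e]
    rcases h.sq x hx with h1 | h1
    · left; rw [h1]; group
    · right; rw [h1]
  comm := by
    rintro _ ⟨x, hx, rfl⟩ _ ⟨y, hy, rfl⟩
    show g * x * g⁻¹ * (g * y * g⁻¹) = g * y * g⁻¹ * (g * x * g⁻¹) ∨
      g * x * g⁻¹ * (g * y * g⁻¹) = g * y * g⁻¹ * (g * x * g⁻¹) * (g * z * g⁻¹)
    rcases h.comm x hx y hy with h1 | h1
    · left
      calc g * x * g⁻¹ * (g * y * g⁻¹) = g * (x * y) * g⁻¹ := by group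
        _ = g * (y * x) * g⁻¹ := by rw [h1]
        _ = _ := by group
    · right
      calc g * x * g⁻¹ * (g * y * g⁻¹) = g * (x * y) * g⁻¹ := by group
        _ = g * (y * x * z) * g⁻¹ := by rw [h1]
        _ = _ := by group
  cent := by
    rintro _ ⟨x, hx, rfl⟩ hc
    have h1 : ∀ y ∈ Q, x * y = y * x := by
      intro y hy
      have : g * x * g⁻¹ * (g * y * g⁻¹) = g * y * g⁻¹ * (g * x * g⁻¹) := hc _ ⟨y, hy, rfl⟩
      calc x * y = g⁻¹ * (g * x * g⁻¹ * (g * y * g⁻¹)) * g := by group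
        _ = g⁻¹ * (g * y * g⁻¹ * (g * x * g⁻¹)) * g := by rw [this]
        _ = _ := by group
    show g * x * g⁻¹ = 1 ∨ g * x * g⁻¹ = g * z * g⁻¹
    rcases h.cent x hx h1 with h2 | h2
    · left; rw [h2]; group
    · right; rw [h2]
  self := by
    intro c hc hx
    have h1 : (g⁻¹ * c * g) * z = z * (g⁻¹ * c * g) := by
      calc (g⁻¹ * c * g) * z = g⁻¹ * (c * (g * z * g⁻¹)) * g := by group
        _ = g⁻¹ * ((g * z * g⁻¹) * c) * g := by rw [hc]
        _ = _ := by group
    have h2 : ∀ x ∈ Q, (g⁻¹ * c * g) * x = x * (g⁻¹ * c * g) := by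
      intro x hx'
      have : c * (g * x * g⁻¹) = (g * x * g⁻¹) * c := hx _ ⟨x, hx', rfl⟩
      calc (g⁻¹ * c * g) * x = g⁻¹ * (c * (g * x * g⁻¹)) * g := by group
        _ = g⁻¹ * ((g * x * g⁻¹) * c) * g := by rw [this]
        _ = _ := by group
    refine ⟨_, h.self _ h1 h2, ?_⟩
    show g * (g⁻¹ * c * g) * g⁻¹ = c
    group

end Large

end Cfsg.Agent.Co2Type.Quad
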