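import Cfsg.Agent.Co2Type.Coord

/-!
# From a lifting situation to the relations (R03, helper902)
-/

set_option autoImplicit false

namespace Cfsg.Agent.Co2Type.Abs

open Cfsg Cfsg.Agent.Co2Type.Setup Cfsg.Agent.Co2Type.Spin
open Cfsg.Agent.Co2Type.QModel Cfsg.Agent.Co2Type.Act Cfsg.Agent.Co2Type.Coord
open Cfsg.Agent.Co2Type.Rels
open Cfsg.Agent.ClassicalGeometry.SympBasic

/-- lifting situation -/
structure Pre {C : Type*} [Group C] (t : C) (ev : QM →* C) (psi : C →* Sp6) : Prop where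
  ev_inj : Function.Injective ev
  ev_z : ev (dec 256) = t
  cent : ∀ g : C, g * t = t * g
  psi_surj : Function.Surjective psi
  psi_ker : ∀ g, psi g = 1 ↔ g ∈ ev.range
  self : ∀ g : C, (∀ I : Fin 8, g * ev (dec (2 ^ (I : ℕ))) * g⁻¹ = ev (dec (2 ^ (I : ℕ)))) →
    g = 1 ∨ g = t
  lift : ∀ j, j < 7 → ∀ c : C, psi c = transv (uv j) 1 → ∀ I : Fin 8,
    c * ev (dec (2 ^ (I : ℕ))) * c⁻¹ = ev (dec (img j I)) ∨
    c * ev (dec (2 ^ (I : ℕ))) * c⁻¹ = ev (dec (img j I)) * t

/-- `dec 256` -/
theorem dec256 : dec 256 = ⟨0, 1⟩ := by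
  apply QM.ext
  · funext i
    show (if (256 : ℕ).testBit i = true then (1 : ZMod 2) else 0) = 0
    have h3 : (256 : ℕ).testBit (i : ℕ) = false := by
      have : (256 : ℕ) = 2 ^ 8 := by norm_num
      rw [this, Nat.testBit_two_pow]
      simp only [decide_eq_false_iff_not]
      have := i.2
      omega
    rw [h3]; rfl
  · rfl

theorem dec256_sq : dec 256 * dec 256 = 1 := by
  rw [← dec_qmul]
  have : qmul 256 256 = 0 := by decide +kernel
  rw [this, dec_zero]

theorem conj_QM (g h : QM) : g * h * g⁻¹ = h * ⟨0, beta g.v h.v + beta h.v g.v⟩ := by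
  rw [mul_inv_eq_iff_eq_mul]
  apply QM.ext
  · simp only [QM.mul_v, add_zero, add_comm]
  · simp only [QM.mul_a, QM.mul_v, beta, Pi.zero_apply, mul_zero, add_zero, Pi.add_apply]
    have h2 : ∀ a b c d e f g' h' i j : ZMod 2, a + b + (c + d) =
      b + (c + d + (e + f)) + a + (e + f) := by
      intro a b c d e f g' h' i j
      have he : e + e = 0 := CharTwo.add_self_eq_zero e
      have hf : f + f = 0 := CharTwo.add_self_eq_zero f
      linear_combination (-1 : ZMod 2) * he - hf
    ring_nf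
    have h3 : ∀ x : ZMod 2, x * 2 = 0 := by decide
    simp only [h3, add_zero]

namespace Pre

variable {C : Type*} [Group C] {t : C} {ev : QM →* C} {psi : C →* Sp6}

theorem t_sq (P : Pre t ev psi) : t * t = 1 := by
  rw [← P.ev_z, ← map_mul, dec256_sq, map_one]

theorem t_ne (P : Pre t ev psi) : t ≠ 1 := by
  rw [← P.ev_z]
  intro h
  have := P.ev_inj (h.trans (map_one ev).symm)
  rw [dec256] at this
  exact one_ne_zero (congrArg QM.a this)

theorem t_inv (P : Pre t ev psi) : t⁻¹ = t := inv_eq_of_mul_eq_one_left P.t_sq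

theorem psi_t (P : Pre t ev psi) : psi t = 1 := by
  rw [P.psi_ker, ← P.ev_z]
  exact ⟨_, rfl⟩

theorem ev_central (P : Pre t ev psi) (a : ZMod 2) : ev ⟨0, a⟩ = if a = 0 then 1 else t := by
  have h2 : ∀ a : ZMod 2, a = 0 ∨ a = 1 := by decide
  rcases h2 a with rfl | rfl
  · rw [if_pos rfl]; exact map_one ev
  · rw [if_neg one_ne_zero, ← dec256, P.ev_z]

/-- existence of a lift with the right signs -/
theorem exists_lift (P : Pre t ev psi) (j : ℕ) (hj : j < 7) :
    ∃ D : C, psi D = transv (uv j) 1 ∧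
      ∀ I : Fin 8, D * ev (dec (2 ^ (I : ℕ))) * D⁻¹ = ev (dec (img j I)) := by
  classical
  obtain ⟨c, hc⟩ := P.psi_surj (transv (uv j) 1)
  have hl := P.lift j hj c hc
  let s : Fin 8 → ZMod 2 := fun I =>
    if c * ev (dec (2 ^ (I : ℕ))) * c⁻¹ = ev (dec (img j I)) then 0 else 1
  have hs : ∀ I : Fin 8, c * ev (dec (2 ^ (I : ℕ))) * c⁻¹ = ev (dec (img j I)) * ev ⟨0, s I⟩ := by
    intro I
    rw [P.ev_central]
    by_cases h : c * ev (dec (2 ^ (I : ℕ))) * c⁻¹ = ev (dec (img j I))
    · have h0 : s I = 0 := if_pos h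
      rw [h0, if_pos rfl, mul_one]; exact h
    · have h1 : s I = 1 := if_neg h
      rw [h1, if_neg one_ne_zero]
      exact (hl I).resolve_left h
  let y : QM := ⟨fun I => s (7 - I), 0⟩
  have hy : ∀ I : Fin 8, y * dec (2 ^ (I : ℕ)) * y⁻¹ = dec (2 ^ (I : ℕ)) * ⟨0, s I⟩ := by
    intro I
    rw [conj_QM]
    congr 2
    have hv : (dec (2 ^ (I : ℕ))).v = Pi.single I 1 := by
      funext J
      show (if (2 ^ (I : ℕ)).testBit (J : ℕ) then (1 : ZMod 2) else 0) = _
      rw [Nat.testBit_two_pow, Pi.single_apply]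
      by_cases h : (I : ℕ) = J
      · have : I = J := Fin.ext h
        simp [this]
      · have : ¬ J = I := fun h' => h (congrArg Fin.val h').symm
        simp [this, h]
    rw [hv]
    have hgen : ∀ (s : Fin 8 → ZMod 2) (I : Fin 8),
        beta (fun I => s (7 - I)) (Pi.single I 1) + beta (Pi.single I 1) (fun I => s (7 - I)) =
          s I := by
      intro s I
      fin_cases I <;> simp +decide [beta]
    exact hgen s I
  refine ⟨c * ev y, ?_, ?_⟩
  · rw [map_mul, hc, (P.psi_ker (ev y)).2 ⟨y, rfl⟩, mul_one]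
  · intro I
    calc c * ev y * ev (dec (2 ^ (I : ℕ))) * (c * ev y)⁻¹
        = c * (ev (y * dec (2 ^ (I : ℕ)) * y⁻¹)) * c⁻¹ := by
          rw [map_mul, map_mul, map_inv]; group
      _ = (c * ev (dec (2 ^ (I : ℕ))) * c⁻¹) * (c * ev ⟨0, s I⟩ * c⁻¹) := by
          rw [hy, map_mul]; group
      _ = ev (dec (img j I)) * ev ⟨0, s I⟩ * ev ⟨0, s I⟩ := by
          rw [hs]
          congr 1
          rw [P.ev_central]
          split_ifs
          · group
          · rw [P.cent]; group
      _ = ev (dec (img j I)) := by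
          rw [mul_assoc, P.ev_central]
          split_ifs
          · rw [mul_one, mul_one]
          · rw [P.t_sq, mul_one]


/-! ### words modulo `t` -/

theorem zpowers_normal (P : Pre t ev psi) : (Subgroup.zpowers t).Normal := by
  constructor
  intro x hx g
  obtain ⟨k, rfl⟩ := Subgroup.mem_zpowers_iff.1 hx
  have hcc : Commute g (t ^ k) := Commute.zpow_right (P.cent g) k
  rw [hcc.eq, mul_inv_cancel_right]
  exact Subgroup.zpow_mem_zpowers _ k

theorem mem_zpowers (P : Pre t ev psi) {x : C} : x ∈ Subgroup.zpowers t ↔ x = 1 ∨ x = t := by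
  constructor
  · intro hx
    obtain ⟨k, rfl⟩ := Subgroup.mem_zpowers_iff.1 hx
    have h2 : t ^ (2 : ℤ) = 1 := by rw [zpow_two, P.t_sq]
    rcases Int.even_or_odd k with ⟨m, hm⟩ | ⟨m, hm⟩
    · left
      have h3 : m + m = 2 * m := by omega
      rw [hm, h3, zpow_mul, h2, one_zpow]
    · right
      rw [hm, zpow_add, zpow_mul, h2, one_zpow, one_mul, zpow_one]
  · rintro (rfl | rfl)
    · exact one_mem _
    · exact Subgroup.mem_zpowers _

/-- congruence modulo `t` -/
def Eqv (t x y : C) : Prop := x = y ∨ x = y * t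

theorem eqv_refl (x : C) : Eqv t x x := Or.inl rfl

theorem Eqv.symm' (P : Pre t ev psi) {x y : C} (h : Eqv t x y) : Eqv t y x := by
  rcases h with h | h
  · exact Or.inl h.symm
  · right; rw [h, mul_assoc, P.t_sq, mul_one]

theorem Eqv.trans' (P : Pre t ev psi) {x y z : C} (h : Eqv t x y) (h' : Eqv t y z) : Eqv t x z := by
  rcases h with h | h <;> rcases h' with h' | h'
  · exact Or.inl (h.trans h')
  · exact Or.inr (h.trans h')
  · right; rw [h, h']
  · left; rw [h, h', mul_assoc, P.t_sq, mul_one]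

theorem Eqv.mul' (P : Pre t ev psi) {x y x' y' : C} (h : Eqv t x y) (h' : Eqv t x' y') :
    Eqv t (x * x') (y * y') := by
  have c1 : ∀ a b : C, a * t * b = a * b * t := by
    intro a b; rw [mul_assoc, ← P.cent b, mul_assoc]
  rcases h with h | h <;> rcases h' with h' | h' <;> rw [h, h']
  · exact Or.inl rfl
  · right; rw [mul_assoc]
  · right; rw [c1]
  · left; rw [c1, mul_assoc, mul_assoc, P.t_sq, mul_one]

theorem Eqv.inv' (P : Pre t ev psi) {x y : C} (h : Eqv t x y) : Eqv t x⁻¹ y⁻¹ := by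
  rcases h with h | h
  · left; rw [h]
  · right; rw [h, mul_inv_rev, P.t_inv, P.cent]

/-- a family of lifts -/
structure Fam (P : Pre t ev psi) (D : ℕ → C) : Prop where
  psi_eq : ∀ j, j < 7 → psi (D j) = transv (uv j) 1
  conj : ∀ j, j < 7 → ∀ I : Fin 8, D j * ev (dec (2 ^ (I : ℕ))) * (D j)⁻¹ = ev (dec (img j I))

theorem exists_fam (P : Pre t ev psi) : ∃ D : ℕ → C, Fam P D := by
  classical
  have h : ∀ j, ∃ D : C, j < 7 → (psi D = transv (uv j) 1 ∧
      ∀ I : Fin 8, D * ev (dec (2 ^ (I : ℕ))) * D⁻¹ = ev (dec (img j I))) := by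
    intro j
    by_cases hj : j < 7
    · obtain ⟨D, hD⟩ := P.exists_lift j hj
      exact ⟨D, fun _ => hD⟩
    · exact ⟨1, fun h => absurd h hj⟩
  choose D hD using h
  exact ⟨D, fun j hj => (hD j hj).1, fun j hj => (hD j hj).2⟩

theorem Fam.mul_t (P : Pre t ev psi) {D : ℕ → C} (F : Fam P D) (a : ℕ → Prop)
    [DecidablePred a] : Fam P (fun j => if a j then D j * t else D j) := by
  constructor
  · intro j hj
    show psi (if a j then D j * t else D j) = _
    split_ifs
    · rw [map_mul, P.psi_t, mul_one]; exact F.psi_eq j hj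
    · exact F.psi_eq j hj
  · intro j hj I
    show (if a j then D j * t else D j) * _ * (if a j then D j * t else D j)⁻¹ = _
    split_ifs
    · rw [← F.conj j hj I, mul_inv_rev, P.t_inv, mul_assoc (D j) t, ← P.cent (ev _)]
      calc D j * (ev (dec (2 ^ (I : ℕ))) * t) * (t * (D j)⁻¹)
          = D j * ev (dec (2 ^ (I : ℕ))) * (t * t) * (D j)⁻¹ := by group
        _ = _ := by rw [P.t_sq, mul_one]
    · exact F.conj j hj I

theorem conj_z (P : Pre t ev psi) (g : C) : g * ev (dec 256) * g⁻¹ = ev (dec 256) := by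
  rw [P.ev_z, P.cent, mul_inv_cancel_right]

/-- a trivially acting word -/
theorem Fam.triv {P : Pre t ev psi} {D : ℕ → C} (F : Fam P D) (w : List ℕ)
    (hw : ∀ j ∈ w, j < 7) (ht : trivB w = true) : wd D w = 1 ∨ wd D w = t := by
  apply P.self
  intro I
  have h := conj_wd ev D F.conj (fun j _ => P.conj_z (D j)) w hw (2 ^ (I : ℕ))
  rw [h]
  simp only [trivB, Bool.and_eq_true] at ht
  obtain ⟨⟨⟨⟨⟨⟨⟨h0, h1⟩, h2⟩, h3⟩, h4⟩, h5⟩, h6⟩, h7⟩ := ht
  fin_cases I
  · exact congrArg (fun x => ev (dec x)) (Nat.eq_of_beq_eq_true h0)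
  · exact congrArg (fun x => ev (dec x)) (Nat.eq_of_beq_eq_true h1)
  · exact congrArg (fun x => ev (dec x)) (Nat.eq_of_beq_eq_true h2)
  · exact congrArg (fun x => ev (dec x)) (Nat.eq_of_beq_eq_true h3)
  · exact congrArg (fun x => ev (dec x)) (Nat.eq_of_beq_eq_true h4)
  · exact congrArg (fun x => ev (dec x)) (Nat.eq_of_beq_eq_true h5)
  · exact congrArg (fun x => ev (dec x)) (Nat.eq_of_beq_eq_true h6)
  · exact congrArg (fun x => ev (dec x)) (Nat.eq_of_beq_eq_true h7)

/-- words with the same action -/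
theorem Fam.same {P : Pre t ev psi} {D : ℕ → C} (F : Fam P D) (w w' : List ℕ)
    (hw : ∀ j ∈ w, j < 7) (hw' : ∀ j ∈ w', j < 7) (ht : sameB w w' = true) :
    Eqv t (wd D w) (wd D w') := by
  have key : (wd D w')⁻¹ * wd D w = 1 ∨ (wd D w')⁻¹ * wd D w = t := by
    apply P.self
    intro I
    have h := conj_wd ev D F.conj (fun j _ => P.conj_z (D j)) w hw (2 ^ (I : ℕ))
    have h' := conj_wd ev D F.conj (fun j _ => P.conj_z (D j)) w' hw' (2 ^ (I : ℕ))
    have e : autw w (2 ^ (I : ℕ)) = autw w' (2 ^ (I : ℕ)) := by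
      simp only [sameB, Bool.and_eq_true] at ht
      obtain ⟨⟨⟨⟨⟨⟨⟨h0, h1⟩, h2⟩, h3⟩, h4⟩, h5⟩, h6⟩, h7⟩ := ht
      fin_cases I
      · exact Nat.eq_of_beq_eq_true h0
      · exact Nat.eq_of_beq_eq_true h1
      · exact Nat.eq_of_beq_eq_true h2
      · exact Nat.eq_of_beq_eq_true h3
      · exact Nat.eq_of_beq_eq_true h4
      · exact Nat.eq_of_beq_eq_true h5
      · exact Nat.eq_of_beq_eq_true h6
      · exact Nat.eq_of_beq_eq_true h7
    calc (wd D w')⁻¹ * wd D w * ev (dec (2 ^ (I : ℕ))) * ((wd D w')⁻¹ * wd D w)⁻¹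
        = (wd D w')⁻¹ * (wd D w * ev (dec (2 ^ (I : ℕ))) * (wd D w)⁻¹) * wd D w' := by group
      _ = (wd D w')⁻¹ * (wd D w' * ev (dec (2 ^ (I : ℕ))) * (wd D w')⁻¹) * wd D w' := by
          rw [h, h', e]
      _ = _ := by group
  rcases key with h | h
  · left; exact (inv_mul_eq_one.1 h).symm
  · right; rw [← h]; group

theorem Fam.sq {P : Pre t ev psi} {D : ℕ → C} (F : Fam P D) (j : ℕ) (hj : j < 7) :
    D j * D j = 1 ∨ D j * D j = t := by
  have h : ∀ j, j < 7 → trivB [j, j] = true := by decide +kernel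
  have := F.triv [j, j] (by intro k hk; simp at hk; omega) (h j hj)
  simpa [wd] using this

theorem Fam.inv {P : Pre t ev psi} {D : ℕ → C} (F : Fam P D) (j : ℕ) (hj : j < 7) :
    Eqv t (D j) (D j)⁻¹ := by
  rcases F.sq j hj with h | h
  · left; exact eq_inv_of_mul_eq_one_left h
  · right
    rw [P.cent, ← h]; group

/-- the reversed word is the inverse modulo `t` -/
theorem Fam.rev {P : Pre t ev psi} {D : ℕ → C} (F : Fam P D) (w : List ℕ)
    (hw : ∀ j ∈ w, j < 7) : Eqv t (wd D w.reverse) (wd D w)⁻¹ := by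
  induction w with
  | nil => left; simp [wd]
  | cons j w ih =>
    have hj := hw j List.mem_cons_self
    have := ih (fun k hk => hw k (List.mem_cons_of_mem _ hk))
    have e : wd D [j] = D j := by simp [wd]
    rw [List.reverse_cons, wd_append, e, show wd D (j :: w) = D j * wd D w from rfl, mul_inv_rev]
    exact Eqv.mul' P this (F.inv j hj)

theorem wd_singleton (D : ℕ → C) (j : ℕ) : wd D [j] = D j := by simp [wd]

/-- conjugates by words -/
theorem Fam.conj_word {P : Pre t ev psi} {D : ℕ → C} (F : Fam P D) (g v : List ℕ) (k : ℕ)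
    (hk : k < 7) (hg : ∀ j ∈ g, j < 7) (hv : ∀ j ∈ v, j < 7)
    (h : sameB (g ++ [k] ++ g.reverse) v = true) :
    Eqv t (wd D g * D k * (wd D g)⁻¹) (wd D v) := by
  have h1 := F.same (g ++ [k] ++ g.reverse) v (by
    intro j hj
    simp only [List.mem_append, List.mem_singleton, List.mem_reverse] at hj
    rcases hj with (hj | hj) | hj
    · exact hg j hj
    · omega
    · exact hg j hj) hv h
  rw [wd_append, wd_append, wd_singleton] at h1
  refine Eqv.trans' P ?_ h1
  exact Eqv.mul' P (eqv_refl _) (Eqv.symm' P (F.rev g hg))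


/-! ### braid normalisation -/

theorem Fam.braid_eqv {P : Pre t ev psi} {D : ℕ → C} (F : Fam P D) (i j : ℕ) (hi : i < 7)
    (hj : j < 7) (h : adj i j = true) : Eqv t (D i * D j * D i) (D j * D i * D j) := by
  have hc : ∀ i, i < 7 → ∀ j, j < 7 → adj i j = true → sameB [i, j, i] [j, i, j] = true := by
    decide +kernel
  have := F.same [i, j, i] [j, i, j] (by intro k hk; simp at hk; omega)
    (by intro k hk; simp at hk; omega) (hc i hi j hj h)
  simpa [wd, mul_assoc] using this

theorem adj_ne {i j : ℕ} (h : adj i j = true) : i ≠ j := by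
  rintro rfl
  simp only [adj, Bool.or_eq_true, Bool.and_eq_true] at h
  have h1 : ∀ a b : ℕ, Nat.beq i a = true → Nat.beq i b = true → a = b := by
    intro a b ha hb
    rw [← Nat.eq_of_beq_eq_true ha, ← Nat.eq_of_beq_eq_true hb]
  rcases h with ((((((((((( h | h) | h) | h) | h) | h) | h) | h) | h) | h) | h) | h) <;>
    exact absurd (h1 _ _ h.1 h.2) (by decide)

theorem Fam.fix {P : Pre t ev psi} {D : ℕ → C} (F : Fam P D) (i j : ℕ) (hi : i < 7)
    (hj : j < 7) (h : adj i j = true) : ∃ D' : ℕ → C, Fam P D' ∧ (∀ k, k ≠ j → D' k = D k) ∧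
      D' i * D' j * D' i = D' j * D' i * D' j := by
  rcases F.braid_eqv i j hi hj h with h1 | h1
  · exact ⟨D, F, fun _ _ => rfl, h1⟩
  · have hij := adj_ne h
    refine ⟨fun k => if k = j then D k * t else D k, F.mul_t P _, fun k hk => if_neg hk, ?_⟩
    show (if i = j then D i * t else D i) * (if j = j then D j * t else D j) *
      (if i = j then D i * t else D i) = (if j = j then D j * t else D j) *
      (if i = j then D i * t else D i) * (if j = j then D j * t else D j)
    rw [if_neg hij, if_pos rfl]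
    calc D i * (D j * t) * D i = D i * D j * (t * D i) := by group
      _ = D i * D j * D i * t := by rw [← P.cent]; group
      _ = D j * D i * D j * (t * t) := by rw [h1]; group
      _ = D j * (D i * (t * t)) * D j := by rw [P.t_sq, mul_one, mul_one]
      _ = D j * (D i * t) * (t * D j) := by group
      _ = D j * (t * D i) * (D j * t) := by rw [P.cent (D i), P.cent (D j)]
      _ = D j * t * D i * (D j * t) := by group

/-- families with exact braid relations -/
theorem exists_braid (P : Pre t ev psi) : ∃ D : ℕ → C, Fam P D ∧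
    ∀ i j, i < 7 → j < 7 → adj i j = true → D i * D j * D i = D j * D i * D j := by
  obtain ⟨D0, F0⟩ := P.exists_fam
  obtain ⟨D1, F1, e1, b1⟩ := F0.fix 0 1 (by norm_num) (by norm_num) rfl
  obtain ⟨D2, F2, e2, b2⟩ := F1.fix 1 2 (by norm_num) (by norm_num) rfl
  obtain ⟨D3, F3, e3, b3⟩ := F2.fix 2 3 (by norm_num) (by norm_num) rfl
  obtain ⟨D4, F4, e4, b4⟩ := F3.fix 3 4 (by norm_num) (by norm_num) rfl
  obtain ⟨D5, F5, e5, b5⟩ := F4.fix 4 5 (by norm_num) (by norm_num) rfl
  obtain ⟨D6, F6, e6, b6⟩ := F5.fix 2 6 (by norm_num) (by norm_num) rfl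
  have c01 : D6 0 * D6 1 * D6 0 = D6 1 * D6 0 * D6 1 := by
    rw [e6 0 (by norm_num), e6 1 (by norm_num), e5 0 (by norm_num), e5 1 (by norm_num),
      e4 0 (by norm_num), e4 1 (by norm_num), e3 0 (by norm_num), e3 1 (by norm_num),
      e2 0 (by norm_num), e2 1 (by norm_num)]
    exact b1
  have c12 : D6 1 * D6 2 * D6 1 = D6 2 * D6 1 * D6 2 := by
    rw [e6 2 (by norm_num), e6 1 (by norm_num), e5 2 (by norm_num), e5 1 (by norm_num),
      e4 2 (by norm_num), e4 1 (by norm_num), e3 2 (by norm_num), e3 1 (by norm_num)]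
    exact b2
  have c23 : D6 2 * D6 3 * D6 2 = D6 3 * D6 2 * D6 3 := by
    rw [e6 2 (by norm_num), e6 3 (by norm_num), e5 2 (by norm_num), e5 3 (by norm_num),
      e4 2 (by norm_num), e4 3 (by norm_num)]
    exact b3
  have c34 : D6 3 * D6 4 * D6 3 = D6 4 * D6 3 * D6 4 := by
    rw [e6 4 (by norm_num), e6 3 (by norm_num), e5 4 (by norm_num), e5 3 (by norm_num)]
    exact b4
  have c45 : D6 4 * D6 5 * D6 4 = D6 5 * D6 4 * D6 5 := by
    rw [e6 4 (by norm_num), e6 5 (by norm_num)]
    exact b5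
  refine ⟨D6, F6, ?_⟩
  intro i j hi hj h
  have hc : ∀ i, i < 7 → ∀ j, j < 7 → adj i j = true → (i = 0 ∧ j = 1) ∨ (i = 1 ∧ j = 0) ∨
    (i = 1 ∧ j = 2) ∨ (i = 2 ∧ j = 1) ∨ (i = 2 ∧ j = 3) ∨ (i = 3 ∧ j = 2) ∨
    (i = 3 ∧ j = 4) ∨ (i = 4 ∧ j = 3) ∨ (i = 4 ∧ j = 5) ∨ (i = 5 ∧ j = 4) ∨
    (i = 2 ∧ j = 6) ∨ (i = 6 ∧ j = 2) := by
    intro i hi j hj h
    clear * - hi hj h
    interval_cases i <;> interval_cases j <;> first | exact absurd h (by decide) | simp
  rcases hc i hi j hj h with h | h | h | h | h | h | h | h | h | h | h | h <;>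
    obtain ⟨rfl, rfl⟩ := h
  exacts [c01, c01.symm, c12, c12.symm, c23, c23.symm, c34, c34.symm, c45, c45.symm, b6, b6.symm]

/-! ### squares and commutators -/

theorem central_of (P : Pre t ev psi) {s : C} (hs : s = 1 ∨ s = t) (g : C) : g * s = s * g := by
  rcases hs with rfl | rfl
  · rw [mul_one, one_mul]
  · exact P.cent g

theorem sq_of (P : Pre t ev psi) {s : C} (hs : s = 1 ∨ s = t) : s * s = 1 := by
  rcases hs with rfl | rfl
  · rw [mul_one]
  · exact P.t_sq

theorem Eqv.sq (P : Pre t ev psi) {x y : C} (h : Eqv t x y) : x * x = y * y := by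
  rcases h with h | h
  · rw [h]
  · rw [h, mul_assoc y t, ← mul_assoc t y, ← P.cent y, mul_assoc y t t, P.t_sq, mul_one]

/-- commuting up to `c` -/
def Anti (c x y : C) : Prop := x * y = c * (y * x)

theorem Anti.symm' (P : Pre t ev psi) {c x y : C} (hc : c = 1 ∨ c = t) (h : Anti c x y) :
    Anti c y x := by
  show y * x = c * (x * y)
  rw [show x * y = c * (y * x) from h, ← mul_assoc, P.sq_of hc, one_mul]

theorem Anti.conj' (P : Pre t ev psi) {c x y : C} (hc : c = 1 ∨ c = t) (h : Anti c x y) (g : C) :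
    Anti c (g * x * g⁻¹) (g * y * g⁻¹) := by
  show g * x * g⁻¹ * (g * y * g⁻¹) = c * (g * y * g⁻¹ * (g * x * g⁻¹))
  calc g * x * g⁻¹ * (g * y * g⁻¹) = g * (x * y) * g⁻¹ := by group
    _ = (g * c) * (y * x) * g⁻¹ := by rw [show x * y = c * (y * x) from h]; group
    _ = _ := by rw [P.central_of hc]; group

theorem Anti.eqv' (P : Pre t ev psi) {c x y x' y' : C} (h : Anti c x y) (hx : Eqv t x x')
    (hy : Eqv t y y') : Anti c x' y' := by
  have c1 : ∀ a b : C, a * t * b = a * b * t := by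
    intro a b; rw [mul_assoc, ← P.cent b, mul_assoc]
  have h' : x * y = c * (y * x) := h
  show x' * y' = c * (y' * x')
  rcases Eqv.symm' P hx with hx | hx <;> rcases Eqv.symm' P hy with hy | hy <;> rw [hx, hy]
  · exact h'
  · rw [← mul_assoc, h', c1, mul_assoc]
  · rw [c1, h', ← mul_assoc y x t, mul_assoc]
  · calc x * t * (y * t) = x * y * t * t := by rw [c1]; group
      _ = c * (y * x * t * t) := by rw [h']; group
      _ = c * (y * t * (x * t)) := by rw [c1 y]; group

theorem prod_anti (P : Pre t ev psi) {c : C} (hc : c = 1 ∨ c = t) (x : C) (l : List C)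
    (h : ∀ y ∈ l, Anti c x y) : x * l.prod = c ^ l.length * (l.prod * x) := by
  induction l with
  | nil => simp
  | cons y l ih =>
    have h1 : x * y = c * (y * x) := h y List.mem_cons_self
    have h2 := ih (fun z hz => h z (List.mem_cons_of_mem _ hz))
    have h3 : ∀ n : ℕ, y * c ^ n = c ^ n * y := fun n =>
      (Commute.pow_right (show Commute y c from P.central_of hc y) n)
    rw [List.prod_cons, List.length_cons]
    calc x * (y * l.prod) = x * y * l.prod := by group
      _ = c * (y * (x * l.prod)) := by rw [h1]; group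
      _ = c * (y * c ^ l.length * (l.prod * x)) := by rw [h2]; group
      _ = c * (c ^ l.length * y * (l.prod * x)) := by rw [h3]
      _ = c ^ (l.length + 1) * (y * l.prod * x) := by rw [pow_succ']; group

theorem prod_sq (P : Pre t ev psi) {c s : C} (hc : c = 1 ∨ c = t) (hs : s = 1 ∨ s = t)
    (l : List C) (h : l.Pairwise (Anti c)) (h' : ∀ y ∈ l, y * y = s) :
    l.prod * l.prod = c ^ (l.length.choose 2) * s ^ l.length := by
  induction l with
  | nil => simp
  | cons x l ih =>
    rw [List.pairwise_cons] at h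
    have h1 := P.prod_anti hc x l h.1
    have h2 := ih h.2 (fun z hz => h' z (List.mem_cons_of_mem _ hz))
    have hx := h' x List.mem_cons_self
    rw [List.prod_cons, List.length_cons, Nat.choose_succ_succ' l.length 1, Nat.choose_one_right]
    have hsc : ∀ y, y * s = s * y := P.central_of hs
    calc x * l.prod * (x * l.prod)
        = c ^ l.length * (l.prod * x) * (x * l.prod) := by rw [← h1]
      _ = c ^ l.length * (l.prod * (x * x) * l.prod) := by group
      _ = c ^ l.length * (l.prod * (s * l.prod)) := by rw [hx, mul_assoc l.prod]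
      _ = c ^ l.length * (l.prod * l.prod * s) := by rw [← hsc, mul_assoc l.prod]
      _ = c ^ (l.length + l.length.choose 2) * s ^ (l.length + 1) := by
          rw [h2, pow_succ, pow_add]; simp only [mul_assoc]


end Pre

end Cfsg.Agent.Co2Type.Abs
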