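import Cfsg.Agent.Co2Type.AbsTab

/-!
# Finite checks for the relations, part AbsPrC (R03, helper902)
-/

set_option autoImplicit false

namespace Cfsg.Agent.Co2Type.AbsPrC

open Cfsg.Agent.Co2Type.Act Cfsg.Agent.Co2Type.Rels Cfsg.Agent.Co2Type.AbsTab

/-- words -/
def ws : List (ℕ × ℕ × List ℕ) :=
  [(2, 6, [4,3,2,6,5,3,4,1,2,3,0,1,2,6,4,5,3,4,2,3,2,1]),
   (3, 4, [1,2,6,3,4,5,2,3,4,1,2,3,1,2,0,1]),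
   (3, 5, [2,3,4,5,1,2,3,4,0,1,2,3,1,2,0,1]),
   (3, 6, [4,5,3,4,2,3,1,2,6,3,0,1]),
   (4, 5, [2,3,1,2,6,3,2,1]),
   (4, 6, [4,1,2,3,0,1,2,6,4,5,3,4,0,1,2,3,0,1]),
   (5, 6, [4,3,1,2,6,3,4,5,2,3,4,1,2,3,0,1])]

theorem ws_ok : ∀ p ∈ ws, sameB (cw p.2.2 0) (rt p.1) = true ∧ sameB (cw p.2.2 2) (rt p.2.1) = true := by
  decide +kernel

end Cfsg.Agent.Co2Type.AbsPrC
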