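import Cfsg.Agent.Co2Type.AbsPs
import Cfsg.Agent.Co2Type.AbsPrA
import Cfsg.Agent.Co2Type.AbsPrB
import Cfsg.Agent.Co2Type.AbsPrC

/-!
# Finite checks for the relations (R03, helper902)
-/

set_option autoImplicit false

namespace Cfsg.Agent.Co2Type.AbsData

open Cfsg.Agent.Co2Type.Act Cfsg.Agent.Co2Type.Rels

/-- `w 0 w⁻¹` -/
def cw (w : List ℕ) (k : ℕ) : List ℕ := w ++ k :: w.reverse

/-- words for the pairs of non-adjacent letters -/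
def psW : List (ℕ × ℕ × List ℕ) :=
  [(0, 2, []),
   (0, 3, [2,3]),
   (0, 4, [3,4,2,3]),
   (0, 5, [4,5,3,4,2,3]),
   (0, 6, [2,6]),
   (1, 3, [0,1,2,3]),
   (1, 4, [3,4,0,1,2,3]),
   (1, 5, [4,5,3,4,0,1,2,3]),
   (1, 6, [0,1,2,6]),
   (2, 4, [1,2,3,4,0,1,2,3]),
   (2, 5, [4,5,1,2,3,4,0,1,2,3]),
   (3, 5, [2,3,4,5,1,2,3,4,0,1,2,3]),
   (3, 6, [4,3,2,6,1,2,3,4,0,1,2,3,1,2,0,1]),
   (4, 6, [2,6,1,2,3,4,0,1,2,3,1,2,0,1]),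
   (5, 6, [2,6,4,5,1,2,3,4,0,1,2,3,1,2,0,1])]

/-- the seven root words -/
def rootG : List (List ℕ) :=
  [[],
   [2,6,1,2,0,1],
   [2,6,3,4,2,3,1,2,6,5,4,3,2,1],
   [4,5,3,4,2,3,1,2,0,1],
   [1,2,6,3,2,1],
   [2,3,1,2,0,1],
   [4,3,1,2,6,5,4,3,2,1]]

/-- words for the pairs of roots -/
def prW : List (ℕ × ℕ × List ℕ) :=
  [(0, 1, [2,6]),
   (0, 2, [2,6,3,4,1,2,3,0,1,2,6,5,2,3,4,1,2,3,0,1]),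
   (0, 3, [4,5,3,4,2,3]),
   (0, 4, [4,1,2,3,0,1,2,6,1,2,3,4,0,1,2,3,0,1]),
   (0, 5, [2,3]),
   (0, 6, [4,1,2,3,0,1,2,6,5,2,3,4,0,1,2,3,0,1]),
   (1, 2, [2,6,3,4,2,3,1,2,6,3,4,5,2,3,4,1,2,3,0,1]),
   (1, 3, [2,6,4,5,1,2,3,4,0,1,2,3]),
   (1, 4, [1,2,6,1,2,3,0,1]),
   (1, 5, [4,3,2,6,1,2,3,4,0,1,2,3]),
   (1, 6, [4,3,1,2,6,5,4,1,2,3,0,1]),
   (2, 3, [2,6,4,5,3,4,2,3,1,2,6,5,4,3,2,1]),
   (2, 4, [2,6,3,4,1,2,3,0,1,2,6,4,5,3,4,1,2,3,2,1]),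
   (2, 5, [2,6,3,4,2,3,1,2,6,5,4,1,2,3,2,1]),
   (2, 6, [4,3,2,6,5,3,4,1,2,3,0,1,2,6,4,5,3,4,2,3,2,1]),
   (3, 4, [1,2,6,3,4,5,2,3,4,1,2,3,1,2,0,1]),
   (3, 5, [2,3,4,5,1,2,3,4,0,1,2,3,1,2,0,1]),
   (3, 6, [4,5,3,4,2,3,1,2,6,3,0,1]),
   (4, 5, [2,3,1,2,6,3,2,1]),
   (4, 6, [4,1,2,3,0,1,2,6,4,5,3,4,0,1,2,3,0,1]),
   (5, 6, [4,3,1,2,6,3,4,5,2,3,4,1,2,3,0,1])]

theorem psW_lt : ∀ p ∈ psW, ∀ k ∈ p.2.2, k < 7 := by decide +kernel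
theorem rootG_lt : ∀ w ∈ rootG, ∀ k ∈ w, k < 7 := by decide +kernel
theorem prW_lt : ∀ p ∈ prW, ∀ k ∈ p.2.2, k < 7 := by decide +kernel

theorem psW_cov : ∀ i, i < 7 → ∀ j, j < 7 → i < j → adj i j = false →
    ∃ p ∈ psW, p.1 = i ∧ p.2.1 = j := by decide +kernel

theorem prW_cov : ∀ i, i < 7 → ∀ j, j < 7 → i < j →
    ∃ p ∈ prW, p.1 = i ∧ p.2.1 = j := by decide +kernel

theorem psW_ok : ∀ p ∈ psW, sameB (cw p.2.2 0) [p.1] = true ∧ sameB (cw p.2.2 2) [p.2.1] = true :=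
  AbsPs.ws_ok

/-- the root word -/
def rt (k : ℕ) : List ℕ := cw (rootG.getD k []) 0

theorem prW_ok : ∀ p ∈ prW, sameB (cw p.2.2 0) (rt p.1) = true ∧
    sameB (cw p.2.2 2) (rt p.2.1) = true := by
  intro p hp
  have hp' : p ∈ AbsPrA.ws ++ (AbsPrB.ws ++ AbsPrC.ws) := hp
  rcases List.mem_append.1 hp' with h | h
  · exact AbsPrA.ws_ok p h
  · rcases List.mem_append.1 h with h | h
    · exact AbsPrB.ws_ok p h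
    · exact AbsPrC.ws_ok p h

theorem root_triv : trivB (rt 0 ++ rt 1 ++ rt 2 ++ rt 3 ++ rt 4 ++ rt 5 ++ rt 6) = true := by
  decide +kernel

end Cfsg.Agent.Co2Type.AbsData
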