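import Cfsg.Agent.Co2Type.Abs
import Cfsg.Agent.Co2Type.AbsData

/-!
# Existence of the relations, abstract form (R03, helper902)
-/

set_option autoImplicit false

namespace Cfsg.Agent.Co2Type.Abs

open Cfsg Cfsg.Agent.Co2Type.Setup Cfsg.Agent.Co2Type.Spin
open Cfsg.Agent.Co2Type.QModel Cfsg.Agent.Co2Type.Act Cfsg.Agent.Co2Type.Coord
open Cfsg.Agent.Co2Type.Rels Cfsg.Agent.Co2Type.AbsData
open Cfsg.Agent.LieClassical.SympPerfect
open Cfsg.Agent.ClassicalGeometry.SympBasic

namespace Pre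

variable {C : Type*} [Group C] {t : C} {ev : QM →* C} {psi : C →* Sp6}

theorem cw_lt {w : List ℕ} {k : ℕ} (hw : ∀ j ∈ w, j < 7) (hk : k < 7) : ∀ j ∈ cw w k, j < 7 := by
  intro j hj
  simp only [cw, List.mem_append, List.mem_cons, List.mem_reverse] at hj
  rcases hj with hj | hj | hj
  · exact hw j hj
  · omega
  · exact hw j hj

/-- conjugates by words -/
theorem Fam.conj_cw {P : Pre t ev psi} {D : ℕ → C} (F : Fam P D) (g : List ℕ) (k : ℕ)
    (hg : ∀ j ∈ g, j < 7) :
    Eqv t (wd D g * D k * (wd D g)⁻¹) (wd D (cw g k)) := by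
  have e : cw g k = g ++ [k] ++ g.reverse := by simp [cw]
  rw [e, wd_append, wd_append, wd_singleton]
  exact Eqv.mul' P (eqv_refl _) (Eqv.symm' P (F.rev g hg))

theorem rootG_lt' (k : ℕ) : ∀ j ∈ rootG.getD k [], j < 7 := by
  rcases Nat.lt_or_ge k 7 with h | h
  · have : ∀ k, k < 7 → ∀ j ∈ rootG.getD k [], j < 7 := by decide +kernel
    exact this k h
  · rw [List.getD_eq_default _ _ (by simpa [rootG] using h)]
    simp

theorem rt_lt (k : ℕ) : ∀ j ∈ rt k, j < 7 := cw_lt (rootG_lt' k) (by norm_num)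

/-- the common value of the squares -/
theorem Fam.sq_eq {P : Pre t ev psi} {D : ℕ → C} (F : Fam P D)
    (hb : ∀ i j, i < 7 → j < 7 → adj i j = true → D i * D j * D i = D j * D i * D j) :
    ∀ j, j < 7 → D j * D j = D 0 * D 0 := by
  have step : ∀ i j, i < 7 → j < 7 → adj i j = true → D j * D j = D i * D i := by
    intro i j hi hj h
    have h1 : D j = (D i * D j) * D i * (D i * D j)⁻¹ := by
      rw [eq_mul_inv_iff_mul_eq, hb i j hi hj h]; group
    have h2 : D j * D j = (D i * D j) * (D i * D i) * (D i * D j)⁻¹ := by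
      calc D j * D j = ((D i * D j) * D i * (D i * D j)⁻¹) * ((D i * D j) * D i * (D i * D j)⁻¹) := by
            rw [← h1]
        _ = _ := by group
    rw [h2, P.central_of (F.sq i hi), mul_inv_cancel_right]
  have h1 := step 0 1 (by norm_num) (by norm_num) rfl
  have h2 := (step 1 2 (by norm_num) (by norm_num) rfl).trans h1
  have h3 := (step 2 3 (by norm_num) (by norm_num) rfl).trans h2
  have h4 := (step 3 4 (by norm_num) (by norm_num) rfl).trans h3
  have h5 := (step 4 5 (by norm_num) (by norm_num) rfl).trans h4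
  have h6 := (step 2 6 (by norm_num) (by norm_num) rfl).trans h2
  intro j hj
  interval_cases j
  exacts [rfl, h1, h2, h3, h4, h5, h6]

/-- commutators of non-adjacent letters -/
theorem Fam.exists_comm {P : Pre t ev psi} {D : ℕ → C} (F : Fam P D) :
    ∃ c : C, (c = 1 ∨ c = t) ∧ Anti c (D 0) (D 2) := by
  have hs : sameB [0, 2] [2, 0] = true := by decide +kernel
  have h := F.same [0, 2] [2, 0] (by intro k hk; simp at hk; omega)
    (by intro k hk; simp at hk; omega) hs
  simp only [wd, mul_one] at h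
  rcases h with h | h
  · exact ⟨1, Or.inl rfl, by rw [Anti, one_mul]; exact h⟩
  · exact ⟨t, Or.inr rfl, by rw [Anti, ← P.cent]; exact h⟩

theorem Fam.comm_all {P : Pre t ev psi} {D : ℕ → C} (F : Fam P D) {c : C} (hc : c = 1 ∨ c = t)
    (h : Anti c (D 0) (D 2)) (i j : ℕ) (hi : i < 7) (hj : j < 7) (hij : i ≠ j)
    (ha : adj i j = false) : Anti c (D i) (D j) := by
  have key : ∀ i j, i < 7 → j < 7 → i < j → adj i j = false → Anti c (D i) (D j) := by
    intro i j hi hj hij ha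
    obtain ⟨p, hp, rfl, rfl⟩ := psW_cov i hi j hj hij ha
    obtain ⟨h1, h2⟩ := psW_ok p hp
    have hl := psW_lt p hp
    have e1 := F.same _ _ (cw_lt hl (by norm_num : 0 < 7)) (by intro k hk; simp at hk; omega) h1
    have e2 := F.same _ _ (cw_lt hl (by norm_num : 2 < 7)) (by intro k hk; simp at hk; omega) h2
    rw [wd_singleton] at e1 e2
    exact Anti.eqv' P (Anti.conj' P hc h (wd D p.2.2)) (Eqv.trans' P (F.conj_cw _ _ hl) e1)
      (Eqv.trans' P (F.conj_cw _ _ hl) e2)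
  have hadj : adj i j = adj j i := by
    have : ∀ i, i < 7 → ∀ j, j < 7 → adj i j = adj j i := by decide
    exact this i hi j hj
  rcases Nat.lt_or_gt_of_ne hij with h' | h'
  · exact key i j hi hj h' ha
  · exact Anti.symm' P hc (key j i hj hi h' (by rw [← hadj]; exact ha))

theorem Fam.root_sq {P : Pre t ev psi} {D : ℕ → C} (F : Fam P D) (k : ℕ) :
    wd D (rt k) * wd D (rt k) = D 0 * D 0 := by
  rw [rt, ← Eqv.sq P (F.conj_cw (rootG.getD k []) 0 (rootG_lt' k))]
  calc wd D (rootG.getD k []) * D 0 * (wd D (rootG.getD k []))⁻¹ *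
        (wd D (rootG.getD k []) * D 0 * (wd D (rootG.getD k []))⁻¹)
      = wd D (rootG.getD k []) * (D 0 * D 0) * (wd D (rootG.getD k []))⁻¹ := by group
    _ = _ := by rw [P.central_of (F.sq 0 (by norm_num)), mul_inv_cancel_right]

theorem Fam.root_comm {P : Pre t ev psi} {D : ℕ → C} (F : Fam P D) {c : C} (hc : c = 1 ∨ c = t)
    (h : Anti c (D 0) (D 2)) (k l : ℕ) (hl : l < 7) (hkl : k < l) :
    Anti c (wd D (rt k)) (wd D (rt l)) := by
  obtain ⟨p, hp, rfl, rfl⟩ := prW_cov k (by omega) l hl hkl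
  obtain ⟨h1, h2⟩ := prW_ok p hp
  have hl := prW_lt p hp
  have e1 := F.same _ _ (cw_lt hl (by norm_num : 0 < 7)) (rt_lt _) h1
  have e2 := F.same _ _ (cw_lt hl (by norm_num : 2 < 7)) (rt_lt _) h2
  exact Anti.eqv' P (Anti.conj' P hc h (wd D p.2.2)) (Eqv.trans' P (F.conj_cw _ _ hl) e1)
    (Eqv.trans' P (F.conj_cw _ _ hl) e2)

/-- the squares are equal to the commutators -/
theorem Fam.sq_eq_comm {P : Pre t ev psi} {D : ℕ → C} (F : Fam P D) {c : C} (hc : c = 1 ∨ c = t)
    (h : Anti c (D 0) (D 2)) : D 0 * D 0 = c := by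
  have hs := F.sq 0 (by norm_num)
  have h1 := P.prod_sq hc hs [wd D (rt 0), wd D (rt 1), wd D (rt 2), wd D (rt 3), wd D (rt 4),
    wd D (rt 5), wd D (rt 6)] (by
      have hrange : [wd D (rt 0), wd D (rt 1), wd D (rt 2), wd D (rt 3), wd D (rt 4),
        wd D (rt 5), wd D (rt 6)] = (List.range 7).map (fun k => wd D (rt k)) := rfl
      rw [hrange, List.pairwise_map]
      refine List.Pairwise.imp_of_mem (R := fun a b : ℕ => a < b) ?_ List.pairwise_lt_range
      intro a b _ hb hab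
      exact F.root_comm hc h a b (List.mem_range.1 hb) hab) (by
      intro y hy
      simp only [List.mem_cons, List.not_mem_nil, or_false] at hy
      rcases hy with rfl | rfl | rfl | rfl | rfl | rfl | rfl <;> exact F.root_sq _)
  have h2 := F.triv _ (by
    intro j hj
    simp only [List.mem_append] at hj
    rcases hj with (((((hj | hj) | hj) | hj) | hj) | hj) | hj <;> exact rt_lt _ j hj) root_triv
  have h3 : wd D (rt 0 ++ rt 1 ++ rt 2 ++ rt 3 ++ rt 4 ++ rt 5 ++ rt 6) =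
      [wd D (rt 0), wd D (rt 1), wd D (rt 2), wd D (rt 3), wd D (rt 4),
        wd D (rt 5), wd D (rt 6)].prod := by
    simp only [wd_append, List.prod_cons, List.prod_nil, mul_one, mul_assoc]
  rw [h3] at h2
  rw [P.sq_of h2] at h1
  have e1 : c ^ (7 : ℕ).choose 2 = c := by
    have : (7 : ℕ).choose 2 = 2 * 10 + 1 := by decide
    rw [this, pow_succ, pow_mul, pow_two, P.sq_of hc, one_pow, one_mul]
  have e2 : (D 0 * D 0) ^ 7 = D 0 * D 0 := by
    have : (7 : ℕ) = 2 * 3 + 1 := by norm_num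
    rw [this, pow_succ, pow_mul, pow_two, P.sq_of hs, one_pow, one_mul]
  have h4 : (1 : C) = c * (D 0 * D 0) := by
    rw [← e1, ← e2]; exact h1
  have h5 : c * (c * (D 0 * D 0)) = c := by rw [← h4, mul_one]
  rw [← mul_assoc, P.sq_of hc, one_mul] at h5
  exact h5

/-! ### generation -/

/-- decode a vector of `F₂⁶` -/
def vec (m : ℕ) : U := fun i =>
  match i with
  | Sum.inl i => if m.testBit i then 1 else 0
  | Sum.inr i => if m.testBit (3 + i) then 1 else 0

/-- the codes of the seven vectors -/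
def uc (j : ℕ) : ℕ :=
  match j with
  | 0 => 1
  | 1 => 8
  | 2 => 3
  | 3 => 20
  | 4 => 32
  | 5 => 4
  | 6 => 16
  | _ => 0

/-- symplectic form on codes -/
def sfc (m n : ℕ) : Bool :=
  ((m.testBit 0 && n.testBit 3) ^^ (m.testBit 3 && n.testBit 0)) ^^
  (((m.testBit 1 && n.testBit 4) ^^ (m.testBit 4 && n.testBit 1)) ^^
  ((m.testBit 2 && n.testBit 5) ^^ (m.testBit 5 && n.testBit 2)))

/-- reflection on codes -/
def tc (j m : ℕ) : ℕ := cond (sfc m (uc j)) (m ^^^ uc j) m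

/-- orbit of the first vector -/
def orb : List ℕ → ℕ
  | [] => uc 0
  | j :: w => tc j (orb w)

/-- table -/
def orbT : List (List ℕ) :=
  [[],
   [3,4,2,3,1,2,6,5,4,3,2,1],
   [1,2,0,1],
   [4,5,3,4,2,3,1,2,0,1],
   [1,2,6,3,2,1],
   [6,4,2,3,1,2,6,5,4,3,2,1],
   [6,3,1,2,0,1],
   [0,1],
   [1],
   [2,1],
   [2,0,1],
   [2,6,3,2,0,1],
   [2,6,3,2,1],
   [6,3,2,1],
   [6,3,2,0,1],
   [2,6,1,2,0,1],
   [2,6,3,4,2,3,1,2,6,5,4,3,2,1],
   [6,3,4,2,3,1,2,6,5,4,3,2,1],
   [6,1,2,0,1],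
   [2,3,1,2,0,1],
   [4,3,1,2,6,5,4,3,2,1],
   [4,2,3,1,2,6,5,4,3,2,1],
   [3,1,2,0,1],
   [0,1,2,6,3,4,2,3,1,2,6,5,4,3,2,1],
   [1,2,6,3,4,2,3,1,2,6,5,4,3,2,1],
   [6,2,1],
   [6,2,0,1],
   [4,3,2,6,5,4,3,2,0,1],
   [4,3,2,6,5,4,3,2,1],
   [3,2,1],
   [3,2,0,1],
   [3,4,2,3,1,2,0,1],
   [1,2,6,5,4,3,2,1],
   [6,2,3,1,2,6,4,3,2,1],
   [6,5,4,3,1,2,0,1],
   [5,3,4,2,3,1,2,0,1],
   [1,2,6,4,3,2,1],
   [6,2,3,1,2,6,5,4,3,2,1],
   [6,4,3,1,2,0,1],
   [2,6,5,4,3,2,0,1],
   [2,6,5,4,3,2,1],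
   [6,5,4,3,2,1],
   [6,5,4,3,2,0,1],
   [2,6,4,3,2,0,1],
   [2,6,4,3,2,1],
   [6,4,3,2,1],
   [6,4,3,2,0,1],
   [5,4,2,3,1,2,0,1],
   [3,1,2,6,4,3,2,1],
   [2,3,1,2,6,4,3,2,1],
   [5,4,3,1,2,0,1],
   [4,2,3,1,2,0,1],
   [3,1,2,6,5,4,3,2,1],
   [2,3,1,2,6,5,4,3,2,1],
   [4,3,1,2,0,1],
   [3,2,6,4,3,2,0,1],
   [3,2,6,4,3,2,1],
   [5,4,3,2,1],
   [5,4,3,2,0,1],
   [3,2,6,5,4,3,2,0,1],
   [3,2,6,5,4,3,2,1],
   [4,3,2,1],
   [4,3,2,0,1]]

theorem orbT_lt : ∀ w ∈ orbT, ∀ j ∈ w, j < 7 := by decide +kernel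

theorem orbT_ok : ∀ m, m < 63 → orb (orbT.getD m []) = m + 1 := by decide +kernel

theorem bits (a b c d e f : Bool) : ∃ m : ℕ, m < 64 ∧ m.testBit 0 = a ∧ m.testBit 1 = b ∧
    m.testBit 2 = c ∧ m.testBit 3 = d ∧ m.testBit 4 = e ∧ m.testBit 5 = f := by
  refine ⟨a.toNat + 2 * b.toNat + 4 * c.toNat + 8 * d.toNat + 16 * e.toNat + 32 * f.toNat, ?_⟩
  revert a b c d e f
  decide

theorem vec_surj : ∀ u : U, ∃ m, m < 64 ∧ vec m = u := by
  have h2 : ∀ z : ZMod 2, ∃ a : Bool, (if a = true then (1 : ZMod 2) else 0) = z := by decide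
  intro u
  obtain ⟨a, ha⟩ := h2 (u (Sum.inl 0))
  obtain ⟨b, hb⟩ := h2 (u (Sum.inl 1))
  obtain ⟨c, hc⟩ := h2 (u (Sum.inl 2))
  obtain ⟨d, hd⟩ := h2 (u (Sum.inr 0))
  obtain ⟨e, he⟩ := h2 (u (Sum.inr 1))
  obtain ⟨f, hf⟩ := h2 (u (Sum.inr 2))
  obtain ⟨m, hm, m0, m1, m2, m3, m4, m5⟩ := bits a b c d e f
  refine ⟨m, hm, ?_⟩
  funext i
  rcases i with i | i <;> fin_cases i
  · show (if m.testBit 0 then (1 : ZMod 2) else 0) = _
    rw [m0]; exact ha
  · show (if m.testBit 1 then (1 : ZMod 2) else 0) = _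
    rw [m1]; exact hb
  · show (if m.testBit 2 then (1 : ZMod 2) else 0) = _
    rw [m2]; exact hc
  · show (if m.testBit 3 then (1 : ZMod 2) else 0) = _
    rw [m3]; exact hd
  · show (if m.testBit 4 then (1 : ZMod 2) else 0) = _
    rw [m4]; exact he
  · show (if m.testBit 5 then (1 : ZMod 2) else 0) = _
    rw [m5]; exact hf

theorem vec_uc : ∀ j, j < 7 → vec (uc j) = uv j := by decide +kernel

theorem vec_tc : ∀ j, j < 7 → ∀ m, m < 64 → tc j m < 64 ∧
    vec (tc j m) = vec m + sf (vec m) (uv j) • uv j := by decide +kernel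

theorem vec_zero : vec 0 = 0 := by decide +kernel

/-- the seven transvections generate `Sp6(2)` -/
theorem closure_seven (H : Subgroup Sp6) (h : ∀ j, j < 7 → transv (uv j) 1 ∈ H) : H = ⊤ := by
  have h1 : ∀ w : List ℕ, (∀ j ∈ w, j < 7) → orb w < 64 ∧ transv (vec (orb w)) 1 ∈ H := by
    intro w
    induction w with
    | nil =>
      intro _
      refine ⟨by decide, ?_⟩
      show transv (vec (uc 0)) 1 ∈ H
      rw [vec_uc 0 (by norm_num)]
      exact h 0 (by norm_num)
    | cons j w ih =>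
      intro hw
      have hj := hw j List.mem_cons_self
      obtain ⟨h2, h3⟩ := ih (fun k hk => hw k (List.mem_cons_of_mem _ hk))
      obtain ⟨h4, h5⟩ := vec_tc j hj _ h2
      refine ⟨h4, ?_⟩
      show transv (vec (tc j (orb w))) 1 ∈ H
      rw [h5, ← transv_mulVec, ← conj_transv]
      exact H.mul_mem (H.mul_mem (h j hj) h3) (H.inv_mem (h j hj))
  rw [eq_top_iff, ← closure_top, Subgroup.closure_le]
  rintro _ ⟨u, rfl⟩
  obtain ⟨m, hm, rfl⟩ := vec_surj u
  rcases Nat.eq_zero_or_pos m with rfl | hm0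
  · rw [vec_zero, transv_zero_left]; exact one_mem _
  · have h2 := orbT_ok (m - 1) (by omega)
    have h3 := h1 (orbT.getD (m - 1) []) (by
      rcases Nat.lt_or_ge (m - 1) 63 with h | h
      · have : orbT.getD (m - 1) [] ∈ orbT := by
          rw [List.getD_eq_getElem _ _ (by simpa [orbT] using h)]
          exact List.getElem_mem _
        exact orbT_lt _ this
      · omega)
    rw [h2, show m - 1 + 1 = m by omega] at h3
    exact h3.2

theorem Fam.gen {P : Pre t ev psi} {D : ℕ → C} (F : Fam P D) :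
    Subgroup.closure (Set.range ev ∪ {g | ∃ j, j < 7 ∧ g = D j}) = ⊤ := by
  set K := Subgroup.closure (Set.range ev ∪ {g | ∃ j, j < 7 ∧ g = D j}) with hK
  have h1 : K.map psi = ⊤ := by
    apply closure_seven
    intro j hj
    refine ⟨D j, Subgroup.subset_closure (Or.inr ⟨j, hj, rfl⟩), F.psi_eq j hj⟩
  rw [eq_top_iff]
  intro g _
  have h2 : psi g ∈ K.map psi := by rw [h1]; trivial
  obtain ⟨k, hk, hkg⟩ := h2
  have h3 : psi (k⁻¹ * g) = 1 := by rw [map_mul, map_inv, hkg, inv_mul_cancel]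
  rw [P.psi_ker] at h3
  obtain ⟨x, hx⟩ := h3
  have h4 : g = k * ev x := by rw [hx]; group
  rw [h4]
  exact K.mul_mem hk (Subgroup.subset_closure (Or.inl ⟨x, rfl⟩))

theorem wd_mul_t (P : Pre t ev psi) (D : ℕ → C) (w : List ℕ) :
    wd (fun j => D j * t) w = wd D w * t ^ w.length := by
  induction w with
  | nil => simp [wd]
  | cons j w ih =>
    rw [wd, ih, wd, List.length_cons, pow_succ']
    have : t * wd D w = wd D w * t := (P.cent _).symm
    calc D j * t * (wd D w * t ^ w.length) = D j * (t * wd D w) * t ^ w.length := by group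
      _ = _ := by rw [this]; simp only [mul_assoc]

/-- existence of generators satisfying the relations -/
theorem exists_rels (P : Pre t ev psi) : ∃ (eps : Bool) (D : ℕ → C), Rels eps t ev D ∧
    ∀ j, j < 7 → psi (D j) = transv (uv j) 1 := by
  classical
  obtain ⟨D, F, hb⟩ := P.exists_braid
  obtain ⟨c, hc, hcomm⟩ := F.exists_comm
  have hsc := F.sq_eq_comm hc hcomm
  obtain ⟨eps, heps⟩ : ∃ eps : Bool, c = tw eps t := by
    rcases hc with h | h
    · exact ⟨false, h⟩
    · exact ⟨true, h⟩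
  have hsq : ∀ j, j < 7 → D j * D j = tw eps t := by
    intro j hj
    rw [F.sq_eq hb j hj, hsc, heps]
  have hcm : ∀ i j, i < 7 → j < 7 → i ≠ j → adj i j = false →
      D i * D j = tw eps t * (D j * D i) := by
    intro i j hi hj hij ha
    rw [← heps]
    exact F.comm_all hc hcomm i j hi hj hij ha
  have hw : trivB w0 = true := by decide +kernel
  have hwl : ∀ j ∈ w0, j < 7 := by decide +kernel
  rcases F.triv w0 hwl hw with h | h
  · exact ⟨eps, D, ⟨P.ev_inj, P.ev_z, P.cent, F.conj, hsq, hb, hcm, h, F.gen⟩, F.psi_eq⟩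
  · have F' : Fam P (fun j => D j * t) := by
      have := F.mul_t P (fun _ => True)
      simpa using this
    have tD : ∀ j, D j * t = t * D j := fun j => P.cent _
    refine ⟨eps, fun j => D j * t, ⟨P.ev_inj, P.ev_z, P.cent, F'.conj, ?_, ?_, ?_, ?_, F'.gen⟩,
      F'.psi_eq⟩
    · intro j hj
      show D j * t * (D j * t) = _
      calc D j * t * (D j * t) = D j * (t * D j) * t := by group
        _ = D j * D j * (t * t) := by rw [← tD]; group
        _ = _ := by rw [P.t_sq, mul_one, hsq j hj]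
    · intro i j hi hj ha
      show D i * t * (D j * t) * (D i * t) = D j * t * (D i * t) * (D j * t)
      have e : ∀ i j, D i * t * (D j * t) * (D i * t) = (D i * D j * D i) * (t * t * t) := by
        intro i j
        calc D i * t * (D j * t) * (D i * t) = D i * (t * D j) * (t * D i) * t := by group
          _ = D i * (D j * t) * (D i * t) * t := by rw [← tD, ← tD]
          _ = D i * D j * (t * D i) * t * t := by group
          _ = _ := by rw [← tD]; group
      rw [e, e, hb i j hi hj ha]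
    · intro i j hi hj hij ha
      show D i * t * (D j * t) = tw eps t * (D j * t * (D i * t))
      have e : ∀ i j, D i * t * (D j * t) = (D i * D j) * (t * t) := by
        intro i j
        calc D i * t * (D j * t) = D i * (t * D j) * t := by group
          _ = _ := by rw [← tD]; group
      rw [e, e, hcm i j hi hj hij ha, mul_assoc]
    · rw [P.wd_mul_t, h]
      have : t ^ w0.length = t := by
        have hl : w0.length = 2 * 31 + 1 := by decide
        rw [hl, pow_succ, pow_mul, pow_two, P.t_sq, one_pow, one_mul]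
      rw [this, P.t_sq]

end Pre

end Cfsg.Agent.Co2Type.Abs
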