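import Cfsg.Agent.Co2Type.AbsTab

/-!
# Finite checks for the relations, part AbsPs (R03, helper902)
-/

set_option autoImplicit false

namespace Cfsg.Agent.Co2Type.AbsPs

open Cfsg.Agent.Co2Type.Act Cfsg.Agent.Co2Type.Rels Cfsg.Agent.Co2Type.AbsTab

/-- words -/
def ws : List (ℕ × ℕ × List ℕ) :=
  [(0, 2, []),
   (0, 3, [2,3]),
   (0, 4, [3,4,2,3]),
   (0, 5, [4,5,3,4,2,3]),
   (0, 6, [2,6]),
   (1, 3, [0,1,2,3]),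
   (1, 4, [3,4,0,1,2,3]),
   (1, 5, [4,5,3,4,0,1,2,3]),
   (1, 6, [0,1,2,6]),
   (2, 4, [1,2,3,4,0,1,2,3]),
   (2, 5, [4,5,1,2,3,4,0,1,2,3]),
   (3, 5, [2,3,4,5,1,2,3,4,0,1,2,3]),
   (3, 6, [4,3,2,6,1,2,3,4,0,1,2,3,1,2,0,1]),
   (4, 6, [2,6,1,2,3,4,0,1,2,3,1,2,0,1]),
   (5, 6, [2,6,4,5,1,2,3,4,0,1,2,3,1,2,0,1])]

theorem ws_ok : ∀ p ∈ ws, sameB (cw p.2.2 0) [p.1] = true ∧ sameB (cw p.2.2 2) [p.2.1] = true := by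
  decide +kernel

end Cfsg.Agent.Co2Type.AbsPs
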