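import Cfsg.Agent.Co2Type.Rels

/-!
# Finite checks for the relations, the words (R03, helper902)
-/

set_option autoImplicit false

namespace Cfsg.Agent.Co2Type.AbsTab

open Cfsg.Agent.Co2Type.Act Cfsg.Agent.Co2Type.Rels

/-- `w 0 w⁻¹` -/
def cw (w : List ℕ) (k : ℕ) : List ℕ := w ++ k :: w.reverse

/-- the seven root words -/
def rootG : List (List ℕ) :=
  [[],
   [2,6,1,2,0,1],
   [2,6,3,4,2,3,1,2,6,5,4,3,2,1],
   [4,5,3,4,2,3,1,2,0,1],
   [1,2,6,3,2,1],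
   [2,3,1,2,0,1],
   [4,3,1,2,6,5,4,3,2,1]]

/-- the root word -/
def rt (k : ℕ) : List ℕ := cw (rootG.getD k []) 0

end Cfsg.Agent.Co2Type.AbsTab
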