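import Cfsg.Agent.Co2Type.QModel

/-!
# The action of `Sp6(2)` on `2^{1+8}_+` on codes (R03, helper902)
-/

set_option autoImplicit false

namespace Cfsg.Agent.Co2Type.Act

open Cfsg.Agent.Co2Type.QModel

/-- packed tables: nine bits per image -/
def tab (j : ℕ) : ℕ :=
  match j with
  | 0 => 0x403004030040300403
  | 1 => 0x601006010060100601
  | 2 => 0x403014170040301507
  | 3 => 0x501404010c55144411
  | 4 => 0x441104411040100401
  | 5 => 0x401004010441104411
  | 6 => 0x501404010050140401
  | _ => 0

/-- code of the image of the `I`-th generator under the `j`-th automorphism -/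
def img (j I : ℕ) : ℕ := (tab j >>> (9 * I)) &&& 511

/-- the `j`-th automorphism on codes -/
def aut (j m : ℕ) : ℕ :=
  qmul (qmul (qmul (qmul (qmul (qmul (qmul (qmul
    (cond (m.testBit 0) (img j 0) 0)
    (cond (m.testBit 1) (img j 1) 0))
    (cond (m.testBit 2) (img j 2) 0))
    (cond (m.testBit 3) (img j 3) 0))
    (cond (m.testBit 4) (img j 4) 0))
    (cond (m.testBit 5) (img j 5) 0))
    (cond (m.testBit 6) (img j 6) 0))
    (cond (m.testBit 7) (img j 7) 0))
    (cond (m.testBit 8) 256 0)

/-- words act from the left: `autw [j₁, …, j_k] = aut j₁ ∘ … ∘ aut j_k` -/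
def autw : List ℕ → ℕ → ℕ
  | [], m => m
  | j :: w, m => aut j (autw w m)

/-- the word acts trivially on all generators -/
def trivB (w : List ℕ) : Bool :=
  Nat.beq (autw w 1) 1 && Nat.beq (autw w 2) 2 && Nat.beq (autw w 4) 4 && Nat.beq (autw w 8) 8 &&
  Nat.beq (autw w 16) 16 && Nat.beq (autw w 32) 32 && Nat.beq (autw w 64) 64 &&
  Nat.beq (autw w 128) 128

/-- two words act in the same way on all generators -/
def sameB (w w' : List ℕ) : Bool :=
  Nat.beq (autw w 1) (autw w' 1) && Nat.beq (autw w 2) (autw w' 2) &&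
  Nat.beq (autw w 4) (autw w' 4) && Nat.beq (autw w 8) (autw w' 8) &&
  Nat.beq (autw w 16) (autw w' 16) && Nat.beq (autw w 32) (autw w' 32) &&
  Nat.beq (autw w 64) (autw w' 64) && Nat.beq (autw w 128) (autw w' 128)

theorem dec_cond (b : Bool) (m : ℕ) : dec (cond b m 0) = if b = true then dec m else 1 := by
  cases b
  · exact dec_zero
  · rfl

variable {G : Type*} [Group G]

/-- conjugation is determined by the images of the generators -/
theorem conj_dec (ev : QM →* G) (D : G) (j : ℕ)
    (h : ∀ I : Fin 8, D * ev (dec (2 ^ (I : ℕ))) * D⁻¹ = ev (dec (img j I)))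
    (hz : D * ev (dec 256) * D⁻¹ = ev (dec 256)) (m : ℕ) :
    D * ev (dec m) * D⁻¹ = ev (dec (aut j m)) := by
  have key : ∀ x y : G, D * (x * y) * D⁻¹ = (D * x * D⁻¹) * (D * y * D⁻¹) := by
    intro x y; group
  have hif : ∀ (b : Bool) (x y : QM), D * ev x * D⁻¹ = ev y →
      D * ev (if b = true then x else 1) * D⁻¹ = ev (if b = true then y else 1) := by
    intro b x y hxy
    cases b
    · simp
    · simpa using hxy
  rw [dec_expand m, aut, dec_qmul, dec_qmul, dec_qmul, dec_qmul, dec_qmul, dec_qmul, dec_qmul,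
    dec_qmul]
  simp only [dec_cond, map_mul, key]
  have g0 : ∀ b : Bool, D * ev (if b = true then dec (2 ^ 0) else 1) * D⁻¹ =
      ev (if b = true then dec (img j 0) else 1) := fun b => hif b _ _ (h 0)
  have g1 : ∀ b : Bool, D * ev (if b = true then dec (2 ^ 1) else 1) * D⁻¹ =
      ev (if b = true then dec (img j 1) else 1) := fun b => hif b _ _ (h 1)
  have g2 : ∀ b : Bool, D * ev (if b = true then dec (2 ^ 2) else 1) * D⁻¹ =
      ev (if b = true then dec (img j 2) else 1) := fun b => hif b _ _ (h 2)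
  have g3 : ∀ b : Bool, D * ev (if b = true then dec (2 ^ 3) else 1) * D⁻¹ =
      ev (if b = true then dec (img j 3) else 1) := fun b => hif b _ _ (h 3)
  have g4 : ∀ b : Bool, D * ev (if b = true then dec (2 ^ 4) else 1) * D⁻¹ =
      ev (if b = true then dec (img j 4) else 1) := fun b => hif b _ _ (h 4)
  have g5 : ∀ b : Bool, D * ev (if b = true then dec (2 ^ 5) else 1) * D⁻¹ =
      ev (if b = true then dec (img j 5) else 1) := fun b => hif b _ _ (h 5)
  have g6 : ∀ b : Bool, D * ev (if b = true then dec (2 ^ 6) else 1) * D⁻¹ =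
      ev (if b = true then dec (img j 6) else 1) := fun b => hif b _ _ (h 6)
  have g7 : ∀ b : Bool, D * ev (if b = true then dec (2 ^ 7) else 1) * D⁻¹ =
      ev (if b = true then dec (img j 7) else 1) := fun b => hif b _ _ (h 7)
  rw [g0, g1, g2, g3, g4, g5, g6, g7, hif _ _ _ hz]

/-- the product of the letters of a word -/
def wd (D : ℕ → G) : List ℕ → G
  | [] => 1
  | j :: w => D j * wd D w

theorem wd_append (D : ℕ → G) (w w' : List ℕ) : wd D (w ++ w') = wd D w * wd D w' := by
  induction w with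
  | nil => simp [wd]
  | cons j w ih => simp [wd, ih, mul_assoc]

theorem conj_wd (ev : QM →* G) (D : ℕ → G)
    (h : ∀ j, j < 7 → ∀ I : Fin 8, D j * ev (dec (2 ^ (I : ℕ))) * (D j)⁻¹ = ev (dec (img j I)))
    (hz : ∀ j, j < 7 → D j * ev (dec 256) * (D j)⁻¹ = ev (dec 256)) (w : List ℕ)
    (hw : ∀ j ∈ w, j < 7) (m : ℕ) :
    wd D w * ev (dec m) * (wd D w)⁻¹ = ev (dec (autw w m)) := by
  induction w with
  | nil => simp [wd, autw]
  | cons j w ih =>
    have hj := hw j List.mem_cons_self
    have := ih (fun k hk => hw k (List.mem_cons_of_mem _ hk))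
    rw [wd, autw]
    calc D j * wd D w * ev (dec m) * (D j * wd D w)⁻¹
        = D j * (wd D w * ev (dec m) * (wd D w)⁻¹) * (D j)⁻¹ := by group
      _ = ev (dec (aut j (autw w m))) := by
        rw [this]; exact conj_dec ev (D j) j (h j hj) (hz j hj) _

end Cfsg.Agent.Co2Type.Act
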