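import Cfsg.Agent.Co2Type.Quad

/-!
# Two commuting conjugate involutions with large extraspecial centralisers (R03, letter B, helper595)

`h : Large Q z`, `h' : Large Q' z'` with `z z' = z' z`.  `D = dsub Q z' = C_Q(z')`, `D' = dsub Q' z`,
`I = Q ⊓ Q'`.  `WC Q z` : `z` is weakly closed in `Q` (with respect to `G`).
-/

set_option autoImplicit false

namespace Cfsg.Agent.Co2Type.Pair

open Cfsg.Agent.Co2Type.Quad

variable {G : Type*} [Group G] {Q Q' : Subgroup G} {z z' : G}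

/-- `C_Q(z')` -/
def dsub (Q : Subgroup G) (z' : G) : Subgroup G := Q ⊓ Subgroup.centralizer ({z'} : Set G)

theorem mem_dsub {x : G} : x ∈ dsub Q z' ↔ x ∈ Q ∧ x * z' = z' * x := by
  rw [dsub, Subgroup.mem_inf, Subgroup.mem_centralizer_singleton_iff]

/-- `z` is weakly closed in `Q`: the only conjugate of `z` in `Q` is `z` -/
def WC (Q : Subgroup G) (z : G) : Prop := ∀ g : G, g * z * g⁻¹ ∈ Q → g * z * g⁻¹ = z

theorem WC.conj (hw : WC Q z) (g : G) : WC (Q.map (MulAut.conj g).toMonoidHom) (g * z * g⁻¹) := by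
  intro k hk
  obtain ⟨x, hx, hxe⟩ := hk
  have hxe' : g * x * g⁻¹ = k * (g * z * g⁻¹) * k⁻¹ := hxe
  have h1 : (g⁻¹ * k * g) * z * (g⁻¹ * k * g)⁻¹ = x := by
    calc (g⁻¹ * k * g) * z * (g⁻¹ * k * g)⁻¹ = g⁻¹ * (k * (g * z * g⁻¹) * k⁻¹) * g := by group
      _ = g⁻¹ * (g * x * g⁻¹) * g := by rw [hxe']
      _ = x := by group
  have h2 : (g⁻¹ * k * g) * z * (g⁻¹ * k * g)⁻¹ ∈ Q := by rw [h1]; exact hx
  have h3 := hw _ h2
  calc k * (g * z * g⁻¹) * k⁻¹ = g * ((g⁻¹ * k * g) * z * (g⁻¹ * k * g)⁻¹) * g⁻¹ := by group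
    _ = g * z * g⁻¹ := by rw [h3]

/-- a conjugate of `z'` in `Q'` is `z'` -/
theorem WC.eq_of_mem (hw : WC Q z) {x : G} (hx : x ∈ Q) (hc : IsConj z x) : x = z := by
  obtain ⟨g, hg⟩ := isConj_iff.1 hc
  rw [← hg]
  exact hw g (by rw [hg]; exact hx)

/-! ### the intersection -/

theorem comm_of_mem_left (h : Large Q z) {x : G} (hx : x ∈ Q) : Commute x z := h.commz hx

theorem mem_inf {x : G} : x ∈ Q ⊓ Q' ↔ x ∈ Q ∧ x ∈ Q' := Subgroup.mem_inf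

theorem mem_dsub_of_mem_inf (h' : Large Q' z') {x : G} (hx : x ∈ Q ⊓ Q') : x ∈ dsub Q z' :=
  mem_dsub.2 ⟨(mem_inf.1 hx).1, h'.comm_z x (mem_inf.1 hx).2⟩

theorem mem_dsub'_of_mem_inf (h : Large Q z) {x : G} (hx : x ∈ Q ⊓ Q') : x ∈ dsub Q' z :=
  mem_dsub.2 ⟨(mem_inf.1 hx).2, h.comm_z x (mem_inf.1 hx).1⟩

/-- elements of `Q ∩ Q'` have square `1` -/
theorem inf_sq (h : Large Q z) (h' : Large Q' z') (hne : z' ≠ z) {x : G} (hx : x ∈ Q ⊓ Q') :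
    x * x = 1 := by
  obtain ⟨hx1, hx2⟩ := mem_inf.1 hx
  rcases h.sq x hx1 with h1 | h1
  · exact h1
  rcases h'.sq x hx2 with h2 | h2
  · exact h2
  exact absurd (h2.symm.trans h1) hne

/-- `z ∉ Q'` if `z'` is weakly closed in `Q'` and `z` is conjugate to `z'` -/
theorem not_mem_of_wc (hw' : WC Q' z') (hc : IsConj z' z) (hne : z' ≠ z) : z ∉ Q' := fun hz =>
  hne (hw'.eq_of_mem hz hc).symm

/-- `x ∈ C_Q(z')` normalises `Q'` -/
theorem conj_mem_right (h' : Large Q' z') {x : G} (hx : x ∈ dsub Q z') {y : G} (hy : y ∈ Q') :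
    x * y * x⁻¹ ∈ Q' :=
  h'.conj_mem x (mem_dsub.1 hx).2 y hy

/-- `[C_Q(z'), C_{Q'}(z)] ≤ Q ∩ Q'` -/
theorem commutator_mem (h : Large Q z) (h' : Large Q' z') {x y : G} (hx : x ∈ dsub Q z')
    (hy : y ∈ dsub Q' z) : x * y * x⁻¹ * y⁻¹ ∈ Q ⊓ Q' := by
  have hxQ := (mem_dsub.1 hx).1
  have hyQ := (mem_dsub.1 hy).1
  refine mem_inf.2 ⟨?_, ?_⟩
  · have h1 : y * x⁻¹ * y⁻¹ ∈ Q := h.conj_mem y (mem_dsub.1 hy).2 _ (inv_mem hxQ)
    have h2 := mul_mem hxQ h1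
    rwa [← mul_assoc, ← mul_assoc] at h2
  · have h1 : x * y * x⁻¹ ∈ Q' := h'.conj_mem x (mem_dsub.1 hx).2 _ hyQ
    exact mul_mem h1 (inv_mem hyQ)

/-- `Q ∩ Q'` is centralised by `C_Q(z')` if `z ∉ Q'` -/
theorem inf_comm_left (h : Large Q z) (h' : Large Q' z') (hz : z ∉ Q') {m x : G}
    (hm : m ∈ Q ⊓ Q') (hx : x ∈ dsub Q z') : x * m = m * x := by
  have hxQ := (mem_dsub.1 hx).1
  obtain ⟨hm1, hm2⟩ := mem_inf.1 hm
  rcases h.comm x hxQ m hm1 with h1 | h1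
  · exact h1
  exfalso
  apply hz
  have h2 : x * m * x⁻¹ ∈ Q' := h'.conj_mem x (mem_dsub.1 hx).2 m hm2
  have h3 : x * m * x⁻¹ = m * z := by
    have hc : z * x⁻¹ = x⁻¹ * z := (h.commz hxQ).inv_left.eq.symm
    rw [h1, mul_assoc _ z, hc]
    group
  rw [h3] at h2
  have h4 := mul_mem (inv_mem hm2) h2
  rwa [inv_mul_cancel_left] at h4

theorem inf_comm_right (h : Large Q z) (h' : Large Q' z') (hz' : z' ∉ Q) {m x : G}
    (hm : m ∈ Q ⊓ Q') (hx : x ∈ dsub Q' z) : x * m = m * x :=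
  inf_comm_left (Q := Q') (Q' := Q) h' h hz' (mem_inf.2 (mem_inf.1 hm).symm) hx

/-! ### normality -/

theorem conj_mem_dsub (h : Large Q z) {a x : G} (ha : a * z = z * a) (ha' : a * z' = z' * a)
    (hx : x ∈ dsub Q z') : a * x * a⁻¹ ∈ dsub Q z' := by
  refine mem_dsub.2 ⟨h.conj_mem a ha x (mem_dsub.1 hx).1, ?_⟩
  have hxz : Commute x z' := (mem_dsub.1 hx).2
  have haz : Commute a z' := ha'
  exact ((haz.mul_left hxz).mul_left haz.inv_left).eq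

theorem conj_mem_inf (h : Large Q z) (h' : Large Q' z') {a x : G} (ha : a * z = z * a)
    (ha' : a * z' = z' * a) (hx : x ∈ Q ⊓ Q') : a * x * a⁻¹ ∈ Q ⊓ Q' :=
  mem_inf.2 ⟨h.conj_mem a ha x (mem_inf.1 hx).1, h'.conj_mem a ha' x (mem_inf.1 hx).2⟩

/-! ### the key trick -/

/-- `m ∈ Q ∩ Q'`, `m ≠ 1`: then `z' m` is not conjugate to `z'` -/
theorem not_isConj_mul (hw' : WC Q' z') (h' : Large Q' z') {m : G} (hm : m ∈ Q') (hm1 : m ≠ 1) :
    ¬ IsConj z' (z' * m) := by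
  intro hc
  have h1 := hw'.eq_of_mem (mul_mem h'.z_mem hm) hc
  exact hm1 (mul_eq_left.1 h1)

/-- if the commutator `z'⁻¹ (x z' x⁻¹)` lies in `Q'` then it is trivial -/
theorem conj_eq_of_mem (hw' : WC Q' z') {x : G} (hx : z'⁻¹ * (x * z' * x⁻¹) ∈ Q') (hz' : z' ∈ Q') :
    x * z' = z' * x := by
  have h1 : x * z' * x⁻¹ ∈ Q' := by
    have := mul_mem hz' hx
    rwa [mul_inv_cancel_left] at this
  have h2 := hw' x h1
  rw [mul_inv_eq_iff_eq_mul] at h2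
  exact h2

end Cfsg.Agent.Co2Type.Pair
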