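import Cfsg.Agent.Co2Type.LineMod
import Cfsg.Agent.Co2Type.Pair

/-!
# Groups of type `Co2`: fusion of the line elements

`S : Sit G Q t`, split case: `σ : Sp6 →* C(t)` a section of `psi`.  Hypothesis `WC`: `t` is weakly closed
in `Q`.
-/

set_option autoImplicit false

namespace Cfsg.Agent.Co2Type.Alpha

open Cfsg Subgroup Cfsg.Agent.Co2Type.Quad Cfsg.Agent.Co2Type.Setup Cfsg.Agent.Co2Type.Spin
open Cfsg.Agent.Co2Type.LineMod
open Cfsg.Agent.SporRec.TwoSp6.Sp (tr act)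

variable {G : Type*} [Group G] {Q : Subgroup G} {t : G} (S : Sit G Q t)
variable (σ : Sp6 →* centralizer ({t} : Set G))

/-- `σ g` as an element of `G` -/
def sg (g : Sp6) : G := ((σ g : centralizer ({t} : Set G)) : G)

theorem sg_mul (g h : Sp6) : sg σ (g * h) = sg σ g * sg σ h := by
  unfold sg; rw [map_mul]; rfl

theorem sg_one : sg σ 1 = 1 := by unfold sg; rw [map_one]; rfl

theorem sg_inv (g : Sp6) : sg σ g⁻¹ = (sg σ g)⁻¹ := by unfold sg; rw [map_inv]; rfl

theorem sg_comm (g : Sp6) : sg σ g * t = t * sg σ g := mem_centralizer_singleton_iff.mp (σ g).2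

theorem sg_line_sq {a b : U} (h : sf a b = 0) : sg σ (line a b) * sg σ (line a b) = 1 := by
  rw [← sg_mul, line_sq h, sg_one]

theorem sg_line_inv {a b : U} (h : sf a b = 0) : (sg σ (line a b))⁻¹ = sg σ (line a b) :=
  inv_eq_of_mul_eq_one_left (sg_line_sq σ h)

section

include S

theorem comm_t {x : G} (hx : x ∈ Q) : x * t = t * x := S.large.comm_z x hx

theorem tt : t * t = 1 := S.large.z_sq

theorem t_inv : t⁻¹ = t := S.large.z_inv

theorem t_ne : t ≠ 1 := S.large.z_ne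

theorem conj_mem {g x : G} (hg : g * t = t * g) (hx : x ∈ Q) : g * x * g⁻¹ ∈ Q := S.large.conj_mem g hg x hx

end

variable (hσ : ∀ g, S.psi (σ g) = g)

/-- action of `σ g` on `V` -/
theorem pr_conj (g : Sp6) (x : Q) (hm : sg σ g * x * (sg σ g)⁻¹ ∈ Q) (hσ : ∀ g, S.psi (σ g) = g) :
    S.large.pr ⟨sg σ g * x * (sg σ g)⁻¹, hm⟩ = S.rho g (S.large.pr x) := by
  have h1 := S.rho_psi (σ g)
  rw [hσ] at h1
  rw [h1, S.large.act_pr]
  rfl

/-- elements with the same image differ by `t` -/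
theorem eq_or_of_pr {x y : G} (hx : x ∈ Q) (hy : y ∈ Q) (h : S.large.pr ⟨x, hx⟩ = S.large.pr ⟨y, hy⟩) :
    x = y ∨ x = y * t := S.large.pr_eq_pr.1 h

variable (hs : SpinHyp S.rho)

section chi
include hσ hs

/-- `σ (line a b)` centralises every element of `Q` whose image it fixes -/
theorem chi {a b : U} (h : IsLine a b) {x : G} (hx : x ∈ Q)
    (hfix : n S.rho a (n S.rho b (S.large.pr ⟨x, hx⟩)) = 0) :
    sg σ (line a b) * x = x * sg σ (line a b) := by
  have htt := tt S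
  set r := sg σ (line a b) with hr
  have hrt : r * t = t * r := sg_comm σ _
  obtain ⟨u, w, hau, hbu, haw, hbw, huw⟩ := exists_hyp h
  have hmem : ∀ g : Sp6, sg σ g * x * (sg σ g)⁻¹ ∈ Q := fun g => conj_mem S (sg_comm σ g) hx
  -- fixed or moved by `t`
  have hfix' : S.rho (line a b) (S.large.pr ⟨x, hx⟩) = S.large.pr ⟨x, hx⟩ := by
    rw [rho_line hs S.card_V h.2.2.2, hfix, add_zero]
  have h1 : r * x * r⁻¹ = x ∨ r * x * r⁻¹ = x * t := by
    apply eq_or_of_pr S (hmem _) hx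
    rw [pr_conj S σ (line a b) ⟨x, hx⟩ (hmem _) hσ, hfix']
  rcases h1 with h1 | h1
  · exact mul_inv_eq_iff_eq_mul.mp h1
  exfalso
  -- the two conjugates
  set l1 := tr u * tr w with hl1
  set l2 := tr u * tr (u + w) with hl2
  have c1 : line a b * l1 = l1 * line a b := by
    have e1 := line_comm_tr (a := a) (b := b) hau hbu
    have e2 := line_comm_tr (a := a) (b := b) haw hbw
    rw [hl1, ← mul_assoc, e1, mul_assoc, e2, mul_assoc]
  have c2 : line a b * l2 = l2 * line a b := by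
    have e1 := line_comm_tr (a := a) (b := b) hau hbu
    have e2 := line_comm_tr (a := a) (b := b) (u := u + w) (by rw [sf_add, hau, haw, add_zero])
      (by rw [sf_add, hbu, hbw, add_zero])
    rw [hl2, ← mul_assoc, e1, mul_assoc, e2, mul_assoc]
  have mv : ∀ l : Sp6, line a b * l = l * line a b →
      r * (sg σ l * x * (sg σ l)⁻¹) * r⁻¹ = (sg σ l * x * (sg σ l)⁻¹) * t := by
    intro l hl
    have e1 : r * sg σ l = sg σ l * r := by rw [hr, ← sg_mul, hl, sg_mul]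
    have e2 : (sg σ l)⁻¹ * r⁻¹ = r⁻¹ * (sg σ l)⁻¹ := by rw [← mul_inv_rev, e1, mul_inv_rev]
    have e3 : t * (sg σ l)⁻¹ = (sg σ l)⁻¹ * t := by
      rw [← sg_inv]; exact (sg_comm σ _).symm
    calc r * (sg σ l * x * (sg σ l)⁻¹) * r⁻¹ = (r * sg σ l) * x * ((sg σ l)⁻¹ * r⁻¹) := by group
      _ = sg σ l * (r * x * r⁻¹) * (sg σ l)⁻¹ := by rw [e1, e2]; group
      _ = sg σ l * x * (t * (sg σ l)⁻¹) := by rw [h1]; group
      _ = _ := by rw [e3]; group
  have m1 := mv l1 c1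
  have m2 := mv l2 c2
  have q1 := hmem l1
  have q2 := hmem l2
  have p1 := pr_conj S σ l1 ⟨x, hx⟩ q1 hσ
  have p2 := pr_conj S σ l2 ⟨x, hx⟩ q2 hσ
  set x1 := sg σ l1 * x * (sg σ l1)⁻¹ with hx1
  set x2 := sg σ l2 * x * (sg σ l2)⁻¹ with hx2
  -- sum is zero
  have hsum : ∀ v, v + S.rho l1 v + S.rho l2 v = 0 := by
    intro v
    have h2 := hs u w huw v
    have h3 : S.rho (tr u) (S.rho (tr u) v) + S.rho (tr u) (S.rho (tr w) v) +
        S.rho (tr u) (S.rho (tr (u + w)) v) = 0 := by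
      have h3 := congrArg (S.rho (tr u)) h2
      rw [map_zero, map_add, map_add] at h3
      exact h3
    have e0 : S.rho (tr u) (S.rho (tr u) v) = v := by
      have e1 : S.rho (tr u * tr u) v = v := by
        rw [SporRec.TwoSp6.Sp.tr_sq, map_one]; rfl
      rw [map_mul] at e1
      exact e1
    rw [e0] at h3
    rw [hl1, hl2, map_mul, map_mul]
    exact h3
  have h4 : S.large.pr (⟨x, hx⟩ * ⟨x1, q1⟩ * ⟨x2, q2⟩) = 0 := by
    rw [S.large.pr_mul, S.large.pr_mul, p1, p2, hsum]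
  have h5 : x * x1 * x2 = 1 ∨ x * x1 * x2 = t := S.large.pr_eq_zero.1 h4
  have h6 : r * (x * x1 * x2) * r⁻¹ = x * x1 * x2 := by
    rcases h5 with h5 | h5
    · rw [h5]; group
    · rw [h5, hrt]; group
  have x1t : x1 * t = t * x1 := comm_t S q1
  have x2t : x2 * t = t * x2 := comm_t S q2
  have h7 : r * (x * x1 * x2) * r⁻¹ = x * x1 * x2 * t := by
    calc r * (x * x1 * x2) * r⁻¹ = (r * x * r⁻¹) * (r * x1 * r⁻¹) * (r * x2 * r⁻¹) := by group
      _ = (x * t) * (x1 * t) * (x2 * t) := by rw [h1, m1, m2]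
      _ = x * (t * x1) * (t * x2) * t := by group
      _ = x * (x1 * t) * (t * x2) * t := by rw [← x1t]
      _ = x * x1 * (t * t) * x2 * t := by group
      _ = _ := by rw [htt]; group
  rw [h6] at h7
  exact t_ne S (left_eq_mul.mp h7)

omit hσ hs in
include S in
/-- the commutator of a line element with `w ∈ Q` -/
theorem cm_mem (a b : U) {w : G} (hw : w ∈ Q) : sg σ (line a b) * w * (sg σ (line a b))⁻¹ * w⁻¹ ∈ Q :=
  mul_mem (conj_mem S (sg_comm σ _) hw) (inv_mem hw)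

theorem pr_cm {a b : U} (h : sf a b = 0) {w : G} (hw : w ∈ Q)
    (hm : sg σ (line a b) * w * (sg σ (line a b))⁻¹ * w⁻¹ ∈ Q) :
    S.large.pr ⟨sg σ (line a b) * w * (sg σ (line a b))⁻¹ * w⁻¹, hm⟩ =
      n S.rho a (n S.rho b (S.large.pr ⟨w, hw⟩)) := by
  have h1 := pr_conj S σ (line a b) ⟨w, hw⟩ (conj_mem S (sg_comm σ _) hw) hσ
  have h2 : S.large.pr ⟨sg σ (line a b) * w * (sg σ (line a b))⁻¹ * w⁻¹, hm⟩ =
      S.large.pr ⟨sg σ (line a b) * w * (sg σ (line a b))⁻¹, conj_mem S (sg_comm σ _) hw⟩ +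
        S.large.pr (⟨w, hw⟩)⁻¹ := by
    rw [← S.large.pr_mul]; rfl
  rw [h2, h1, rho_line hs S.card_V h, S.large.pr_inv, S.large.neg_eq]
  show S.large.pr ⟨w, hw⟩ + _ + S.large.pr ⟨w, hw⟩ = _
  rw [add_right_comm, S.large.add_self, zero_add]

/-- (G3) -/
theorem comm_conj {a b c d : U} (h1 : IsLine a b) (h2 : IsLine c d) (ac : sf a c = 0)
    (ad : sf a d = 0) (bc : sf b c = 0) (bd : sf b d = 0) {w : G} (hw : w ∈ Q) :
    sg σ (line a b) * (w * sg σ (line c d) * w⁻¹) = w * sg σ (line c d) * w⁻¹ * sg σ (line a b) := by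
  have hcd := h2.2.2.2
  set s1 := sg σ (line a b) with hs1
  set s2 := sg σ (line c d) with hs2
  have e0 : s1 * s2 = s2 * s1 := by
    rw [hs1, hs2, ← sg_mul, line_comm ac ad bc bd, sg_mul]
  have e1 : s2 * s2 = 1 := sg_line_sq σ hcd
  have hm := cm_mem S σ c d hw
  have e2 : s1 * (s2 * w * s2⁻¹ * w⁻¹) = s2 * w * s2⁻¹ * w⁻¹ * s1 := by
    apply chi S σ hσ hs h1 hm
    rw [pr_cm S σ hσ hs hcd hw hm, n4_zero hs S.card_V h1 h2 ac ad bc bd]
  have e3 : w * s2 * w⁻¹ = s2 * (s2 * w * s2⁻¹ * w⁻¹) := by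
    have e4 : s2⁻¹ = s2 := sg_line_inv σ hcd
    rw [e4]
    calc w * s2 * w⁻¹ = 1 * (w * s2 * w⁻¹) := by group
      _ = s2 * s2 * (w * s2 * w⁻¹) := by rw [e1]
      _ = _ := by group
  rw [e3, ← mul_assoc, e0, mul_assoc, e2, ← mul_assoc]

end chi

section two

include S

theorem line_ne_one (hs : SpinHyp S.rho) {a b : U} (h : IsLine a b) : line a b ≠ 1 := by
  intro he
  have h1 : ∀ v, n S.rho a (n S.rho b v) = 0 := by
    intro v
    have h2 := rho_line hs S.card_V h.2.2.2 v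
    rw [he, map_one] at h2
    exact (left_eq_add.mp h2)
  obtain ⟨a', h3, h4⟩ : ∃ a', sf a a' = 1 ∧ sf b a' = 0 :=
    SporRec.TwoSp6.Sp.exists_om_one_zero h.1 (fun hh => h.2.2.1 hh.symm)
  obtain ⟨b', h5, h6⟩ : ∃ b', sf b b' = 1 ∧ sf a b' = 0 :=
    SporRec.TwoSp6.Sp.exists_om_one_zero h.2.1 h.2.2.1
  have k1 : ∀ v, n S.rho a v = 0 := by
    intro v
    have h7 := n_anticomm_apply hs b b' v
    rw [h5, one_smul] at h7
    have h8 := congrArg (n S.rho a) h7
    rw [h1, map_add, n_comm_apply hs h6, h1, map_zero, zero_add] at h8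
    exact h8.symm
  have k2 : ∀ v : S.large.V, v = 0 := by
    intro v
    have h7 := n_anticomm_apply hs a a' v
    rw [k1, k1, map_zero, zero_add, h3, one_smul] at h7
    exact h7.symm
  have hc : Nat.card S.large.V = 1 := by
    rw [Nat.card_eq_one_iff_exists]
    exact ⟨0, k2⟩
  rw [S.card_V] at hc
  norm_num at hc

/-- an involution of `C(t)` centralises an element of `Q` outside `⟨t⟩` -/
theorem exists_fixed {c : G} (hc : c * t = t * c) (hcc : c * c = 1) :
    ∃ d ∈ Q, d ≠ 1 ∧ d ≠ t ∧ c * d = d * c := by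
  have := S.finite_Q
  have : Module.Finite (ZMod 2) S.large.V := Module.Finite.of_finite
  set c' : centralizer ({t} : Set G) := ⟨c, mem_centralizer_singleton_iff.2 hc⟩ with hc'
  have hcc' : c' * c' = 1 := Subtype.ext hcc
  set N : S.large.V →ₗ[ZMod 2] S.large.V := LinearMap.id + (S.large.act c' : S.large.V →ₗ[ZMod 2] S.large.V)
    with hN
  have hNa : ∀ v, N v = v + S.large.act c' v := fun v => rfl
  have haa : ∀ v, S.large.act c' (S.large.act c' v) = v := by
    intro v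
    have h1 : S.large.act (c' * c') v = v := by rw [hcc', map_one]; rfl
    rw [map_mul] at h1
    exact h1
  have hNN : ∀ v, N (N v) = 0 := by
    intro v
    rw [hNa, hNa, map_add, haa]
    have h2 := S.large.add_self
    calc v + S.large.act c' v + (S.large.act c' v + v)
        = (v + v) + (S.large.act c' v + S.large.act c' v) := by abel
      _ = 0 := by rw [h2, h2, add_zero]
  have hle : LinearMap.range N ≤ LinearMap.ker N := by
    rintro _ ⟨v, rfl⟩
    exact hNN v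
  have h3 := LinearMap.finrank_range_add_finrank_ker N
  rw [S.finrank_V] at h3
  have h4 : Module.finrank (ZMod 2) (LinearMap.range N) ≤ Module.finrank (ZMod 2) (LinearMap.ker N) :=
    Submodule.finrank_mono hle
  have h5 : 4 ≤ Module.finrank (ZMod 2) (LinearMap.ker N) := by omega
  have h6 : 2 < (LinearMap.ker N : Set S.large.V).ncard := by
    have h7 : (LinearMap.ker N : Set S.large.V).ncard = Nat.card (LinearMap.ker N) := rfl
    rw [h7, Module.natCard_eq_pow_finrank (K := ZMod 2), Nat.card_zmod]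
    calc 2 < 2 ^ 4 := by norm_num
      _ ≤ _ := Nat.pow_le_pow_right (by norm_num) h5
  obtain ⟨v1, v2, v3, m1, m2, m3, n12, n13, n23⟩ := (Set.two_lt_ncard_iff).1 h6
  -- two distinct nonzero vectors
  obtain ⟨u1, u2, k1, k2, z1, z2, hne⟩ : ∃ u1 u2, u1 ∈ LinearMap.ker N ∧ u2 ∈ LinearMap.ker N ∧
      u1 ≠ 0 ∧ u2 ≠ 0 ∧ u1 ≠ u2 := by
    by_cases h0 : v1 = 0
    · exact ⟨v2, v3, m2, m3, fun h => n12 (h0.trans h.symm), fun h => n13 (h0.trans h.symm), n23⟩
    · by_cases h1 : v2 = 0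
      · exact ⟨v1, v3, m1, m3, h0, fun h => n23 (h1.trans h.symm), n13⟩
      · exact ⟨v1, v2, m1, m2, h0, h1, n12⟩
  obtain ⟨x1, rfl⟩ := S.large.pr_surjective u1
  obtain ⟨x2, rfl⟩ := S.large.pr_surjective u2
  have key : ∀ x : Q, S.large.pr x ∈ LinearMap.ker N → c * x * c⁻¹ = x ∨ c * x * c⁻¹ = x * t := by
    intro x hx
    have h1 : S.large.pr x + S.large.act c' (S.large.pr x) = 0 := hx
    have h2 : S.large.act c' (S.large.pr x) = S.large.pr x :=
      (eq_neg_of_add_eq_zero_right h1).trans (S.large.neg_eq _)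
    rw [S.large.act_pr] at h2
    exact S.large.pr_eq_pr.1 h2
  have fin : ∀ x : Q, S.large.pr x ≠ 0 → c * x * c⁻¹ = x → ∃ d ∈ Q, d ≠ 1 ∧ d ≠ t ∧ c * d = d * c := by
    intro x hx h
    refine ⟨x, x.2, ?_, ?_, mul_inv_eq_iff_eq_mul.1 h⟩
    · intro h1; exact hx (S.large.pr_eq_zero.2 (Or.inl h1))
    · intro h1; exact hx (S.large.pr_eq_zero.2 (Or.inr h1))
  rcases key x1 k1 with h | h
  · exact fin x1 z1 h
  rcases key x2 k2 with h' | h'
  · exact fin x2 z2 h'
  refine fin (x1 * x2) ?_ ?_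
  · rw [S.large.pr_mul]
    intro h0
    apply hne
    rw [← S.large.neg_eq (S.large.pr x2)]
    exact eq_neg_of_add_eq_zero_left h0
  · have e1 : (x2 : G) * t = t * x2 := comm_t S x2.2
    calc c * ((x1 * x2 : Q) : G) * c⁻¹ = (c * x1 * c⁻¹) * (c * x2 * c⁻¹) := by
          rw [Subgroup.coe_mul]; group
      _ = x1 * t * (x2 * t) := by rw [h, h']
      _ = x1 * (t * x2) * t := by group
      _ = x1 * x2 * (t * t) := by rw [← e1]; group
      _ = _ := by rw [tt S, mul_one, Subgroup.coe_mul]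

end two

section three

include hσ hs

/-- the intersection is nontrivial -/
theorem exists_inf {g : G} (hg : g * t * g⁻¹ = t * sg σ (line (e 0) (e 1))) :
    ∃ x ∈ Q ⊓ Q.map (MulAut.conj g).toMonoidHom, x ≠ 1 := by
  have := S.finite_Q
  by_contra hcon
  push Not at hcon
  set s := sg σ (line (e 0) (e 1)) with hsdef
  set Q' := Q.map (MulAut.conj g).toMonoidHom with hQ'
  have hst : s * t = t * s := sg_comm σ _
  have hss : s * s = 1 := sg_line_sq σ (sf_e_e 0 1)
  have hL' : Large Q' (g * t * g⁻¹) := S.large.conj g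
  rw [hg] at hL'
  -- `g⁻¹ t g`
  have hc : (g⁻¹ * t * g) * t = t * (g⁻¹ * t * g) := by
    have h1 : t * (g * t * g⁻¹) = (g * t * g⁻¹) * t := by
      rw [hg]
      calc t * (t * s) = t * (s * t) := by rw [hst]
        _ = t * s * t := by group
    calc (g⁻¹ * t * g) * t = g⁻¹ * (t * (g * t * g⁻¹)) * g := by group
      _ = g⁻¹ * ((g * t * g⁻¹) * t) * g := by rw [h1]
      _ = _ := by group
  have hcc : (g⁻¹ * t * g) * (g⁻¹ * t * g) = 1 := by
    calc (g⁻¹ * t * g) * (g⁻¹ * t * g) = g⁻¹ * (t * t) * g := by group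
      _ = 1 := by rw [tt S]; group
  obtain ⟨d, hdQ, hd1, hdt, hdc⟩ := exists_fixed S hc hcc
  set d' := g * d * g⁻¹ with hd'
  have hd'Q : d' ∈ Q' := ⟨d, hdQ, rfl⟩
  have hd't : d' * t = t * d' := by
    calc d' * t = g * (d * (g⁻¹ * t * g)) * g⁻¹ := by rw [hd']; group
      _ = g * ((g⁻¹ * t * g) * d) * g⁻¹ := by rw [hdc]
      _ = _ := by rw [hd']; group
  have hd'1 : d' ≠ 1 := by
    intro h
    apply hd1
    calc d = g⁻¹ * d' * g := by rw [hd']; group
      _ = 1 := by rw [h]; group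
  have hd'y : d' ≠ t * s := by
    intro h
    apply hdt
    calc d = g⁻¹ * d' * g := by rw [hd']; group
      _ = t := by rw [h, ← hg]; group
  have hmem : d' ∈ centralizer ({t} : Set G) := mem_centralizer_singleton_iff.2 hd't
  -- `d'` centralises the kernel
  have hfix : ∀ v, n S.rho (e 0) (n S.rho (e 1) v) = 0 → S.rho (S.psi ⟨d', hmem⟩) v = v := by
    intro v hv
    obtain ⟨x, rfl⟩ := S.large.pr_surjective v
    have h1 : s * x = x * s := chi S σ hσ hs isLine_e01 x.2 hv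
    have h2 : (x : G) * t = t * x := comm_t S x.2
    have h3 : (x : G) ∈ Pair.dsub Q (t * s) := by
      rw [Pair.mem_dsub]
      refine ⟨x.2, ?_⟩
      rw [← mul_assoc, h2, mul_assoc, ← h1, ← mul_assoc]
    have h4 := Pair.commutator_mem S.large hL' h3 (Pair.mem_dsub.2 ⟨hd'Q, hd't⟩)
    have h5 := hcon _ h4
    have h6 : (x : G) * d' = d' * x := by
      rw [mul_inv_eq_one] at h5
      exact mul_inv_eq_iff_eq_mul.1 h5
    rw [S.rho_psi, S.large.act_pr]
    congr 1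
    apply Subtype.ext
    show d' * x * d'⁻¹ = x
    rw [← h6, mul_inv_cancel_right]
  rcases eq_of_fix_ker hs S.card_V (q := S.large.q) (b0 := S.large.b) S.b_rho S.large.b_self
    (fun v hv => S.large.b_nondeg hv) S.large.q_add' S.q_rho S.rho_injective hfix with h | h
  · have h1 := (S.psi_ker _).1 h
    exact hd'1 (hcon d' (mem_inf.2 ⟨h1, hd'Q⟩))
  · have h1 : S.psi (⟨d', hmem⟩ * (σ (line (e 0) (e 1)))⁻¹) = 1 := by
      rw [map_mul, map_inv, hσ, h, mul_inv_cancel]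
    have h2 := (S.psi_ker _).1 h1
    have h3 : d' * s⁻¹ ∈ Q := h2
    have h4 : d' * (t * s)⁻¹ ∈ Q ⊓ Q' := by
      refine mem_inf.2 ⟨?_, mul_mem hd'Q (inv_mem hL'.z_mem)⟩
      rw [mul_inv_rev, ← mul_assoc]
      exact mul_mem h3 (inv_mem S.large.z_mem)
    have h5 := hcon _ h4
    rw [mul_inv_eq_one] at h5
    exact hd'y h5

/-- the element `v` -/
theorem exists_v (hwc : Pair.WC Q t) (hc : IsConj t (t * sg σ (line (e 0) (e 1)))) :
    ∃ g w : G, w ∈ Q ∧ g * t * g⁻¹ = t * sg σ (line (e 0) (e 1)) ∧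
      w * sg σ (line (e 0) (e 1)) * w⁻¹ ∈ Q.map (MulAut.conj g).toMonoidHom ∧
      w * sg σ (line (e 0) (e 1)) * w⁻¹ ≠ g * t * g⁻¹ := by
  obtain ⟨g, hg⟩ := isConj_iff.1 hc
  obtain ⟨x, hx, hx1⟩ := exists_inf S σ hσ hs hg
  have hL' : Large (Q.map (MulAut.conj g).toMonoidHom) (g * t * g⁻¹) := S.large.conj g
  have hwc' := hwc.conj g
  set s := sg σ (line (e 0) (e 1)) with hsdef
  set Q' := Q.map (MulAut.conj g).toMonoidHom with hQ'
  have hst : s * t = t * s := sg_comm σ _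
  have hss : s * s = 1 := sg_line_sq σ (sf_e_e 0 1)
  have hsi : s⁻¹ = s := inv_eq_of_mul_eq_one_left hss
  have hne : g * t * g⁻¹ ≠ t := by
    intro h
    rw [hg] at h
    have h1 : s = 1 := mul_eq_left.1 h
    have h2 : S.psi (σ (line (e 0) (e 1))) = 1 := (S.psi_ker _).2 (by
      show s ∈ Q
      rw [h1]; exact one_mem _)
    rw [hσ] at h2
    exact line_ne_one S hs isLine_e01 h2
  have htQ' : t ∉ Q' := by
    apply Pair.not_mem_of_wc hwc' _ hne
    rw [hg]; exact hc.symm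
  obtain ⟨hxQ, hxQ'⟩ := mem_inf.1 hx
  have hperp : ∀ v, n S.rho (e 0) (n S.rho (e 1) v) = 0 → S.large.b (S.large.pr ⟨x, hxQ⟩) v = 0 := by
    intro v hv
    obtain ⟨d, rfl⟩ := S.large.pr_surjective v
    have h1 : s * d = d * s := chi S σ hσ hs isLine_e01 d.2 hv
    have h2 : (d : G) * t = t * d := comm_t S d.2
    have h3 : (d : G) ∈ Pair.dsub Q (g * t * g⁻¹) := by
      rw [Pair.mem_dsub, hg]
      refine ⟨d.2, ?_⟩
      rw [← mul_assoc, h2, mul_assoc, ← h1, ← mul_assoc]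
    rw [S.large.b_pr]
    exact (Pair.inf_comm_left S.large hL' htQ' hx h3).symm
  obtain ⟨s0, hs0⟩ := im_of_perp hs (b0 := S.large.b) S.b_rho (fun v hv => S.large.b_nondeg hv)
    isLine_e01 (x := S.large.pr ⟨x, hxQ⟩)
    (fun v => hperp _ (by rw [n_comm_apply hs (sf_e_e 0 1), n_n_apply, map_zero]))
    (fun v => hperp _ (by rw [n_n_apply, map_zero]))
  obtain ⟨w, rfl⟩ := S.large.pr_surjective s0
  have hm := cm_mem S σ (e 0) (e 1) w.2
  have hpr : S.large.pr ⟨x, hxQ⟩ = S.large.pr ⟨_, hm⟩ := by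
    rw [hs0, pr_cm S σ hσ hs (sf_e_e 0 1) w.2 hm]
  have h5 : x = s * w * s⁻¹ * (w : G)⁻¹ ∨ x = s * w * s⁻¹ * (w : G)⁻¹ * t := S.large.pr_eq_pr.1 hpr
  have hwt : (w : G) * t = t * w := comm_t S w.2
  have hwt' : (w : G)⁻¹ * t = t * (w : G)⁻¹ := comm_t S (inv_mem w.2)
  have h6 : x = s * w * s⁻¹ * (w : G)⁻¹ * t := by
    rcases h5 with h5 | h5
    · exfalso
      apply hx1
      have h7 : (g * t * g⁻¹) * x = w * (t * s) * (w : G)⁻¹ := by
        rw [hg, h5, hsi]
        calc t * s * (s * w * s * (w : G)⁻¹) = t * (s * s) * w * s * (w : G)⁻¹ := by group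
          _ = (t * w) * s * (w : G)⁻¹ := by rw [hss]; group
          _ = _ := by rw [← hwt]; group
      have h8 : (g * t * g⁻¹) * x ∈ Q' := mul_mem hL'.z_mem hxQ'
      have h9 : (g * t * g⁻¹) * x = g * t * g⁻¹ := by
        apply hwc'.eq_of_mem h8
        rw [h7, ← hg]
        exact isConj_iff.2 ⟨w, rfl⟩
      exact mul_eq_left.1 h9
    · exact h5
  refine ⟨g, w, w.2, hg, ?_, ?_⟩
  · have h7 : (g * t * g⁻¹) * x = w * s * (w : G)⁻¹ := by
      rw [hg, h6, hsi]
      calc t * s * (s * w * s * (w : G)⁻¹ * t) = t * (s * s) * w * s * ((w : G)⁻¹ * t) := by group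
        _ = t * w * s * (t * (w : G)⁻¹) := by rw [hss, hwt']; group
        _ = t * w * (s * t) * (w : G)⁻¹ := by group
        _ = t * w * (t * s) * (w : G)⁻¹ := by rw [hst]
        _ = t * (w * t) * s * (w : G)⁻¹ := by group
        _ = (t * t) * w * s * (w : G)⁻¹ := by rw [hwt]; group
        _ = _ := by rw [tt S]; group
    rw [← h7]
    exact mul_mem hL'.z_mem hxQ'
  · intro h7
    apply hx1
    have h8 : (g * t * g⁻¹) * x = w * s * (w : G)⁻¹ := by
      rw [hg, h6, hsi]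
      calc t * s * (s * w * s * (w : G)⁻¹ * t) = t * (s * s) * w * s * ((w : G)⁻¹ * t) := by group
        _ = t * w * s * (t * (w : G)⁻¹) := by rw [hss, hwt']; group
        _ = t * w * (s * t) * (w : G)⁻¹ := by group
        _ = t * w * (t * s) * (w : G)⁻¹ := by rw [hst]
        _ = t * (w * t) * s * (w : G)⁻¹ := by group
        _ = (t * t) * w * s * (w : G)⁻¹ := by rw [hwt]; group
        _ = _ := by rw [tt S]; group
    rw [h7] at h8
    exact mul_eq_left.1 h8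

/-- (a) the two classes over the line class are not both fused -/
theorem not_both (hwc : Pair.WC Q t) (hc : IsConj t (t * sg σ (line (e 0) (e 1)))) :
    ¬ IsConj t (sg σ (line (e 0) (e 1))) := by
  intro h
  obtain ⟨g, w, hw, hg, hv, hne⟩ := exists_v S σ hσ hs hwc hc
  apply hne
  apply (hwc.conj g).eq_of_mem hv
  exact (isConj_iff.2 ⟨g, rfl⟩ : IsConj t (g * t * g⁻¹)).symm.trans (h.trans (isConj_iff.2 ⟨w, rfl⟩))

end three

section four

/-- `σ` of the line elements is one class -/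
theorem isConj_sg_line {a b c d : U} (h : IsLine a b) (h' : IsLine c d) :
    ∃ k : G, k * t = t * k ∧ k * sg σ (line a b) * k⁻¹ = sg σ (line c d) := by
  obtain ⟨g, hg1, hg2⟩ := exists_act_line h h'
  refine ⟨sg σ g, sg_comm σ g, ?_⟩
  rw [← sg_inv, ← sg_mul, ← sg_mul, line_conj, hg1, hg2]

theorem isConj_t_sg {a b c d : U} (h : IsLine a b) (h' : IsLine c d)
    (hc : IsConj t (t * sg σ (line a b))) : IsConj t (t * sg σ (line c d)) := by
  obtain ⟨k, hk1, hk2⟩ := isConj_sg_line σ h h'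
  refine hc.trans (isConj_iff.2 ⟨k, ?_⟩)
  rw [← hk2]
  calc k * (t * sg σ (line a b)) * k⁻¹ = (k * t) * sg σ (line a b) * k⁻¹ := by group
    _ = _ := by rw [hk1]; group

theorem isConj_sg {a b c d : U} (h : IsLine a b) (h' : IsLine c d)
    (hc : IsConj t (sg σ (line a b))) : IsConj t (sg σ (line c d)) := by
  obtain ⟨k, hk1, hk2⟩ := isConj_sg_line σ h h'
  exact hc.trans (isConj_iff.2 ⟨k, hk2⟩)

include S hs in
/-- lines through a common point -/
theorem line_mul_line {a b c : U} (ab : sf a b = 0) (ac : sf a c = 0) (bc : sf b c = 0) :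
    line a b * line a c = line a (b + c) := by
  apply S.rho_injective
  apply LinearEquiv.ext
  intro v
  have h1 : S.rho (line a b * line a c) v = S.rho (line a b) (S.rho (line a c) v) := by
    rw [map_mul]; rfl
  have habc : sf a (b + c) = 0 := by rw [sf_add, ab, ac, add_zero]
  rw [h1, rho_line hs S.card_V ab, rho_line hs S.card_V ac, rho_line hs S.card_V habc,
    n_add_zero hs S.card_V bc]
  simp only [map_add]
  rw [n_comm_apply hs ab (n S.rho a (n S.rho c v)), n_n_apply, map_zero, add_zero]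
  abel

omit S in
theorem line_swap (a b : U) (h : sf a b = 0) : line a b = line b a := by
  have h1 : tr a * tr b = tr b * tr a := SporRec.TwoSp6.Sp.tr_comm h
  unfold line
  rw [h1, add_comm]

theorem isLine_e02 : IsLine (e 0) (e 2) := by
  refine ⟨?_, ?_, ?_, sf_e_e 0 2⟩
  · decide +kernel
  · decide +kernel
  · decide +kernel

theorem isLine_e012 : IsLine (e 0) (e 1 + e 2) := by
  refine ⟨?_, ?_, ?_, ?_⟩
  · decide +kernel
  · decide +kernel
  · decide +kernel
  · rw [sf_add, sf_e_e, sf_e_e, add_zero]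

theorem sf_e_f_ne {i j : Fin 3} (h : i ≠ j) : sf (e i) (f j) = 0 := by
  rw [sf_e_f, if_neg h]

theorem isLine_e1f2 : IsLine (e 1) (f 2) := by
  refine ⟨?_, ?_, ?_, sf_e_f_ne (by decide)⟩
  · decide +kernel
  · decide +kernel
  · decide +kernel

theorem isLine_e10 : IsLine (e 1) (e 0) := by
  refine ⟨?_, ?_, ?_, sf_e_e 1 0⟩
  · decide +kernel
  · decide +kernel
  · decide +kernel

theorem isLine_e1e0f2 : IsLine (e 1) (e 0 + f 2) := by
  refine ⟨?_, ?_, ?_, ?_⟩
  · decide +kernel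
  · decide +kernel
  · decide +kernel
  · rw [sf_add, sf_e_e, sf_e_f_ne (by decide), add_zero]

include S hs in
/-- (b) the class of `σ (line)` is not fused if there is no pure four-group -/
theorem not_sline (hnp : ∀ x : G, x * t = t * x → IsConj t x → ¬ IsConj t (t * x)) :
    ¬ IsConj t (sg σ (line (e 0) (e 1))) := by
  intro h
  have h2 := isConj_sg σ isLine_e01 isLine_e02 h
  have h3 := isConj_sg σ isLine_e01 isLine_e012 h
  obtain ⟨g, hg⟩ := isConj_iff.1 h.symm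
  have hmul : sg σ (line (e 0) (e 1)) * sg σ (line (e 0) (e 2)) = sg σ (line (e 0) (e 1 + e 2)) := by
    rw [← sg_mul, line_mul_line S hs (sf_e_e 0 1) (sf_e_e 0 2) (sf_e_e 1 2)]
  have hcomm : sg σ (line (e 0) (e 1)) * sg σ (line (e 0) (e 2)) =
      sg σ (line (e 0) (e 2)) * sg σ (line (e 0) (e 1)) := by
    rw [← sg_mul, ← sg_mul, line_comm (sf_self _) (sf_e_e 0 2) (sf_e_e 1 0) (sf_e_e 1 2)]
  have h5 : ∀ s1 s2 : G, g * s1 * g⁻¹ = t → s1 * s2 = s2 * s1 →
      g * s2 * g⁻¹ * t = t * (g * s2 * g⁻¹) := by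
    intro s1 s2 h1 h2
    rw [← h1]
    calc g * s2 * g⁻¹ * (g * s1 * g⁻¹) = g * (s2 * s1) * g⁻¹ := by group
      _ = g * (s1 * s2) * g⁻¹ := by rw [h2]
      _ = _ := by group
  apply hnp (g * sg σ (line (e 0) (e 2)) * g⁻¹)
  · exact h5 _ _ hg hcomm
  · exact h2.trans (isConj_iff.2 ⟨g, rfl⟩)
  · have h4 : t * (g * sg σ (line (e 0) (e 2)) * g⁻¹) = g * sg σ (line (e 0) (e 1 + e 2)) * g⁻¹ := by
      calc t * (g * sg σ (line (e 0) (e 2)) * g⁻¹)
          = (g * sg σ (line (e 0) (e 1)) * g⁻¹) * (g * sg σ (line (e 0) (e 2)) * g⁻¹) := by rw [hg]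
        _ = g * (sg σ (line (e 0) (e 1)) * sg σ (line (e 0) (e 2))) * g⁻¹ := by group
        _ = _ := by rw [hmul]
    rw [h4]
    exact h3.trans (isConj_iff.2 ⟨g, rfl⟩)

/-- the hypothesis of (c): only the class of `t * σ (line)` is fused -/
def OnlyLine (σ : Sp6 →* centralizer ({t} : Set G)) (Q : Subgroup G) : Prop :=
  ∀ x : G, x * t = t * x → IsConj t x → x = t ∨ ∃ a b w, IsLine a b ∧ w ∈ Q ∧
    x = w * (t * sg σ (line a b)) * w⁻¹

include hσ hs in
theorem fused_pair (hwc : Pair.WC Q t) (hF : OnlyLine σ Q) {x y : G} (hf : y ∈ Q) (hf1 : y ≠ 1)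
    (hx : x * t = t * x) (c1 : IsConj t x) (c2 : IsConj t (y * x)) :
    ∃ a b w, IsLine a b ∧ w ∈ Q ∧ x = w * (t * sg σ (line a b)) * w⁻¹ ∧
      n S.rho a (S.large.pr ⟨y, hf⟩) = 0 ∧ n S.rho b (S.large.pr ⟨y, hf⟩) = 0 := by
  have hyt : y * t = t * y := comm_t S hf
  have hxt : x ≠ t := by
    intro h
    rw [h] at c2
    have h1 := hwc.eq_of_mem (mul_mem hf S.large.z_mem) c2
    exact hf1 (mul_eq_right.1 h1)
  have hyx : y * x ≠ t := by
    intro h
    have h1 : x = y⁻¹ * t := by rw [← h]; group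
    have h2 : x ∈ Q := by rw [h1]; exact mul_mem (inv_mem hf) S.large.z_mem
    exact hxt (hwc.eq_of_mem h2 c1)
  have hyxt : y * x * t = t * (y * x) := by
    rw [mul_assoc, hx, ← mul_assoc, hyt, mul_assoc]
  rcases hF x hx c1 with h | ⟨a, b, w, hab, hw, hxe⟩
  · exact absurd h hxt
  rcases hF (y * x) hyxt c2 with h | ⟨a', b', w', hab', hw', hxe'⟩
  · exact absurd h hyx
  -- the images
  have hpsi : ∀ (a b : U) (w x : G) (hw : w ∈ Q) (hx : x ∈ centralizer ({t} : Set G)),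
      x = w * (t * sg σ (line a b)) * w⁻¹ → S.psi ⟨x, hx⟩ = line a b := by
    intro a b w x hw hx he
    have hwt : w ∈ centralizer ({t} : Set G) := mem_centralizer_singleton_iff.2 (comm_t S hw)
    have htt : t ∈ centralizer ({t} : Set G) := mem_centralizer_singleton_iff.2 rfl
    have h1 : (⟨x, hx⟩ : centralizer ({t} : Set G)) =
        ⟨w, hwt⟩ * (⟨t, htt⟩ * σ (line a b)) * (⟨w, hwt⟩)⁻¹ := Subtype.ext he
    rw [h1, map_mul, map_mul, map_mul, map_inv, (S.psi_ker ⟨w, hwt⟩).2 hw,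
      (S.psi_ker ⟨t, htt⟩).2 S.large.z_mem, hσ, one_mul, one_mul, inv_one, mul_one]
  have p1 := hpsi a b w x hw (mem_centralizer_singleton_iff.2 hx) hxe
  have p2 := hpsi a' b' w' (y * x) hw' (mem_centralizer_singleton_iff.2 hyxt) hxe'
  have p3 : S.psi ⟨y * x, mem_centralizer_singleton_iff.2 hyxt⟩ =
      S.psi ⟨x, mem_centralizer_singleton_iff.2 hx⟩ := by
    have h1 : (⟨y * x, mem_centralizer_singleton_iff.2 hyxt⟩ : centralizer ({t} : Set G)) =
        ⟨y, mem_centralizer_singleton_iff.2 hyt⟩ * ⟨x, mem_centralizer_singleton_iff.2 hx⟩ := rfl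
    rw [h1, map_mul, (S.psi_ker ⟨y, mem_centralizer_singleton_iff.2 hyt⟩).2 hf, one_mul]
  have hll : line a' b' = line a b := by rw [← p1, ← p2, p3]
  rw [hll] at hxe'
  set s := sg σ (line a b) with hs'
  have hst : s * t = t * s := sg_comm σ _
  have hu : w'⁻¹ * w ∈ Q := mul_mem (inv_mem hw') hw
  have hm := cm_mem S σ a b hu
  have hye : y = w' * (s * (w'⁻¹ * w) * s⁻¹ * (w'⁻¹ * w)⁻¹) * w'⁻¹ := by
    have hwt : w * t = t * w := comm_t S hw
    have ht1 : w⁻¹ * t = t * w⁻¹ := comm_t S (inv_mem hw)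
    have ht2 : w'⁻¹ * t = t * w'⁻¹ := comm_t S (inv_mem hw')
    have hxi : x = (w * s * w⁻¹) * t := by
      rw [hxe, ← hst]
      calc w * (s * t) * w⁻¹ = w * s * (t * w⁻¹) := by group
        _ = _ := by rw [← ht1]; group
    have hxi' : y * x = (w' * s * w'⁻¹) * t := by
      rw [hxe', ← hst]
      calc w' * (s * t) * w'⁻¹ = w' * s * (t * w'⁻¹) := by group
        _ = _ := by rw [← ht2]; group
    calc y = (y * x) * x⁻¹ := by group
      _ = (w' * s * w'⁻¹) * t * (w * s * w⁻¹ * t)⁻¹ := by rw [hxi']; rw [← hxi]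
      _ = _ := by group
  have hpr : S.large.pr ⟨y, hf⟩ = n S.rho a (n S.rho b (S.large.pr ⟨_, hu⟩)) := by
    rw [← pr_cm S σ hσ hs hab.2.2.2 hu hm]
    have h1 : (⟨y, hf⟩ : Q) = ⟨w', hw'⟩ * ⟨_, hm⟩ * (⟨w', hw'⟩)⁻¹ := Subtype.ext hye
    rw [h1, S.large.pr_mul, S.large.pr_mul, S.large.pr_inv, S.large.neg_eq, add_comm, ← add_assoc,
      S.large.add_self, zero_add]
  refine ⟨a, b, w, hab, hw, hxe, ?_, ?_⟩
  · rw [hpr, n_n_apply]
  · rw [hpr, n_comm_apply hs hab.2.2.2, n_n_apply]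

include hσ hs in
theorem lemma2 (hwc : Pair.WC Q t) (hF : OnlyLine σ Q) {x1 x2 y : G} (hf : y ∈ Q) (hf1 : y ≠ 1)
    (hft : y ≠ t) (h1 : x1 * t = t * x1) (h2 : x2 * t = t * x2) (c1 : IsConj t x1) (c2 : IsConj t x2)
    (d1 : IsConj t (y * x1)) (d2 : IsConj t (y * x2)) : x1 * x2 = x2 * x1 := by
  obtain ⟨a, b, w, hab, hw, hxe, ha, hb⟩ := fused_pair S σ hσ hs hwc hF hf hf1 h1 c1 d1
  obtain ⟨c, d, w', hcd, hw', hxe', hc, hd⟩ := fused_pair S σ hσ hs hwc hF hf hf1 h2 c2 d2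
  have hv : S.large.pr ⟨y, hf⟩ ≠ 0 := by
    intro h
    rcases S.large.pr_eq_zero.1 h with h | h
    · exact hf1 h
    · exact hft h
  have hu : w⁻¹ * w' ∈ Q := mul_mem (inv_mem hw) hw'
  have key := comm_conj S σ hσ hs hab hcd (sf_zero_of_ker hs hv ha hc) (sf_zero_of_ker hs hv ha hd)
    (sf_zero_of_ker hs hv hb hc) (sf_zero_of_ker hs hv hb hd) hu
  have hs1 : Commute (sg σ (line a b)) t := sg_comm σ _
  have hs2 : Commute (sg σ (line c d)) t := sg_comm σ _
  have hwt : Commute w t := comm_t S hw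
  have hwt' : Commute w' t := comm_t S hw'
  generalize sg σ (line a b) = s1 at *
  generalize sg σ (line c d) = s2 at *
  have k1 : Commute (w * s1 * w⁻¹) (w' * s2 * w'⁻¹) := by
    show w * s1 * w⁻¹ * (w' * s2 * w'⁻¹) = w' * s2 * w'⁻¹ * (w * s1 * w⁻¹)
    calc w * s1 * w⁻¹ * (w' * s2 * w'⁻¹) = w * (s1 * (w⁻¹ * w' * s2 * (w⁻¹ * w')⁻¹)) * w⁻¹ := by group
      _ = w * (w⁻¹ * w' * s2 * (w⁻¹ * w')⁻¹ * s1) * w⁻¹ := by rw [key]
      _ = _ := by group
  have k2 : x1 = (w * s1 * w⁻¹) * t := by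
    rw [hxe, ← hs1.eq, ← mul_assoc w, mul_assoc (w * s1), ← hwt.inv_left.eq, ← mul_assoc]
  have k3 : x2 = (w' * s2 * w'⁻¹) * t := by
    rw [hxe', ← hs2.eq, ← mul_assoc w', mul_assoc (w' * s2), ← hwt'.inv_left.eq, ← mul_assoc]
  have k4 : Commute (w * s1 * w⁻¹) t := (hwt.mul_left hs1).mul_left hwt.inv_left
  have k5 : Commute (w' * s2 * w'⁻¹) t := (hwt'.mul_left hs2).mul_left hwt'.inv_left
  have k6 : Commute x1 x2 := by
    rw [k2, k3]
    exact (k1.mul_right k4).mul_left (k5.symm.mul_right (Commute.refl t))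
  exact k6

omit S in
theorem final_aux {g w s1 s2 y : G} (hg : g * t * g⁻¹ = t * s1) (hy : g * y * g⁻¹ = w * s1 * w⁻¹)
    (hs1 : Commute s1 t) (hs2 : Commute s2 t) (hwt : Commute w t) (h1 : Commute s1 (w * s2 * w⁻¹))
    (c1 : IsConj t (t * s2)) (c2 : IsConj t (t * (s1 * s2))) :
    (g⁻¹ * (w * (t * s2) * w⁻¹) * g) * t = t * (g⁻¹ * (w * (t * s2) * w⁻¹) * g) ∧
    IsConj t (g⁻¹ * (w * (t * s2) * w⁻¹) * g) ∧ IsConj t (y * (g⁻¹ * (w * (t * s2) * w⁻¹) * g)) := by
  refine ⟨?_, ?_, ?_⟩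
  · have k1 : Commute (w * (t * s2) * w⁻¹) (t * s1) := by
      have k2 : w * (t * s2) * w⁻¹ = t * (w * s2 * w⁻¹) := by
        calc w * (t * s2) * w⁻¹ = (w * t) * s2 * w⁻¹ := by group
          _ = _ := by rw [hwt.eq]; group
      rw [k2]
      have k3 : Commute (w * s2 * w⁻¹) t := (hwt.mul_left hs2).mul_left hwt.inv_left
      exact ((Commute.refl t).mul_right hs1.symm).mul_left (k3.mul_right h1.symm)
    have k2 := k1.eq
    rw [← hg] at k2
    calc (g⁻¹ * (w * (t * s2) * w⁻¹) * g) * t = g⁻¹ * ((w * (t * s2) * w⁻¹) * (g * t * g⁻¹)) * g := by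
          group
      _ = g⁻¹ * ((g * t * g⁻¹) * (w * (t * s2) * w⁻¹)) * g := by rw [k2]
      _ = _ := by group
  · refine c1.trans (isConj_iff.2 ⟨g⁻¹ * w, ?_⟩)
    group
  · refine c2.trans (isConj_iff.2 ⟨g⁻¹ * w, ?_⟩)
    have hy' : y = g⁻¹ * (w * s1 * w⁻¹) * g := by rw [← hy]; group
    rw [hy']
    calc g⁻¹ * w * (t * (s1 * s2)) * (g⁻¹ * w)⁻¹ = g⁻¹ * w * (t * s1) * s2 * w⁻¹ * g := by group
      _ = g⁻¹ * w * (s1 * t) * s2 * w⁻¹ * g := by rw [hs1.eq]
      _ = _ := by group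

include hσ hs in
/-- (c) it is impossible that the class of `t σ (line)` is the only fused class -/
theorem not_only (hwc : Pair.WC Q t) (hF : OnlyLine σ Q) :
    ¬ IsConj t (t * sg σ (line (e 0) (e 1))) := by
  intro hc
  obtain ⟨g, w, hw, hg, hv, hne⟩ := exists_v S σ hσ hs hwc hc
  obtain ⟨y, hyQ, hye⟩ := hv
  have hye' : g * y * g⁻¹ = w * sg σ (line (e 0) (e 1)) * w⁻¹ := hye
  -- the elements
  have c1 : IsConj t (t * sg σ (line (e 0) (e 2))) := isConj_t_sg σ isLine_e01 isLine_e02 hc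
  have c2 : IsConj t (t * sg σ (line (e 1) (f 2))) := isConj_t_sg σ isLine_e01 isLine_e1f2 hc
  have c3 : IsConj t (t * sg σ (line (e 0) (e 1 + e 2))) := isConj_t_sg σ isLine_e01 isLine_e012 hc
  have c4 : IsConj t (t * sg σ (line (e 1) (e 0 + f 2))) := isConj_t_sg σ isLine_e01 isLine_e1e0f2 hc
  have g1 := comm_conj S σ hσ hs isLine_e01 isLine_e02 (sf_self _) (sf_e_e 0 2) (sf_e_e 1 0)
    (sf_e_e 1 2) hw
  have g2 := comm_conj S σ hσ hs isLine_e01 isLine_e1f2 (sf_e_e 0 1) (sf_e_f_ne (by decide)) (sf_self _)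
    (sf_e_f_ne (by decide)) hw
  have m1 : sg σ (line (e 0) (e 1)) * sg σ (line (e 0) (e 2)) = sg σ (line (e 0) (e 1 + e 2)) := by
    rw [← sg_mul, line_mul_line S hs (sf_e_e 0 1) (sf_e_e 0 2) (sf_e_e 1 2)]
  have m2 : sg σ (line (e 0) (e 1)) * sg σ (line (e 1) (f 2)) = sg σ (line (e 1) (e 0 + f 2)) := by
    rw [← sg_mul, line_swap (e 0) (e 1) (sf_e_e 0 1), line_mul_line S hs (sf_e_e 1 0)
      (sf_e_f_ne (by decide)) (sf_e_f_ne (by decide))]
  have hsne : sg σ (line (e 0) (e 1)) ≠ 1 := by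
    intro h1
    have h2 : S.psi (σ (line (e 0) (e 1))) = 1 := (S.psi_ker _).2 (by
      show sg σ (line (e 0) (e 1)) ∈ Q
      rw [h1]; exact one_mem _)
    rw [hσ] at h2
    exact line_ne_one S hs isLine_e01 h2
  have hncomm : sg σ (line (e 0) (e 2)) * sg σ (line (e 1) (f 2)) ≠
      sg σ (line (e 1) (f 2)) * sg σ (line (e 0) (e 2)) := by
    intro h
    rw [← sg_mul, ← sg_mul] at h
    have h1 : σ (line (e 0) (e 2) * line (e 1) (f 2)) = σ (line (e 1) (f 2) * line (e 0) (e 2)) :=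
      Subtype.ext h
    have h2 := congrArg S.psi h1
    rw [hσ, hσ] at h2
    apply line_ne_one S hs isLine_e01
    apply S.rho_injective
    apply LinearEquiv.ext
    intro v
    rw [map_one, rho_line hs S.card_V (sf_e_e 0 1)]
    have h3 : S.rho (line (e 0) (e 2)) (S.rho (line (e 1) (f 2)) v) =
        S.rho (line (e 1) (f 2)) (S.rho (line (e 0) (e 2)) v) := by
      have h4 := congrArg (fun g => S.rho g v) h2
      simp only [map_mul] at h4
      exact h4
    rw [rho_line hs S.card_V isLine_e02.2.2.2, rho_line hs S.card_V isLine_e1f2.2.2.2,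
      rho_line hs S.card_V isLine_e1f2.2.2.2, rho_line hs S.card_V isLine_e02.2.2.2] at h3
    simp only [map_add] at h3
    have e12 : sf (e 1) (e 2) = 0 := sf_e_e 1 2
    have h4 : n S.rho (e 0) (n S.rho (e 2) (n S.rho (e 1) (n S.rho (f 2) v))) =
        n S.rho (e 1) (n S.rho (f 2) (n S.rho (e 0) (n S.rho (e 2) v))) := by
      have h5 := congrArg (fun u => u + (v + n S.rho (e 1) (n S.rho (f 2) v) +
        n S.rho (e 0) (n S.rho (e 2) v))) h3
      have h6 : ∀ A B C D : S.large.V, A + B + (C + D) + (A + B + C) = D := by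
        intro A B C D
        have h7 := S.large.add_self
        calc A + B + (C + D) + (A + B + C) = (A + A) + (B + B) + (C + C) + D := by abel
          _ = D := by rw [h7 A, h7 B, h7 C, add_zero, add_zero, zero_add]
      have h7 : ∀ A B C D : S.large.V, A + C + (B + D) + (A + B + C) = D := by
        intro A B C D
        refine Eq.trans ?_ (h6 A B C D)
        abel
      rw [h6, h7] at h5
      exact h5
    have h5 : n S.rho (e 1) (n S.rho (f 2) (n S.rho (e 0) (n S.rho (e 2) v))) =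
        n S.rho (e 0) (n S.rho (e 1) (n S.rho (f 2) (n S.rho (e 2) v))) := by
      rw [n_comm_apply hs (a := f 2) (b := e 0) (by rw [sf_comm]; exact sf_e_f_ne (by decide)),
        n_comm_apply hs (a := e 1) (b := e 0) (sf_e_e 1 0)]
    have h6 : n S.rho (e 0) (n S.rho (e 2) (n S.rho (e 1) (n S.rho (f 2) v))) =
        n S.rho (e 0) (n S.rho (e 1) (n S.rho (f 2) (n S.rho (e 2) v))) +
          n S.rho (e 0) (n S.rho (e 1) v) := by
      rw [n_comm_apply hs (a := e 2) (b := e 1) (sf_e_e 2 1), n_anticomm_apply hs (e 2) (f 2), sf_e_f,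
        if_pos rfl, one_smul, map_add, map_add]
    rw [h4, h5] at h6
    rw [left_eq_add.mp h6, add_zero]
    rfl
  have hs1 : Commute (sg σ (line (e 0) (e 1))) t := sg_comm σ _
  have hs2 : Commute (sg σ (line (e 0) (e 2))) t := sg_comm σ _
  have hs3 : Commute (sg σ (line (e 1) (f 2))) t := sg_comm σ _
  have hwt : Commute w t := comm_t S hw
  obtain ⟨k1, k2, k3⟩ := final_aux hg hye' hs1 hs2 hwt g1 c1 (by rw [m1]; exact c3)
  obtain ⟨l1, l2, l3⟩ := final_aux hg hye' hs1 hs3 hwt g2 c2 (by rw [m2]; exact c4)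
  have hy1 : y ≠ 1 := by
    intro h
    apply hsne
    rw [h] at hye'
    calc sg σ (line (e 0) (e 1)) = w⁻¹ * (w * sg σ (line (e 0) (e 1)) * w⁻¹) * w := by group
      _ = 1 := by rw [← hye']; group
  have hyt : y ≠ t := by
    intro h
    apply hne
    rw [← hye', h]
  have main := lemma2 S σ hσ hs hwc hF hyQ hy1 hyt k1 l1 k2 l2 k3 l3
  apply hncomm
  have h1 : Commute (t * sg σ (line (e 0) (e 2))) (t * sg σ (line (e 1) (f 2))) := by
    have h2 : Commute (g⁻¹ * (w * (t * sg σ (line (e 0) (e 2))) * w⁻¹) * g)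
        (g⁻¹ * (w * (t * sg σ (line (e 1) (f 2))) * w⁻¹) * g) := main
    have h3 : ∀ x : G, g⁻¹ * (w * x * w⁻¹) * g = (g⁻¹ * w) * x * (g⁻¹ * w)⁻¹ := fun x => by group
    rw [h3, h3] at h2
    exact (Commute.conj_iff _).1 h2
  have h2 : Commute t (t * sg σ (line (e 1) (f 2))) := (Commute.refl t).mul_right hs3.symm
  have h3 := h1.eq
  have h4 := h2.eq
  have h5 : t * (sg σ (line (e 0) (e 2)) * (t * sg σ (line (e 1) (f 2)))) =
      t * ((t * sg σ (line (e 1) (f 2))) * sg σ (line (e 0) (e 2))) := by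
    rw [← mul_assoc, h3, ← mul_assoc, ← mul_assoc t, h4]
  have h6 := mul_left_cancel h5
  rw [← mul_assoc, hs2.eq, mul_assoc, mul_assoc] at h6
  exact mul_left_cancel h6

end four

end Cfsg.Agent.Co2Type.Alpha
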