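import Cfsg.Agent.Co2Type.Setup
import Cfsg.Agent.Co2Type.Pair

/-!
# An involution of `C(t)` centralises at least 16 elements of `Q`
-/

set_option autoImplicit false

namespace Cfsg.Agent.Co2Type.FixCount

open Cfsg Subgroup Cfsg.Agent.Co2Type.Quad Cfsg.Agent.Co2Type.Setup

variable {G : Type*} [Group G] {Q : Subgroup G} {t : G}

/-- an involution of `C(t)` centralises at least 16 elements of `Q` -/
theorem card_fix (S : Sit G Q t) {c : G} (hc : c * t = t * c) (hcc : c * c = 1) :
    16 ≤ Nat.card (Pair.dsub Q c) := by
  classical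
  have := S.finite_Q
  have : Module.Finite (ZMod 2) S.large.V := Module.Finite.of_finite
  set c' : centralizer ({t} : Set G) := ⟨c, mem_centralizer_singleton_iff.2 hc⟩ with hc'
  have hcc' : c' * c' = 1 := Subtype.ext hcc
  set N : S.large.V →ₗ[ZMod 2] S.large.V :=
    LinearMap.id + (S.large.act c' : S.large.V →ₗ[ZMod 2] S.large.V) with hN
  have hNa : ∀ v, N v = v + S.large.act c' v := fun v => rfl
  have haa : ∀ v, S.large.act c' (S.large.act c' v) = v := by
    intro v
    have h1 : S.large.act (c' * c') v = v := by rw [hcc', map_one]; rfl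
    rw [map_mul] at h1
    exact h1
  have hNN : ∀ v, N (N v) = 0 := by
    intro v
    rw [hNa, hNa, map_add, haa]
    have h2 := S.large.add_self
    calc v + S.large.act c' v + (S.large.act c' v + v)
        = (v + v) + (S.large.act c' v + S.large.act c' v) := by abel
      _ = 0 := by rw [h2, h2, add_zero]
  have hle : LinearMap.range N ≤ LinearMap.ker N := by
    rintro _ ⟨v, rfl⟩
    exact hNN v
  have h3 := LinearMap.finrank_range_add_finrank_ker N
  rw [S.finrank_V] at h3
  have h4 : Module.finrank (ZMod 2) (LinearMap.range N) ≤ Module.finrank (ZMod 2) (LinearMap.ker N) :=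
    Submodule.finrank_mono hle
  have h5 : 4 ≤ Module.finrank (ZMod 2) (LinearMap.ker N) := by omega
  have h6 : 16 ≤ Nat.card (LinearMap.ker N) := by
    rw [Module.natCard_eq_pow_finrank (K := ZMod 2), Nat.card_zmod]
    calc 16 = 2 ^ 4 := by norm_num
      _ ≤ _ := Nat.pow_le_pow_right (by norm_num) h5
  set K : Set Q := {x | S.large.pr x ∈ LinearMap.ker N} with hK
  have hKfin : Finite K := Finite.of_injective (fun x : K => (x : Q)) Subtype.val_injective
  -- lower bound for `K`
  have hlow : 32 ≤ Nat.card K := by
    have hsurj := S.large.pr_surjective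
    choose lift hlift using hsurj
    have hz : ∀ b : Bool, S.large.pr (if b then ⟨t, S.large.z_mem⟩ else 1) = 0 := by
      intro b
      rw [S.large.pr_eq_zero]
      cases b
      · left; rfl
      · right; rfl
    let φ : LinearMap.ker N × Bool → K := fun p =>
      ⟨lift p.1 * (if p.2 then ⟨t, S.large.z_mem⟩ else 1), by
        show S.large.pr _ ∈ LinearMap.ker N
        rw [S.large.pr_mul, hlift, hz, add_zero]
        exact p.1.2⟩
    have hφ : Function.Injective φ := by
      rintro ⟨v, b⟩ ⟨w, d⟩ h
      have h7 : lift v * (if b then ⟨t, S.large.z_mem⟩ else 1) =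
          lift w * (if d then ⟨t, S.large.z_mem⟩ else 1) := congrArg Subtype.val h
      have h8 := congrArg S.large.pr h7
      rw [S.large.pr_mul, S.large.pr_mul, hlift, hlift, hz, hz, add_zero, add_zero] at h8
      have h9 : v = w := Subtype.ext h8
      subst h9
      have h10 := mul_left_cancel h7
      have h11 : (⟨t, S.large.z_mem⟩ : Q) ≠ 1 := fun h => S.large.z_ne (congrArg Subtype.val h)
      cases b <;> cases d
      · rfl
      · exact absurd h10.symm h11
      · exact absurd h10 h11
      · rfl
    have h7 := Nat.card_le_card_of_injective φ hφ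
    rw [Nat.card_prod, Nat.card_eq_fintype_card (α := Bool), Fintype.card_bool] at h7
    omega
  -- the elements of `K` are fixed or moved by `t`
  have key : ∀ x : K, c * x * c⁻¹ = x ∨ c * x * c⁻¹ = x * t := by
    intro x
    have h1 : S.large.pr x + S.large.act c' (S.large.pr x) = 0 := x.2
    have h2 : S.large.act c' (S.large.pr x) = S.large.pr x :=
      (eq_neg_of_add_eq_zero_right h1).trans (S.large.neg_eq _)
    rw [S.large.act_pr] at h2
    exact S.large.pr_eq_pr.1 h2
  have hfin : Finite (Pair.dsub Q c) :=
    Finite.of_injective (fun x : Pair.dsub Q c => (⟨x, (Pair.mem_dsub.1 x.2).1⟩ : Q)) (by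
      intro x y h
      have h' : (⟨x, (Pair.mem_dsub.1 x.2).1⟩ : Q) = ⟨y, (Pair.mem_dsub.1 y.2).1⟩ := h
      have h2 : (x : G) = y := congrArg (fun z : Q => (z : G)) h'
      exact Subtype.ext h2)
  have hup : Nat.card K ≤ Nat.card (Pair.dsub Q c × Bool) := by
    by_cases hall : ∀ x : K, c * x * c⁻¹ = x
    · refine Nat.card_le_card_of_injective
        (fun x => (⟨((x : Q) : G), Pair.mem_dsub.2 ⟨x.1.2, (mul_inv_eq_iff_eq_mul.1 (hall x)).symm⟩⟩, false)) ?_
      intro x y h
      have h7 := congrArg (fun p : Pair.dsub Q c × Bool => ((p.1 : Pair.dsub Q c) : G)) h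
      exact Subtype.ext (Subtype.ext h7)
    · push Not at hall
      obtain ⟨x0, hx0⟩ := hall
      have hx0' : c * x0 * c⁻¹ = x0 * t := (key x0).resolve_left hx0
      have hprod : ∀ x : K, c * x * c⁻¹ ≠ x → ((x : Q) : G) * x0 ∈ Pair.dsub Q c := by
        intro x hx
        have hx' : c * x * c⁻¹ = x * t := (key x).resolve_left hx
        refine Pair.mem_dsub.2 ⟨mul_mem x.1.2 x0.1.2, ?_⟩
        have h7 : c * (x * x0) * c⁻¹ = x * x0 := by
          have e1 : ((x0 : Q) : G) * t = t * x0 := S.large.comm_z _ x0.1.2
          calc c * (((x : Q) : G) * x0) * c⁻¹ = (c * x * c⁻¹) * (c * x0 * c⁻¹) := by group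
            _ = x * t * (x0 * t) := by rw [hx', hx0']
            _ = x * (t * x0) * t := by group
            _ = x * x0 * (t * t) := by rw [← e1]; group
            _ = _ := by rw [S.large.z_sq, mul_one]
        exact (mul_inv_eq_iff_eq_mul.1 h7).symm
      let ψ : K → Pair.dsub Q c × Bool := fun x =>
        if h : c * x * c⁻¹ = x then
          (⟨((x : Q) : G), Pair.mem_dsub.2 ⟨x.1.2, (mul_inv_eq_iff_eq_mul.1 h).symm⟩⟩, false)
        else (⟨((x : Q) : G) * x0, hprod x h⟩, true)
      refine Nat.card_le_card_of_injective ψ ?_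
      intro x y h
      by_cases hx : c * x * c⁻¹ = x
      · by_cases hy : c * y * c⁻¹ = y
        · have h1 : ψ x = _ := dif_pos hx
          have h2 : ψ y = _ := dif_pos hy
          rw [h1, h2] at h
          exact Subtype.ext (Subtype.ext (congrArg (fun p : Pair.dsub Q c × Bool => (p.1 : G)) h))
        · have h1 : ψ x = _ := dif_pos hx
          have h2 : ψ y = _ := dif_neg hy
          rw [h1, h2] at h
          exact absurd (congrArg Prod.snd h) (by simp)
      · by_cases hy : c * y * c⁻¹ = y
        · have h1 : ψ x = _ := dif_neg hx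
          have h2 : ψ y = _ := dif_pos hy
          rw [h1, h2] at h
          exact absurd (congrArg Prod.snd h) (by simp)
        · have h1 : ψ x = _ := dif_neg hx
          have h2 : ψ y = _ := dif_neg hy
          rw [h1, h2] at h
          have h3 := congrArg (fun p : Pair.dsub Q c × Bool => (p.1 : G)) h
          exact Subtype.ext (Subtype.ext (mul_right_cancel h3))
  rw [Nat.card_prod, Nat.card_eq_fintype_card (α := Bool), Fintype.card_bool] at hup
  omega

end Cfsg.Agent.Co2Type.FixCount
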