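import Cfsg.Agent.Co2Type.DeltaK
import Cfsg.Agent.Co2Type.FixCount
import Cfsg.Agent.Co2Type.Pair

/-!
# Groups of type `Co2`: the involutions over the class `b3` are not fused

Hypothesis: `t` is weakly closed in `Q`.
-/

set_option autoImplicit false

namespace Cfsg.Agent.Co2Type.Delta

open Cfsg Subgroup Cfsg.Agent.Co2Type.Quad Cfsg.Agent.Co2Type.Setup Cfsg.Agent.Co2Type.Spin
open Cfsg.Agent.Co2Type.LineMod Cfsg.Agent.Co2Type.Code Cfsg.Agent.Co2Type.DeltaK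
open Cfsg.Agent.SporRec.TwoSp6.Sp (tr act conj_tr)
open Cfsg.Agent.SporRec.TwoSp6.Invol (Ind Orth exists_triple)

variable {G : Type*} [Group G] {Q : Subgroup G} {t : G} (S : Sit G Q t)

include S in
/-- `|C_{Q'}(t)| ≥ 16` -/
theorem card_fix' {g : G} (hg : g * t * g⁻¹ * t = t * (g * t * g⁻¹)) :
    16 ≤ Nat.card (Pair.dsub (Q.map (MulAut.conj g).toMonoidHom) t) := by
  have := S.finite_Q
  have hc : (g⁻¹ * t * g) * t = t * (g⁻¹ * t * g) := by
    calc (g⁻¹ * t * g) * t = g⁻¹ * (t * (g * t * g⁻¹)) * g := by group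
      _ = g⁻¹ * ((g * t * g⁻¹) * t) * g := by rw [hg]
      _ = _ := by group
  have hcc : (g⁻¹ * t * g) * (g⁻¹ * t * g) = 1 := by
    calc (g⁻¹ * t * g) * (g⁻¹ * t * g) = g⁻¹ * (t * t) * g := by group
      _ = 1 := by rw [S.large.z_sq]; group
  have h1 := FixCount.card_fix S hc hcc
  have hfin : Finite (Pair.dsub (Q.map (MulAut.conj g).toMonoidHom) t) := by
    have : Finite (Q.map (MulAut.conj g).toMonoidHom) := by
      apply Set.Finite.to_subtype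
      exact (Set.toFinite (Q : Set G)).image _
    exact Finite.of_injective (fun x => (⟨x, (Pair.mem_dsub.1 x.2).1⟩ : Q.map (MulAut.conj g).toMonoidHom))
      (fun x y h => Subtype.ext (congrArg (fun z : Q.map (MulAut.conj g).toMonoidHom => (z : G)) h))
  refine h1.trans (Nat.card_le_card_of_injective
    (fun x => ⟨g * x * g⁻¹, Pair.mem_dsub.2 ⟨⟨x, (Pair.mem_dsub.1 x.2).1, rfl⟩, ?_⟩⟩) ?_)
  · have h2 := (Pair.mem_dsub.1 x.2).2
    calc g * x * g⁻¹ * t = g * (x * (g⁻¹ * t * g)) * g⁻¹ := by group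
      _ = g * ((g⁻¹ * t * g) * x) * g⁻¹ := by rw [h2]
      _ = _ := by group
  · intro x y h
    have h2 := congrArg Subtype.val h
    simp only at h2
    exact Subtype.ext (mul_left_cancel (mul_right_cancel h2))

section Cos

variable {x : G} (hx : x * t = t * x) (hxx : x * x = 1)
  (hr : S.psi ⟨x, mem_centralizer_singleton_iff.2 hx⟩ = r0)

include S hx in
theorem cm_mem {w : G} (hw : w ∈ Q) : w * x * w⁻¹ * x⁻¹ ∈ Q := by
  have h1 := mul_mem hw (S.large.conj_mem x hx _ (inv_mem hw))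
  have h2 : w * x * w⁻¹ * x⁻¹ = w * (x * w⁻¹ * x⁻¹) := by group
  rw [h2]; exact h1

include hr in
theorem pr_conj' {w : G} (hw : w ∈ Q) (hm : x * w * x⁻¹ ∈ Q) :
    S.large.pr ⟨x * w * x⁻¹, hm⟩ = S.rho r0 (S.large.pr ⟨w, hw⟩) := by
  have h1 := S.rho_psi ⟨x, mem_centralizer_singleton_iff.2 hx⟩
  rw [hr] at h1
  rw [h1, S.large.act_pr]
  rfl

include hr in
theorem pr_cm {w : G} (hw : w ∈ Q) :
    S.large.pr ⟨w * x * w⁻¹ * x⁻¹, cm_mem S hx hw⟩ =
      S.large.pr ⟨w, hw⟩ + S.rho r0 (S.large.pr ⟨w, hw⟩) := by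
  have hm := S.large.conj_mem x hx _ (inv_mem hw)
  have h1 := pr_conj' S hx hr (inv_mem hw) hm
  have h2 : (⟨w * x * w⁻¹ * x⁻¹, cm_mem S hx hw⟩ : Q) = ⟨w, hw⟩ * ⟨x * w⁻¹ * x⁻¹, hm⟩ := by
    apply Subtype.ext
    show w * x * w⁻¹ * x⁻¹ = w * (x * w⁻¹ * x⁻¹)
    group
  rw [h2, S.large.pr_mul, h1]
  have h3 : S.large.pr ⟨w⁻¹, inv_mem hw⟩ = S.large.pr ⟨w, hw⟩ := by
    have h4 : S.large.pr ⟨w⁻¹, inv_mem hw⟩ = - S.large.pr ⟨w, hw⟩ := S.large.pr_inv ⟨w, hw⟩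
    rw [h4, S.large.neg_eq]
  rw [h3]

include hxx in
omit S in
theorem cm_inv (w : G) : x * (w * x * w⁻¹ * x⁻¹) * x⁻¹ = (w * x * w⁻¹ * x⁻¹)⁻¹ := by
  have hxi : x⁻¹ = x := inv_eq_of_mul_eq_one_left hxx
  calc x * (w * x * w⁻¹ * x⁻¹) * x⁻¹ = x * w * x * w⁻¹ * (x * x)⁻¹ := by group
    _ = x * w * x * w⁻¹ := by rw [hxx]; group
    _ = x * w * x⁻¹ * w⁻¹ := by rw [hxi]
    _ = _ := by group

variable {B : Module.Basis (Fin 8) (ZMod 2) S.large.V}
variable (hE : ∀ i I, n S.rho (e i) (B I) = if (I : ℕ).testBit i then 0 else B (I + 2 ^ (i : ℕ)))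
variable (hqB : ∀ I, S.large.q (B I) = 0)
variable (hbB : ∀ I J, S.large.b (B I) (B J) = if I + J = 7 then 1 else 0)

include hr hxx hE hqB hbB in
/-- `t x` is conjugate to `x` under `Q` -/
theorem exists_tz : ∃ w ∈ Q, w * x * w⁻¹ = t * x := by
  obtain ⟨w1, hw1⟩ := S.large.pr_surjective (enc B 1)
  set y := (w1 : G) * x * (w1 : G)⁻¹ * x⁻¹ with hy
  have hyQ : y ∈ Q := cm_mem S hx w1.2
  have h1 : S.large.pr ⟨y, hyQ⟩ = enc B (Mr 1) := by
    rw [pr_cm S hx hr w1.2]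
    have h2 : S.large.pr ⟨(w1 : G), w1.2⟩ = enc B 1 := hw1
    rw [h2, rho_r0_enc hE (by norm_num)]
  have h2 : y * y = t := by
    have h3 := (S.large.q_eq_one (x := ⟨y, hyQ⟩)).1 (by
      rw [h1, q_enc S.large.q_add' hqB hbB (Mr_lt (by norm_num))]
      rfl)
    exact h3
  have h3 := cm_inv hxx (w1 : G)
  rw [← hy] at h3
  refine ⟨y, hyQ, ?_⟩
  have h4 : x * y⁻¹ * x⁻¹ = y := by
    have h5 := congrArg (fun z => z⁻¹) h3
    simp only [mul_inv_rev, inv_inv] at h5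
    rw [← mul_assoc] at h5
    exact h5
  calc y * x * y⁻¹ = y * (x * y⁻¹ * x⁻¹) * x := by group
    _ = y * y * x := by rw [h4]
    _ = t * x := by rw [h2]

include hr hxx hE hqB hbB in
/-- one class of involutions in the coset -/
theorem conj_of_over {m : G} (hm : m ∈ Q)
    (hmr : S.large.pr ⟨m, hm⟩ + S.rho r0 (S.large.pr ⟨m, hm⟩) = 0) : ∃ w ∈ Q, w * x * w⁻¹ = m * x := by
  obtain ⟨v, hv⟩ := exists_of_fixed hE hmr
  obtain ⟨w, rfl⟩ := S.large.pr_surjective v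
  have h1 := pr_cm S hx hr w.2
  have h2 : S.large.pr ⟨m, hm⟩ = S.large.pr ⟨(w : G) * x * (w : G)⁻¹ * x⁻¹, cm_mem S hx w.2⟩ := by
    rw [h1]; exact hv
  have h3 : m = (w : G) * x * (w : G)⁻¹ * x⁻¹ ∨ m = (w : G) * x * (w : G)⁻¹ * x⁻¹ * t :=
    S.large.pr_eq_pr.1 h2
  rcases h3 with h3 | h3
  · refine ⟨w, w.2, ?_⟩
    rw [h3]; group
  · obtain ⟨w0, hw0, h4⟩ := exists_tz S hx hxx hr hE hqB hbB
    refine ⟨w * w0, mul_mem w.2 hw0, ?_⟩
    have h5 : (w : G) * t = t * w := S.large.comm_z _ w.2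
    have h6 : (w : G) * x * (w : G)⁻¹ * x⁻¹ * t = t * ((w : G) * x * (w : G)⁻¹ * x⁻¹) :=
      S.large.comm_z _ (cm_mem S hx w.2)
    rw [h3, h6]
    calc (w : G) * w0 * x * ((w : G) * w0)⁻¹ = w * (w0 * x * w0⁻¹) * (w : G)⁻¹ := by group
      _ = (w * t) * x * (w : G)⁻¹ := by rw [h4]; group
      _ = _ := by rw [h5]; group

include hr hxx in
/-- elements of `Q` over singular vectors of `[V, x]` commute with `x` -/
theorem comm_of {d : G} (hd : d ∈ Q) {v : S.large.V} (hv : S.large.pr ⟨d, hd⟩ = v + S.rho r0 v)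
    (hq : S.large.q (S.large.pr ⟨d, hd⟩) = 0) : d * x = x * d := by
  obtain ⟨w, rfl⟩ := S.large.pr_surjective v
  have h1 := pr_cm S hx hr w.2
  have h2 : S.large.pr ⟨d, hd⟩ = S.large.pr ⟨(w : G) * x * (w : G)⁻¹ * x⁻¹, cm_mem S hx w.2⟩ := by
    rw [h1]; exact hv
  have h4 := cm_inv hxx (w : G)
  set y := (w : G) * x * (w : G)⁻¹ * x⁻¹ with hy
  have h3 : d = y ∨ d = y * t := S.large.pr_eq_pr.1 h2
  have h5 : y * y = 1 := by
    rw [h2] at hq
    exact S.large.q_eq_zero.1 hq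
  have h6 : y⁻¹ = y := inv_eq_of_mul_eq_one_left h5
  rw [h6] at h4
  have h7 : x * y = y * x := mul_inv_eq_iff_eq_mul.1 h4
  rcases h3 with h3 | h3
  · rw [h3, h7]
  · rw [h3, mul_assoc, ← hx, ← mul_assoc, ← h7, mul_assoc]

end Cos

/-- the involutions over `r0` are not fused -/
theorem not_r0 (hs : SpinHyp S.rho) (hwc : Pair.WC Q t) {g : G}
    (hg : g * t * g⁻¹ * t = t * (g * t * g⁻¹)) :
    S.psi ⟨g * t * g⁻¹, mem_centralizer_singleton_iff.2 hg⟩ ≠ r0 := by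
  intro hr
  obtain ⟨B, hE, hF, hqB, hbB⟩ := exists_basis_sit S hs
  have hL' : Large (Q.map (MulAut.conj g).toMonoidHom) (g * t * g⁻¹) := S.large.conj g
  have hwc' := hwc.conj g
  have hcard := card_fix' S hg
  have hxx : (g * t * g⁻¹) * (g * t * g⁻¹) = 1 := hL'.z_sq
  have hconj : IsConj t (g * t * g⁻¹) := isConj_iff.2 ⟨g, rfl⟩
  set Q' := Q.map (MulAut.conj g).toMonoidHom with hQ'
  generalize g * t * g⁻¹ = x at *
  -- the intersection is trivial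
  have hI : ∀ m ∈ Q ⊓ Q', m = 1 := by
    rintro m hm
    obtain ⟨hm1, hm2⟩ := mem_inf.1 hm
    have h1 : m * x = x * m := hL'.comm_z m hm2
    have h2 : S.large.pr ⟨m, hm1⟩ + S.rho r0 (S.large.pr ⟨m, hm1⟩) = 0 := by
      have hmem : x * m * x⁻¹ ∈ Q := S.large.conj_mem x hg m hm1
      rw [← pr_conj' S hg hr hm1 hmem]
      have h3 : (⟨x * m * x⁻¹, hmem⟩ : Q) = ⟨m, hm1⟩ := by
        apply Subtype.ext
        show x * m * x⁻¹ = m
        rw [← h1, mul_inv_cancel_right]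
      rw [h3, S.large.add_self]
    obtain ⟨w, hw, h3⟩ := conj_of_over S hg hxx hr hE hqB hbB hm1 h2
    have h4 : m * x = x := by
      apply hwc'.eq_of_mem (mul_mem hm2 hL'.z_mem)
      rw [← h3]
      exact isConj_iff.2 ⟨w, rfl⟩
    exact mul_eq_right.1 h4
  -- `D'`
  have hD : ∀ y : Pair.dsub Q' t, (y : G) * t = t * y := fun y => (Pair.mem_dsub.1 y.2).2
  have hDQ : ∀ y : Pair.dsub Q' t, (y : G) ∈ Q' := fun y => (Pair.mem_dsub.1 y.2).1
  -- fixed vectors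
  have hfix : ∀ (y : Pair.dsub Q' t) (c d : ℕ), d < 256 → c = Mr d → qN c = false →
      S.rho (S.psi ⟨y, mem_centralizer_singleton_iff.2 (hD y)⟩) (enc B c) = enc B c := by
    intro y c d hd hc hq
    obtain ⟨⟨a, ha⟩, hpa⟩ := S.large.pr_surjective (enc B c)
    have h1 : S.large.pr ⟨a, ha⟩ = enc B d + S.rho r0 (enc B d) := by
      rw [rho_r0_enc hE hd, ← hc]; exact hpa
    have h2 : S.large.q (S.large.pr ⟨a, ha⟩) = 0 := by
      rw [hpa, q_enc S.large.q_add' hqB hbB (hc ▸ Mr_lt hd), hq]; rfl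
    have h3 := comm_of S hg hxx hr ha h1 h2
    have h4 := Pair.commutator_mem S.large hL' (Pair.mem_dsub.2 ⟨ha, h3⟩) y.2
    have h5 := hI _ h4
    rw [mul_inv_eq_one, mul_inv_eq_iff_eq_mul] at h5
    rw [← hpa, S.rho_psi, S.large.act_pr]
    congr 1
    apply Subtype.ext
    show (y : G) * a * (y : G)⁻¹ = a
    rw [← h5, mul_inv_cancel_right]
  have hK : ∀ y : Pair.dsub Q' t, S.psi ⟨y, mem_centralizer_singleton_iff.2 (hD y)⟩ ∈ K S.rho B := by
    intro y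
    refine ⟨?_, hfix y 40 10 (by norm_num) rfl rfl, hfix y 72 12 (by norm_num) rfl rfl,
      hfix y 128 8 (by norm_num) rfl rfl⟩
    rw [← hr, ← map_mul, ← map_mul]
    congr 1
    exact Subtype.ext (hL'.comm_z y (hDQ y))
  -- the map to `K`
  let φ : Pair.dsub Q' t → K S.rho B := fun y => ⟨_, hK y⟩
  have hφ : Function.Injective φ := by
    intro y y' h
    have h1 : S.psi ⟨y, mem_centralizer_singleton_iff.2 (hD y)⟩ =
        S.psi ⟨y', mem_centralizer_singleton_iff.2 (hD y')⟩ := congrArg Subtype.val h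
    have h2 : S.psi (⟨y, mem_centralizer_singleton_iff.2 (hD y)⟩ *
        (⟨y', mem_centralizer_singleton_iff.2 (hD y')⟩ : centralizer ({t} : Set G))⁻¹) = 1 := by
      rw [map_mul, map_inv, h1, mul_inv_cancel]
    have h3 := (S.psi_ker _).1 h2
    have h4 : (y : G) * (y' : G)⁻¹ ∈ Q := h3
    have h5 := hI _ (mem_inf.2 ⟨h4, mul_mem (hDQ y) (inv_mem (hDQ y'))⟩)
    exact Subtype.ext (mul_inv_eq_one.1 h5)
  have hbij := hφ.bijective_of_nat_card_le (by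
    have h1 := card_K hs S.card_V hE hF
    have h2 : (K S.rho B).ncard = Nat.card (K S.rho B) := rfl
    rw [h2] at h1
    exact h1.trans hcard)
  obtain ⟨y, hy⟩ := hbij.2 ⟨r1, r1_mem hs S.card_V hE⟩
  obtain ⟨y0, hyt, hyQ, hpy⟩ : ∃ y0 : G, ∃ hyt : y0 * t = t * y0, y0 ∈ Q' ∧
      S.psi ⟨y0, mem_centralizer_singleton_iff.2 hyt⟩ = r1 :=
    ⟨y, hD y, hDQ y, congrArg Subtype.val hy⟩
  have hyy : y0 * y0 = 1 := by
    apply hI
    refine mem_inf.2 ⟨?_, mul_mem hyQ hyQ⟩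
    have h1 : S.psi (⟨y0, mem_centralizer_singleton_iff.2 hyt⟩ * ⟨y0, mem_centralizer_singleton_iff.2 hyt⟩) =
        1 := by
      rw [map_mul, hpy, r1_sq]
    exact (S.psi_ker _).1 h1
  -- conjugation to `r0`
  obtain ⟨κ, k1, k2, k3⟩ := exists_triple ind_e orth_e ind_e' orth_e'
  have hκ : κ * r0 * κ⁻¹ = r1 := by
    have c0 : κ * tr (e 0) * κ⁻¹ = tr (e 0) := by rw [conj_tr, k1]
    have c1 : κ * tr (e 1) * κ⁻¹ = tr (e 0 + e 1) := by rw [conj_tr, k2]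
    have c2 : κ * tr (e 2) * κ⁻¹ = tr (e 0 + e 2) := by rw [conj_tr, k3]
    calc κ * r0 * κ⁻¹ = (κ * tr (e 0) * κ⁻¹) * (κ * tr (e 1) * κ⁻¹) * (κ * tr (e 2) * κ⁻¹) := by
          rw [r0]; group
      _ = r1 := by rw [c0, c1, c2, r1]
  obtain ⟨k, hk⟩ := S.psi_surj κ
  set y1 : centralizer ({t} : Set G) := k⁻¹ * ⟨y0, mem_centralizer_singleton_iff.2 hyt⟩ * k with hy1
  have hpy1 : S.psi y1 = r0 := by
    rw [hy1, map_mul, map_mul, map_inv, hpy, hk, ← hκ]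
    group
  set xc : centralizer ({t} : Set G) := ⟨x, mem_centralizer_singleton_iff.2 hg⟩ with hxc
  have hmQ : ((y1 * xc⁻¹ : centralizer ({t} : Set G)) : G) ∈ Q := by
    apply (S.psi_ker _).1
    rw [map_mul, map_inv, hpy1, hr, mul_inv_cancel]
  set m : G := ((y1 * xc⁻¹ : centralizer ({t} : Set G)) : G) with hm
  have hmx : m * x = (y1 : G) := by
    show (y1 : G) * x⁻¹ * x = y1
    rw [inv_mul_cancel_right]
  have hy1c : (y1 : G) = (k : G)⁻¹ * y0 * k := rfl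
  have hy1y1 : (y1 : G) * y1 = 1 := by
    rw [hy1c]
    calc (k : G)⁻¹ * y0 * k * ((k : G)⁻¹ * y0 * k) = (k : G)⁻¹ * (y0 * y0) * k := by group
      _ = 1 := by rw [hyy]; group
  have hmr : S.large.pr ⟨m, hmQ⟩ + S.rho r0 (S.large.pr ⟨m, hmQ⟩) = 0 := by
    have hmem : x * m * x⁻¹ ∈ Q := S.large.conj_mem x hg m hmQ
    rw [← pr_conj' S hg hr hmQ hmem]
    have h3 : (⟨x * m * x⁻¹, hmem⟩ : Q) = (⟨m, hmQ⟩ : Q)⁻¹ := by
      apply Subtype.ext
      show x * m * x⁻¹ = m⁻¹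
      rw [← hmx] at hy1y1
      have h4 : x⁻¹ = x := inv_eq_of_mul_eq_one_left hxx
      rw [h4]
      apply eq_inv_of_mul_eq_one_right
      calc m * (x * m * x) = m * x * (m * x) := by group
        _ = 1 := hy1y1
    rw [h3, S.large.pr_inv, add_neg_cancel]
  obtain ⟨w, hw, h6⟩ := conj_of_over S hg hxx hr hE hqB hbB hmQ hmr
  rw [hmx, hy1c] at h6
  have h7 : IsConj x y0 := by
    refine isConj_iff.2 ⟨k * w, ?_⟩
    calc (k : G) * w * x * ((k : G) * w)⁻¹ = k * (w * x * w⁻¹) * (k : G)⁻¹ := by group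
      _ = y0 := by rw [h6]; group
  have h8 : y0 = x := hwc'.eq_of_mem hyQ h7
  apply r1_ne
  rw [← hpy, ← hr]
  congr 1
  exact Subtype.ext h8

/-- the involutions over the class `b3` are not fused -/
theorem not_delta (hs : SpinHyp S.rho) (hwc : Pair.WC Q t) {g : G}
    (hg : g * t * g⁻¹ * t = t * (g * t * g⁻¹)) {a b c : U} (hi : Ind a b c) (ho : Orth a b c) :
    S.psi ⟨g * t * g⁻¹, mem_centralizer_singleton_iff.2 hg⟩ ≠ tr a * tr b * tr c := by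
  intro hr
  obtain ⟨κ, k1, k2, k3⟩ := exists_triple hi ho ind_e orth_e
  obtain ⟨k, hk⟩ := S.psi_surj κ
  have hkt : (k : G) * t = t * k := mem_centralizer_singleton_iff.1 k.2
  have hkt' : (k : G)⁻¹ * t = t * (k : G)⁻¹ := mem_centralizer_singleton_iff.1 (inv_mem k.2)
  have hg' : (k * g) * t * (k * g)⁻¹ * t = t * ((k * g) * t * (k * g)⁻¹) := by
    calc (k * g) * t * (k * g)⁻¹ * t = k * (g * t * g⁻¹) * ((k : G)⁻¹ * t) := by group
      _ = k * (g * t * g⁻¹ * t) * (k : G)⁻¹ := by rw [hkt']; group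
      _ = k * t * (g * t * g⁻¹) * (k : G)⁻¹ := by rw [hg]; group
      _ = _ := by rw [hkt]; group
  apply not_r0 S hs hwc hg'
  have h1 : (⟨(k * g) * t * (k * g)⁻¹, mem_centralizer_singleton_iff.2 hg'⟩ : centralizer ({t} : Set G)) =
      k * ⟨g * t * g⁻¹, mem_centralizer_singleton_iff.2 hg⟩ * k⁻¹ := by
    apply Subtype.ext
    show (k : G) * g * t * ((k : G) * g)⁻¹ = k * (g * t * g⁻¹) * (k : G)⁻¹
    group
  rw [h1, map_mul, map_mul, map_inv, hr, hk, r0, ← k1, ← k2, ← k3, ← conj_tr κ, ← conj_tr κ, ← conj_tr κ]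
  group

end Cfsg.Agent.Co2Type.Delta
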