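import Cfsg.Agent.Co2Type.Alpha
import Cfsg.Agent.Co2Type.Delta

/-!
# Groups of type `Co2`: the third class over the line elements is not fused (split case)

`u = x σ(line)`, `x ∈ Q`, `n_a n_b x̄ = 0`, `x̄ ∉ im n_a n_b`.
-/

set_option autoImplicit false

namespace Cfsg.Agent.Co2Type.Alpha3

open Cfsg Subgroup Cfsg.Agent.Co2Type.Quad Cfsg.Agent.Co2Type.Setup Cfsg.Agent.Co2Type.Spin
open Cfsg.Agent.Co2Type.LineMod Cfsg.Agent.Co2Type.Alpha
open Cfsg.Agent.SporRec.TwoSp6.Sp (tr act conj_tr)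

section Mod

variable {V : Type*} [AddCommGroup V] [Module (ZMod 2) V]
variable {rho : Sp6 →* (V ≃ₗ[ZMod 2] V)}
variable (hs : SpinHyp rho) (hcard : Nat.card V = 2 ^ 8)
variable {q : V → ZMod 2} {b0 : LinearMap.BilinForm (ZMod 2) V}
variable (hbr : ∀ g v w, b0 (rho g v) (rho g w) = b0 v w) (hbs : ∀ v, b0 v v = 0)
variable (hnd : ∀ v, (∀ w, b0 v w = 0) → v = 0)
variable (hq : ∀ v w, q (v + w) = q v + q w + b0 v w) (hqr : ∀ g v, q (rho g v) = q v)

/-- `n_a n_b` -/
def NN (rho : Sp6 →* (V ≃ₗ[ZMod 2] V)) (v : V) : V := n rho (e 0) (n rho (e 1) v)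

theorem NN_add (v w : V) : NN rho (v + w) = NN rho v + NN rho w := by
  unfold NN; rw [map_add, map_add]

theorem NN_smul (a : ZMod 2) (v : V) : NN rho (a • v) = a • NN rho v := by
  unfold NN; rw [map_smul, map_smul]

include hs in
theorem NN_swap (v : V) : NN rho v = n rho (e 1) (n rho (e 0) v) := n_comm_apply hs (sf_e_e 0 1) v

include hs hbr in
/-- `NN` is self-adjoint -/
theorem b_NN (v w : V) : b0 (NN rho v) w = b0 v (NN rho w) := by
  rw [NN, b_n_left hbr, b_n_left hbr, NN_swap hs]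

include hs hbr hnd in
/-- perpendicular to the kernel of `NN`: in the image -/
theorem im_of_perp_ker {x : V} (h : ∀ v, NN rho v = 0 → b0 x v = 0) : ∃ s, x = NN rho s := by
  refine im_of_perp hs hbr hnd isLine_e01 (fun v => h _ ?_) (fun v => h _ ?_)
  · rw [NN_swap hs, n_n_apply, map_zero]
  · rw [NN, n_n_apply, map_zero]

include hs hbr hbs hnd in
theorem n_mem (j : Fin 2) {v : V} (hv : NN rho v = 0) :
    ∃ s, n rho (e (Fin.castSucc j)) v = NN rho s := by
  have hb : ∀ v w, b0 v w = b0 w v := b_comm_of hbs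
  have h0 : ∀ j : Fin 2, Fin.castSucc j = (0 : Fin 3) ∨ Fin.castSucc j = (1 : Fin 3) := by decide
  refine im_of_perp hs hbr hnd isLine_e01 (fun w => ?_) (fun w => ?_)
  · rw [b_n_left hbr]
    rcases h0 j with h | h
    · rw [h, n_n_apply, map_zero]
    · rw [h, ← NN_swap hs, ← b_NN hs hbr, hv, map_zero, LinearMap.zero_apply]
  · rw [b_n_left hbr]
    rcases h0 j with h | h
    · rw [h]
      show b0 v (NN rho w) = 0
      rw [← b_NN hs hbr, hv, map_zero, LinearMap.zero_apply]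
    · rw [h, n_n_apply, map_zero]

include hs hbr hnd in
/-- both `n` vanish: in the image -/
theorem mem_of_both {v : V} (h0 : n rho (e 0) v = 0) (h1 : n rho (e 1) v = 0) : ∃ s, v = NN rho s := by
  refine im_of_perp hs hbr hnd isLine_e01 (fun w => ?_) (fun w => ?_)
  · rw [← b_n_left hbr, h0, map_zero, LinearMap.zero_apply]
  · rw [← b_n_left hbr, h1, map_zero, LinearMap.zero_apply]

/-- the elements trivial on `H5` -/
def H8 (rho : Sp6 →* (V ≃ₗ[ZMod 2] V)) (b0 : LinearMap.BilinForm (ZMod 2) V) (x : V) : Set Sp6 :=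
  {g | ∀ v, NN rho v = 0 → b0 x v = 0 → rho g v = v}

include hs hbr hbs hnd hq hqr in
/-- `b (v, v + g v) = 0` -/
theorem alt_of_mem {x : V} (hx : NN rho x = 0) (hqx : q x = 0) (hni : ¬ ∃ s, x = NN rho s) {g : Sp6}
    (hg : g ∈ H8 rho b0 x) (v : V) : b0 v (v + rho g v) = 0 := by
  obtain ⟨v1, hv1, hb1⟩ : ∃ v1, NN rho v1 = 0 ∧ b0 x v1 = 1 := by
    by_contra hcon
    push Not at hcon
    apply hni
    apply im_of_perp_ker hs hbr hnd
    intro v hv
    rcases zmod2_cases (b0 x v) with h | h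
    · exact h
    · exact absurd h (hcon v hv)
  set m := v + rho g v with hm
  have hperp : ∀ w, NN rho w = 0 → b0 x w = 0 → b0 m w = 0 := by
    intro w hw hxw
    have h1 : b0 (rho g v) w = b0 v w := by
      conv_lhs => rw [← hg w hw hxw]
      exact hbr g v w
    rw [hm, map_add, LinearMap.add_apply, h1, zmod2_add_self]
  have hqN : ∀ s, q (NN rho s) = 0 := fun s => q_n hs hbr hbs hq hqr _ _
  have hq0 : q m = 0 := by
    rcases zmod2_cases (b0 m v1) with h1 | h1
    · obtain ⟨s, hs1⟩ := im_of_perp_ker hs hbr hnd (x := m) (by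
        intro w hw
        rcases zmod2_cases (b0 x w) with h2 | h2
        · exact hperp w hw h2
        · have h3 := hperp (w + v1) (by rw [NN_add, hw, hv1, add_zero]) (by rw [map_add, h2, hb1]; rfl)
          rw [map_add, h1, add_zero] at h3
          exact h3)
      rw [hs1, hqN]
    · obtain ⟨s, hs1⟩ := im_of_perp_ker hs hbr hnd (x := x + m) (by
        intro w hw
        rcases zmod2_cases (b0 x w) with h2 | h2
        · rw [map_add, LinearMap.add_apply, h2, hperp w hw h2, add_zero]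
        · have h3 := hperp (w + v1) (by rw [NN_add, hw, hv1, add_zero]) (by rw [map_add, h2, hb1]; rfl)
          rw [map_add, h1] at h3
          rw [map_add, LinearMap.add_apply, h2, add_comm]; exact h3)
      have h2 : m = x + NN rho s := by
        rw [← hs1, ← add_assoc, ZModModule.add_self, zero_add]
      rw [h2, hq, hqx, hqN, ← b_NN hs hbr, hx, map_zero, LinearMap.zero_apply]
      rfl
  have h5 : q (v + m) = q v := by
    rw [hm, ← add_assoc, ZModModule.add_self, zero_add, hqr]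
  rw [hq, hq0, add_zero] at h5
  simpa using h5

include hs hcard hbr hbs hnd hq hqr in
/-- at most eight elements are trivial on `H5` -/
theorem card_H8 {x : V} (hx : NN rho x = 0) (hqx : q x = 0) (hni : ¬ ∃ s, x = NN rho s)
    (hinj : Function.Injective rho) : (H8 rho b0 x).ncard ≤ 8 := by
  obtain ⟨v1, hv1, hb1⟩ : ∃ v1, NN rho v1 = 0 ∧ b0 x v1 = 1 := by
    by_contra hcon
    push Not at hcon
    apply hni
    apply im_of_perp_ker hs hbr hnd
    intro v hv
    rcases zmod2_cases (b0 x v) with h | h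
    · exact h
    · exact absurd h (hcon v hv)
  obtain ⟨B, hE, hF⟩ := exists_basis hs hcard
  have z1 : ∀ I : Fin 8, (I : ℕ).testBit ((1 : Fin 3) : ℕ) = true → NN rho (B I) = 0 := by
    intro I hI
    rw [NN, hE, if_pos hI, map_zero]
  have z0 : ∀ I : Fin 8, (I : ℕ).testBit ((0 : Fin 3) : ℕ) = true → NN rho (B I) = 0 := by
    intro I hI
    rw [NN_swap hs, hE, if_pos hI, map_zero]
  have v0 : NN rho (B 0) = B 3 := by
    rw [NN, hE, if_neg (by decide), hE, if_neg (by decide)]; rfl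
  have v4 : NN rho (B 4) = B 7 := by
    rw [NN, hE, if_neg (by decide), hE, if_neg (by decide)]; rfl
  have h2 : ∀ y : V, y + y = 0 := ZModModule.add_self
  -- decomposition
  have hdec : ∀ v, ∃ (α c0 c4 : ZMod 2) (h : V), v = h + α • v1 + c0 • B 0 + c4 • B 4 ∧
      NN rho h = 0 ∧ b0 x h = 0 := by
    intro v
    have hN : NN rho v = B.repr v 0 • B 3 + B.repr v 4 • B 7 := by
      conv_lhs => rw [← B.sum_repr v]
      rw [Fin.sum_univ_eight]
      simp only [NN_add, NN_smul]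
      rw [v0, v4, z0 1 rfl, z1 2 rfl, z1 3 rfl, z0 5 rfl, z1 6 rfl, z1 7 rfl]
      simp
    set c0 := B.repr v 0
    set c4 := B.repr v 4
    set k := v + c0 • B 0 + c4 • B 4 with hk
    have hk0 : NN rho k = 0 := by
      rw [hk, NN_add, NN_add, NN_smul, NN_smul, v0, v4, hN]
      generalize c0 • B 3 = A
      generalize c4 • B 7 = A'
      calc A + A' + A + A' = (A + A) + (A' + A') := by abel
        _ = 0 := by rw [h2, h2, add_zero]
    refine ⟨b0 x k, c0, c4, k + b0 x k • v1, ?_, ?_, ?_⟩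
    · rw [hk]
      generalize c0 • B 0 = A
      generalize c4 • B 4 = A'
      generalize b0 x (v + A + A') • v1 = A''
      calc v = v + (A + A) + (A' + A') + (A'' + A'') := by rw [h2, h2, h2]; simp
        _ = _ := by abel
    · rw [NN_add, NN_smul, hk0, hv1, smul_zero, add_zero]
    · rw [map_add, map_smul, hb1, smul_eq_mul, mul_one, zmod2_add_self]
  let φ : H8 rho b0 x → (Fin 3 → ZMod 2) := fun g =>
    ![b0 v1 (B 0 + rho g.1 (B 0)), b0 v1 (B 4 + rho g.1 (B 4)), b0 (B 0) (B 4 + rho g.1 (B 4))]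
  have hφ : Function.Injective φ := by
    rintro ⟨g, hg⟩ ⟨g', hg'⟩ hgg
    have a1 : b0 v1 (B 0 + rho g (B 0)) = b0 v1 (B 0 + rho g' (B 0)) := congrFun hgg 0
    have a2 : b0 v1 (B 4 + rho g (B 4)) = b0 v1 (B 4 + rho g' (B 4)) := congrFun hgg 1
    have a3 : b0 (B 0) (B 4 + rho g (B 4)) = b0 (B 0) (B 4 + rho g' (B 4)) := congrFun hgg 2
    set P : V →ₗ[ZMod 2] V := (rho g : V →ₗ[ZMod 2] V) + (rho g' : V →ₗ[ZMod 2] V) with hP
    have hPa : ∀ v, P v = rho g v + rho g' v := fun v => rfl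
    have hbit : ∀ u w, b0 u (w + rho g w) = b0 u (w + rho g' w) → b0 u (P w) = 0 := by
      intro u w h
      rw [map_add, map_add] at h
      rw [hPa, map_add, add_left_cancel h, zmod2_add_self]
    have hself : ∀ v, b0 v (P v) = 0 := by
      intro v
      have e1 := alt_of_mem hs hbr hbs hnd hq hqr hx hqx hni hg v
      have e2 := alt_of_mem hs hbr hbs hnd hq hqr hx hqx hni hg' v
      exact hbit v v (e1.trans e2.symm)
    have hsym : ∀ v w, b0 v (P w) = b0 w (P v) := by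
      intro v w
      have e1 := hself (v + w)
      rw [map_add, map_add, LinearMap.add_apply, map_add, map_add, hself, hself, zero_add,
        add_zero] at e1
      have : ∀ a b : ZMod 2, b + a = 0 → b = a := by decide
      exact this _ _ e1
    have hPh : ∀ h, NN rho h = 0 → b0 x h = 0 → P h = 0 := by
      intro h k1 k2
      rw [hPa, hg h k1 k2, hg' h k1 k2, h2]
    have b1 := hbit _ _ a1
    have b2 := hbit _ _ a2
    have b3 := hbit _ _ a3
    have main : ∀ y, b0 v1 (P y) = 0 → b0 (B 0) (P y) = 0 → b0 (B 4) (P y) = 0 → P y = 0 := by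
      intro y k1 k2 k3
      apply hnd
      intro w
      obtain ⟨α, c0, c4, h, rfl, hh1, hh2⟩ := hdec w
      rw [b_comm_of hbs]
      have k4 : b0 h (P y) = 0 := by rw [hsym, hPh h hh1 hh2, map_zero]
      simp only [map_add, map_smul, LinearMap.add_apply, LinearMap.smul_apply, k1, k2, k3, k4, smul_zero,
        add_zero]
    have p1 : P v1 = 0 := main _ (hself _) (by rw [hsym]; exact b1) (by rw [hsym]; exact b2)
    have p2 : P (B 0) = 0 := main _ b1 (hself _) (by rw [hsym]; exact b3)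
    have p3 : P (B 4) = 0 := main _ b2 b3 (hself _)
    apply Subtype.ext
    apply hinj
    apply LinearEquiv.ext
    intro w
    have hPw : P w = 0 := by
      obtain ⟨α, c0, c4, h, rfl, hh1, hh2⟩ := hdec w
      simp only [map_add, map_smul, p1, p2, p3, hPh h hh1 hh2, smul_zero, add_zero]
    rw [hPa] at hPw
    exact (eq_neg_of_add_eq_zero_left hPw).trans (ZModModule.neg_eq_self _)
  have h := Nat.card_le_card_of_injective φ hφ
  rw [Nat.card_eq_fintype_card (α := Fin 3 → ZMod 2)] at h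
  have h3 : Fintype.card (Fin 3 → ZMod 2) = 8 := by simp [ZMod.card]
  rw [h3] at h
  exact h

end Mod

variable {G : Type*} [Group G] {Q : Subgroup G} {t : G} (S : Sit G Q t)
variable (σ : Sp6 →* centralizer ({t} : Set G)) (hσ : ∀ g, S.psi (σ g) = g) (hs : SpinHyp S.rho)

section Coset

variable {x : G} (hx : x ∈ Q) (hN : NN S.rho (S.large.pr ⟨x, hx⟩) = 0)
  (hni : ¬ ∃ s, S.large.pr ⟨x, hx⟩ = NN S.rho s)

include S in
theorem u_comm (hx : x ∈ Q) : x * sg σ (line (e 0) (e 1)) * t = t * (x * sg σ (line (e 0) (e 1))) := by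
  have h1 : x * t = t * x := comm_t S hx
  have h2 : sg σ (line (e 0) (e 1)) * t = t * sg σ (line (e 0) (e 1)) := sg_comm σ _
  rw [mul_assoc, h2, ← mul_assoc, h1, mul_assoc]

include hs hσ hN in
theorem s_comm : sg σ (line (e 0) (e 1)) * x = x * sg σ (line (e 0) (e 1)) :=
  chi S σ hσ hs isLine_e01 hx hN

include hs hσ hni in
/-- `t u` is conjugate to `u` -/
theorem exists_tu : ∃ w ∈ Q, w * (x * sg σ (line (e 0) (e 1))) * w⁻¹ =
    t * (x * sg σ (line (e 0) (e 1))) := by
  obtain ⟨v1, hv1, hb1⟩ : ∃ v1, NN S.rho v1 = 0 ∧ S.large.b (S.large.pr ⟨x, hx⟩) v1 = 1 := by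
    by_contra hcon
    push Not at hcon
    apply hni
    apply im_of_perp_ker hs S.b_rho (fun v hv => S.large.b_nondeg hv)
    intro v hv
    rcases zmod2_cases (S.large.b (S.large.pr ⟨x, hx⟩) v) with h | h
    · exact h
    · exact absurd h (hcon v hv)
  obtain ⟨w, rfl⟩ := S.large.pr_surjective v1
  refine ⟨w, w.2, ?_⟩
  have h1 : sg σ (line (e 0) (e 1)) * w = w * sg σ (line (e 0) (e 1)) := chi S σ hσ hs isLine_e01 w.2 hv1
  have h2 : x * w = w * x * t := (S.large.b_pr_one _ _).1 hb1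
  have h3 : (w : G) * t = t * w := comm_t S w.2
  have h4 : x * t = t * x := comm_t S hx
  generalize sg σ (line (e 0) (e 1)) = s at *
  have h5 : (w : G) * x = t * (x * w) := by
    rw [h2]
    calc (w : G) * x = w * x * (t * t) := by rw [tt S, mul_one]
      _ = ((w : G) * x * t) * t := by group
      _ = t * ((w : G) * x * t) := by
          rw [mul_assoc (w : G) x t, h4]
          calc (w : G) * (t * x) * t = (w * t) * (x * t) := by group
            _ = t * (w * (x * t)) := by rw [h3]; group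
            _ = _ := by rw [h4]
  calc (w : G) * (x * s) * (w : G)⁻¹ = (w * x) * s * (w : G)⁻¹ := by group
    _ = t * x * (w * s) * (w : G)⁻¹ := by rw [h5]; group
    _ = t * x * (s * w) * (w : G)⁻¹ := by rw [h1]
    _ = _ := by group

include hs hσ hni in
/-- conjugates of `u` under `Q` -/
theorem conj_of_im {m : G} (hm : m ∈ Q) (hmi : ∃ s, S.large.pr ⟨m, hm⟩ = NN S.rho s) :
    ∃ w ∈ Q, w * (x * sg σ (line (e 0) (e 1))) * w⁻¹ = m * (x * sg σ (line (e 0) (e 1))) := by
  obtain ⟨v, hv⟩ := hmi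
  obtain ⟨w, rfl⟩ := S.large.pr_surjective v
  obtain ⟨w0, hw0, h0⟩ := exists_tu S σ hσ hs hx hni
  have hut := u_comm S σ hx
  set u := x * sg σ (line (e 0) (e 1)) with hu
  have hcQ : (w : G) * u * (w : G)⁻¹ * u⁻¹ ∈ Q := Delta.cm_mem S hut w.2
  have hpsi : S.psi ⟨u, mem_centralizer_singleton_iff.2 hut⟩ = line (e 0) (e 1) := by
    have h1 : (⟨u, mem_centralizer_singleton_iff.2 hut⟩ : centralizer ({t} : Set G)) =
        ⟨x, mem_centralizer_singleton_iff.2 (comm_t S hx)⟩ * σ (line (e 0) (e 1)) := rfl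
    rw [h1, map_mul, hσ, (S.psi_ker _).2 hx, one_mul]
  have hpr : S.large.pr ⟨(w : G) * u * (w : G)⁻¹ * u⁻¹, hcQ⟩ = NN S.rho (S.large.pr w) := by
    have hm2 : u * (w : G)⁻¹ * u⁻¹ ∈ Q := S.large.conj_mem u hut _ (inv_mem w.2)
    have h1 : (⟨(w : G) * u * (w : G)⁻¹ * u⁻¹, hcQ⟩ : Q) = w * ⟨u * (w : G)⁻¹ * u⁻¹, hm2⟩ := by
      apply Subtype.ext
      show (w : G) * u * (w : G)⁻¹ * u⁻¹ = w * (u * (w : G)⁻¹ * u⁻¹)
      group
    have h2 : S.large.pr ⟨u * (w : G)⁻¹ * u⁻¹, hm2⟩ = S.rho (line (e 0) (e 1)) (S.large.pr w⁻¹) := by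
      have h3 := S.rho_psi ⟨u, mem_centralizer_singleton_iff.2 hut⟩
      rw [hpsi] at h3
      rw [h3, S.large.act_pr]
      rfl
    rw [h1, S.large.pr_mul, h2, S.large.pr_inv, S.large.neg_eq,
      rho_line hs S.card_V (sf_e_e 0 1), ← add_assoc, S.large.add_self, zero_add]
    rfl
  have h3 : m = (w : G) * u * (w : G)⁻¹ * u⁻¹ ∨ m = (w : G) * u * (w : G)⁻¹ * u⁻¹ * t :=
    S.large.pr_eq_pr.1 (hv.trans hpr.symm)
  rcases h3 with h3 | h3
  · refine ⟨w, w.2, ?_⟩
    rw [h3]; group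
  · refine ⟨w * w0, mul_mem w.2 hw0, ?_⟩
    have h5 : (w : G) * t = t * w := comm_t S w.2
    have h6 : (w : G) * u * (w : G)⁻¹ * u⁻¹ * t = t * ((w : G) * u * (w : G)⁻¹ * u⁻¹) := comm_t S hcQ
    rw [h3, h6]
    calc (w : G) * w0 * u * ((w : G) * w0)⁻¹ = w * (w0 * u * w0⁻¹) * (w : G)⁻¹ := by group
      _ = (w * t) * u * (w : G)⁻¹ := by rw [h0]; group
      _ = _ := by rw [h5]; group

end Coset

include hσ hs in
/-- the third class over the line elements is not fused -/
theorem not_alpha3 (hwc : Pair.WC Q t) {x : G} (hx : x ∈ Q)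
    (hN : NN S.rho (S.large.pr ⟨x, hx⟩) = 0) (hni : ¬ ∃ s, S.large.pr ⟨x, hx⟩ = NN S.rho s) :
    ¬ IsConj t (x * sg σ (line (e 0) (e 1))) := by
  intro hconj
  obtain ⟨g, hg⟩ := isConj_iff.1 hconj
  have hut := u_comm S σ hx
  have hsx := s_comm S σ hσ hs hx hN
  have hnd : ∀ v, (∀ w, S.large.b v w = 0) → v = 0 := fun v hv => S.large.b_nondeg hv
  have hbr := S.b_rho
  have hbs := S.large.b_self
  have hL' : Large (Q.map (MulAut.conj g).toMonoidHom) (g * t * g⁻¹) := S.large.conj g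
  have hwc' := hwc.conj g
  have hcard := Delta.card_fix' S (g := g) (by rw [hg]; exact hut)
  have him := fun (m : G) (hm : m ∈ Q) => conj_of_im S σ hσ hs hx hni (m := m) hm
  have huu : (g * t * g⁻¹) * (g * t * g⁻¹) = 1 := hL'.z_sq
  have hss : sg σ (line (e 0) (e 1)) * sg σ (line (e 0) (e 1)) = 1 := sg_line_sq σ (sf_e_e 0 1)
  have hsQ : ∀ d : Q, NN S.rho (S.large.pr d) = 0 →
      sg σ (line (e 0) (e 1)) * d = d * sg σ (line (e 0) (e 1)) :=
    fun d hd => chi S σ hσ hs isLine_e01 d.2 hd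
  have hpsi : S.psi ⟨x * sg σ (line (e 0) (e 1)), mem_centralizer_singleton_iff.2 hut⟩ =
      line (e 0) (e 1) := by
    have h1 : (⟨x * sg σ (line (e 0) (e 1)), mem_centralizer_singleton_iff.2 hut⟩ :
        centralizer ({t} : Set G)) =
        ⟨x, mem_centralizer_singleton_iff.2 (comm_t S hx)⟩ * σ (line (e 0) (e 1)) := rfl
    rw [h1, map_mul, hσ, (S.psi_ker _).2 hx, one_mul]
  have hcs : ∀ j : Fin 2, sg σ (tr (e (Fin.castSucc j))) * sg σ (line (e 0) (e 1)) =
      sg σ (line (e 0) (e 1)) * sg σ (tr (e (Fin.castSucc j))) := by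
    intro j
    rw [← sg_mul, ← sg_mul, line_comm_tr (sf_e_e _ _) (sf_e_e _ _)]
  rw [hg] at hL' hwc' huu
  set Q' := Q.map (MulAut.conj g).toMonoidHom with hQ'
  clear hg
  generalize sg σ (line (e 0) (e 1)) = s at *
  -- `q x = 0`
  have hqx : S.large.q (S.large.pr ⟨x, hx⟩) = 0 := by
    rw [S.large.q_eq_zero]
    show x * x = 1
    calc x * x = x * x * (s * s) := by rw [hss, mul_one]
      _ = x * (x * s) * s := by group
      _ = x * (s * x) * s := by rw [hsx]
      _ = x * s * (x * s) := by group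
      _ = 1 := huu
  -- the intersection meets the image trivially
  have hW : ∀ m (hm : m ∈ Q ⊓ Q'), (∃ v, S.large.pr ⟨m, (mem_inf.1 hm).1⟩ = NN S.rho v) → m = 1 := by
    intro m hm hv
    obtain ⟨w, hw, h3⟩ := him m (mem_inf.1 hm).1 hv
    have h4 : m * (x * s) = x * s := by
      apply hwc'.eq_of_mem (mul_mem (mem_inf.1 hm).2 hL'.z_mem)
      rw [← h3]
      exact isConj_iff.2 ⟨w, rfl⟩
    exact mul_eq_right.1 h4
  -- the intersection is trivial
  have hI : ∀ m ∈ Q ⊓ Q', m = 1 := by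
    intro m hm
    obtain ⟨hm1, hm2⟩ := mem_inf.1 hm
    have h1 : m * (x * s) = x * s * m := hL'.comm_z m hm2
    have hNm : NN S.rho (S.large.pr ⟨m, hm1⟩) = 0 := by
      have h3 := S.rho_psi ⟨x * s, mem_centralizer_singleton_iff.2 hut⟩
      rw [hpsi] at h3
      have h4 : S.rho (line (e 0) (e 1)) (S.large.pr ⟨m, hm1⟩) = S.large.pr ⟨m, hm1⟩ := by
        rw [h3, S.large.act_pr]
        congr 1
        apply Subtype.ext
        show x * s * m * (x * s)⁻¹ = m
        rw [← h1, mul_inv_cancel_right]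
      rw [rho_line hs S.card_V (sf_e_e 0 1)] at h4
      exact add_eq_left.1 h4
    have hn : ∀ j : Fin 2, n S.rho (e (Fin.castSucc j)) (S.large.pr ⟨m, hm1⟩) = 0 := by
      intro j
      set k := sg σ (tr (e (Fin.castSucc j))) with hk
      have hkt : k * t = t * k := sg_comm σ _
      have hks := hcs j
      -- `k u k⁻¹` is conjugate to `u` under `Q`
      have hkx : k * x * k⁻¹ ∈ Q := S.large.conj_mem k hkt x hx
      have hprk : ∀ (y : G) (hy : y ∈ Q) (hy2 : k * y * k⁻¹ ∈ Q),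
          S.large.pr ⟨k * y * k⁻¹, hy2⟩ = S.large.pr ⟨y, hy⟩ +
            n S.rho (e (Fin.castSucc j)) (S.large.pr ⟨y, hy⟩) := by
        intro y hy hy2
        rw [← rho_tr]
        exact pr_conj S σ (tr (e (Fin.castSucc j))) ⟨y, hy⟩ hy2 hσ
      have hmQ : k * x * k⁻¹ * x⁻¹ ∈ Q := mul_mem hkx (inv_mem hx)
      have hpr1 : S.large.pr ⟨k * x * k⁻¹ * x⁻¹, hmQ⟩ = n S.rho (e (Fin.castSucc j)) (S.large.pr ⟨x, hx⟩) := by
        have h2 : (⟨k * x * k⁻¹ * x⁻¹, hmQ⟩ : Q) = ⟨k * x * k⁻¹, hkx⟩ * (⟨x, hx⟩ : Q)⁻¹ := rfl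
        rw [h2, S.large.pr_mul, hprk x hx hkx, S.large.pr_inv, S.large.neg_eq, add_right_comm,
          S.large.add_self, zero_add]
      obtain ⟨w, hw, h3⟩ := him _ hmQ (by
        rw [hpr1]; exact n_mem hs hbr hbs hnd j hN)
      have h4 : k * (x * s) * k⁻¹ = w * (x * s) * w⁻¹ := by
        rw [h3]
        calc k * (x * s) * k⁻¹ = k * x * (s * k⁻¹) := by group
          _ = k * x * (k⁻¹ * k * s * k⁻¹) := by group
          _ = k * x * (k⁻¹ * (k * s) * k⁻¹) := by group
          _ = k * x * (k⁻¹ * (s * k) * k⁻¹) := by rw [hks]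
          _ = k * x * k⁻¹ * x⁻¹ * (x * s) := by group
      set h := w⁻¹ * k with hh
      have hwt : w⁻¹ * t = t * w⁻¹ := comm_t S (inv_mem hw)
      have hht : h * t = t * h := by rw [hh, mul_assoc, hkt, ← mul_assoc, hwt, mul_assoc]
      have hhu : h * (x * s) = x * s * h := by
        have h5 : k * (x * s) = w * (x * s) * w⁻¹ * k := by rw [← h4]; group
        rw [hh, mul_assoc, h5]; group
      have hmi := Pair.conj_mem_inf S.large hL' hht hhu hm
      have hmi2 : h * m * h⁻¹ * m⁻¹ ∈ Q ⊓ Q' := mul_mem hmi (inv_mem hm)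
      have hkm : k * m * k⁻¹ ∈ Q := S.large.conj_mem k hkt m hm1
      have hpr2 : S.large.pr ⟨h * m * h⁻¹ * m⁻¹, (mem_inf.1 hmi2).1⟩ =
          n S.rho (e (Fin.castSucc j)) (S.large.pr ⟨m, hm1⟩) := by
        have h5 : (⟨h * m * h⁻¹ * m⁻¹, (mem_inf.1 hmi2).1⟩ : Q) =
            (⟨w, hw⟩ : Q)⁻¹ * ⟨k * m * k⁻¹, hkm⟩ * ⟨w, hw⟩ * (⟨m, hm1⟩ : Q)⁻¹ := by
          apply Subtype.ext
          show h * m * h⁻¹ * m⁻¹ = w⁻¹ * (k * m * k⁻¹) * w * m⁻¹
          rw [hh]; group
        rw [h5, S.large.pr_mul, S.large.pr_mul, S.large.pr_mul, S.large.pr_inv, S.large.pr_inv,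
          S.large.neg_eq, S.large.neg_eq, hprk m hm1 hkm]
        generalize n S.rho (e (Fin.castSucc j)) (S.large.pr ⟨m, hm1⟩) = A
        generalize S.large.pr ⟨m, hm1⟩ = A'
        generalize S.large.pr ⟨w, hw⟩ = A''
        have h6 := S.large.add_self
        calc A'' + (A' + A) + A'' + A' = (A'' + A'') + (A' + A') + A := by abel
          _ = A := by rw [h6, h6, add_zero, zero_add]
      have h7 := hW _ hmi2 (by rw [hpr2]; exact n_mem hs hbr hbs hnd j hNm)
      rw [← hpr2, S.large.pr_eq_zero]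
      left; exact h7
    exact hW m hm (mem_of_both hs hbr hnd (hn 0) (hn 1))
  -- `D'`
  have hD : ∀ y : Pair.dsub Q' t, (y : G) * t = t * y := fun y => (Pair.mem_dsub.1 y.2).2
  have hDQ : ∀ y : Pair.dsub Q' t, (y : G) ∈ Q' := fun y => (Pair.mem_dsub.1 y.2).1
  have hK : ∀ y : Pair.dsub Q' t, S.psi ⟨y, mem_centralizer_singleton_iff.2 (hD y)⟩ ∈
      H8 S.rho S.large.b (S.large.pr ⟨x, hx⟩) := by
    intro y v hv1 hv2
    obtain ⟨d, rfl⟩ := S.large.pr_surjective v
    have h1 : s * d = d * s := hsQ d hv1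
    have h2 : x * d = d * x := (S.large.b_pr ⟨x, hx⟩ d).1 hv2
    have h3 : (d : G) * (x * s) = x * s * d := by
      rw [← mul_assoc, ← h2, mul_assoc, ← h1, ← mul_assoc]
    have h4 := Pair.commutator_mem S.large hL' (Pair.mem_dsub.2 ⟨d.2, h3⟩) y.2
    have h5 := hI _ h4
    rw [mul_inv_eq_one, mul_inv_eq_iff_eq_mul] at h5
    rw [S.rho_psi, S.large.act_pr]
    congr 1
    apply Subtype.ext
    show (y : G) * d * (y : G)⁻¹ = d
    rw [← h5, mul_inv_cancel_right]
  let φ : Pair.dsub Q' t → H8 S.rho S.large.b (S.large.pr ⟨x, hx⟩) := fun y => ⟨_, hK y⟩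
  have hφ : Function.Injective φ := by
    intro y y' h
    have h1 : S.psi ⟨y, mem_centralizer_singleton_iff.2 (hD y)⟩ =
        S.psi ⟨y', mem_centralizer_singleton_iff.2 (hD y')⟩ := congrArg Subtype.val h
    have h2 : S.psi (⟨y, mem_centralizer_singleton_iff.2 (hD y)⟩ *
        (⟨y', mem_centralizer_singleton_iff.2 (hD y')⟩ : centralizer ({t} : Set G))⁻¹) = 1 := by
      rw [map_mul, map_inv, h1, mul_inv_cancel]
    have h3 := (S.psi_ker _).1 h2
    have h4 : (y : G) * (y' : G)⁻¹ ∈ Q := h3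
    have h5 := hI _ (mem_inf.2 ⟨h4, mul_mem (hDQ y) (inv_mem (hDQ y'))⟩)
    exact Subtype.ext (mul_inv_eq_one.1 h5)
  have h1 := Nat.card_le_card_of_injective φ hφ
  have h2 := card_H8 hs S.card_V hbr hbs hnd S.large.q_add' S.q_rho hN hqx hni S.rho_injective
  have h3 : (H8 S.rho S.large.b (S.large.pr ⟨x, hx⟩)).ncard =
      Nat.card (H8 S.rho S.large.b (S.large.pr ⟨x, hx⟩)) := rfl
  omega

end Cfsg.Agent.Co2Type.Alpha3
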