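import Cfsg.Agent.Co2Type.Lifts
import Cfsg.Agent.Co2Type.Abs2

/-!
# Existence of the relations in `C_G(t)` (R03, helper902)

`exists_rels` : in the situation of S1675 with the spin hypothesis, `C_G(t)` has generators satisfying
`Rels eps`.
-/

set_option autoImplicit false

namespace Cfsg.Agent.Co2Type.ExistsRels

open Cfsg Cfsg.Agent.Co2Type.Quad Cfsg.Agent.Co2Type.Setup Cfsg.Agent.Co2Type.Spin
open Cfsg.Agent.Co2Type.QModel Cfsg.Agent.Co2Type.Act Cfsg.Agent.Co2Type.Coord
open Cfsg.Agent.Co2Type.Rels Cfsg.Agent.Co2Type.Lifts Cfsg.Agent.Co2Type.Abs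
open Cfsg.Agent.ClassicalGeometry.SympBasic

theorem dec_surj (x : QM) : ∃ m : ℕ, m < 512 ∧ dec m = x := by
  let f : Fin 9 → Bool := fun i =>
    if h : (i : ℕ) < 8 then decide (x.v ⟨i, h⟩ = 1) else decide (x.a = 1)
  refine ⟨Nat.ofBits f, Nat.ofBits_lt_two_pow f, ?_⟩
  have h2 : ∀ z : ZMod 2, (if decide (z = 1) = true then (1 : ZMod 2) else 0) = z := by decide
  apply QM.ext
  · funext i
    show (if (Nat.ofBits f).testBit i = true then (1 : ZMod 2) else 0) = x.v i
    rw [Nat.testBit_ofBits_lt f i (by have := i.2; omega)]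
    have : f ⟨i, by have := i.2; omega⟩ = decide (x.v i = 1) := by
      show (if h : (i : ℕ) < 8 then decide (x.v ⟨i, h⟩ = 1) else decide (x.a = 1)) = _
      rw [dif_pos i.2]
    rw [this]; exact h2 _
  · show (if (Nat.ofBits f).testBit 8 = true then (1 : ZMod 2) else 0) = x.a
    rw [Nat.testBit_ofBits_lt f 8 (by norm_num)]
    have : f ⟨8, by norm_num⟩ = decide (x.a = 1) := by
      show (if h : (8 : ℕ) < 8 then decide (x.v ⟨8, h⟩ = 1) else decide (x.a = 1)) = _
      rw [dif_neg (lt_irrefl 8)]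
    rw [this]; exact h2 _

variable {G : Type*} [Group G] {Q : Subgroup G} {t : G}

/-- the inclusion of `Q` in the centraliser of `t` -/
def inc (h : Large Q t) : Q →* Subgroup.centralizer ({t} : Set G) where
  toFun x := ⟨x, Subgroup.mem_centralizer_singleton_iff.2 (h.comm_z x x.2)⟩
  map_one' := rfl
  map_mul' _ _ := rfl

/-- `t` as an element of its centraliser -/
def tc (t : G) : Subgroup.centralizer ({t} : Set G) :=
  ⟨t, Subgroup.mem_centralizer_singleton_iff.2 rfl⟩

theorem dec_pow_v (I : Fin 8) : (dec (2 ^ (I : ℕ))).v = Pi.single I 1 := by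
  funext J
  show (if (2 ^ (I : ℕ)).testBit (J : ℕ) then (1 : ZMod 2) else 0) = _
  rw [Nat.testBit_two_pow, Pi.single_apply]
  by_cases h : (I : ℕ) = J
  · have : I = J := Fin.ext h
    simp [this]
  · have : ¬ J = I := fun h' => h (congrArg Fin.val h').symm
    simp [this, h]

theorem exists_pre [Finite Q] (S : Sit G Q t) (hs : SpinHyp S.rho) :
    ∃ ev : QM →* Subgroup.centralizer ({t} : Set G), Pre (tc t) ev S.psi ∧
      ∀ x : QM, (ev x : G) ∈ Q := by
  obtain ⟨K⟩ := exists_crd S hs
  obtain ⟨e, he, het⟩ := exists_equiv S K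
  let ev : QM →* Subgroup.centralizer ({t} : Set G) := (inc S.large).comp e.symm.toMonoidHom
  have hev : ∀ x : Q, ev (e x) = inc S.large x := by
    intro x
    show inc S.large (e.symm (e x)) = _
    rw [e.symm_apply_apply]
  have hev' : ∀ y : QM, (ev y : G) = (e.symm y : Q) := fun y => rfl
  have hinj : Function.Injective ev := by
    intro x y h
    have : ((ev x : Subgroup.centralizer ({t} : Set G)) : G) = ev y := congrArg Subtype.val h
    exact e.symm.injective (Subtype.ext this)
  have hz : ev (dec 256) = tc t := by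
    rw [← het, hev]; rfl
  refine ⟨ev, ⟨hinj, hz, ?_, S.psi_surj, ?_, ?_, ?_⟩, fun x => (e.symm x).2⟩
  · intro g
    exact Subtype.ext (Subgroup.mem_centralizer_singleton_iff.1 g.2)
  · intro g
    rw [S.psi_ker]
    constructor
    · intro h
      exact ⟨e ⟨g, h⟩, by rw [hev]; rfl⟩
    · rintro ⟨x, rfl⟩
      exact (e.symm x).2
  · intro g hg
    -- g commutes with Q
    have hloc : ∀ m : ℕ, g * ev (dec m) * g⁻¹ = ev (dec m) := by
      let f1 : QM →* Subgroup.centralizer ({t} : Set G) := (MulAut.conj g).toMonoidHom.comp ev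
      have h1 : ∀ m : ℕ, dec m ∈ MonoidHom.eqLocus f1 ev := by
        intro m
        have h2 : ∀ I : Fin 8, dec (2 ^ (I : ℕ)) ∈ MonoidHom.eqLocus f1 ev := fun I => hg I
        have h3 : dec 256 ∈ MonoidHom.eqLocus f1 ev := by
          show g * ev (dec 256) * g⁻¹ = ev (dec 256)
          rw [hz]
          apply Subtype.ext
          show (g : G) * t * (g : G)⁻¹ = t
          rw [Subgroup.mem_centralizer_singleton_iff.1 g.2, mul_inv_cancel_right]
        have h4 : ∀ (b : Bool) (x : QM), x ∈ MonoidHom.eqLocus f1 ev →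
            (if b = true then x else 1) ∈ MonoidHom.eqLocus f1 ev := by
          intro b x hx
          cases b
          · exact one_mem _
          · exact hx
        rw [dec_expand m]
        exact mul_mem (mul_mem (mul_mem (mul_mem (mul_mem (mul_mem (mul_mem (mul_mem
          (h4 _ _ (h2 0)) (h4 _ _ (h2 1))) (h4 _ _ (h2 2))) (h4 _ _ (h2 3))) (h4 _ _ (h2 4)))
          (h4 _ _ (h2 5))) (h4 _ _ (h2 6))) (h4 _ _ (h2 7))) (h4 _ _ h3)
      exact fun m => h1 m
    have hcomm : ∀ x ∈ Q, (g : G) * x = x * g := by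
      intro x hx
      obtain ⟨m, -, hm⟩ := dec_surj (e ⟨x, hx⟩)
      have h1 := hloc m
      rw [hm, hev] at h1
      have h2 : (g : G) * x * (g : G)⁻¹ = x := congrArg Subtype.val h1
      exact mul_inv_eq_iff_eq_mul.1 h2
    have hgQ : (g : G) ∈ Q :=
      S.large.self g (Subgroup.mem_centralizer_singleton_iff.1 g.2) hcomm
    rcases S.large.cent g hgQ hcomm with h | h
    · left; exact Subtype.ext h
    · right; exact Subtype.ext h
  · intro j hj c hc I
    set x := e.symm (dec (2 ^ (I : ℕ))) with hx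
    set y := e.symm (dec (img j I)) with hy
    have hx1 : S.large.pr x = K.c.symm (Pi.single I 1) := by
      rw [LinearEquiv.eq_symm_apply, ← he, hx, e.apply_symm_apply, dec_pow_v]
    have hy1 : K.c (S.large.pr y) = (dec (img j I)).v := by
      rw [← he, hy, e.apply_symm_apply]
    have h1 : S.large.pr (S.large.conjQ c x) = S.large.pr y := by
      rw [← S.large.act_pr, ← S.rho_psi, hc, hx1]
      apply K.c.injective
      rw [K.hact j hj I, hy1]
    rcases S.large.pr_eq_pr.1 h1 with h2 | h2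
    · left; exact Subtype.ext h2
    · right; exact Subtype.ext h2

/-- `C_G(t)` satisfies the relations -/
theorem exists_rels [Finite Q] (S : Sit G Q t) (hs : SpinHyp S.rho) :
    ∃ (eps : Bool) (ev : QM →* Subgroup.centralizer ({t} : Set G))
      (D : ℕ → Subgroup.centralizer ({t} : Set G)), Rels eps (tc t) ev D ∧
      (∀ j, j < 7 → S.psi (D j) = transv (uv j) 1) ∧
      (∀ x : QM, (ev x : G) ∈ Q) ∧ (∀ x ∈ Q, ∃ y : QM, (ev y : G) = x) ∧
      Pre (tc t) ev S.psi := by
  obtain ⟨ev, P, hQ⟩ := exists_pre S hs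
  obtain ⟨eps, D, hR, hD⟩ := P.exists_rels
  refine ⟨eps, ev, D, hR, hD, hQ, ?_, P⟩
  intro x hx
  have h1 : S.psi (inc S.large ⟨x, hx⟩) = 1 := (S.psi_ker _).2 hx
  rw [P.psi_ker] at h1
  obtain ⟨y, hy⟩ := h1
  exact ⟨y, by rw [hy]; rfl⟩

end Cfsg.Agent.Co2Type.ExistsRels
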