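import Cfsg.Agent.Co2Type.InvData
import Cfsg.Agent.Co2Type.ExistsRels
import Cfsg.Agent.SporRec.TwoSp6.Invol

/-!
# Involutions of `2^{1+8}_+ . Sp6(2)` outside `O_2` (R03, helper902)

`inv_cases` : representatives modulo `t`; `twist_conj` : in the twist every involution outside `Q` is
conjugate to its product with `t`.
-/

set_option autoImplicit false

namespace Cfsg.Agent.Co2Type.InvClass

open Cfsg Cfsg.Agent.Co2Type.Setup Cfsg.Agent.Co2Type.Spin
open Cfsg.Agent.Co2Type.QModel Cfsg.Agent.Co2Type.Act Cfsg.Agent.Co2Type.Coord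
open Cfsg.Agent.Co2Type.Rels Cfsg.Agent.Co2Type.InvData Cfsg.Agent.Co2Type.Abs
open Cfsg.Agent.Co2Type.Abs.Pre Cfsg.Agent.Co2Type.ExistsRels
open Cfsg.Agent.ClassicalGeometry.SympBasic
open Cfsg.Agent.SporRec.TwoSp6.Sp (tr act conj_tr act_add exists_act exists_pair)
open Cfsg.Agent.SporRec.TwoSp6.Invol (Ind Orth exists_triple classify)

theorem dec_inj {m n : ℕ} (hm : m < 512) (hn : n < 512) (h : dec m = dec n) : m = n := by
  apply Nat.eq_of_testBit_eq
  intro i
  have h2 : ∀ a b : Bool, (if a = true then (1 : ZMod 2) else 0) = (if b = true then 1 else 0) →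
      a = b := by decide
  rcases Nat.lt_trichotomy i 8 with h' | rfl | h'
  · exact h2 _ _ (congrFun (congrArg QM.v h) ⟨i, h'⟩)
  · exact h2 _ _ (congrArg QM.a h)
  · have e : (512 : ℕ) ≤ 2 ^ i := by
      calc (512 : ℕ) = 2 ^ 9 := by norm_num
        _ ≤ 2 ^ i := Nat.pow_le_pow_right (by norm_num) h'
    rw [Nat.testBit_lt_two_pow (lt_of_lt_of_le hm e), Nat.testBit_lt_two_pow (lt_of_lt_of_le hn e)]

variable {C : Type*} [Group C] {t : C} {ev : QM →* C} {psi : C →* Sp6} {D : ℕ → C} {eps : Bool}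

/-- the family from the relations -/
theorem fam (R : Rels eps t ev D) (P : Pre t ev psi) (hpsi : ∀ j, j < 7 → psi (D j) = transv (uv j) 1) :
    Fam P D := ⟨hpsi, R.conj⟩

theorem tw_cases (eps : Bool) (t : C) : tw eps t = 1 ∨ tw eps t = t := by
  cases eps
  · exact Or.inl rfl
  · exact Or.inr rfl

theorem wd_prod (D : ℕ → C) (w : List ℕ) : wd D w = (w.map D).prod := by
  induction w with
  | nil => rfl
  | cons j w ih => rw [wd, ih, List.map_cons, List.prod_cons]

/-- representative elements -/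
def rp (ev : QM →* C) (D : ℕ → C) (k m : ℕ) : C := ev (dec m) * wd D (rw' k)

theorem rw_lt (k : ℕ) : ∀ j ∈ rw' k, j < 7 := by
  rcases k with _ | _ | _ | k
  · decide
  · decide
  · decide
  · show ∀ j ∈ [0, 5, 6], j < 7
    decide

/-- the square of the word of the type -/
theorem word_sq (R : Rels eps t ev D) (P : Pre t ev psi) (k : ℕ) (hk : k < 4) :
    wd D (rw' k) * wd D (rw' k) = if k < 2 then tw eps t else 1 := by
  have hc := tw_cases eps t
  have hpair : ∀ k, k < 4 → (rw' k).Pairwise (fun i j => i ≠ j ∧ adj i j = false) := by decide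
  have hp : ((rw' k).map D).Pairwise (Anti (tw eps t)) := by
    rw [List.pairwise_map]
    refine List.Pairwise.imp_of_mem (R := fun i j => i ≠ j ∧ adj i j = false) ?_ (hpair k hk)
    intro a b ha hb hab
    exact R.comm a b (rw_lt k a ha) (rw_lt k b hb) hab.1 hab.2
  have h := P.prod_sq hc hc ((rw' k).map D) hp (by
    intro y hy
    rw [List.mem_map] at hy
    obtain ⟨j, hj, rfl⟩ := hy
    exact R.sq j (rw_lt k j hj))
  rw [wd_prod, h, List.length_map]
  have hs := P.sq_of hc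
  have h3 : tw eps t ^ 3 = tw eps t := by rw [pow_succ, pow_two, hs, one_mul]
  interval_cases k
  · show tw eps t ^ (1 : ℕ).choose 2 * tw eps t ^ 1 = _
    rw [if_pos (by norm_num), show (1 : ℕ).choose 2 = 0 from rfl, pow_zero, one_mul, pow_one]
  · show tw eps t ^ (2 : ℕ).choose 2 * tw eps t ^ 2 = _
    rw [if_pos (by norm_num), show (2 : ℕ).choose 2 = 1 from rfl, pow_one, pow_two, hs, mul_one]
  · show tw eps t ^ (3 : ℕ).choose 2 * tw eps t ^ 3 = _
    rw [if_neg (by norm_num), show (3 : ℕ).choose 2 = 3 from rfl, h3, hs]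
  · show tw eps t ^ (3 : ℕ).choose 2 * tw eps t ^ 3 = _
    rw [if_neg (by norm_num), show (3 : ℕ).choose 2 = 3 from rfl, h3, hs]

/-- squares of the elements over a type -/
theorem rp_sq (R : Rels eps t ev D) (P : Pre t ev psi)
    (hpsi : ∀ j, j < 7 → psi (D j) = transv (uv j) 1) (k m : ℕ) (hk : k < 4) :
    rp ev D k m * rp ev D k m = ev (dec (qmul m (autw (rw' k) m))) *
      if k < 2 then tw eps t else 1 := by
  have F := fam R P hpsi
  have h1 := conj_wd ev D F.conj (fun j _ => P.conj_z (D j)) (rw' k) (rw_lt k) m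
  rw [← word_sq R P k hk, dec_qmul, map_mul, ← h1, rp]
  group

theorem rp_cases (R : Rels eps t ev D) (P : Pre t ev psi)
    (hpsi : ∀ j, j < 7 → psi (D j) = transv (uv j) 1) (k m : ℕ) (hk : k < 4) (hm : m < 256)
    (h : rp ev D k m * rp ev D k m = 1) :
    (k < 2 → eps = false) ∧ qmul m (autw (rw' k) m) = 0 := by
  rw [rp_sq R P hpsi k m hk] at h
  have hlt := inv_lt k hk m hm
  by_cases h2 : k < 2
  · rw [if_pos h2] at h
    cases eps
    · refine ⟨fun _ => rfl, ?_⟩
      have h3 : ev (dec (qmul m (autw (rw' k) m))) = 1 := by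
        have : tw false t = 1 := rfl
        rwa [this, mul_one] at h
      exact dec_inj hlt (by norm_num) ((P.ev_inj (h3.trans (map_one ev).symm)).trans dec_zero.symm)
    · exfalso
      have h3 : ev (dec (qmul m (autw (rw' k) m))) = ev (dec 256) := by
        have : tw true t = t := rfl
        rw [this] at h
        rw [P.ev_z, eq_inv_of_mul_eq_one_left h, P.t_inv]
      exact inv_ne k h2 m hm (dec_inj hlt (by norm_num) (P.ev_inj h3))
  · refine ⟨fun h' => absurd h' h2, ?_⟩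
    rw [if_neg h2, mul_one] at h
    exact dec_inj hlt (by norm_num) ((P.ev_inj (h.trans (map_one ev).symm)).trans dec_zero.symm)

theorem eqv_dec_mul (P : Pre t ev psi) (m : ℕ) : Eqv t (ev (dec (qmul m 256))) (ev (dec m)) := by
  right
  rw [dec_qmul, map_mul, P.ev_z]

theorem eqv_inv_dec (P : Pre t ev psi) (m : ℕ) (hm : m < 512) : Eqv t (ev (dec m))⁻¹ (ev (dec m)) := by
  rcases sq_code m hm with h | h
  · left
    apply inv_eq_of_mul_eq_one_left
    rw [← map_mul, ← dec_qmul, h, dec_zero, map_one]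
  · right
    apply inv_eq_of_mul_eq_one_left
    rw [mul_assoc, ← P.cent, ← mul_assoc, ← map_mul, ← dec_qmul, h, P.ev_z, P.t_sq]

/-- conjugation of an element over a type -/
theorem conj_rp (R : Rels eps t ev D) (P : Pre t ev psi)
    (hpsi : ∀ j, j < 7 → psi (D j) = transv (uv j) 1) (k m y : ℕ) (w : List ℕ)
    (hw : ∀ j ∈ w, j < 7) (hy : y < 512) (hc : sameB (w ++ rw' k) (rw' k ++ w) = true) :
    Eqv t (ev (dec y) * wd D w * rp ev D k m * (ev (dec y) * wd D w)⁻¹) (rp ev D k (cj k m y w)) := by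
  have F := fam R P hpsi
  have h1 := conj_wd ev D F.conj (fun j _ => P.conj_z (D j)) w hw m
  have h2 := conj_wd ev D F.conj (fun j _ => P.conj_z (D j)) (rw' k) (rw_lt k) y
  have h3 : Eqv t (wd D w * wd D (rw' k) * (wd D w)⁻¹) (wd D (rw' k)) := by
    have h4 := F.same _ _ (by
      intro j hj
      rcases List.mem_append.1 hj with hj | hj
      · exact hw j hj
      · exact rw_lt k j hj) (by
      intro j hj
      rcases List.mem_append.1 hj with hj | hj
      · exact rw_lt k j hj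
      · exact hw j hj) hc
    rw [wd_append, wd_append] at h4
    have h5 := Eqv.mul' P h4 (eqv_refl (t := t) (wd D w)⁻¹)
    rwa [mul_inv_cancel_right] at h5
  have e1 : ev (dec y) * wd D w * rp ev D k m * (ev (dec y) * wd D w)⁻¹ =
      ev (dec y) * ev (dec (autw w m)) * (wd D w * wd D (rw' k) * (wd D w)⁻¹) * (ev (dec y))⁻¹ := by
    rw [← h1, rp]; group
  have e2 : rp ev D k (cj k m y w) =
      ev (dec y) * ev (dec (autw w m)) * (wd D (rw' k)) * ev (dec y) := by
    rw [rp, cj, dec_qmul, dec_qmul, map_mul, map_mul, ← h2]; group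
  rw [e1, e2]
  exact Eqv.mul' P (Eqv.mul' P (eqv_refl _) h3) (eqv_inv_dec P y hy)

theorem invT_y : ∀ k, k < 4 → ∀ p ∈ invT k, p.2.1 < 512 := by decide +kernel

theorem eqv_rp (P : Pre t ev psi) (k m : ℕ) : Eqv t (rp ev D k (qmul m 256)) (rp ev D k m) :=
  Eqv.mul' P (eqv_dec_mul P m) (eqv_refl _)

/-- reduction to representatives over a fixed involution -/
theorem reduce_rp (R : Rels eps t ev D) (P : Pre t ev psi)
    (hpsi : ∀ j, j < 7 → psi (D j) = transv (uv j) 1) (k m : ℕ) (hk : k < 4) (hm : m < 256)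
    (h : rp ev D k m * rp ev D k m = 1) :
    (k < 2 → eps = false) ∧ ∃ g : C, Eqv t (g * rp ev D k m * g⁻¹) (rp ev D k 0) ∨
      (k = 2 ∧ Eqv t (g * rp ev D k m * g⁻¹) (rp ev D k 1)) := by
  obtain ⟨h1, h2⟩ := rp_cases R P hpsi k m hk hm h
  refine ⟨h1, ?_⟩
  obtain ⟨p, hp, rfl⟩ := inv_cov k hk m hm h2
  have h3 := conj_rp R P hpsi k p.1 p.2.1 p.2.2 (invT_lt k hk p hp) (invT_y k hk p hp)
    (invT_comm k hk p hp)
  refine ⟨ev (dec p.2.1) * wd D p.2.2, ?_⟩
  have e256 : (256 : ℕ) = qmul 0 256 := by decide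
  have e257 : (257 : ℕ) = qmul 1 256 := by decide
  rcases invT_ok k hk p hp with h4 | h4 | ⟨h4, h5 | h5⟩
  · left
    rw [h4] at h3
    exact h3
  · left
    rw [h4, e256] at h3
    exact Eqv.trans' P h3 (eqv_rp P k 0)
  · right
    rw [h5] at h3
    exact ⟨h4, h3⟩
  · right
    rw [h5, e257] at h3
    exact ⟨h4, Eqv.trans' P h3 (eqv_rp P k 1)⟩

/-- every involution of `Sp6(2)` is conjugate to one of the four words -/
theorem classify_words {r : Sp6} (hr : r * r = 1) (h1 : r ≠ 1) (hpsi : ∀ j, j < 7 → psi (D j) = transv (uv j) 1) :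
    ∃ k, k < 4 ∧ ∃ g : Sp6, g * r * g⁻¹ = psi (wd D (rw' k)) := by
  have htr : ∀ j, j < 7 → psi (D j) = tr (uv j) := hpsi
  rcases classify hr h1 with ⟨u, hu, rfl⟩ | ⟨u, w, hu, hw, hne, ho, rfl⟩ | ⟨u, w, hu, hw, hne, ho, rfl⟩ |
    ⟨u, w, s, hi, ho, rfl⟩
  · obtain ⟨g, hg⟩ := exists_act hu (show uv 0 ≠ 0 by decide +kernel)
    refine ⟨0, by norm_num, g, ?_⟩
    rw [conj_tr, hg]
    show _ = psi (D 0 * 1)
    rw [mul_one, htr 0 (by norm_num)]
  · obtain ⟨g, hg, hg'⟩ := exists_pair hu hw hne ho (show uv 0 ≠ 0 by decide +kernel)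
      (show uv 3 ≠ 0 by decide +kernel) (show uv 3 ≠ uv 0 by decide +kernel) (by decide +kernel)
    refine ⟨1, by norm_num, g, ?_⟩
    have e : g * (tr u * tr w) * g⁻¹ = (g * tr u * g⁻¹) * (g * tr w * g⁻¹) := by group
    rw [e, conj_tr, conj_tr, hg, hg']
    show _ = psi (D 0 * (D 3 * 1))
    rw [mul_one, map_mul, htr 0 (by norm_num), htr 3 (by norm_num)]
  · obtain ⟨g, hg, hg'⟩ := exists_pair hu hw hne ho (show uv 3 ≠ 0 by decide +kernel)
      (show uv 5 ≠ 0 by decide +kernel) (show uv 5 ≠ uv 3 by decide +kernel) (by decide +kernel)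
    refine ⟨2, by norm_num, g, ?_⟩
    have e : g * (tr u * tr w * tr (u + w)) * g⁻¹ =
      (g * tr u * g⁻¹) * (g * tr w * g⁻¹) * (g * tr (u + w) * g⁻¹) := by group
    have e2 : uv 3 + uv 5 = uv 6 := by decide +kernel
    rw [e, conj_tr, conj_tr, conj_tr, act_add, hg, hg', e2]
    show _ = psi (D 3 * (D 5 * (D 6 * 1)))
    rw [mul_one, map_mul, map_mul, htr 3 (by norm_num), htr 5 (by norm_num), htr 6 (by norm_num),
      mul_assoc]
  · obtain ⟨g, hg, hg', hg''⟩ := exists_triple hi ho (show Ind (uv 0) (uv 5) (uv 6) by decide +kernel)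
      (show Orth (uv 0) (uv 5) (uv 6) from ⟨by decide +kernel, by decide +kernel, by decide +kernel⟩)
    refine ⟨3, by norm_num, g, ?_⟩
    have e : g * (tr u * tr w * tr s) * g⁻¹ =
      (g * tr u * g⁻¹) * (g * tr w * g⁻¹) * (g * tr s * g⁻¹) := by group
    rw [e, conj_tr, conj_tr, conj_tr, hg, hg', hg'']
    show _ = psi (D 0 * (D 5 * (D 6 * 1)))
    rw [mul_one, map_mul, map_mul, htr 0 (by norm_num), htr 5 (by norm_num), htr 6 (by norm_num),
      mul_assoc]

/-- representatives of the involutions outside `Q`, modulo `t` -/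
theorem inv_rp (R : Rels eps t ev D) (P : Pre t ev psi)
    (hpsi : ∀ j, j < 7 → psi (D j) = transv (uv j) 1) {x : C} (hx : x * x = 1)
    (hxQ : x ∉ ev.range) :
    ∃ k, k < 4 ∧ (k < 2 → eps = false) ∧ ∃ g : C, Eqv t (g * x * g⁻¹) (rp ev D k 0) ∨
      (k = 2 ∧ Eqv t (g * x * g⁻¹) (rp ev D k 1)) := by
  have h1 : psi x * psi x = 1 := by rw [← map_mul, hx, map_one]
  have h2 : psi x ≠ 1 := fun h => hxQ ((P.psi_ker x).1 h)
  obtain ⟨k, hk, g0, hg0⟩ := classify_words (D := D) (psi := psi) h1 h2 hpsi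
  obtain ⟨g, rfl⟩ := P.psi_surj g0
  -- g x g⁻¹ = ev q * word
  have h3 : psi (g * x * g⁻¹ * (wd D (rw' k))⁻¹) = 1 := by
    rw [map_mul, map_mul, map_mul, map_inv, map_inv, hg0, mul_inv_cancel]
  rw [P.psi_ker] at h3
  obtain ⟨q, hq⟩ := h3
  obtain ⟨m, hm, rfl⟩ := dec_surj q
  have h4 : g * x * g⁻¹ = rp ev D k m := by
    rw [rp, hq, inv_mul_cancel_right]
  obtain ⟨h5, h6⟩ := split_code m hm
  have h7 : Eqv t (g * x * g⁻¹) (rp ev D k (m &&& 255)) := by
    rw [h4]
    rcases h6 with h6 | h6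
    · rw [← h6]; exact eqv_refl _
    · conv_lhs => rw [h6]
      exact eqv_rp P k _
  have h8 : rp ev D k (m &&& 255) * rp ev D k (m &&& 255) = 1 := by
    rw [← Eqv.sq P h7]
    calc g * x * g⁻¹ * (g * x * g⁻¹) = g * (x * x) * g⁻¹ := by group
      _ = 1 := by rw [hx]; group
  obtain ⟨h9, y, h10⟩ := reduce_rp R P hpsi k _ hk h5 h8
  refine ⟨k, hk, h9, y * g, ?_⟩
  have e : y * g * x * (y * g)⁻¹ = y * (g * x * g⁻¹) * y⁻¹ := by group
  rw [e]
  have h11 : Eqv t (y * (g * x * g⁻¹) * y⁻¹) (y * rp ev D k (m &&& 255) * y⁻¹) :=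
    Eqv.mul' P (Eqv.mul' P (eqv_refl _) h7) (eqv_refl _)
  rcases h10 with h10 | ⟨h10, h12⟩
  · left; exact Eqv.trans' P h11 h10
  · right; exact ⟨h10, Eqv.trans' P h11 h12⟩

/-! ### explicit forms -/

theorem rp_zero (k : ℕ) : rp ev D k 0 = wd D (rw' k) := by
  rw [rp, dec_zero, map_one, one_mul]

/-- the line element -/
def lin (D : ℕ → C) : C := D 3 * D 5 * D 6

/-- the element of type `b3` -/
def bth (D : ℕ → C) : C := D 0 * D 5 * D 6

theorem wd_two (D : ℕ → C) : wd D (rw' 2) = lin D := by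
  show D 3 * (D 5 * (D 6 * 1)) = D 3 * D 5 * D 6
  rw [mul_one, mul_assoc]

theorem wd_three (D : ℕ → C) : wd D (rw' 3) = bth D := by
  show D 0 * (D 5 * (D 6 * 1)) = D 0 * D 5 * D 6
  rw [mul_one, mul_assoc]

/-- every involution outside `Q` is conjugate, modulo `t`, to one of five elements -/
theorem inv_cases (R : Rels eps t ev D) (P : Pre t ev psi)
    (hpsi : ∀ j, j < 7 → psi (D j) = transv (uv j) 1) {x : C} (hx : x * x = 1)
    (hxQ : x ∉ ev.range) :
    (eps = false ∧ ∃ g : C, Eqv t (g * x * g⁻¹) (D 0)) ∨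
    (eps = false ∧ ∃ g : C, Eqv t (g * x * g⁻¹) (D 0 * D 3)) ∨
    (∃ g : C, Eqv t (g * x * g⁻¹) (lin D)) ∨
    (∃ g : C, Eqv t (g * x * g⁻¹) (ev (dec 1) * lin D)) ∨
    (∃ g : C, Eqv t (g * x * g⁻¹) (bth D)) := by
  obtain ⟨k, hk, h1, g, h2⟩ := inv_rp R P hpsi hx hxQ
  rcases h2 with h2 | ⟨rfl, h2⟩
  · rw [rp_zero] at h2
    interval_cases k
    · left
      refine ⟨h1 (by norm_num), g, ?_⟩
      have e : wd D (rw' 0) = D 0 := mul_one _
      rwa [e] at h2
    · right; left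
      refine ⟨h1 (by norm_num), g, ?_⟩
      have e : wd D (rw' 1) = D 0 * D 3 := by
        show D 0 * (D 3 * 1) = _
        rw [mul_one]
      rwa [e] at h2
    · right; right; left
      rw [wd_two] at h2
      exact ⟨g, h2⟩
    · right; right; right; right
      rw [wd_three] at h2
      exact ⟨g, h2⟩
  · right; right; right; left
    rw [rp, wd_two] at h2
    exact ⟨g, h2⟩

/-- `alpha3 ~ alpha3 * t` -/
theorem alpha3_conj (R : Rels eps t ev D) (P : Pre t ev psi)
    (hpsi : ∀ j, j < 7 → psi (D j) = transv (uv j) 1) :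
    ev (dec 128) * (ev (dec 1) * lin D) * (ev (dec 128))⁻¹ = ev (dec 1) * lin D * t := by
  have F := fam R P hpsi
  have h1 := conj_wd ev D F.conj (fun j _ => P.conj_z (D j)) (rw' 2) (rw_lt 2) 128
  rw [wd_two] at h1
  have h2 : (ev (dec 128))⁻¹ = ev (dec 128) := by
    apply inv_eq_of_mul_eq_one_left
    rw [← map_mul, ← dec_qmul, a3_conj.2, dec_zero, map_one]
  calc ev (dec 128) * (ev (dec 1) * lin D) * (ev (dec 128))⁻¹
      = ev (dec 128) * ev (dec 1) * (lin D * ev (dec 128) * (lin D)⁻¹) * lin D := by rw [h2]; group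
    _ = ev (dec (qmul (qmul 128 1) (autw (rw' 2) 128))) * lin D := by
        rw [h1, dec_qmul, dec_qmul, map_mul, map_mul]
    _ = ev (dec 1) * (t * lin D) := by
        rw [a3_conj.1, dec_qmul, map_mul, P.ev_z, mul_assoc]
    _ = ev (dec 1) * lin D * t := by rw [← P.cent, mul_assoc]

/-- `delta ~ delta * t` -/
theorem delta_conj (R : Rels eps t ev D) (P : Pre t ev psi)
    (hpsi : ∀ j, j < 7 → psi (D j) = transv (uv j) 1) :
    ev (dec 75) * bth D * (ev (dec 75))⁻¹ = bth D * t := by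
  have F := fam R P hpsi
  have h1 := conj_wd ev D F.conj (fun j _ => P.conj_z (D j)) (rw' 3) (rw_lt 3)
    (qmul 75 (qmul 75 75))
  rw [wd_three] at h1
  have h2 : (ev (dec 75))⁻¹ = ev (dec (qmul 75 (qmul 75 75))) := by
    apply inv_eq_of_mul_eq_one_left
    rw [dec_qmul, dec_qmul, ← map_mul]
    have h4 : dec 75 * (dec 75 * dec 75) * dec 75 = 1 := by
      rw [← dec_qmul, ← dec_qmul, ← dec_qmul]
      have : qmul (qmul 75 (qmul 75 75)) 75 = 0 := by decide +kernel
      rw [this, dec_zero]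
    rw [h4, map_one]
  calc ev (dec 75) * bth D * (ev (dec 75))⁻¹
      = ev (dec 75) * (bth D * ev (dec (qmul 75 (qmul 75 75))) * (bth D)⁻¹) * bth D := by
        rw [h2]; group
    _ = ev (dec 75 * dec (autw (rw' 3) (qmul 75 (qmul 75 75)))) * bth D := by
        rw [h1, map_mul]
    _ = t * bth D := by rw [← dec_qmul, b3_conj, P.ev_z]
    _ = bth D * t := (P.cent _).symm

/-- in the twist the two line classes coincide -/
theorem lin_conj (R : Rels true t ev D) (P : Pre t ev psi) :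
    D 0 * lin D * (D 0)⁻¹ = lin D * t := by
  have h : ∀ j, j < 7 → 0 ≠ j → adj 0 j = false → D 0 * D j * (D 0)⁻¹ = D j * t := by
    intro j hj hne ha
    have h1 : D 0 * D j = t * (D j * D 0) := R.comm 0 j (by norm_num) hj hne ha
    rw [h1, P.cent (D j)]; group
  have e : D 0 * lin D * (D 0)⁻¹ = (D 0 * D 3 * (D 0)⁻¹) * (D 0 * D 5 * (D 0)⁻¹) *
      (D 0 * D 6 * (D 0)⁻¹) := by rw [lin]; group
  rw [e, h 3 (by norm_num) (by norm_num) (by decide), h 5 (by norm_num) (by norm_num) (by decide),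
    h 6 (by norm_num) (by norm_num) (by decide)]
  calc D 3 * t * (D 5 * t) * (D 6 * t) = D 3 * (t * D 5) * (t * D 6) * t := by group
    _ = D 3 * (D 5 * t) * (D 6 * t) * t := by rw [← P.cent, ← P.cent]
    _ = D 3 * D 5 * (t * D 6) * (t * t) := by group
    _ = D 3 * D 5 * D 6 * t := by rw [← P.cent, P.t_sq]; group

/-- transfer of `r ~ r t` -/
theorem conj_t_of (P : Pre t ev psi) {x r h g : C} (hr : h * r * h⁻¹ = r * t)
    (hx : Eqv t (g * x * g⁻¹) r) : ∃ k : C, k * x * k⁻¹ = x * t := by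
  have h1 : h * (g * x * g⁻¹) * h⁻¹ = g * x * g⁻¹ * t := by
    rcases hx with hx | hx
    · rw [hx, hr]
    · rw [hx]
      calc h * (r * t) * h⁻¹ = h * r * (t * h⁻¹) := by group
        _ = (h * r * h⁻¹) * t := by rw [← P.cent]; group
        _ = r * t * t := by rw [hr]
  refine ⟨g⁻¹ * h * g, ?_⟩
  calc g⁻¹ * h * g * x * (g⁻¹ * h * g)⁻¹ = g⁻¹ * (h * (g * x * g⁻¹) * h⁻¹) * g := by group
    _ = x * (g⁻¹ * (t * g)) := by rw [h1]; group
    _ = x * t := by rw [← P.cent]; group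

/-- in the twist every involution `x` outside `Q` is conjugate to `x t` -/
theorem twist_conj (R : Rels true t ev D) (P : Pre t ev psi)
    (hpsi : ∀ j, j < 7 → psi (D j) = transv (uv j) 1) {x : C} (hx : x * x = 1)
    (hxQ : x ∉ ev.range) : ∃ k : C, k * x * k⁻¹ = x * t := by
  rcases inv_cases R P hpsi hx hxQ with h | h | ⟨g, h⟩ | ⟨g, h⟩ | ⟨g, h⟩
  · exact absurd h.1 (by decide)
  · exact absurd h.1 (by decide)
  · exact conj_t_of P (lin_conj R P) h
  · exact conj_t_of P (alpha3_conj R P hpsi) h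
  · exact conj_t_of P (delta_conj R P hpsi) h

end Cfsg.Agent.Co2Type.InvClass
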