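import Cfsg.Agent.Co2Type.Unique
import Cfsg.Agent.Co2Type.ExistsRels

/-!
# The complement `Sp6(2)` in the split extension `2^{1+8}_+ : Sp6(2)` (R03, helper902)
-/

set_option autoImplicit false

namespace Cfsg.Agent.Co2Type.Section

open Cfsg Cfsg.Agent.Co2Type.Quad Cfsg.Agent.Co2Type.Setup Cfsg.Agent.Co2Type.Spin
open Cfsg.Agent.Co2Type.QModel Cfsg.Agent.Co2Type.Act Cfsg.Agent.Co2Type.Coord
open Cfsg.Agent.Co2Type.Rels Cfsg.Agent.Co2Type.Unique Cfsg.Agent.SporRec.TwoSp6.Cox
open Cfsg.Agent.ClassicalGeometry.SympBasic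

variable {C : Type*} [Group C] {t : C} {ev : QM →* C} {D : ℕ → C}

/-- in the split case the letters generate a complement -/
theorem exists_section (R : Rels false t ev D) (psi : C →* Sp6)
    (hpsi : ∀ j, j < 7 → psi (D j) = transv (uv j) 1) :
    ∃ sigma : Sp6 →* C, (∀ x, psi (sigma x) = x) ∧
      (∀ j, j < 7 → sigma (transv (uv j) 1) = D j) ∧
      sigma.range = Subgroup.closure {g | ∃ j, j < 7 ∧ g = D j} := by
  classical
  set L : Subgroup C := Subgroup.closure {g | ∃ j, j < 7 ∧ g = D j} with hL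
  have hmem : ∀ j, j < 7 → D j ∈ L := fun j hj => Subgroup.subset_closure ⟨j, hj, rfl⟩
  let d : ℕ → L := fun j => if hj : j < 7 then ⟨D j, hmem j hj⟩ else 1
  have hd : ∀ j, j < 7 → ((d j : L) : C) = D j := by
    intro j hj
    show (((if hj : j < 7 then ⟨D j, hmem j hj⟩ else 1) : L) : C) = D j
    rw [dif_pos hj]
  have htw : tw false t = 1 := rfl
  have hsq : ∀ j, j < 7 → d j * d j = 1 := by
    intro j hj
    apply Subtype.ext
    rw [Subgroup.coe_mul, hd j hj, R.sq j hj, htw]; rfl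
  have hcm : ∀ i j, i < 7 → j < 7 → i ≠ j → adj i j = false → d i * d j = d j * d i := by
    intro i j hi hj hij ha
    apply Subtype.ext
    rw [Subgroup.coe_mul, Subgroup.coe_mul, hd j hj, hd i hi, R.comm i j hi hj hij ha, htw, one_mul]
  have hbr : ∀ i j, i < 7 → j < 7 → adj i j = true → d i * d j * d i = d j * d i * d j := by
    intro i j hi hj ha
    apply Subtype.ext
    rw [Subgroup.coe_mul, Subgroup.coe_mul, Subgroup.coe_mul, Subgroup.coe_mul, hd j hj, hd i hi,
      R.braid i j hi hj ha]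
  have hwd : ∀ w : List ℕ, (∀ j ∈ w, j < 7) → ((wd d w : L) : C) = wd D w := by
    intro w
    induction w with
    | nil => intro _; rfl
    | cons j w ih =>
      intro hw
      rw [wd, Subgroup.coe_mul, hd j (hw j List.mem_cons_self),
        ih fun k hk => hw k (List.mem_cons_of_mem _ hk)]
      rfl
  have hw0 : wd d w0 = 1 := by
    apply Subtype.ext
    rw [hwd _ (by decide), R.w0_eq]; rfl
  have hgen : Subgroup.closure (Set.range fun i => d (sg i)) = ⊤ := by
    rw [eq_top_iff]
    rintro ⟨x, hx⟩ -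
    have key : ∀ y (hy : y ∈ Subgroup.closure {g | ∃ j, j < 7 ∧ g = D j}),
        (⟨y, hL ▸ hy⟩ : L) ∈ Subgroup.closure (Set.range fun i => d (sg i)) := by
      intro y hy
      induction hy using Subgroup.closure_induction with
      | one => exact one_mem _
      | mem y hy =>
        obtain ⟨j, hj, rfl⟩ := hy
        obtain ⟨i, rfl⟩ := sg_surj j hj
        exact Subgroup.subset_closure ⟨i, Subtype.ext (hd _ hj)⟩
      | mul x y hx hy ihx ihy => exact mul_mem ihx ihy
      | inv x hx ihx => exact inv_mem ihx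
    exact key x (hL ▸ hx)
  have h9 : (prod7 (fun i => d (sg i))) ^ 9 = 1 := by
    have e : w0 = [0,1,2,3,4,5,6] ++ ([0,1,2,3,4,5,6] ++ ([0,1,2,3,4,5,6] ++ ([0,1,2,3,4,5,6] ++
      ([0,1,2,3,4,5,6] ++ ([0,1,2,3,4,5,6] ++ ([0,1,2,3,4,5,6] ++ ([0,1,2,3,4,5,6] ++
      [0,1,2,3,4,5,6]))))))) := rfl
    rw [e] at hw0
    simp only [wd_append] at hw0
    have e2 : wd d [0,1,2,3,4,5,6] = d 0 * d 1 * d 2 * d 3 * d 4 * d 5 * d 6 := by
      simp only [wd, mul_one, mul_assoc]
    have e3 : prod7 (fun i => d (sg i)) = d 6 * wd d [0,1,2,3,4,5,6] * (d 6)⁻¹ := by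
      rw [e2]
      show d 0 * d 6 * d 1 * d 2 * d 3 * d 4 * d 5 = _
      rw [hcm 0 6 (by norm_num) (by norm_num) (by norm_num) (by decide)]
      group
    rw [e3]
    generalize wd d [0,1,2,3,4,5,6] = P at hw0
    rw [conj_pow]
    have e5 : P ^ 9 = 1 := by
      rw [← hw0]
      simp only [pow_succ, pow_zero, one_mul, mul_assoc]
    rw [e5]; group
  obtain ⟨fin, hcard⟩ := Cfsg.Agent.SporRec.TwoSp6.Cox.card_le (fun i => d (sg i))
    (liftable_of _ (fun i => hsq _ (sg_lt i))
      (fun i j hij => hcm _ _ (sg_lt i) (sg_lt j) (sg_two i j hij).1 (sg_two i j hij).2)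
      (fun i j hij => hbr _ _ (sg_lt i) (sg_lt j) (sg_three i j hij))) h9 hgen
  let p : L →* Sp6 := psi.comp L.subtype
  have hp : ∀ j, j < 7 → p (d j) = transv (uv j) 1 := by
    intro j hj
    show psi ((d j : L) : C) = _
    rw [hd j hj, hpsi j hj]
  have hsurj : Function.Surjective p := by
    rw [← MonoidHom.range_eq_top]
    apply Abs.Pre.closure_seven
    intro j hj
    exact ⟨d j, hp j hj⟩
  have hinj : Function.Bijective p := by
    rw [Nat.bijective_iff_surjective_and_card]
    refine ⟨hsurj, ?_⟩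
    rw [card_sp6]
    refine le_antisymm hcard ?_
    rw [← card_sp6]
    exact Nat.card_le_card_of_surjective p hsurj
  let e : L ≃* Sp6 := MulEquiv.ofBijective p hinj
  refine ⟨L.subtype.comp e.symm.toMonoidHom, ?_, ?_, ?_⟩
  · intro x
    exact e.apply_symm_apply x
  · intro j hj
    have : e.symm (transv (uv j) 1) = d j := by
      rw [MulEquiv.symm_apply_eq]
      exact (hp j hj).symm
    show ((e.symm (transv (uv j) 1) : L) : C) = D j
    rw [this, hd j hj]
  · ext x
    constructor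
    · rintro ⟨y, rfl⟩
      exact (e.symm y).2
    · intro hx
      exact ⟨e ⟨x, hx⟩, by
        show ((e.symm (e ⟨x, hx⟩) : L) : C) = x
        rw [e.symm_apply_apply]⟩

end Cfsg.Agent.Co2Type.Section
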