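import Cfsg.Agent.Co2Type.Act

/-!
# The relations of `2^{1+8}_+ . Sp6(2)` (R03, helper902)

Letters `0..6 = a..g`; `E₇` diagram `0-1-2-3-4-5`, `6` attached to `2`.
`eps = false`: split extension (the centraliser of a 2A involution of `Co₂`); `eps = true`: the twist.
-/

set_option autoImplicit false

namespace Cfsg.Agent.Co2Type.Rels

open Cfsg.Agent.Co2Type.QModel Cfsg.Agent.Co2Type.Act

/-- adjacency in the diagram -/
def adj (i j : ℕ) : Bool :=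
  (Nat.beq i 0 && Nat.beq j 1) || (Nat.beq i 1 && Nat.beq j 0) ||
  (Nat.beq i 1 && Nat.beq j 2) || (Nat.beq i 2 && Nat.beq j 1) ||
  (Nat.beq i 2 && Nat.beq j 3) || (Nat.beq i 3 && Nat.beq j 2) ||
  (Nat.beq i 3 && Nat.beq j 4) || (Nat.beq i 4 && Nat.beq j 3) ||
  (Nat.beq i 4 && Nat.beq j 5) || (Nat.beq i 5 && Nat.beq j 4) ||
  (Nat.beq i 2 && Nat.beq j 6) || (Nat.beq i 6 && Nat.beq j 2)

/-- the word `(abcdefg)^9` -/
def w0 : List ℕ :=
  [0,1,2,3,4,5,6, 0,1,2,3,4,5,6, 0,1,2,3,4,5,6, 0,1,2,3,4,5,6, 0,1,2,3,4,5,6, 0,1,2,3,4,5,6,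
   0,1,2,3,4,5,6, 0,1,2,3,4,5,6, 0,1,2,3,4,5,6]

/-- `t` or `1` -/
def tw {C : Type*} [Group C] (eps : Bool) (t : C) : C := if eps = true then t else 1

/-- the relations of `2^{1+8}_+ . Sp6(2)` -/
structure Rels (eps : Bool) {C : Type*} [Group C] (t : C) (ev : QM →* C) (D : ℕ → C) : Prop where
  ev_inj : Function.Injective ev
  ev_z : ev (dec 256) = t
  cent : ∀ g : C, g * t = t * g
  conj : ∀ j, j < 7 → ∀ I : Fin 8, D j * ev (dec (2 ^ (I : ℕ))) * (D j)⁻¹ = ev (dec (img j I))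
  sq : ∀ j, j < 7 → D j * D j = tw eps t
  braid : ∀ i j, i < 7 → j < 7 → adj i j = true → D i * D j * D i = D j * D i * D j
  comm : ∀ i j, i < 7 → j < 7 → i ≠ j → adj i j = false → D i * D j = tw eps t * (D j * D i)
  w0_eq : wd D w0 = 1
  gen : Subgroup.closure (Set.range ev ∪ {g | ∃ j, j < 7 ∧ g = D j}) = ⊤

end Cfsg.Agent.Co2Type.Rels
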