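import Cfsg.Agent.Co2Type.Spin
import Cfsg.Agent.Co2Type.Rels
import Cfsg.Agent.LieRecognition.CentralExtIso

/-!
# Coordinates on `Q` in the spin case (R03, helper902)
-/

set_option autoImplicit false

namespace Cfsg.Agent.Co2Type.Coord

open Cfsg Cfsg.Agent.Co2Type.Quad Cfsg.Agent.Co2Type.Setup Cfsg.Agent.Co2Type.Spin
open Cfsg.Agent.Co2Type.QModel Cfsg.Agent.Co2Type.Act
open Cfsg.Agent.ClassicalGeometry.SympBasic

/-- the seven vectors -/
def uv (j : ℕ) : U :=
  match j with
  | 0 => Spin.e 0
  | 1 => Spin.f 0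
  | 2 => Spin.e 0 + Spin.e 1
  | 3 => Spin.f 1 + Spin.e 2
  | 4 => Spin.f 2
  | 5 => Spin.e 2
  | 6 => Spin.f 1
  | _ => 0

def nE (i : Fin 3) (I : Fin 8) : Fin 8 → ZMod 2 :=
  if (I : ℕ).testBit i = true then 0 else Pi.single (I + 2 ^ (i : ℕ)) 1

def nF (i : Fin 3) (I : Fin 8) : Fin 8 → ZMod 2 :=
  if (I : ℕ).testBit i = true then Pi.single (I - 2 ^ (i : ℕ)) 1 else 0

theorem t0 : ∀ I : Fin 8, Pi.single I 1 + nE 0 I = (dec (img 0 I)).v := by decide +kernel
theorem t1 : ∀ I : Fin 8, Pi.single I 1 + nF 0 I = (dec (img 1 I)).v := by decide +kernel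
theorem t2 : ∀ I : Fin 8, Pi.single I 1 + (nE 0 I + nE 1 I) = (dec (img 2 I)).v := by decide +kernel
theorem t3 : ∀ I : Fin 8, Pi.single I 1 + (nF 1 I + nE 2 I) = (dec (img 3 I)).v := by decide +kernel
theorem t4 : ∀ I : Fin 8, Pi.single I 1 + nF 2 I = (dec (img 4 I)).v := by decide +kernel
theorem t5 : ∀ I : Fin 8, Pi.single I 1 + nE 2 I = (dec (img 5 I)).v := by decide +kernel
theorem t6 : ∀ I : Fin 8, Pi.single I 1 + nF 1 I = (dec (img 6 I)).v := by decide +kernel

/-- coordinates on `V` -/
structure Crd {G : Type*} [Group G] {Q : Subgroup G} {t : G} (S : Sit G Q t) where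
  c : S.large.V ≃ₗ[ZMod 2] (Fin 8 → ZMod 2)
  hq : ∀ v, S.large.q v = beta (c v) (c v)
  hact : ∀ j, j < 7 → ∀ I : Fin 8,
    c (S.rho (transv (uv j) 1) (c.symm (Pi.single I 1))) = (dec (img j I)).v

theorem exists_crd {G : Type*} [Group G] {Q : Subgroup G} {t : G} (S : Sit G Q t)
    (hs : SpinHyp S.rho) : Nonempty (Crd S) := by
  obtain ⟨B, hE, hF, hq, hb⟩ := exists_basis_sit S hs
  have hcard := S.card_V
  have hsing : ∀ I : Fin 8, B.equivFun (B I) = Pi.single I 1 := by
    intro I
    funext J
    rw [B.equivFun_self]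
    simp [Pi.single_apply, eq_comm]
  refine ⟨⟨B.equivFun, ?_, ?_⟩⟩
  · -- quadratic form
    have hbil : ∀ v w, S.large.b v w = beta (B.equivFun v) (B.equivFun w) +
        beta (B.equivFun w) (B.equivFun v) := by
      intro v w
      have h1 : S.large.b v w = ∑ J, ∑ I, B.equivFun w J * (B.equivFun v I *
          (if I + J = 7 then (1 : ZMod 2) else 0)) := by
        conv_lhs => rw [← B.sum_equivFun v, ← B.sum_equivFun w]
        rw [map_sum]
        refine Finset.sum_congr rfl fun J _ => ?_
        rw [map_smul, map_sum, LinearMap.sum_apply, smul_eq_mul, Finset.mul_sum]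
        refine Finset.sum_congr rfl fun I _ => ?_
        rw [map_smul, LinearMap.smul_apply, hb, smul_eq_mul]
      rw [h1]
      simp only [Fin.sum_univ_eight, beta]
      simp +decide only [↓reduceIte, mul_one, mul_zero, add_zero, zero_add]
      ring
    have hadd : ∀ v w, S.large.q (v + w) + beta (B.equivFun (v + w)) (B.equivFun (v + w)) =
        (S.large.q v + beta (B.equivFun v) (B.equivFun v)) +
        (S.large.q w + beta (B.equivFun w) (B.equivFun w)) := by
      intro v w
      rw [S.large.q_add', hbil, map_add]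
      have hx : ∀ x y : Fin 8 → ZMod 2, beta (x + y) (x + y) =
          beta x x + beta y y + (beta x y + beta y x) := by
        intro x y; simp only [beta, Pi.add_apply]; ring
      rw [hx]
      have h2 : ∀ a b c d e : ZMod 2, a + b + c + (d + e + c) = (a + d) + (b + e) := by decide
      exact h2 _ _ _ _ _
    let F : S.large.V →ₗ[ZMod 2] ZMod 2 := AddMonoidHom.toZModLinearMap 2
      { toFun := fun v => S.large.q v + beta (B.equivFun v) (B.equivFun v)
        map_zero' := by
          have := hadd 0 0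
          simpa using this
        map_add' := hadd }
    have hF0 : F = 0 := by
      apply B.ext
      intro I
      show S.large.q (B I) + beta (B.equivFun (B I)) (B.equivFun (B I)) = 0
      have hdec : ∀ I : Fin 8, (0 : ZMod 2) + beta (Pi.single I 1) (Pi.single I 1) = 0 := by
        decide +kernel
      rw [hq, hsing]
      exact hdec I
    intro v
    have h1 : S.large.q v + beta (B.equivFun v) (B.equivFun v) = 0 := by
      have := LinearMap.congr_fun hF0 v
      exact this
    have h2 : ∀ a b : ZMod 2, a + b = 0 → a = b := by decide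
    exact h2 _ _ h1
  · have hsymm : ∀ I : Fin 8, B.equivFun.symm (Pi.single I 1) = B I := by
      intro I
      rw [LinearEquiv.symm_apply_eq, hsing]
    have hcE : ∀ (i : Fin 3) (I : Fin 8), B.equivFun (n S.rho (Spin.e i) (B I)) = nE i I := by
      intro i I
      rw [hE, nE]
      split_ifs
      · exact map_zero _
      · exact hsing _
    have hcF : ∀ (i : Fin 3) (I : Fin 8), B.equivFun (n S.rho (Spin.f i) (B I)) = nF i I := by
      intro i I
      rw [hF, nF]
      split_ifs
      · exact hsing _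
      · exact map_zero _
    have hrho : ∀ (u : U) (v : S.large.V), S.rho (transv u 1) v = v + n S.rho u v := by
      intro u v
      rw [n_apply, ← add_assoc, S.large.add_self, zero_add]
    have hn2 : n S.rho (Spin.e 0 + Spin.e 1) = n S.rho (Spin.e 0) + n S.rho (Spin.e 1) := by
      rw [n_add hs hcard, sf_e_e, zero_smul, add_zero]
    have hn3 : n S.rho (Spin.f 1 + Spin.e 2) = n S.rho (Spin.f 1) + n S.rho (Spin.e 2) := by
      rw [n_add hs hcard, sf_f_e]
      simp
    intro j hj I
    rw [hsymm, hrho, map_add, hsing]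
    interval_cases j
    · rw [uv, hcE]; exact t0 I
    · rw [uv, hcF]; exact t1 I
    · rw [uv, hn2, LinearMap.add_apply, map_add, hcE, hcE]; exact t2 I
    · rw [uv, hn3, LinearMap.add_apply, map_add, hcE, hcF]; exact t3 I
    · rw [uv, hcF]; exact t4 I
    · rw [uv, hcE]; exact t5 I
    · rw [uv, hcF]; exact t6 I

end Cfsg.Agent.Co2Type.Coord
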