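import Cfsg.Agent.Co2Type.LineMod
import Cfsg.Agent.Co2Type.Coord

/-!
# The swap element of `Co₂` (R03, helper143)

From the fusion of `t` in `C = C_G(t)` (three classes `{t}`, the class of `D 0`, the class of
`t D 3 D 5 D 6`) we get an element of `G` exchanging `t` and `D 0`: an element of order 5 commutes
with `t` and `D 0`, but no element of order 5 of `C` commutes with `t D 3 D 5 D 6`.
-/

set_option autoImplicit false

namespace Cfsg.Agent.Co2Type.Swap

open Cfsg Cfsg.Agent.Co2Type.Setup Cfsg.Agent.Co2Type.Spin Cfsg.Agent.Co2Type.LineMod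
open Cfsg.Agent.Co2Type.Coord
open Cfsg.Agent.SporRec.TwoSp6.Sp (tr act act_om act_add act_mul act_one act_ext conj_tr tr_comm tr_sq act_tr)

/-- the abstract argument -/
theorem exists_swap {G : Type*} [Group G] {t a al f : G} (hc : IsConj t a) (hat : a * t = t * a)
    (hne : a ≠ t)
    (hfus : ∀ x, x * t = t * x → IsConj t x → x = t ∨ (∃ c, c * t = t * c ∧ c * x * c⁻¹ = a) ∨
      ∃ c, c * t = t * c ∧ c * x * c⁻¹ = al)
    (hf1 : f ≠ 1) (hf5 : f ^ 5 = 1) (hft : f * t = t * f) (hfa : f * a = a * f)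
    (hal : ∀ y, y * t = t * y → y * al = al * y → y ^ 5 = 1 → y = 1) :
    ∃ x : G, x * t * x⁻¹ = a ∧ x * a * x⁻¹ = t := by
  obtain ⟨g, hg⟩ := isConj_iff.1 hc.symm
  have hga : g * a * g⁻¹ = t := hg
  -- `a' = g t g⁻¹` commutes with `t`
  have hcomm : (g * t * g⁻¹) * t = t * (g * t * g⁻¹) := by
    have : (g * t * g⁻¹) * (g * a * g⁻¹) = (g * a * g⁻¹) * (g * t * g⁻¹) := by
      calc (g * t * g⁻¹) * (g * a * g⁻¹) = g * (t * a) * g⁻¹ := by group
        _ = g * (a * t) * g⁻¹ := by rw [hat]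
        _ = _ := by group
    rwa [hga] at this
  have hconj : IsConj t (g * t * g⁻¹) := isConj_iff.2 ⟨g, rfl⟩
  rcases hfus _ hcomm hconj with h | ⟨c, hc1, hc2⟩ | ⟨c, hc1, hc2⟩
  · exfalso
    apply hne
    have : g * t * g⁻¹ = g * a * g⁻¹ := h.trans hga.symm
    have h2 : t = a := by simpa using this
    exact h2.symm
  · refine ⟨c * g, ?_, ?_⟩
    · calc c * g * t * (c * g)⁻¹ = c * (g * t * g⁻¹) * c⁻¹ := by group
        _ = a := hc2
    · calc c * g * a * (c * g)⁻¹ = c * (g * a * g⁻¹) * c⁻¹ := by group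
        _ = c * t * c⁻¹ := by rw [hga]
        _ = t := by rw [hc1, mul_inv_cancel_right]
  · exfalso
    set y := c * g * f * (c * g)⁻¹ with hy
    have h5 : y ^ 5 = 1 := by rw [hy, conj_pow, hf5]; group
    have e1 : c * g * a * (c * g)⁻¹ = t := by
      calc c * g * a * (c * g)⁻¹ = c * (g * a * g⁻¹) * c⁻¹ := by group
        _ = c * t * c⁻¹ := by rw [hga]
        _ = t := by rw [hc1, mul_inv_cancel_right]
    have e2 : c * g * t * (c * g)⁻¹ = al := by
      calc c * g * t * (c * g)⁻¹ = c * (g * t * g⁻¹) * c⁻¹ := by group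
        _ = al := hc2
    have hyt : y * t = t * y := by
      rw [← e1, hy]
      calc c * g * f * (c * g)⁻¹ * (c * g * a * (c * g)⁻¹) = c * g * (f * a) * (c * g)⁻¹ := by group
        _ = c * g * (a * f) * (c * g)⁻¹ := by rw [hfa]
        _ = _ := by group
    have hyal : y * al = al * y := by
      rw [← e2, hy]
      calc c * g * f * (c * g)⁻¹ * (c * g * t * (c * g)⁻¹) = c * g * (f * t) * (c * g)⁻¹ := by group
        _ = c * g * (t * f) * (c * g)⁻¹ := by rw [hft]
        _ = _ := by group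
    have hy1 := hal y hyt hyal h5
    apply hf1
    have : c * g * f * (c * g)⁻¹ = 1 := by rw [← hy]; exact hy1
    have h3 : f = (c * g)⁻¹ * (c * g * f * (c * g)⁻¹) * (c * g) := by group
    rw [h3, this]; group

/-! ### elements of order 5 of `Sp6(2)` -/

theorem act_line {a b : U} (h : sf a b = 0) (x : U) :
    act (line a b) x = x + sf x a • b + sf x b • a := by
  unfold line
  rw [act_mul, act_mul, act_tr, act_tr, act_tr]
  have e1 : SporRec.TwoSp6.Sp.om = sf := rfl
  have h' : sf b a = 0 := by rw [sf_comm b a, h]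
  rw [e1]
  have z2 : ∀ u : U, u + u = 0 := SporRec.TwoSp6.Sp.add_self
  have one2 : (1 : ZMod 2) + 1 = 0 := by decide
  rw [sf_add x a b]
  rcases zmod2_cases (sf x a) with h1 | h1 <;> rcases zmod2_cases (sf x b) with h2 | h2 <;>
    simp only [h1, h2, zero_add, one_smul, zero_smul, add_zero, sf_add', sf_self, h, h', one2]
  · calc x + (a + b) + b = x + a + (b + b) := by abel
      _ = x + a := by rw [z2, add_zero]
  · calc x + (a + b) + a = x + b + (a + a) := by abel
      _ = x + b := by rw [z2, add_zero]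

theorem fix_of_small {A : Type*} [DecidableEq A] (f : A → A) (S : Finset A) (hS : S.card < 5)
    (hf : ∀ x ∈ S, f x ∈ S) {x : A} (hx : x ∈ S) (h5 : f^[5] x = x) : f x = x := by
  have hd : Function.minimalPeriod f x ∣ 5 := Function.IsPeriodicPt.minimalPeriod_dvd h5
  rcases (Nat.dvd_prime (by norm_num : Nat.Prime 5)).1 hd with h | h
  · exact Function.minimalPeriod_eq_one_iff_isFixedPt.1 h
  · exfalso
    have hinj := Function.iterate_injOn_Iio_minimalPeriod (f := f) (x := x)
    rw [h] at hinj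
    have hmem : ∀ k, f^[k] x ∈ S := by
      intro k
      induction k with
      | zero => exact hx
      | succ k ih => rw [Function.iterate_succ_apply']; exact hf _ ih
    have hc : ((Finset.range 5).image fun k => f^[k] x).card = 5 := by
      rw [Finset.card_image_of_injOn]
      · simp
      · intro i hi j hj hij
        exact hinj (by simpa using hi) (by simpa using hj) hij
    have hle : ((Finset.range 5).image fun k => f^[k] x) ⊆ S := by
      intro y hy
      obtain ⟨k, _, rfl⟩ := Finset.mem_image.1 hy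
      exact hmem k
    have := Finset.card_le_card hle
    omega

/-- iterate of the action -/
theorem act_pow (g : Sp6) (k : ℕ) (x : U) : act (g ^ k) x = (act g)^[k] x := by
  induction k generalizing x with
  | zero => rw [pow_zero, act_one]; rfl
  | succ k ih => rw [pow_succ, act_mul, ih, Function.iterate_succ_apply]

/-- coordinates modulo the line -/
def pr (x : U) : ZMod 2 × ZMod 2 := (x (Sum.inl 2), x (Sum.inr 2))

def lift (p : ZMod 2 × ZMod 2) : U := p.1 • e 2 + p.2 • f 2

def Lf : Finset U := {0, e 0, e 1, e 0 + e 1}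

theorem perp_form : ∀ x : U, sf x (e 0) = 0 → sf x (e 1) = 0 → x + lift (pr x) ∈ Lf := by
  decide +kernel

theorem pr_L : ∀ l ∈ Lf, pr l = 0 := by decide +kernel

theorem perp_L : ∀ x : U, sf x (e 0) = 0 → sf x (e 1) = 0 → pr x = 0 → x ∈ Lf := by
  decide +kernel

theorem pr_add (x y : U) : pr (x + y) = pr x + pr y := rfl

theorem mem_Lf_of_act : ∀ x : U, sf x (e 0) • e 1 + sf x (e 1) • e 0 ∈ Lf := by decide +kernel

theorem order5_line {g : Sp6} (h5 : g ^ 5 = 1)
    (hc : g * line (e 0) (e 1) = line (e 0) (e 1) * g) : g = 1 := by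
  have z2 : ∀ u : U, u + u = 0 := SporRec.TwoSp6.Sp.add_self
  have h01 : sf (e 0) (e 1) = 0 := sf_e_e 0 1
  have h5x : ∀ x, (act g)^[5] x = x := by
    intro x
    rw [← act_pow, h5, act_one]
  -- `g` commutes with `n`
  have hn : ∀ x, act g (sf x (e 0) • e 1 + sf x (e 1) • e 0) =
      sf (act g x) (e 0) • e 1 + sf (act g x) (e 1) • e 0 := by
    intro x
    have h1 : act g (act (line (e 0) (e 1)) x) = act (line (e 0) (e 1)) (act g x) := by
      rw [← act_mul, hc, act_mul]
    rw [act_line h01, act_line h01, add_assoc, add_assoc, act_add] at h1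
    exact add_left_cancel h1
  -- `g` preserves the line
  have hL : ∀ l ∈ Lf, act g l ∈ Lf := by
    have key : ∀ l ∈ Lf, ∃ x : U, l = sf x (e 0) • e 1 + sf x (e 1) • e 0 := by decide +kernel
    intro l hl
    obtain ⟨x, rfl⟩ := key l hl
    rw [hn]
    exact mem_Lf_of_act _
  have hfix : ∀ l ∈ Lf, act g l = l := fun l hl =>
    fix_of_small (act g) Lf (by decide +kernel) hL hl (h5x l)
  have he0 : act g (e 0) = e 0 := hfix _ (by decide +kernel)
  have he1 : act g (e 1) = e 1 := hfix _ (by decide +kernel)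
  have hs0 : ∀ x, sf (act g x) (e 0) = sf x (e 0) := by
    intro x
    have := act_om g x (e 0)
    rw [he0] at this
    exact this
  have hs1 : ∀ x, sf (act g x) (e 1) = sf x (e 1) := by
    intro x
    have := act_om g x (e 1)
    rw [he1] at this
    exact this
  have c2 : ∀ a : ZMod 2, a + a = 0 := by decide
  -- the quotient action
  have hpr : ∀ x, sf x (e 0) = 0 → sf x (e 1) = 0 → pr (act g x) = pr (act g (lift (pr x))) := by
    intro x h0 h1
    have hl := perp_form x h0 h1
    have h3 : pr (act g (x + lift (pr x))) = 0 := by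
      rw [hfix _ hl]; exact pr_L _ hl
    rw [act_add, pr_add] at h3
    have c4 : ∀ p q : ZMod 2 × ZMod 2, p + q = 0 → p = q := by decide +kernel
    exact c4 _ _ h3
  have hpr2 : ∀ x, sf x (e 0) = 0 → sf x (e 1) = 0 → pr (act g x) = pr x := by
    intro x h0 h1
    have hit : ∀ k, (fun p => pr (act g (lift p)))^[k] (pr x) = pr ((act g)^[k] x) ∧
        sf ((act g)^[k] x) (e 0) = 0 ∧ sf ((act g)^[k] x) (e 1) = 0 := by
      intro k
      induction k with
      | zero => exact ⟨rfl, h0, h1⟩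
      | succ k ih =>
        obtain ⟨i1, i2, i3⟩ := ih
        rw [Function.iterate_succ_apply', Function.iterate_succ_apply', i1]
        refine ⟨(hpr _ i2 i3).symm, ?_, ?_⟩
        · rw [hs0, i2]
        · rw [hs1, i3]
    have hfx := fix_of_small (fun p => pr (act g (lift p))) Finset.univ (by decide) (fun _ _ => Finset.mem_univ _)
      (Finset.mem_univ (pr x)) (by rw [(hit 5).1, h5x])
    rw [hpr x h0 h1]
    exact hfx
  -- conclusion
  apply act_ext
  intro x
  rw [act_one]
  obtain ⟨y, hy⟩ : ∃ y, y = act g x + x := ⟨_, rfl⟩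
  have hy0 : sf y (e 0) = 0 := by rw [hy, sf_add', hs0, c2]
  have hy1 : sf y (e 1) = 0 := by rw [hy, sf_add', hs1, c2]
  obtain ⟨z, hz⟩ : ∃ z, z = act g y + y := ⟨_, rfl⟩
  have hzL : z ∈ Lf := by
    apply perp_L
    · rw [hz, sf_add', hs0, c2]
    · rw [hz, sf_add', hs1, c2]
    · rw [hz, pr_add, hpr2 y hy0 hy1, ← pr_add, z2]; rfl
  have hgz : act g z = z := hfix z hzL
  have hgx : act g x = x + y := by rw [hy, add_comm (act g x) x, ← add_assoc, z2, zero_add]
  have hgy : act g y = y + z := by rw [hz, add_comm (act g y) y, ← add_assoc, z2, zero_add]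
  have hg2 : ∀ w, act g (act g w) = act (g ^ 2) w := by intro w; rw [pow_two, act_mul]
  have hg2x : act g (act g x) = x + z := by
    rw [hgx, act_add, hgx, hgy]
    calc x + y + (y + z) = x + (y + y) + z := by abel
      _ = _ := by rw [z2, add_zero]
  have hg4x : act g (act g (act g (act g x))) = x := by
    rw [hg2x, act_add, act_add, hgz, hgz, hg2x, add_assoc, z2, add_zero]
  have := h5x x
  simp only [Function.iterate_succ_apply', Function.iterate_zero, id] at this
  rw [hg4x] at this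
  exact this

/-- no element of order 5 of `Sp6(2)` commutes with a line element -/
theorem order5_comm_line {a b : U} (hab : IsLine a b) {g : Sp6} (h5 : g ^ 5 = 1)
    (hc : g * line a b = line a b * g) : g = 1 := by
  obtain ⟨k, hk1, hk2⟩ := exists_act_line isLine_e01 hab
  have hl : line a b = k * line (e 0) (e 1) * k⁻¹ := by rw [line_conj, hk1, hk2]
  have h1 : k⁻¹ * g * k = 1 := by
    apply order5_line
    · have : (k⁻¹ * g * k) ^ 5 = k⁻¹ * g ^ 5 * k := by
        have := conj_pow (i := 5) (a := k⁻¹) (b := g)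
        rw [inv_inv] at this
        exact this
      rw [this, h5]; group
    · rw [hl] at hc
      calc k⁻¹ * g * k * line (e 0) (e 1) = k⁻¹ * (g * (k * line (e 0) (e 1) * k⁻¹)) * k := by group
        _ = k⁻¹ * ((k * line (e 0) (e 1) * k⁻¹) * g) * k := by rw [hc]
        _ = _ := by group
  have : g = k * (k⁻¹ * g * k) * k⁻¹ := by group
  rw [this, h1]; group

/-! ### the element of order 5 -/

open SporRec.TwoSp6.Sp (enc om_enc enc_xor exists_enc) in
theorem act_tr_enc (u c : ℕ) : act (tr (enc u)) (enc c) =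
    enc (if SporRec.TwoSp6.Sp.fN c u then c ^^^ u else c) := by
  rw [act_tr, om_enc]
  by_cases h : SporRec.TwoSp6.Sp.fN c u
  · rw [if_pos h, if_pos h, one_smul, enc_xor]
  · rw [if_neg h, if_neg h, zero_smul, add_zero]

/-- reflection on codes -/
def stc (u c : ℕ) : ℕ := if SporRec.TwoSp6.Sp.fN c u then c ^^^ u else c

def wc (c : ℕ) : ℕ := stc 16 (stc 3 (stc 20 (stc 32 c)))

theorem wc_five : ∀ c < 64, wc (wc (wc (wc (wc c)))) = c := by decide +kernel

theorem enc_vals : uv 6 = SporRec.TwoSp6.Sp.enc 16 ∧ uv 2 = SporRec.TwoSp6.Sp.enc 3 ∧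
    uv 3 = SporRec.TwoSp6.Sp.enc 20 ∧ uv 4 = SporRec.TwoSp6.Sp.enc 32 := by
  refine ⟨?_, ?_, ?_, ?_⟩ <;> decide +kernel

def w5 : Sp6 := tr (uv 6) * tr (uv 2) * tr (uv 3) * tr (uv 4)

theorem act_w5 (c : ℕ) : act w5 (SporRec.TwoSp6.Sp.enc c) = SporRec.TwoSp6.Sp.enc (wc c) := by
  obtain ⟨h6, h2, h3, h4⟩ := enc_vals
  rw [w5, h6, h2, h3, h4, act_mul, act_mul, act_mul, act_tr_enc, act_tr_enc, act_tr_enc, act_tr_enc]
  rfl

theorem w5_pow : w5 ^ 5 = 1 := by
  apply act_ext
  intro x
  obtain ⟨c, hc, rfl⟩ := SporRec.TwoSp6.Sp.exists_enc x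
  rw [act_one]
  have e5 : w5 ^ 5 = w5 * (w5 * (w5 * (w5 * w5))) := by
    simp only [pow_succ', pow_zero, mul_one]
  rw [e5]
  simp only [act_mul, act_w5]
  rw [wc_five c hc]

theorem w5_ne : w5 ≠ 1 := by
  intro h
  have h1 := act_w5 2
  rw [h, act_one] at h1
  have h2 : SporRec.TwoSp6.Sp.enc 2 ≠ SporRec.TwoSp6.Sp.enc (wc 2) := by decide +kernel
  exact h2 h1

/-- the line element -/
theorem isLine_al : IsLine (f 1 + e 2) (e 2) := by
  refine ⟨?_, ?_, ?_, ?_⟩ <;> decide +kernel

theorem line_al : line (f 1 + e 2) (e 2) = tr (f 1 + e 2) * tr (e 2) * tr (f 1) := by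
  unfold line
  have z2 : ∀ u : U, u + u = 0 := SporRec.TwoSp6.Sp.add_self
  rw [add_assoc (f 1) (e 2) (e 2), z2, add_zero]

section

variable {G : Type*} [Group G] {Q : Subgroup G} {t : G}

theorem pow_card_Q (S : Sit G Q t) {x : G} (hx : x ∈ Q) : x ^ (2 ^ 9) = 1 := by
  have h := pow_card_eq_one' (x := (⟨x, hx⟩ : Q))
  rw [S.card] at h
  exact congrArg Subtype.val h

/-- no element of order 5 of `C_G(t)` commutes with an element over a line element -/
theorem order5_comm (S : Sit G Q t) {al : Subgroup.centralizer ({t} : Set G)} {a b : U}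
    (hab : IsLine a b) (hal : S.psi al = line a b) (y : Subgroup.centralizer ({t} : Set G))
    (hy : y * al = al * y) (h5 : y ^ 5 = 1) : y = 1 := by
  have h1 : S.psi y = 1 := by
    apply order5_comm_line hab
    · rw [← map_pow, h5, map_one]
    · rw [← hal, ← map_mul, hy, map_mul]
  have h2 := (S.psi_ker y).1 h1
  have h3 := pow_card_Q S h2
  have h4 : y ^ (2 ^ 9) = 1 := Subtype.ext (by rw [Subgroup.coe_pow]; exact h3)
  have h6 : orderOf y ∣ 5 := orderOf_dvd_of_pow_eq_one h5
  have h7 : orderOf y ∣ 2 ^ 9 := orderOf_dvd_of_pow_eq_one h4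
  have h8 : orderOf y ∣ 1 := by
    have := Nat.dvd_gcd h6 h7
    simpa using this
  exact orderOf_eq_one_iff.1 (Nat.dvd_one.1 h8)

/-- the swap element from the fusion of `t` -/
theorem swap (S : Sit G Q t) (D : ℕ → Subgroup.centralizer ({t} : Set G))
    (hD : ∀ j, j < 7 → S.psi (D j) = tr (uv j))
    (h02 : D 0 * D 2 = D 2 * D 0) (h03 : D 0 * D 3 = D 3 * D 0) (h04 : D 0 * D 4 = D 4 * D 0)
    (h06 : D 0 * D 6 = D 6 * D 0) (z : Subgroup.centralizer ({t} : Set G)) (hz : (z : G) = t)
    (hc : IsConj t (D 0 : G))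
    (hfus : ∀ x : Subgroup.centralizer ({t} : Set G), IsConj t (x : G) → (x : G) = t ∨
      IsConj x (D 0) ∨ IsConj x (z * D 3 * D 5 * D 6)) :
    ∃ x : G, x * t * x⁻¹ = D 0 ∧ x * (D 0 : G) * x⁻¹ = t := by
  have htC : ∀ c : Subgroup.centralizer ({t} : Set G), (c : G) * t = t * c := fun c =>
    Subgroup.mem_centralizer_singleton_iff.1 c.2
  have hmem : ∀ {c : G}, c * t = t * c → c ∈ Subgroup.centralizer ({t} : Set G) := fun h =>
    Subgroup.mem_centralizer_singleton_iff.2 h
  have hpz : S.psi z = 1 := by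
    rw [S.psi_ker, hz]
    exact S.large.z_mem
  -- the element of order 5
  set h : Subgroup.centralizer ({t} : Set G) := D 6 * D 2 * D 3 * D 4 with hh
  have hph : S.psi h = w5 := by
    rw [hh, map_mul, map_mul, map_mul, hD 6 (by norm_num), hD 2 (by norm_num), hD 3 (by norm_num),
      hD 4 (by norm_num)]
    rfl
  have hcomm : Commute (D 0) h := by
    have c2 : Commute (D 0) (D 2) := h02
    have c3 : Commute (D 0) (D 3) := h03
    have c4 : Commute (D 0) (D 4) := h04
    have c6 : Commute (D 0) (D 6) := h06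
    exact ((c6.mul_right c2).mul_right c3).mul_right c4
  set ff : Subgroup.centralizer ({t} : Set G) := h ^ (2 ^ 9) with hff
  have hff5 : ff ^ 5 = 1 := by
    have h1 : S.psi (h ^ 5) = 1 := by rw [map_pow, hph, w5_pow]
    have h2 := pow_card_Q S ((S.psi_ker _).1 h1)
    have h3 : (h ^ 5) ^ (2 ^ 9) = 1 := Subtype.ext (by rw [Subgroup.coe_pow]; exact h2)
    rw [hff, ← pow_mul, mul_comm, pow_mul]
    exact h3
  have hff1 : ff ≠ 1 := by
    intro h1
    have h2 : w5 ^ (2 ^ 9) = 1 := by rw [← hph, ← map_pow, ← hff, h1, map_one]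
    have h6 : orderOf w5 ∣ 5 := orderOf_dvd_of_pow_eq_one w5_pow
    have h7 : orderOf w5 ∣ 2 ^ 9 := orderOf_dvd_of_pow_eq_one h2
    have h8 : orderOf w5 ∣ 1 := by
      have := Nat.dvd_gcd h6 h7
      simpa using this
    exact w5_ne (orderOf_eq_one_iff.1 (Nat.dvd_one.1 h8))
  have hcf : Commute (D 0) ff := hcomm.pow_right _
  have hpal : S.psi (z * D 3 * D 5 * D 6) = line (f 1 + e 2) (e 2) := by
    rw [map_mul, map_mul, map_mul, hpz, one_mul, hD 3 (by norm_num), hD 5 (by norm_num),
      hD 6 (by norm_num), line_al]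
    rfl
  refine exists_swap (a := (D 0 : G)) (al := ((z * D 3 * D 5 * D 6 :
    Subgroup.centralizer ({t} : Set G)) : G)) (f := (ff : G)) hc (htC _) ?_ ?_ ?_ ?_ (htC _) ?_ ?_
  · intro h1
    have h2 : S.psi (D 0) = 1 := by
      rw [S.psi_ker, h1]
      exact S.large.z_mem
    rw [hD 0 (by norm_num)] at h2
    have h3 : act (tr (uv 0)) (f 0) ≠ f 0 := by
      rw [act_tr]
      decide +kernel
    rw [h2, act_one] at h3
    exact h3 rfl
  · intro x hx hcx
    rcases hfus ⟨x, hmem hx⟩ hcx with h1 | h1 | h1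
    · exact Or.inl h1
    · obtain ⟨c, hc'⟩ := isConj_iff.1 h1
      exact Or.inr (Or.inl ⟨c, htC c, congrArg Subtype.val hc'⟩)
    · obtain ⟨c, hc'⟩ := isConj_iff.1 h1
      exact Or.inr (Or.inr ⟨c, htC c, congrArg Subtype.val hc'⟩)
  · intro h1; exact hff1 (Subtype.ext h1)
  · rw [← Subgroup.coe_pow, hff5]; rfl
  · exact (congrArg Subtype.val hcf.eq).symm
  · intro y hy1 hy2 hy5
    have := order5_comm S isLine_al hpal ⟨y, hmem hy1⟩ (Subtype.ext hy2) (Subtype.ext hy5)
    exact congrArg Subtype.val this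

end

end Cfsg.Agent.Co2Type.Swap
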