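import Cfsg.Agent.Co2Type.Alpha3
import Cfsg.Agent.Co2Type.Section
import Cfsg.Agent.Co2Type.InvClass
import Cfsg.Agent.Co2Type.Swap

/-!
# The class of `ev (dec 1) * lin D` is not fused (R03; helper951)
-/

set_option autoImplicit false

namespace Cfsg.Agent.Co2Type.Alpha3T

open Cfsg Cfsg.Agent.Co2Type.Quad Cfsg.Agent.Co2Type.Setup Cfsg.Agent.Co2Type.Spin
open Cfsg.Agent.Co2Type.QModel Cfsg.Agent.Co2Type.Act Cfsg.Agent.Co2Type.Coord
open Cfsg.Agent.Co2Type.Rels Cfsg.Agent.Co2Type.Abs Cfsg.Agent.Co2Type.ExistsRels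
open Cfsg.Agent.Co2Type.InvClass Cfsg.Agent.Co2Type.LineMod Cfsg.Agent.Co2Type.Alpha
open Cfsg.Agent.ClassicalGeometry.SympBasic
open Cfsg.Agent.SporRec.TwoSp6.Sp (tr act)

variable {G : Type*} [Group G] {Q : Subgroup G} {t : G}

/-- `not_alpha3` for an arbitrary line -/
theorem not_alpha3_gen (S : Sit G Q t) (σ : Sp6 →* Subgroup.centralizer ({t} : Set G))
    (hσ : ∀ g, S.psi (σ g) = g) (hs : SpinHyp S.rho) (hwc : Pair.WC Q t) {a b : U} (hl : IsLine a b)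
    {x : G} (hx : x ∈ Q) (hN : n S.rho a (n S.rho b (S.large.pr ⟨x, hx⟩)) = 0)
    (hni : ¬ ∃ s, S.large.pr ⟨x, hx⟩ = n S.rho a (n S.rho b s)) :
    ¬ IsConj t (x * sg σ (line a b)) := by
  obtain ⟨g, ga, gb⟩ := exists_act_line hl isLine_e01
  have hk : sg σ g * t = t * sg σ g := sg_comm σ g
  have hkx : sg σ g * x * (sg σ g)⁻¹ ∈ Q := S.large.conj_mem _ hk x hx
  have hpr : S.large.pr ⟨sg σ g * x * (sg σ g)⁻¹, hkx⟩ = S.rho g (S.large.pr ⟨x, hx⟩) :=
    pr_conj S σ g ⟨x, hx⟩ hkx hσ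
  have hNg : ∀ v, Alpha3.NN S.rho (S.rho g v) = S.rho g (n S.rho a (n S.rho b v)) := by
    intro v
    rw [DeltaK.rho_n', DeltaK.rho_n', ga, gb]
    rfl
  intro hc
  refine Alpha3.not_alpha3 S σ hσ hs hwc hkx ?_ ?_ ?_
  · rw [hpr, hNg, hN, map_zero]
  · rintro ⟨s, h⟩
    apply hni
    refine ⟨(S.rho g).symm s, ?_⟩
    apply (S.rho g).injective
    rw [← hNg, LinearEquiv.apply_symm_apply, ← h, hpr]
  · have h1 : sg σ g * (x * sg σ (line a b)) * (sg σ g)⁻¹ =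
        sg σ g * x * (sg σ g)⁻¹ * sg σ (line (e 0) (e 1)) := by
      rw [← ga, ← gb, ← line_conj, sg_mul, sg_mul, sg_inv]
      group
    rw [← h1]
    exact hc.trans (isConj_iff.2 ⟨_, rfl⟩)

theorem chk1 : qmul 1 (autw [3, 5, 6] 1) = 0 ∨ qmul 1 (autw [3, 5, 6] 1) = 256 := by decide +kernel

theorem chk2 : ∀ m < 512, qmul m (autw [3, 5, 6] m) ≠ 1 ∧ qmul m (autw [3, 5, 6] m) ≠ qmul 1 256 ∧
    qmul m (autw [3, 5, 6] m) < 512 := by decide +kernel

theorem ev_mem (S : Sit G Q t) {ev : QM →* Subgroup.centralizer ({t} : Set G)}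
    (P : Pre (tc t) ev S.psi) (x : QM) : (ev x : G) ∈ Q := by
  rw [← S.psi_ker, P.psi_ker]
  exact ⟨x, rfl⟩

/-- the line element -/
theorem lin_eq {σ : Sp6 →* Subgroup.centralizer ({t} : Set G)}
    {D : ℕ → Subgroup.centralizer ({t} : Set G)}
    (hσD : ∀ j, j < 7 → σ (transv (uv j) 1) = D j) :
    σ (line (f 1 + e 2) (e 2)) = lin D := by
  rw [Swap.line_al, map_mul, map_mul]
  have h3 : σ (tr (f 1 + e 2)) = D 3 := hσD 3 (by norm_num)
  have h5 : σ (tr (e 2)) = D 5 := hσD 5 (by norm_num)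
  have h6 : σ (tr (f 1)) = D 6 := hσD 6 (by norm_num)
  rw [h3, h5, h6]
  rfl

/-- `n n` on codes -/
theorem nn_code (S : Sit G Q t) (hs : SpinHyp S.rho)
    {ev : QM →* Subgroup.centralizer ({t} : Set G)}
    {D : ℕ → Subgroup.centralizer ({t} : Set G)} (R : Rels false (tc t) ev D)
    (P : Pre (tc t) ev S.psi) {σ : Sp6 →* Subgroup.centralizer ({t} : Set G)}
    (hσ : ∀ g, S.psi (σ g) = g) (hσD : ∀ j, j < 7 → σ (transv (uv j) 1) = D j) (m : ℕ) :
    n S.rho (f 1 + e 2) (n S.rho (e 2) (S.large.pr ⟨(ev (dec m) : G), ev_mem S P _⟩)) =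
      S.large.pr ⟨(ev (dec (qmul m (autw [3, 5, 6] m))) : G), ev_mem S P _⟩ := by
  have h1 := conj_wd ev D R.conj (fun j _ => P.conj_z (D j)) (InvData.rw' 2) (rw_lt 2) m
  rw [wd_two, ← lin_eq hσD] at h1
  have h2 : sg σ (line (f 1 + e 2) (e 2)) * (ev (dec m) : G) * (sg σ (line (f 1 + e 2) (e 2)))⁻¹ =
      (ev (dec (autw [3, 5, 6] m)) : G) := congrArg Subtype.val h1
  have hm : sg σ (line (f 1 + e 2) (e 2)) * (ev (dec m) : G) *
      (sg σ (line (f 1 + e 2) (e 2)))⁻¹ ∈ Q := by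
    rw [h2]; exact ev_mem S P _
  have h3 := pr_conj S σ (line (f 1 + e 2) (e 2)) ⟨(ev (dec m) : G), ev_mem S P _⟩ hm hσ
  rw [rho_line hs S.card_V Swap.isLine_al.2.2.2] at h3
  have h4 : S.large.pr ⟨(ev (dec (qmul m (autw [3, 5, 6] m))) : G), ev_mem S P _⟩ =
      S.large.pr ⟨(ev (dec m) : G), ev_mem S P _⟩ +
      S.large.pr ⟨sg σ (line (f 1 + e 2) (e 2)) * (ev (dec m) : G) *
      (sg σ (line (f 1 + e 2) (e 2)))⁻¹, hm⟩ := by
    rw [← S.large.pr_mul]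
    congr 1
    apply Subtype.ext
    show (ev (dec (qmul m (autw [3, 5, 6] m))) : G) = (ev (dec m) : G) *
      (sg σ (line (f 1 + e 2) (e 2)) * (ev (dec m) : G) * (sg σ (line (f 1 + e 2) (e 2)))⁻¹)
    rw [h2, dec_qmul, map_mul]
    rfl
  rw [h4, h3, ← add_assoc, S.large.add_self, zero_add]

/-- the class of `ev (dec 1) * lin D` is not fused -/
theorem not_ev1_lin (S : Sit G Q t) (hs : SpinHyp S.rho) (hwc : Pair.WC Q t)
    {ev : QM →* Subgroup.centralizer ({t} : Set G)}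
    {D : ℕ → Subgroup.centralizer ({t} : Set G)} (R : Rels false (tc t) ev D)
    (hD : ∀ j, j < 7 → S.psi (D j) = transv (uv j) 1) (P : Pre (tc t) ev S.psi) :
    ¬ IsConj t ((ev (dec 1) * lin D : Subgroup.centralizer ({t} : Set G)) : G) := by
  obtain ⟨σ, hσ, hσD, -⟩ := Section.exists_section R S.psi hD
  have hcode := nn_code S hs R P hσ hσD
  have h := not_alpha3_gen S σ hσ hs hwc Swap.isLine_al (ev_mem S P (dec 1)) ?_ ?_
  · have h1 : sg σ (line (f 1 + e 2) (e 2)) = ((lin D :) : G) := by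
      unfold sg
      rw [lin_eq hσD]
    rwa [h1] at h
  · rw [hcode, S.large.pr_eq_zero]
    rcases chk1 with h1 | h1
    · left
      show (ev (dec (qmul 1 (autw [3, 5, 6] 1))) : G) = 1
      rw [h1, dec_zero, map_one]
      rfl
    · right
      show (ev (dec (qmul 1 (autw [3, 5, 6] 1))) : G) = t
      rw [h1, P.ev_z]
      rfl
  · rintro ⟨s, h1⟩
    obtain ⟨w, rfl⟩ := S.large.pr_surjective s
    have hw : (⟨(w : G), Subgroup.mem_centralizer_singleton_iff.2 (S.large.comm_z w w.2)⟩ :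
        Subgroup.centralizer ({t} : Set G)) ∈ ev.range := by
      rw [← P.psi_ker, S.psi_ker]
      exact w.2
    obtain ⟨x, hx⟩ := hw
    obtain ⟨m, hm, rfl⟩ := dec_surj x
    have h2 : w = ⟨(ev (dec m) : G), ev_mem S P _⟩ := by
      apply Subtype.ext
      show (w : G) = (ev (dec m) : G)
      rw [hx]
    rw [h2, hcode] at h1
    obtain ⟨c1, c2, c3⟩ := chk2 m hm
    rcases S.large.pr_eq_pr.1 h1 with h3 | h3
    · have h4 : ev (dec 1) = ev (dec (qmul m (autw [3, 5, 6] m))) := Subtype.ext h3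
      exact c1 (dec_inj (by norm_num) c3 (P.ev_inj h4)).symm
    · have h4 : ev (dec 1) = ev (dec (qmul m (autw [3, 5, 6] m))) * tc t := Subtype.ext h3
      have h5 : ev (dec (qmul 1 256)) = ev (dec (qmul m (autw [3, 5, 6] m))) := by
        rw [dec_qmul, map_mul, P.ev_z, h4, mul_assoc, P.t_sq, mul_one]
      exact c2 (dec_inj (by decide) c3 (P.ev_inj h5)).symm

end Cfsg.Agent.Co2Type.Alpha3T
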