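import Cfsg.Agent.Co2Type.FactsD
import Cfsg.Agent.Co2Type.FactsClass

/-!
The facts `CloseFacts` for `Spor.Co2`.
-/

set_option autoImplicit false

namespace Cfsg.Agent.Co2Type.FactsCo2

open Cfsg Cfsg.Agent.Co2Type.Mono Cfsg.Agent.Co2Type.TData Cfsg.Agent.Co2Type.TGroup
open Cfsg.Agent.Co2Type.TCard Cfsg.Agent.Co2Type.Facts Cfsg.Agent.Co2Type.FactsD
open Cfsg.Agent.SporadicStructure.M24El

/-- The class theorem. -/
theorem cls : Cls where
  A := fun _ h1 h2 => FactsClass.conj_z_of_tr h1 h2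
  B := fun _ h1 h2 => FactsClass.conj_y_of_tr h1 h2
  C := fun _ h1 h2 => FactsClass.conj_v_of_tr h1 h2

/-- The facts on `Co2` used in the closing argument. -/
theorem facts : CloseFacts Spor.Co2 T E (ge mz) (ge my) (ge mv) (ge mz1) (ge mz2) (ge mu) (ge mp)
    (ge ma) (ge mb) (ge mc) (ge md) where
  cardT := card_T
  odd_index := FactsClass.odd_index
  E_le := E_le_T
  E_normal := E_normal
  E_comm := FactsD.E_comm
  E_sq := FactsD.E_sq
  cardE := card_E
  zE := ge_mem iz
  yE := ge_mem iy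
  vE := ge_mem iv
  z1E := ge_mem iz1
  z2E := ge_mem iz2
  uE := ge_mem iu
  pE := ge_mem ip
  aE := ge_mem ia
  bE := ge_mem ib
  cE := ge_mem ic
  dE := ge_mem id'
  z_comm := z_comm
  center_T := center_T
  z_ne := fun h => by
    have := FactsD.tr_z
    rw [h, FactsClass.tr_one] at this
    omega
  y_ne := fun h => by
    have := FactsD.tr_y
    rw [h, FactsClass.tr_one] at this
    omega
  v_ne := fun h => by
    have := FactsD.tr_v
    rw [h, FactsClass.tr_one] at this
    omega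
  classes := fun _ h1 h2 => FactsClass.classes h1 h2
  not_zy := FactsClass.not_zy
  not_zv := FactsClass.not_zv
  not_yv := FactsClass.not_yv
  cent_le := fun _ h1 h2 h3 => (FactsClass.cent_bound h1 h2 h3).1
  cent_le_of_C := fun x h1 h2 h3 => by
    refine (FactsClass.cent_bound h1 h2 ?_).2 h3
    rintro rfl
    have h3' : IsConj (ge mv) (ge mz * ge mz) := h3
    have h4 := tr_of_isConj h3'
    rw [FactsD.ge_sq iz, FactsD.tr_v, FactsClass.tr_one] at h4
    omega
  v_eq := v_eq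
  z1A := cls.z1A
  z2A := cls.z2A
  cardv := cardv
  only_v := only_v
  zy := cls.zy
  zp := cls.zp
  zyp := cls.zyp
  p_ne := p_ne
  pB := cls.pB
  ypB := cls.ypB
  cardy := cardy
  cardyp := cardyp
  only_yp := only_yp
  uA := cls.uA
  uyA := cls.uyA
  u_comm := u_comm
  uxy := cls.uxy
  aA := cls.aA
  bA := cls.bA
  cA := cls.cA
  dA := cls.dA
  abcdA := cls.abcdA

theorem ge_inj {m n : ℕ} (hm : Cfsg.Agent.Co2Type.Mono.inE m = true)
    (hn : Cfsg.Agent.Co2Type.Mono.inE n = true) (h : ge m = ge n) : m = n :=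
  (mo2_injT hm hn idP_mem idP_mem h).1

theorem ab_ne : ge ma ≠ ge mb := fun h => by
  have := ge_inj ia ib h
  revert this
  decide +kernel

theorem ac_ne : ge ma ≠ ge mc := fun h => by
  have := ge_inj ia ic h
  revert this
  decide +kernel

theorem cd_ne : ge mc ≠ ge md := fun h => by
  have := ge_inj ic id' h
  revert this
  decide +kernel

/-- The class 2A by the trace. -/
theorem tr_eq_iff {x : Spor.Co2} (h : x * x = 1) : IsConj (ge mz) x ↔ tr x = -8 :=
  ⟨fun h1 => by rw [← tr_of_isConj h1, FactsD.tr_z], fun h1 => FactsClass.conj_z_of_tr h h1⟩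

/-- The class 2B by the trace. -/
theorem tr_eq_iff_B {x : Spor.Co2} (h : x * x = 1) : IsConj (ge my) x ↔ tr x = 8 :=
  ⟨fun h1 => by rw [← tr_of_isConj h1, FactsD.tr_y], fun h1 => FactsClass.conj_y_of_tr h h1⟩

/-- The class 2C by the trace. -/
theorem tr_eq_iff_C {x : Spor.Co2} (h : x * x = 1) : IsConj (ge mv) x ↔ tr x = 0 :=
  ⟨fun h1 => by rw [← tr_of_isConj h1, FactsD.tr_v], fun h1 => FactsClass.conj_v_of_tr h h1⟩

/-- An involution of `Co2` has trace `-8`, `8` or `0`. -/
theorem tr_cases {x : Spor.Co2} (h : x * x = 1) (h1 : x ≠ 1) : tr x = -8 ∨ tr x = 8 ∨ tr x = 0 := by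
  rcases FactsClass.classes h h1 with h2 | h2 | h2
  · exact Or.inl ((tr_eq_iff h).1 h2)
  · exact Or.inr (Or.inl ((tr_eq_iff_B h).1 h2))
  · exact Or.inr (Or.inr ((tr_eq_iff_C h).1 h2))

end Cfsg.Agent.Co2Type.FactsCo2
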