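import Cfsg.Agent.Co2Type.Facts

/-!
# Transport of `CloseFacts` along an isomorphism
-/

set_option autoImplicit false

namespace Cfsg.Agent.Co2Type.Transport

open Cfsg.Agent.Co2Type.Facts

variable {K H : Type*} [Group K] [Group H] (f : K ≃* H)

theorem isConj_map {x w : K} : IsConj (f x) (f w) ↔ IsConj x w := by
  constructor
  · intro h
    obtain ⟨k, hk⟩ := isConj_iff.1 h
    refine isConj_iff.2 ⟨f.symm k, ?_⟩
    apply f.injective
    rw [map_mul, map_mul, map_inv, f.apply_symm_apply, hk]
  · intro h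
    obtain ⟨k, hk⟩ := isConj_iff.1 h
    exact isConj_iff.2 ⟨f k, by rw [← hk, map_mul, map_mul, map_inv]⟩

theorem mem_map {T : Subgroup K} {x : K} : f x ∈ T.map f.toMonoidHom ↔ x ∈ T := by
  constructor
  · rintro ⟨w, hw, he⟩
    have : w = x := f.injective he
    rw [← this]; exact hw
  · intro h
    exact ⟨x, h, rfl⟩

theorem card_map (T : Subgroup K) : Nat.card (T.map f.toMonoidHom) = Nat.card T :=
  Subgroup.card_map_of_injective f.injective

theorem comm_map {x w : K} : f x * f w = f w * f x ↔ x * w = w * x := by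
  rw [← map_mul, ← map_mul]
  exact f.injective.eq_iff

theorem map_cent {T : Subgroup K} {x : K} : cent (T.map f.toMonoidHom) (f x) = (cent T x).map f.toMonoidHom := by
  ext g
  obtain ⟨g, rfl⟩ := f.surjective g
  rw [mem_cent, mem_map, mem_map, mem_cent, comm_map]

theorem map_cent2 {T : Subgroup K} {x w : K} :
    cent2 (T.map f.toMonoidHom) (f x) (f w) = (cent2 T x w).map f.toMonoidHom := by
  ext g
  obtain ⟨g, rfl⟩ := f.surjective g
  rw [mem_cent2, mem_map, mem_map, mem_cent2, comm_map, comm_map]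

theorem ne_one {x : K} (h : x ≠ 1) : f x ≠ 1 := fun h1 => h ((map_eq_one_iff f f.injective).1 h1)

/-- the transport -/
theorem closeFacts {T E : Subgroup K} {z y v z1 z2 u p a b c d : K} (F : CloseFacts K T E z y v z1 z2 u p a b c d) :
    CloseFacts H (T.map f.toMonoidHom) (E.map f.toMonoidHom) (f z) (f y) (f v) (f z1) (f z2) (f u) (f p) (f a) (f b)
      (f c) (f d) := by
  have hsurj : ∀ {P : H → Prop}, (∀ x : K, P (f x)) → ∀ x : H, P x := by
    intro P h x
    obtain ⟨w, rfl⟩ := f.surjective x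
    exact h w
  have hm : ∀ x w : K, f x * f w = f (x * w) := fun x w => (map_mul f x w).symm
  have hi : ∀ x : K, (f x)⁻¹ = f x⁻¹ := fun x => (map_inv f x).symm
  have hT : ∀ x : K, f x ∈ T.map f.toMonoidHom ↔ x ∈ T := fun x => mem_map f
  have hE : ∀ x : K, f x ∈ E.map f.toMonoidHom ↔ x ∈ E := fun x => mem_map f
  have hc : ∀ x w : K, IsConj (f x) (f w) ↔ IsConj x w := fun x w => isConj_map f
  have he : ∀ x w : K, f x = f w ↔ x = w := fun x w => f.injective.eq_iff
  have h1 : ∀ x : K, f x = 1 ↔ x = 1 := fun x => map_eq_one_iff f f.injective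
  have hct : ∀ g x : K, f g ∈ cent (T.map f.toMonoidHom) (f x) ↔ g ∈ cent T x := by
    intro g x
    rw [map_cent, mem_map]
  have hct2 : ∀ g x w : K, f g ∈ cent2 (T.map f.toMonoidHom) (f x) (f w) ↔ g ∈ cent2 T x w := by
    intro g x w
    rw [map_cent2, mem_map]
  refine
    { cardT := by rw [card_map]; exact F.cardT
      odd_index := ?_
      E_le := Subgroup.map_mono F.E_le
      E_normal := ?_
      E_comm := ?_
      E_sq := ?_
      cardE := by rw [card_map]; exact F.cardE
      zE := (hE _).2 F.zE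
      yE := (hE _).2 F.yE
      vE := (hE _).2 F.vE
      z1E := (hE _).2 F.z1E
      z2E := (hE _).2 F.z2E
      uE := (hE _).2 F.uE
      pE := (hE _).2 F.pE
      aE := (hE _).2 F.aE
      bE := (hE _).2 F.bE
      cE := (hE _).2 F.cE
      dE := (hE _).2 F.dE
      z_comm := ?_
      center_T := ?_
      z_ne := ne_one f F.z_ne
      y_ne := ne_one f F.y_ne
      v_ne := ne_one f F.v_ne
      classes := ?_
      not_zy := by rw [hc]; exact F.not_zy
      not_zv := by rw [hc]; exact F.not_zv
      not_yv := by rw [hc]; exact F.not_yv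
      cent_le := ?_
      cent_le_of_C := ?_
      v_eq := by rw [hm, F.v_eq]
      z1A := (hc _ _).2 F.z1A
      z2A := (hc _ _).2 F.z2A
      cardv := by rw [map_cent, card_map]; exact F.cardv
      only_v := ?_
      zy := by rw [hm, hc]; exact F.zy
      zp := by rw [hm, hc]; exact F.zp
      zyp := by rw [hm, hm, hc]; exact F.zyp
      p_ne := ne_one f F.p_ne
      pB := (hc _ _).2 F.pB
      ypB := by rw [hm, hc]; exact F.ypB
      cardy := by rw [map_cent, card_map]; exact F.cardy
      cardyp := by rw [map_cent2, card_map]; exact F.cardyp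
      only_yp := ?_
      uA := (hc _ _).2 F.uA
      uyA := by rw [hm, hc]; exact F.uyA
      u_comm := ?_
      uxy := ?_
      aA := (hc _ _).2 F.aA
      bA := (hc _ _).2 F.bA
      cA := (hc _ _).2 F.cA
      dA := (hc _ _).2 F.dA
      abcdA := by rw [hm, hm, hm, hc]; exact F.abcdA }
  · have : (T.map f.toMonoidHom).index = T.index := Subgroup.index_map_equiv T f
    rw [this]
    exact F.odd_index
  · refine hsurj fun x hx => hsurj fun w hw => ?_
    rw [hi, hm, hm, hE]
    exact F.E_normal x ((hT x).1 hx) w ((hE w).1 hw)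
  · refine hsurj fun x hx => hsurj fun w hw => ?_
    rw [hm, hm, F.E_comm x ((hE x).1 hx) w ((hE w).1 hw)]
  · refine hsurj fun x hx => ?_
    rw [hm, h1]
    exact F.E_sq x ((hE x).1 hx)
  · refine hsurj fun x hx => ?_
    rw [hm, hm, F.z_comm x ((hT x).1 hx)]
  · refine hsurj fun x hx hs => ?_
    rw [h1, he]
    exact F.center_T x ((hT x).1 hx) fun s h => (comm_map f).1 (hs (f s) ((hT s).2 h))
  · refine hsurj fun x hx hx1 => ?_
    rw [hc, hc, hc]
    exact F.classes x (by rwa [hm, h1] at hx) (fun h => hx1 ((h1 x).2 h))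
  · refine hsurj fun x hx h hne => ?_
    rw [map_cent, card_map]
    exact F.cent_le x ((hT x).1 hx) ((hc _ _).1 h) (fun h => hne (by rw [h]))
  · refine hsurj fun x hx h hv => ?_
    rw [map_cent, card_map]
    rw [hm, hc] at hv
    exact F.cent_le_of_C x ((hT x).1 hx) ((hc _ _).1 h) hv
  · refine hsurj fun x hx h hv => ?_
    rw [hm, hc] at hv
    rw [he, he]
    exact F.only_v x ((hct _ _).1 hx) ((hc _ _).1 h) hv
  · refine hsurj fun x hx h2 h3 h4 h5 => ?_
    rw [hm, hc] at h3 h4
    rw [hm, hm, hc] at h5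
    rw [he]
    exact F.only_yp x ((hct2 _ _ _).1 hx) ((hc _ _).1 h2) h3 h4 h5
  · refine hsurj fun x hx => ?_
    rw [hi, hm, hm, hm, he, he]
    exact F.u_comm x ((hct _ _).1 hx)
  · refine hsurj fun x hx h2 h3 => ?_
    rw [hm, hc] at h3
    rw [hm, hm, hc]
    rcases F.uxy x ((hct _ _).1 hx) ((hc _ _).1 h2) h3 with h | ⟨h, h4, h5⟩
    · left; exact h
    · right
      exact ⟨f h, by rw [hi, hm, hm, h4], by rw [hi, hm, hm, h5]⟩

end Cfsg.Agent.Co2Type.Transport
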