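import Cfsg.Agent.Co2Type.Closing
import Cfsg.Agent.Co2Type.Transport
import Cfsg.Agent.Co2Type.FactsCo2

/-!
# The last step of the recognition of `Co₂`

`H ≤ G` isomorphic to `Co₂`, containing `C_G(t)`, with the known fusion of `t` in `C_G(t)`: then `H = G`.
-/

set_option autoImplicit false

namespace Cfsg.Agent.Co2Type.Final

open Cfsg Cfsg.Agent.Co2Type.Mono Cfsg.Agent.Co2Type.TData Cfsg.Agent.Co2Type.TGroup Cfsg.Agent.Co2Type.Facts Cfsg.Agent.Co2Type.FactsD
  Cfsg.Agent.Co2Type.FactsCo2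

theorem eq_top {G : Type*} [Group G] [Finite G] {t : G} (tt : t * t = 1) (t1 : t ≠ 1) {H : Subgroup G}
    (e : H ≃* Spor.Co2) (hC : ∀ g : G, g * t = t * g → g ∈ H)
    (D0 r : Subgroup.centralizer ({t} : Set G))
    (hF : ∀ x : Subgroup.centralizer ({t} : Set G), IsConj t (x : G) →
      (x : G) = t ∨ IsConj D0 x ∨ IsConj r x)
    (ht : ∀ h : t ∈ H, tr (e ⟨t, h⟩) = -8) (hD : ∀ h : (D0 : G) ∈ H, tr (e ⟨D0, h⟩) = -8)
    (hr : ∀ h : (r : G) ∈ H, tr (e ⟨r, h⟩) = -8) : H = ⊤ := by
  have htH : t ∈ H := hC t rfl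
  have hCH : ∀ x : Subgroup.centralizer ({t} : Set G), (x : G) ∈ H := fun x =>
    hC x (Subgroup.mem_centralizer_singleton_iff.1 x.2)
  have hett : e ⟨t, htH⟩ * e ⟨t, htH⟩ = 1 := by
    rw [← map_mul, ← map_one e]
    exact congrArg e (Subtype.ext tt)
  obtain ⟨k, hk⟩ := isConj_iff.1 ((tr_eq_iff hett).2 (ht htH))
  let f : Spor.Co2 ≃* H := (MulAut.conj k).trans e.symm
  have hfz : f (ge mz) = ⟨t, htH⟩ := by
    show e.symm (k * ge mz * k⁻¹) = _
    rw [hk, e.symm_apply_apply]
  have hfs : ∀ x : H, tr (f.symm x) = tr (e x) := by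
    intro x
    obtain ⟨w, rfl⟩ := f.surjective x
    rw [f.symm_apply_apply]
    show tr w = tr (e (e.symm (k * w * k⁻¹)))
    rw [e.apply_symm_apply, tr_conj]
  have F := Transport.closeFacts f facts
  have hne : ∀ {x w : Spor.Co2}, x ≠ w → f x ≠ f w := fun h h1 => h (f.injective h1)
  refine Closing.eq_top F (hne ab_ne) (hne ac_ne) (hne cd_ne) ?_ ?_
  · intro g hg
    rw [hfz] at hg
    exact hC g hg
  · intro g
    rw [hfz]
    intro hg
    set x : H := ⟨g * t * g⁻¹, hg⟩ with hx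
    have hxx : x * x = 1 := by
      apply Subtype.ext
      show g * t * g⁻¹ * (g * t * g⁻¹) = 1
      calc g * t * g⁻¹ * (g * t * g⁻¹) = g * (t * t) * g⁻¹ := by group
        _ = 1 := by rw [tt]; group
    have hx1 : x ≠ 1 := by
      intro h
      have h1 : g * t * g⁻¹ = 1 := congrArg Subtype.val h
      apply t1
      calc t = g⁻¹ * (g * t * g⁻¹) * g := by group
        _ = 1 := by rw [h1]; group
    have hfx : f.symm x * f.symm x = 1 := by rw [← map_mul, hxx, map_one]
    have hfx1 : f.symm x ≠ 1 := fun h => hx1 ((map_eq_one_iff f.symm f.symm.injective).1 h)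
    have htx : IsConj t (x : G) := isConj_iff.2 ⟨g, rfl⟩
    -- conjugates of `y`, `v` are excluded
    have key : ∀ w : Spor.Co2, ge mz * w = w * ge mz → IsConj w (f.symm x) → tr w = -8 := by
      intro w hw hwx
      have h1 : IsConj (f w) x := by
        have := (Transport.isConj_map f).2 hwx
        rwa [f.apply_symm_apply] at this
      have h2 : IsConj t ((f w : H) : G) := by
        obtain ⟨c, hc⟩ := isConj_iff.1 h1
        have hc' : (c : G) * (f w : G) * (c : G)⁻¹ = x := congrArg Subtype.val hc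
        have h7 : IsConj ((f w : H) : G) (x : G) := isConj_iff.2 ⟨c, hc'⟩
        exact htx.trans h7.symm
      have h3 : (f w : G) * t = t * (f w : G) := by
        have h4 : f (ge mz) * f w = f w * f (ge mz) := by rw [← map_mul, ← map_mul, hw]
        rw [hfz] at h4
        exact (congrArg Subtype.val h4).symm
      have hlift : ∀ D : Subgroup.centralizer ({t} : Set G),
          IsConj D ⟨f w, Subgroup.mem_centralizer_singleton_iff.2 h3⟩ →
          (∀ h : (D : G) ∈ H, tr (e ⟨D, h⟩) = -8) → tr w = -8 := by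
        intro D hD hDt
        obtain ⟨c, hc⟩ := isConj_iff.1 hD
        have hc' : (c : G) * (D : G) * (c : G)⁻¹ = f w := congrArg Subtype.val hc
        have h5 : (⟨c, hCH c⟩ : H) * ⟨D, hCH D⟩ * (⟨c, hCH c⟩ : H)⁻¹ = f w := Subtype.ext hc'
        have h6 : tr w = tr (e (f w)) := by rw [← hfs, f.symm_apply_apply]
        rw [h6, ← h5, map_mul, map_mul, map_inv, tr_conj]
        exact hDt _
      rcases hF ⟨f w, Subgroup.mem_centralizer_singleton_iff.2 h3⟩ h2 with h | h | h
      · have h4 : f w = ⟨t, htH⟩ := Subtype.ext h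
        rw [← f.symm_apply_apply w, hfs, h4]
        exact ht htH
      · exact hlift D0 h hD
      · exact hlift r h hr
    have hzE : ge mz ∈ E := facts.zE
    rcases tr_cases hfx hfx1 with h | h | h
    · have h1 := (Transport.isConj_map f).2 ((tr_eq_iff hfx).2 h)
      rw [hfz, f.apply_symm_apply] at h1
      exact h1
    · exfalso
      have h1 := key (ge my) (E_comm _ hzE _ facts.yE) ((tr_eq_iff_B hfx).2 h)
      rw [FactsD.tr_y] at h1
      norm_num at h1
    · exfalso
      have h1 := key (ge mv) (E_comm _ hzE _ facts.vE) ((tr_eq_iff_C hfx).2 h)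
      rw [FactsD.tr_v] at h1
      norm_num at h1

/-- the isomorphism -/
theorem iso {G : Type*} [Group G] [Finite G] {t : G} (tt : t * t = 1) (t1 : t ≠ 1) {H : Subgroup G}
    (e : H ≃* Spor.Co2) (hC : ∀ g : G, g * t = t * g → g ∈ H)
    (D0 r : Subgroup.centralizer ({t} : Set G))
    (hF : ∀ x : Subgroup.centralizer ({t} : Set G), IsConj t (x : G) →
      (x : G) = t ∨ IsConj D0 x ∨ IsConj r x)
    (ht : ∀ h : t ∈ H, tr (e ⟨t, h⟩) = -8) (hD : ∀ h : (D0 : G) ∈ H, tr (e ⟨D0, h⟩) = -8)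
    (hr : ∀ h : (r : G) ∈ H, tr (e ⟨r, h⟩) = -8) : Spor.IsoCo2 G := by
  have h := eq_top tt t1 e hC D0 r hF ht hD hr
  exact ⟨Subgroup.topEquiv.symm.trans ((MulEquiv.subgroupCongr h.symm).trans e)⟩

end Cfsg.Agent.Co2Type.Final
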