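import Cfsg.Agent.Co2Type.CCode

/-!
# helper907's presentation of `C = 2^{1+8}:Sp6(2)` in helper902's letters (R03, helper143)

`a = D 0`, `b = D 6`, `c = D 1`, `d = X_3 D 2`, `e = D 3`, `f = D 4`, `g = D 5`, `i = t`.
-/

set_option autoImplicit false

namespace Cfsg.Agent.Co2Type.P1Rels

open Cfsg.Agent.Co2Type.QModel Cfsg.Agent.Co2Type.Act Cfsg.Agent.Co2Type.Rels Cfsg.Agent.Co2Type.Unique
open Cfsg.Agent.Co2Type.CCode

/-- the presentation `P1` -/
structure P1 {H : Type*} [Group H] (a b c d e f g i : H) : Prop where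
  sqa : a * a = 1
  sqb : b * b = 1
  sqc : c * c = 1
  sqd : d * d = 1
  sqe : e * e = 1
  sqf : f * f = 1
  sqg : g * g = 1
  sqi : i * i = 1
  ia : i * a = a * i
  ib : i * b = b * i
  ic : i * c = c * i
  id : i * d = d * i
  ie : i * e = e * i
  if' : i * f = f * i
  ig : i * g = g * i
  ab : a * b = b * a
  ac : a * c * a = c * a * c
  ad : a * d = d * a
  ae : a * e = e * a
  af : a * f = f * a
  ag : a * g = g * a
  bc : b * c = c * b
  bd : b * d * b = d * b * d
  be : b * e = e * b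
  bf : b * f = f * b
  bg : b * g = g * b
  cd : c * d * c = d * c * d
  ce : c * e = e * c
  cf : c * f = f * c
  cg : c * g = g * c
  de : d * e * d = e * d * e
  df : d * f = f * d
  dg : d * g * d * g = g * d * g * d
  ef : e * f * e = f * e * f
  eg : e * g = g * e
  fg : f * g * f = g * f * g
  r1 : (d * f * e * g * d * g) ^ 3 = i
  r2 : (a * b * c * d * e * f * g) ^ 9 = 1
  r3 : (a * d * c * g) ^ 4 = 1
  r4 : (b * e * d * g) ^ 4 = 1

section

variable {C : Type*} [Group C] {t : C} {ev : QM →* C} {D : ℕ → C} {R : Rels false t ev D}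

/-- repeated word -/
def rep (w : List ℕ) : ℕ → List ℕ
  | 0 => []
  | n + 1 => w ++ rep w n

theorem wv_rep (w : List ℕ) (n : ℕ) : wv ev D (rep w n) = wv ev D w ^ n := by
  induction n with
  | zero => rw [pow_zero]; rfl
  | succ n ih => rw [rep, wv_append, ih, pow_succ']

theorem wv_D {j : ℕ} (hj : j < 7) : wv ev D [j] = D j := by
  show gv ev D j * 1 = D j
  rw [mul_one, gv, if_pos hj]

theorem wv_X {I : ℕ} (hI : I < 8) : wv ev D [I + 7] = ev (dec (2 ^ I)) := by
  show gv ev D (I + 7) * 1 = _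
  rw [mul_one, gv, if_neg (by omega), if_pos (by omega), Nat.add_sub_cancel]

include R in
theorem wv_t : wv ev D [15] = t := by
  show gv ev D 15 * 1 = _
  rw [mul_one, gv, if_neg (by omega), if_neg (by omega), if_pos rfl, R.ev_z]

theorem wv_d : wv ev D [10, 2] = ev (dec 8) * D 2 := by
  rw [show [10, 2] = [3 + 7] ++ [2] from rfl, wv_append, wv_X (by norm_num), wv_D (by norm_num)]
  norm_num

/-- the relations `P1` hold in `C` -/
theorem p1 (A : Data R) : P1 (D 0) (D 6) (D 1) (ev (dec 8) * D 2) (D 3) (D 4) (D 5) t := by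
  have w0 : D 0 = wv ev D [0] := (wv_D (by norm_num)).symm
  have w1 : D 1 = wv ev D [1] := (wv_D (by norm_num)).symm
  have w3 : D 3 = wv ev D [3] := (wv_D (by norm_num)).symm
  have w4 : D 4 = wv ev D [4] := (wv_D (by norm_num)).symm
  have w5 : D 5 = wv ev D [5] := (wv_D (by norm_num)).symm
  have w6 : D 6 = wv ev D [6] := (wv_D (by norm_num)).symm
  have wd : ev (dec 8) * D 2 = wv ev D [10, 2] := wv_d.symm
  have wt : t = wv ev D [15] := (wv_t (R := R)).symm
  have w1' : (1 : C) = wv ev D [] := rfl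
  rw [wd, w0, w1, w3, w4, w5, w6]
  constructor
  case r1 => rw [wt]; simp only [← wv_append, ← wv_rep]; exact wv_eq A (by decide +kernel)
  case r2 => rw [w1']; simp only [← wv_append, ← wv_rep]; exact wv_eq A (by decide +kernel)
  case r3 => rw [w1']; simp only [← wv_append, ← wv_rep]; exact wv_eq A (by decide +kernel)
  case r4 => rw [w1']; simp only [← wv_append, ← wv_rep]; exact wv_eq A (by decide +kernel)
  all_goals first
    | (rw [wt]; simp only [← wv_append]; exact wv_eq A (by decide +kernel))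
    | (simp only [← wv_append]; exact wv_eq A (by decide +kernel))
    | (rw [w1']; simp only [← wv_append]; exact wv_eq A (by decide +kernel))
    | (rw [wt, w1']; simp only [← wv_append]; exact wv_eq A (by decide +kernel))

/-- the subgroup generated by the letters -/
def PC (ev : QM →* C) (D : ℕ → C) (t : C) : Subgroup C :=
  Subgroup.closure {D 0, D 6, D 1, ev (dec 8) * D 2, D 3, D 4, D 5, t}

/-- letters of `P1` as words -/
def ll (k : ℕ) : List ℕ :=
  match k with
  | 0 => [0]
  | 1 => [6]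
  | 2 => [1]
  | 3 => [10, 2]
  | 4 => [3]
  | 5 => [4]
  | 6 => [5]
  | 7 => [15]
  | _ => []

/-- words in the letters of `P1` -/
def lw : List ℕ → List ℕ
  | [] => []
  | k :: w => ll k ++ lw w

theorem ll_mem (R : Rels false t ev D) (k : ℕ) : wv ev D (ll k) ∈ PC ev D t := by
  have h0 : D 0 ∈ PC ev D t := Subgroup.subset_closure (by simp)
  have h1 : D 6 ∈ PC ev D t := Subgroup.subset_closure (by simp)
  have h2 : D 1 ∈ PC ev D t := Subgroup.subset_closure (by simp)
  have h3 : ev (dec 8) * D 2 ∈ PC ev D t := Subgroup.subset_closure (by simp)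
  have h4 : D 3 ∈ PC ev D t := Subgroup.subset_closure (by simp)
  have h5 : D 4 ∈ PC ev D t := Subgroup.subset_closure (by simp)
  have h6 : D 5 ∈ PC ev D t := Subgroup.subset_closure (by simp)
  have h7 : t ∈ PC ev D t := Subgroup.subset_closure (by simp)
  unfold ll
  split
  · rw [wv_D (by norm_num)]; exact h0
  · rw [wv_D (by norm_num)]; exact h1
  · rw [wv_D (by norm_num)]; exact h2
  · rw [wv_d]; exact h3
  · rw [wv_D (by norm_num)]; exact h4
  · rw [wv_D (by norm_num)]; exact h5
  · rw [wv_D (by norm_num)]; exact h6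
  · rw [wv_t (R := R)]; exact h7
  · exact one_mem _

theorem lw_mem (R : Rels false t ev D) (w : List ℕ) : wv ev D (lw w) ∈ PC ev D t := by
  induction w with
  | nil => exact one_mem _
  | cons k w ih => rw [lw, wv_append]; exact mul_mem (ll_mem R k) ih

/-- the generators of `Q` as words in the letters of `P1` -/
def xw (I : ℕ) : List ℕ :=
  match I with
  | 0 => [4, 5, 0, 2, 3, 1, 3, 6, 3, 6, 1, 3, 2, 0, 5, 4]
  | 1 => [4, 5, 3, 1, 3, 6, 3, 6, 1, 3, 5, 4]
  | 2 => [6, 5, 0, 2, 3, 6, 3, 6, 2, 0, 5, 6]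
  | 3 => [6, 5, 3, 6, 3, 6, 5, 6]
  | 4 => [0, 2, 3, 1, 3, 6, 3, 6, 1, 3, 2, 0]
  | 5 => [3, 1, 3, 6, 3, 6, 1, 3]
  | 6 => [0, 2, 3, 6, 3, 6, 2, 0]
  | 7 => [3, 6, 3, 6]
  | _ => []

theorem xw_eq (A : Data R) {I : ℕ} (hI : I < 8) : ev (dec (2 ^ I)) = wv ev D (lw (xw I)) := by
  rw [← wv_X hI]
  apply wv_eq A
  have key : ∀ I < 8, wN [I + 7] = wN (lw (xw I)) := by decide +kernel
  exact key I hI

/-- the second generator -/
theorem d2_eq (A : Data R) : D 2 = wv ev D (lw (xw 3 ++ [3])) := by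
  rw [← wv_D (ev := ev) (D := D) (j := 2) (by norm_num)]
  exact wv_eq A (by decide +kernel)

theorem X_mem (A : Data R) {I : ℕ} (hI : I < 8) : ev (dec (2 ^ I)) ∈ PC ev D t := by
  rw [xw_eq A hI]; exact lw_mem R _

theorem ev_mem (A : Data R) (x : QM) : ev x ∈ PC ev D t := by
  obtain ⟨m, -, rfl⟩ := dec_512 x
  have h256 : ev (dec 256) ∈ PC ev D t := by
    rw [R.ev_z]; exact Subgroup.subset_closure (by simp)
  have h4 : ∀ (b : Bool) (x : QM), ev x ∈ PC ev D t →
      ev (if b = true then x else 1) ∈ PC ev D t := by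
    intro b x hx
    cases b
    · rw [if_neg (by simp), map_one]; exact one_mem _
    · exact hx
  rw [dec_expand m]
  simp only [map_mul]
  exact mul_mem (mul_mem (mul_mem (mul_mem (mul_mem (mul_mem (mul_mem (mul_mem
    (h4 _ _ (X_mem A (I := 0) (by norm_num))) (h4 _ _ (X_mem A (I := 1) (by norm_num))))
    (h4 _ _ (X_mem A (I := 2) (by norm_num)))) (h4 _ _ (X_mem A (I := 3) (by norm_num))))
    (h4 _ _ (X_mem A (I := 4) (by norm_num)))) (h4 _ _ (X_mem A (I := 5) (by norm_num))))
    (h4 _ _ (X_mem A (I := 6) (by norm_num)))) (h4 _ _ (X_mem A (I := 7) (by norm_num))))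
    (h4 _ _ h256)

/-- the letters generate `C` -/
theorem gen (A : Data R) :
    Subgroup.closure {D 0, D 6, D 1, ev (dec 8) * D 2, D 3, D 4, D 5, t} = ⊤ := by
  rw [eq_top_iff, ← R.gen, Subgroup.closure_le]
  rintro x (⟨q, rfl⟩ | ⟨j, hj, rfl⟩)
  · exact ev_mem A q
  · show D j ∈ PC ev D t
    interval_cases j
    · exact Subgroup.subset_closure (by simp)
    · exact Subgroup.subset_closure (by simp)
    · rw [d2_eq A]; exact lw_mem R _
    · exact Subgroup.subset_closure (by simp)
    · exact Subgroup.subset_closure (by simp)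
    · exact Subgroup.subset_closure (by simp)
    · exact Subgroup.subset_closure (by simp)

end

end Cfsg.Agent.Co2Type.P1Rels
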