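import Cfsg.Agent.Co2Type.PresDef
import Cfsg.Agent.Co2Type.P1Rels

/-!
# From helper143's structure `P1` to `PC` and `PG` (R03, helper907)
-/

set_option autoImplicit false

namespace Cfsg.Agent.Co2Type.PresDef

open Cfsg.Agent.Co2Type.P1Rels

variable {G : Type*} [Group G] {a b c d e f g h i : G}

theorem pow3_of_braid {x y : G} (hx : x * x = 1) (hy : y * y = 1) (h : x * y * x = y * x * y) :
    (x * y) ^ 3 = 1 := by
  have : (x * y) ^ 3 = (x * y * x) * (y * x * y) := by simp only [pow_succ, pow_zero, one_mul, mul_assoc]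
  rw [this, ← h]
  calc x * y * x * (x * y * x) = x * y * (x * x) * y * x := by simp only [mul_assoc]
    _ = 1 := by rw [hx, mul_one, mul_assoc x, hy, mul_one, hx]

theorem pow4_of_braid {x y : G} (hx : x * x = 1) (hy : y * y = 1) (h : x * y * x * y = y * x * y * x) :
    (x * y) ^ 4 = 1 := by
  have : (x * y) ^ 4 = (x * y * x * y) * (x * y * x * y) := by
    simp only [pow_succ, pow_zero, one_mul, mul_assoc]
  rw [this]
  nth_rw 1 [h]
  calc y * x * y * x * (x * y * x * y) = y * x * y * (x * x) * y * x * y := by simp only [mul_assoc]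
    _ = y * x * (y * y) * x * y := by rw [hx, mul_one]; simp only [mul_assoc]
    _ = 1 := by rw [hy, mul_one, mul_assoc y, hx, mul_one, hy]

theorem PC.of_P1 (P : P1 a b c d e f g i) : PC a b c d e f g i where
  aa := P.sqa
  bb := P.sqb
  cc := P.sqc
  dd := P.sqd
  ee := P.sqe
  ff := P.sqf
  gg := P.sqg
  ii := P.sqi
  ab := P.ab
  ad := P.ad
  ae := P.ae
  af := P.af
  ag := P.ag
  ai := P.ia.symm
  bc := P.bc
  be := P.be
  bf := P.bf
  bg := P.bg
  bi := P.ib.symm
  ce := P.ce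
  cf := P.cf
  cg := P.cg
  ci := P.ic.symm
  df := P.df
  di := P.id.symm
  eg := P.eg
  ei := P.ie.symm
  fi := P.if'.symm
  gi := P.ig.symm
  ac := pow3_of_braid P.sqa P.sqc P.ac
  cd := pow3_of_braid P.sqc P.sqd P.cd
  db := pow3_of_braid P.sqd P.sqb P.bd.symm
  de := pow3_of_braid P.sqd P.sqe P.de
  ef := pow3_of_braid P.sqe P.sqf P.ef
  fg := pow3_of_braid P.sqf P.sqg P.fg
  dg := pow4_of_braid P.sqd P.sqg P.dg
  r1 := P.r1
  r2 := P.r3
  r3 := P.r4
  r4 := P.r2

theorem PG.of_P1 (P : P1 a b c d e f g i) (hh : h * h = 1) (ha : h * a = a * h) (hb : h * b = b * h)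
    (hc : h * c = c * h) (hd : h * d = d * h) (he : h * e = e * h) (hf : h * f = f * h)
    (hi : (h * i) ^ 3 = 1) (hg : (g * h) ^ 4 = 1) (h5 : (g * h * i) ^ 3 = b * e) :
    PG a b c d e f g h i :=
  { PC.of_P1 P with
    hh := hh, ah := ha.symm, bh := hb.symm, ch := hc.symm, dh := hd.symm, eh := he.symm, fh := hf.symm
    hi := hi, gh := hg, r5 := h5 }

end Cfsg.Agent.Co2Type.PresDef
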