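import Cfsg.Agent.Co2Type.LocalMain
import Cfsg.Agent.Co2Type.PresP1
import Cfsg.Agent.Co2Type.Final

/-!
# Assembly of the recognition of `Co₂`

From the local structure and an embedding of `Co₂` with the given values on the generators.
-/

set_option autoImplicit false

namespace Cfsg.Agent.Co2Type.Assemble

open Cfsg Cfsg.Agent.Co2Type.Mono Cfsg.Agent.Co2Type.LocalMain Cfsg.Agent.Co2Type.PresDef Cfsg.Agent.Co2Type.Facts
  Cfsg.Agent.Co2Type.FactsD Cfsg.Agent.Co2Type.FactsCo2

theorem pg_of_loc {G : Type*} [Group G] {t a b c d e f g h : G} (L : Loc t a b c d e f g h) :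
    PG a b c d e f g h t :=
  PG.of_P1 L.p1 L.p2.hh L.p2.ha L.p2.hb L.p2.hc L.p2.hd L.p2.he L.p2.hf L.p2.hi L.p2.hg L.p2.r

theorem iso_of_loc {G : Type*} [Group G] [Finite G] {t a b c d e f g h : G} (L : Loc t a b c d e f g h)
    (φ : Spor.Co2 →* G) (hφ : Function.Injective φ) {A B C D E F K I : Spor.Co2}
    (hA : φ A = a) (hB : φ B = b) (hC : φ C = c) (hD : φ D = d) (hE : φ E = e) (hF : φ F = f) (hK : φ K = g)
    (hI : φ I = t) (trI : tr I = -8) (trA : tr A = -8) (trR : tr (I * (E * K * B)) = -8) :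
    Spor.IsoCo2 G := by
  have hr : ∀ x : Spor.Co2, φ x ∈ φ.range := fun x => ⟨x, rfl⟩
  have P := pg_of_loc L
  let ψ : φ.range ≃* Spor.Co2 := (MonoidHom.ofInjective hφ).symm
  have hψ : ∀ (x : Spor.Co2) (y : G), φ x = y → ∀ hy : y ∈ φ.range, ψ ⟨y, hy⟩ = x := by
    intro x y hxy hy
    apply (MonoidHom.ofInjective hφ).injective
    show (MonoidHom.ofInjective hφ) ((MonoidHom.ofInjective hφ).symm ⟨y, hy⟩) = _
    rw [MulEquiv.apply_symm_apply]
    exact Subtype.ext hxy.symm
  have ct : t * t = t * t := rfl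
  have ca : a * t = t * a := P.ai
  have cr : t * (e * g * b) * t = t * (t * (e * g * b)) := by
    have h1 : e * g * b * t = t * (e * g * b) := by
      calc e * g * b * t = e * g * (b * t) := by group
        _ = e * g * (t * b) := by rw [P.bi]
        _ = e * (g * t) * b := by group
        _ = e * (t * g) * b := by rw [P.gi]
        _ = (e * t) * g * b := by group
        _ = (t * e) * g * b := by rw [P.ei]
        _ = t * (e * g * b) := by group
    rw [mul_assoc, h1]
  refine Final.iso L.tt L.t1 ψ ?_ ⟨a, Subgroup.mem_centralizer_singleton_iff.2 ca⟩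
    ⟨t * (e * g * b), Subgroup.mem_centralizer_singleton_iff.2 cr⟩ ?_ ?_ ?_ ?_
  · intro x hx
    refine (Subgroup.closure_le φ.range).2 ?_ (L.gen x hx)
    intro y hy
    simp only [Set.mem_insert_iff, Set.mem_singleton_iff] at hy
    rcases hy with rfl | rfl | rfl | rfl | rfl | rfl | rfl | rfl
    · exact ⟨A, hA⟩
    · exact ⟨B, hB⟩
    · exact ⟨C, hC⟩
    · exact ⟨D, hD⟩
    · exact ⟨E, hE⟩
    · exact ⟨F, hF⟩
    · exact ⟨K, hK⟩
    · exact ⟨I, hI⟩
  · intro x hx
    rcases L.fus x (Subgroup.mem_centralizer_singleton_iff.1 x.2) hx with h1 | ⟨k, hk, h1⟩ | ⟨k, hk, h1⟩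
    · left; exact h1
    · right; left
      exact isConj_iff.2 ⟨⟨k, Subgroup.mem_centralizer_singleton_iff.2 hk⟩, Subtype.ext h1⟩
    · right; right
      exact isConj_iff.2 ⟨⟨k, Subgroup.mem_centralizer_singleton_iff.2 hk⟩, Subtype.ext h1⟩
  · intro h1
    rw [hψ I t hI h1]; exact trI
  · intro h1
    rw [hψ A a hA h1]; exact trA
  · intro h1
    rw [hψ (I * (E * K * B)) (t * (e * g * b)) (by rw [map_mul, map_mul, map_mul, hI, hE, hK, hB]) h1]
    exact trR

end Cfsg.Agent.Co2Type.Assemble
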