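import Cfsg.Agent.Co2Type.Pair

/-!
# The principle (C1) (R03, letter B, helper871)

Let `t` be weakly closed in `Q`. If `t x` is conjugate to `t` for every conjugate `x ≠ t` of `t` commuting
with `t`, then `t` is isolated.
-/

set_option autoImplicit false

namespace Cfsg.Agent.Co2Type.C1

open Cfsg.Agent.Co2Type.Pair

variable {G : Type*} [Group G] {Q : Subgroup G} {t : G}

/-- products of commuting distinct conjugates of `t` are conjugates of `t` -/
theorem isConj_mul (hF : ∀ x : G, IsConj t x → x * t = t * x → x ≠ t → IsConj t (t * x)) {x y : G}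
    (hx : IsConj t x) (hy : IsConj t y) (hc : x * y = y * x) (hne : x ≠ y) : IsConj t (x * y) := by
  obtain ⟨g, hg⟩ := isConj_iff.1 hx
  have h1 : IsConj t (g⁻¹ * y * g) := hy.trans (isConj_iff.2 ⟨g⁻¹, by rw [inv_inv]⟩)
  have h2 : g⁻¹ * y * g * t = t * (g⁻¹ * y * g) := by
    have e1 : g⁻¹ * y * g * t = g⁻¹ * (y * (g * t * g⁻¹)) * g := by group
    have e2 : t * (g⁻¹ * y * g) = g⁻¹ * ((g * t * g⁻¹) * y) * g := by group
    rw [e1, e2, hg, hc]
  have h3 : g⁻¹ * y * g ≠ t := by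
    intro h
    apply hne
    rw [← hg, ← h]
    group
  have h4 := hF _ h1 h2 h3
  refine h4.trans (isConj_iff.2 ⟨g, ?_⟩)
  rw [← hg]
  group

/-- **Principle (C1).** -/
theorem eq_of_mul (hw : WC Q t) (ht : t * t = 1)
    (hq : ∀ x : G, IsConj t x → x * t = t * x → x ≠ t → ∃ q : G, x * q * x⁻¹ * q⁻¹ ∈ Q ∧
      (x * q * x⁻¹ * q⁻¹) * (x * q * x⁻¹ * q⁻¹) = 1 ∧ x * q * x⁻¹ * q⁻¹ ≠ 1 ∧
      x * q * x⁻¹ * q⁻¹ ≠ t)
    (hF : ∀ x : G, IsConj t x → x * t = t * x → x ≠ t → IsConj t (t * x)) {x : G}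
    (hx : IsConj t x) (hc : x * t = t * x) : x = t := by
  by_contra hne
  obtain ⟨q, hQ, h1, h2, h3⟩ := hq x hx hc hne
  have hxx : x * x = 1 := by
    obtain ⟨g, hg⟩ := isConj_iff.1 hx
    rw [← hg]
    calc g * t * g⁻¹ * (g * t * g⁻¹) = g * (t * t) * g⁻¹ := by group
      _ = 1 := by rw [ht]; group
  have hxi : x⁻¹ = x := inv_eq_of_mul_eq_one_left hxx
  set y := q * x * q⁻¹ with hy
  have hyy : y * y = 1 := by
    calc q * x * q⁻¹ * (q * x * q⁻¹) = q * (x * x) * q⁻¹ := by group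
      _ = 1 := by rw [hxx]; group
  have hyi : y⁻¹ = y := inv_eq_of_mul_eq_one_left hyy
  have hcxy : x * q * x⁻¹ * q⁻¹ = x * y := by
    rw [hxi, hy]; group
  rw [hcxy] at hQ h1 h2 h3
  have hcomm : x * y = y * x := by
    have h4 : x * y = (x * y)⁻¹ := (inv_eq_of_mul_eq_one_left h1).symm
    rwa [mul_inv_rev, hxi, hyi] at h4
  have hne2 : x ≠ y := by
    intro h
    rw [← h, hxx] at h2
    exact h2 rfl
  have h5 : IsConj t y := hx.trans (isConj_iff.2 ⟨q, rfl⟩)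
  exact h3 (hw.eq_of_mem hQ (isConj_mul hF hx h5 hcomm hne2))

end Cfsg.Agent.Co2Type.C1
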