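import Cfsg.Agent.Co2Type.Unique
import Cfsg.Agent.Lib.PackMat

/-!
# Codes of the elements of `C = 2^{1+8}_+ : Sp6(2)` (R03, helper757)

`C` with `Rels false t ev D`, `Nat.card C = 743178240` and `C_C(Q) ≤ Q`.
`cd c : ℕ` = nine slots of nine bits: slot `0` = code of the `Q`-part, slot `I + 1` = code of the image of the
`I`-th generator of `Q` under the `L`-part, `L = ⟨D j⟩`.
-/

set_option autoImplicit false

namespace Cfsg.Agent.Co2Type.CCode

open Cfsg.Agent.Co2Type.QModel Cfsg.Agent.Co2Type.Act Cfsg.Agent.Co2Type.Rels Cfsg.Agent.Co2Type.Unique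
open Cfsg.Agent.Lib.PackMat (force)

/-! ### arithmetic of codes -/

/-- the parity `P hi lo` for `hi, lo < 16` -/
def P (hi lo : ℕ) : Bool :=
  ((hi.testBit 0 && lo.testBit 3) ^^ (hi.testBit 1 && lo.testBit 2)) ^^
    ((hi.testBit 2 && lo.testBit 1) ^^ (hi.testBit 3 && lo.testBit 0))

/-- table of `P` -/
def T0 : ℕ := 0x6996969699666666a55a5a5a55aaaaaac33c3c3c33cccccc0ff0f0f0ff000000

/-- multiplication of `Q` on codes (kernel-fast) -/
noncomputable def qm (m n : ℕ) : ℕ := force m fun m => force n fun n =>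
  Nat.xor (Nat.xor m n)
    (Nat.shiftLeft (Nat.land (Nat.shiftRight T0 (Nat.add (Nat.land m 240) (Nat.land n 15))) 1) 8)

theorem land_240 (m : ℕ) : m &&& 240 = 16 * ((m >>> 4) &&& 15) := by
  have h : 16 * ((m >>> 4) &&& 15) = ((m >>> 4) &&& 15) <<< 4 := by
    rw [Nat.shiftLeft_eq]; ring
  rw [h]
  apply Nat.eq_of_testBit_eq
  intro i
  rw [Nat.testBit_and, Nat.testBit_shiftLeft, Nat.testBit_and, Nat.testBit_shiftRight]
  by_cases hi : 4 ≤ i
  · have e : 4 + (i - 4) = i := by omega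
    have e2 : (240 : ℕ).testBit i = (15 : ℕ).testBit (i - 4) := by
      have : (240 : ℕ) = 15 <<< 4 := by decide
      rw [this, Nat.testBit_shiftLeft]
      simp [hi]
    rw [e, e2]
    simp [hi]
  · have e2 : (240 : ℕ).testBit i = false := by
      have : (240 : ℕ) = 15 <<< 4 := by decide
      rw [this, Nat.testBit_shiftLeft]
      simp [hi]
    rw [e2]
    simp [hi]

theorem qm_def (m n : ℕ) : qm m n =
    (m ^^^ n) ^^^ (((T0 >>> (16 * ((m >>> 4) &&& 15) + (n &&& 15))) &&& 1) <<< 8) := by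
  rw [← land_240]
  rfl

theorem T0_eq : ∀ hi < 16, ∀ lo < 16, ((T0 >>> (16 * hi + lo)) &&& 1) <<< 8 = cond (P hi lo) 256 0 := by
  decide +kernel

theorem par_eq (m n : ℕ) : par m n = P ((m >>> 4) &&& 15) (n &&& 15) := by
  unfold par P
  simp only [Nat.testBit_and, Nat.testBit_shiftRight]
  have h0 : (15 : ℕ).testBit 0 = true := by decide
  have h1 : (15 : ℕ).testBit 1 = true := by decide
  have h2 : (15 : ℕ).testBit 2 = true := by decide
  have h3 : (15 : ℕ).testBit 3 = true := by decide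
  rw [h0, h1, h2, h3]
  simp only [Bool.and_true]

theorem qm_eq (m n : ℕ) : qm m n = qmul m n := by
  rw [qm_def]
  unfold qmul
  rw [par_eq, T0_eq _ (Nat.lt_of_le_of_lt Nat.and_le_right (by norm_num)) _
    (Nat.lt_of_le_of_lt Nat.and_le_right (by norm_num))]

theorem qmul_lt {m n : ℕ} (hm : m < 512) (hn : n < 512) : qmul m n < 512 := by
  have e : (512 : ℕ) = 2 ^ 9 := by norm_num
  unfold qmul
  rw [e] at *
  apply Nat.xor_lt_two_pow
  · exact Nat.xor_lt_two_pow hm hn
  · cases par m n <;> norm_num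

theorem dec_inj {m n : ℕ} (hm : m < 512) (hn : n < 512) (h : dec m = dec n) : m = n := by
  have e : (512 : ℕ) = 2 ^ 9 := by norm_num
  rw [e] at hm hn
  apply Nat.eq_of_testBit_eq
  intro i
  rcases Nat.lt_trichotomy i 8 with hi | hi | hi
  · have := congrFun (congrArg QM.v h) ⟨i, hi⟩
    change (if m.testBit i = true then (1 : ZMod 2) else 0) = if n.testBit i = true then 1 else 0 at this
    revert this
    cases m.testBit i <;> cases n.testBit i <;> decide
  · subst hi
    have := congrArg QM.a h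
    change (if m.testBit 8 = true then (1 : ZMod 2) else 0) = if n.testBit 8 = true then 1 else 0 at this
    revert this
    cases m.testBit 8 <;> cases n.testBit 8 <;> decide
  · rw [Nat.testBit_lt_two_pow (lt_of_lt_of_le hm (Nat.pow_le_pow_right (by norm_num) hi)),
      Nat.testBit_lt_two_pow (lt_of_lt_of_le hn (Nat.pow_le_pow_right (by norm_num) hi))]

/-- an automorphism of `Q` given by the images of the generators -/
def app (f : ℕ → ℕ) (m : ℕ) : ℕ :=
  qmul (qmul (qmul (qmul (qmul (qmul (qmul (qmul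
    (cond (m.testBit 0) (f 0) 0)
    (cond (m.testBit 1) (f 1) 0))
    (cond (m.testBit 2) (f 2) 0))
    (cond (m.testBit 3) (f 3) 0))
    (cond (m.testBit 4) (f 4) 0))
    (cond (m.testBit 5) (f 5) 0))
    (cond (m.testBit 6) (f 6) 0))
    (cond (m.testBit 7) (f 7) 0))
    (cond (m.testBit 8) 256 0)

theorem app_lt {f : ℕ → ℕ} (hf : ∀ k, k < 8 → f k < 512) (m : ℕ) : app f m < 512 := by
  have hc : ∀ (b : Bool) (x : ℕ), x < 512 → cond b x 0 < 512 := by
    intro b x hx
    cases b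
    · norm_num
    · exact hx
  unfold app
  refine qmul_lt (qmul_lt (qmul_lt (qmul_lt (qmul_lt (qmul_lt (qmul_lt (qmul_lt ?_ ?_) ?_) ?_) ?_) ?_) ?_) ?_) ?_
  all_goals first
    | exact hc _ _ (hf _ (by norm_num))
    | exact hc _ _ (by norm_num)

/-- slots -/
def slot (x k : ℕ) : ℕ := (x >>> (9 * k)) &&& 511

/-- nine slots -/
def pack (f : ℕ → ℕ) : ℕ :=
  f 0 + 2 ^ 9 * f 1 + 2 ^ 18 * f 2 + 2 ^ 27 * f 3 + 2 ^ 36 * f 4 + 2 ^ 45 * f 5 + 2 ^ 54 * f 6 + 2 ^ 63 * f 7 +
    2 ^ 72 * f 8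

theorem slot_eq (x k : ℕ) : slot x k = x / 2 ^ (9 * k) % 512 := by
  unfold slot
  rw [Nat.shiftRight_eq_div_pow, show (511 : ℕ) = 2 ^ 9 - 1 by norm_num, Nat.and_two_pow_sub_one_eq_mod]

theorem slot_pack {f : ℕ → ℕ} (hf : ∀ k, k < 9 → f k < 512) {k : ℕ} (hk : k < 9) : slot (pack f) k = f k := by
  rw [slot_eq]
  unfold pack
  have h0 := hf 0 (by norm_num)
  have h1 := hf 1 (by norm_num)
  have h2 := hf 2 (by norm_num)
  have h3 := hf 3 (by norm_num)
  have h4 := hf 4 (by norm_num)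
  have h5 := hf 5 (by norm_num)
  have h6 := hf 6 (by norm_num)
  have h7 := hf 7 (by norm_num)
  have h8 := hf 8 (by norm_num)
  have key : ∀ x0 x1 x2 x3 x4 x5 x6 x7 x8 : ℕ, x0 < 512 → x1 < 512 → x2 < 512 → x3 < 512 → x4 < 512 → x5 < 512 →
      x6 < 512 → x7 < 512 → x8 < 512 → ∀ z : ℕ, z = x0 + 2 ^ 9 * x1 + 2 ^ 18 * x2 + 2 ^ 27 * x3 + 2 ^ 36 * x4 +
        2 ^ 45 * x5 + 2 ^ 54 * x6 + 2 ^ 63 * x7 + 2 ^ 72 * x8 →
      z / 2 ^ (9 * 0) % 512 = x0 ∧ z / 2 ^ (9 * 1) % 512 = x1 ∧ z / 2 ^ (9 * 2) % 512 = x2 ∧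
      z / 2 ^ (9 * 3) % 512 = x3 ∧ z / 2 ^ (9 * 4) % 512 = x4 ∧ z / 2 ^ (9 * 5) % 512 = x5 ∧
      z / 2 ^ (9 * 6) % 512 = x6 ∧ z / 2 ^ (9 * 7) % 512 = x7 ∧ z / 2 ^ (9 * 8) % 512 = x8 := by
    intro x0 x1 x2 x3 x4 x5 x6 x7 x8 g0 g1 g2 g3 g4 g5 g6 g7 g8 z hz
    norm_num at hz ⊢
    omega
  obtain ⟨e0, e1, e2, e3, e4, e5, e6, e7, e8⟩ := key _ _ _ _ _ _ _ _ _ h0 h1 h2 h3 h4 h5 h6 h7 h8 _ rfl
  interval_cases k
  · exact e0
  · exact e1
  · exact e2
  · exact e3
  · exact e4
  · exact e5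
  · exact e6
  · exact e7
  · exact e8

/-- apply an automorphism, given by eight images, to the element `m` of `Q` -/
noncomputable def lapp8 (s1 s2 s3 s4 s5 s6 s7 s8 m : ℕ) : ℕ := force m fun m =>
  Nat.xor (qm (qm (qm (qm (qm (qm (qm
    (Nat.mul s1 (Nat.land (Nat.shiftRight m 0) 1))
    (Nat.mul s2 (Nat.land (Nat.shiftRight m 1) 1)))
    (Nat.mul s3 (Nat.land (Nat.shiftRight m 2) 1)))
    (Nat.mul s4 (Nat.land (Nat.shiftRight m 3) 1)))
    (Nat.mul s5 (Nat.land (Nat.shiftRight m 4) 1)))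
    (Nat.mul s6 (Nat.land (Nat.shiftRight m 5) 1)))
    (Nat.mul s7 (Nat.land (Nat.shiftRight m 6) 1)))
    (Nat.mul s8 (Nat.land (Nat.shiftRight m 7) 1))) (Nat.land m 256)

theorem mul_bit (m k c : ℕ) : c * ((m >>> k) &&& 1) = cond (m.testBit k) c 0 := by
  have h : (m >>> k) &&& 1 = (m.testBit k).toNat := by
    rw [Nat.and_one_is_mod, Nat.toNat_testBit, Nat.shiftRight_eq_div_pow]
  rw [h]
  cases m.testBit k <;> simp

theorem and_256 (m : ℕ) : m &&& 256 = cond (m.testBit 8) 256 0 := by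
  apply Nat.eq_of_testBit_eq
  intro i
  rw [Nat.testBit_and, show (256 : ℕ) = 2 ^ 8 by norm_num, Nat.testBit_two_pow]
  by_cases hi : 8 = i
  · subst hi
    have h8 : (2 ^ 8 : ℕ).testBit 8 = true := by decide
    cases m.testBit 8
    · simp
    · simp only [cond_true, h8, decide_true, Bool.and_true]
  · cases m.testBit 8
    · simp [hi]
    · simp only [cond_true, Nat.testBit_two_pow, hi, decide_false, Bool.and_false]

theorem qmul_256 (m n : ℕ) : qmul m (cond (n.testBit 8) 256 0) = m ^^^ (n &&& 256) := by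
  rw [and_256]
  have : par m (cond (n.testBit 8) 256 0) = false := by
    unfold par
    cases n.testBit 8
    · simp
    · have h3 : (256 : ℕ).testBit 3 = false := by decide
      have h2 : (256 : ℕ).testBit 2 = false := by decide
      have h1 : (256 : ℕ).testBit 1 = false := by decide
      have h0 : (256 : ℕ).testBit 0 = false := by decide
      simp only [cond_true, h3, h2, h1, h0, Bool.and_false, Bool.xor_false]
  unfold qmul
  rw [this]
  simp

theorem lapp8_eq (s1 s2 s3 s4 s5 s6 s7 s8 m : ℕ) (f : ℕ → ℕ) (h1 : f 0 = s1) (h2 : f 1 = s2) (h3 : f 2 = s3)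
    (h4 : f 3 = s4) (h5 : f 4 = s5) (h6 : f 5 = s6) (h7 : f 6 = s7) (h8 : f 7 = s8) :
    lapp8 s1 s2 s3 s4 s5 s6 s7 s8 m = app f m := by
  subst h1 h2 h3 h4 h5 h6 h7 h8
  unfold app
  rw [qmul_256, ← mul_bit, ← mul_bit, ← mul_bit, ← mul_bit, ← mul_bit, ← mul_bit, ← mul_bit, ← mul_bit]
  simp only [← qm_eq]
  rfl

/-- multiplication of codes (kernel-fast, about 1 ms) -/
noncomputable def mulN (x y : ℕ) : ℕ :=
  force x fun x => force y fun y =>
  force (Nat.land (Nat.shiftRight x 9) 511) fun s1 =>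
  force (Nat.land (Nat.shiftRight x 18) 511) fun s2 =>
  force (Nat.land (Nat.shiftRight x 27) 511) fun s3 =>
  force (Nat.land (Nat.shiftRight x 36) 511) fun s4 =>
  force (Nat.land (Nat.shiftRight x 45) 511) fun s5 =>
  force (Nat.land (Nat.shiftRight x 54) 511) fun s6 =>
  force (Nat.land (Nat.shiftRight x 63) 511) fun s7 =>
  force (Nat.land (Nat.shiftRight x 72) 511) fun s8 =>
  Nat.add (qm (Nat.land (Nat.shiftRight x 0) 511)
    (lapp8 s1 s2 s3 s4 s5 s6 s7 s8 (Nat.land (Nat.shiftRight y 0) 511)))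
  (Nat.add (Nat.mul 0x200 (lapp8 s1 s2 s3 s4 s5 s6 s7 s8 (Nat.land (Nat.shiftRight y 9) 511)))
  (Nat.add (Nat.mul 0x40000 (lapp8 s1 s2 s3 s4 s5 s6 s7 s8 (Nat.land (Nat.shiftRight y 18) 511)))
  (Nat.add (Nat.mul 0x8000000 (lapp8 s1 s2 s3 s4 s5 s6 s7 s8 (Nat.land (Nat.shiftRight y 27) 511)))
  (Nat.add (Nat.mul 0x1000000000 (lapp8 s1 s2 s3 s4 s5 s6 s7 s8 (Nat.land (Nat.shiftRight y 36) 511)))
  (Nat.add (Nat.mul 0x200000000000 (lapp8 s1 s2 s3 s4 s5 s6 s7 s8 (Nat.land (Nat.shiftRight y 45) 511)))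
  (Nat.add (Nat.mul 0x40000000000000 (lapp8 s1 s2 s3 s4 s5 s6 s7 s8 (Nat.land (Nat.shiftRight y 54) 511)))
  (Nat.add (Nat.mul 0x8000000000000000 (lapp8 s1 s2 s3 s4 s5 s6 s7 s8 (Nat.land (Nat.shiftRight y 63) 511)))
  (Nat.mul 0x1000000000000000000 (lapp8 s1 s2 s3 s4 s5 s6 s7 s8 (Nat.land (Nat.shiftRight y 72) 511)))))))))) 

theorem mulN_def (x y : ℕ) : mulN x y =
    qm (slot x 0) (lapp8 (slot x 1) (slot x 2) (slot x 3) (slot x 4) (slot x 5) (slot x 6) (slot x 7) (slot x 8) (slot y 0)) +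
    (0x200 * lapp8 (slot x 1) (slot x 2) (slot x 3) (slot x 4) (slot x 5) (slot x 6) (slot x 7) (slot x 8) (slot y 1) +
    (0x40000 * lapp8 (slot x 1) (slot x 2) (slot x 3) (slot x 4) (slot x 5) (slot x 6) (slot x 7) (slot x 8) (slot y 2) +
    (0x8000000 * lapp8 (slot x 1) (slot x 2) (slot x 3) (slot x 4) (slot x 5) (slot x 6) (slot x 7) (slot x 8) (slot y 3) +
    (0x1000000000 * lapp8 (slot x 1) (slot x 2) (slot x 3) (slot x 4) (slot x 5) (slot x 6) (slot x 7) (slot x 8) (slot y 4) +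
    (0x200000000000 * lapp8 (slot x 1) (slot x 2) (slot x 3) (slot x 4) (slot x 5) (slot x 6) (slot x 7) (slot x 8) (slot y 5) +
    (0x40000000000000 * lapp8 (slot x 1) (slot x 2) (slot x 3) (slot x 4) (slot x 5) (slot x 6) (slot x 7) (slot x 8) (slot y 6) +
    (0x8000000000000000 * lapp8 (slot x 1) (slot x 2) (slot x 3) (slot x 4) (slot x 5) (slot x 6) (slot x 7) (slot x 8) (slot y 7) +
    0x1000000000000000000 * lapp8 (slot x 1) (slot x 2) (slot x 3) (slot x 4) (slot x 5) (slot x 6) (slot x 7) (slot x 8) (slot y 8)))))))) := rfl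

/-- the slots of a product -/
def mulf (f g : ℕ → ℕ) (k : ℕ) : ℕ :=
  if k = 0 then qmul (f 0) (app (fun i => f (i + 1)) (g 0)) else app (fun i => f (i + 1)) (g k)

theorem app_congr {f g : ℕ → ℕ} (h : ∀ k, k < 8 → f k = g k) (m : ℕ) : app f m = app g m := by
  unfold app
  rw [h 0 (by norm_num), h 1 (by norm_num), h 2 (by norm_num), h 3 (by norm_num), h 4 (by norm_num),
    h 5 (by norm_num), h 6 (by norm_num), h 7 (by norm_num)]

theorem mulN_pack {f g : ℕ → ℕ} (hf : ∀ k, k < 9 → f k < 512) (hg : ∀ k, k < 9 → g k < 512) :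
    mulN (pack f) (pack g) = pack (mulf f g) := by
  have hx : ∀ m, lapp8 (slot (pack f) 1) (slot (pack f) 2) (slot (pack f) 3) (slot (pack f) 4) (slot (pack f) 5)
      (slot (pack f) 6) (slot (pack f) 7) (slot (pack f) 8) m = app (fun i => f (i + 1)) m := by
    intro m
    apply lapp8_eq <;> exact (slot_pack hf (by norm_num)).symm
  rw [mulN_def]
  simp only [hx, qm_eq]
  rw [slot_pack hf (by norm_num), slot_pack hg (by norm_num), slot_pack hg (by norm_num), slot_pack hg (by norm_num),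
    slot_pack hg (by norm_num), slot_pack hg (by norm_num), slot_pack hg (by norm_num), slot_pack hg (by norm_num),
    slot_pack hg (by norm_num), slot_pack hg (by norm_num)]
  simp only [pack, mulf]
  norm_num
  ring

theorem mulf_lt {f g : ℕ → ℕ} (hf : ∀ k, k < 9 → f k < 512) {k : ℕ} : mulf f g k < 512 := by
  unfold mulf
  have h := app_lt (f := fun i => f (i + 1)) (fun k hk => hf (k + 1) (by omega))
  split
  · exact qmul_lt (hf 0 (by norm_num)) (h _)
  · exact h _

theorem pack_inj {f g : ℕ → ℕ} (hf : ∀ k, k < 9 → f k < 512) (hg : ∀ k, k < 9 → g k < 512)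
    (h : pack f = pack g) : ∀ k, k < 9 → f k = g k := by
  intro k hk
  rw [← slot_pack hf hk, ← slot_pack hg hk, h]

theorem dec_512 (q : QM) : ∃ m, m < 512 ∧ dec m = q := by
  refine ⟨code q.v q.a, ?_, dec_code q⟩
  unfold code
  have h : ∀ x : ZMod 2, x.val < 2 := fun x => ZMod.val_lt x
  have h0 := h (q.v 0)
  have h1 := h (q.v 1)
  have h2 := h (q.v 2)
  have h3 := h (q.v 3)
  have h4 := h (q.v 4)
  have h5 := h (q.v 5)
  have h6 := h (q.v 6)
  have h7 := h (q.v 7)
  have h8 := h q.a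
  omega

/-! ### the code of an element -/

section

variable {C : Type*} [Group C]

/-- the complement -/
def LL (D : ℕ → C) : Subgroup C := Subgroup.closure {g | ∃ j, j < 7 ∧ g = D j}

/-- conjugation is determined by the images of the generators -/
theorem conj_app (ev : QM →* C) (h : C) (f : ℕ → ℕ)
    (hf : ∀ I : Fin 8, h * ev (dec (2 ^ (I : ℕ))) * h⁻¹ = ev (dec (f I)))
    (hz : h * ev (dec 256) * h⁻¹ = ev (dec 256)) (m : ℕ) :
    h * ev (dec m) * h⁻¹ = ev (dec (app f m)) := by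
  have key : ∀ x y : C, h * (x * y) * h⁻¹ = (h * x * h⁻¹) * (h * y * h⁻¹) := by
    intro x y; group
  have hif : ∀ (b : Bool) (x y : QM), h * ev x * h⁻¹ = ev y →
      h * ev (if b = true then x else 1) * h⁻¹ = ev (if b = true then y else 1) := by
    intro b x y hxy
    cases b
    · simp
    · simpa using hxy
  rw [dec_expand m, app, dec_qmul, dec_qmul, dec_qmul, dec_qmul, dec_qmul, dec_qmul, dec_qmul,
    dec_qmul]
  simp only [dec_cond, map_mul, key]
  have g0 : ∀ b : Bool, h * ev (if b = true then dec (2 ^ 0) else 1) * h⁻¹ =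
      ev (if b = true then dec (f 0) else 1) := fun b => hif b _ _ (hf 0)
  have g1 : ∀ b : Bool, h * ev (if b = true then dec (2 ^ 1) else 1) * h⁻¹ =
      ev (if b = true then dec (f 1) else 1) := fun b => hif b _ _ (hf 1)
  have g2 : ∀ b : Bool, h * ev (if b = true then dec (2 ^ 2) else 1) * h⁻¹ =
      ev (if b = true then dec (f 2) else 1) := fun b => hif b _ _ (hf 2)
  have g3 : ∀ b : Bool, h * ev (if b = true then dec (2 ^ 3) else 1) * h⁻¹ =
      ev (if b = true then dec (f 3) else 1) := fun b => hif b _ _ (hf 3)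
  have g4 : ∀ b : Bool, h * ev (if b = true then dec (2 ^ 4) else 1) * h⁻¹ =
      ev (if b = true then dec (f 4) else 1) := fun b => hif b _ _ (hf 4)
  have g5 : ∀ b : Bool, h * ev (if b = true then dec (2 ^ 5) else 1) * h⁻¹ =
      ev (if b = true then dec (f 5) else 1) := fun b => hif b _ _ (hf 5)
  have g6 : ∀ b : Bool, h * ev (if b = true then dec (2 ^ 6) else 1) * h⁻¹ =
      ev (if b = true then dec (f 6) else 1) := fun b => hif b _ _ (hf 6)
  have g7 : ∀ b : Bool, h * ev (if b = true then dec (2 ^ 7) else 1) * h⁻¹ =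
      ev (if b = true then dec (f 7) else 1) := fun b => hif b _ _ (hf 7)
  rw [g0, g1, g2, g3, g4, g5, g6, g7, hif _ _ _ hz]

/-- `f` is the slot function of the element `c` -/
def IsCode (ev : QM →* C) (D : ℕ → C) (c : C) (f : ℕ → ℕ) : Prop :=
  (∀ k, k < 9 → f k < 512) ∧ ∃ h ∈ LL D, c = ev (dec (f 0)) * h ∧
    ∀ I : Fin 8, h * ev (dec (2 ^ (I : ℕ))) * h⁻¹ = ev (dec (f (I + 1)))

/-- what we need of `C` -/
structure Data {t : C} {ev : QM →* C} {D : ℕ → C} (R : Rels false t ev D) : Prop where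
  card : Nat.card C = 743178240
  cen : ∀ c : C, (∀ x, c * ev x = ev x * c) → c ∈ ev.range

variable {t : C} {ev : QM →* C} {D : ℕ → C} {R : Rels false t ev D}

theorem D_mem {j : ℕ} (hj : j < 7) : D j ∈ LL D := Subgroup.subset_closure ⟨j, hj, rfl⟩

include R in
theorem card_LL_le : Finite (LL D) ∧ Nat.card (LL D) ≤ 1451520 := by
  have hsq : ∀ j, j < 7 → D j * D j = 1 := by
    intro j hj
    have := R.sq j hj
    simpa [tw] using this
  have hcm : ∀ i j, i < 7 → j < 7 → i ≠ j → adj i j = false → D i * D j = D j * D i := by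
    intro i j hi hj hij ha
    have := R.comm i j hi hj hij ha
    simpa [tw] using this
  let E : ℕ → LL D := fun j => if hj : j < 7 then ⟨D j, D_mem hj⟩ else 1
  have hE : ∀ j, j < 7 → ((E j : LL D) : C) = D j := by
    intro j hj
    show ((if hj : j < 7 then ⟨D j, D_mem hj⟩ else 1 : LL D) : C) = D j
    rw [dif_pos hj]
  refine Cfsg.Agent.SporRec.TwoSp6.Cox.card_le (fun i => E (sg i)) (Cfsg.Agent.SporRec.TwoSp6.Cox.liftable_of _ ?_ ?_ ?_) ?_ ?_
  · intro i
    apply Subtype.ext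
    rw [Subgroup.coe_mul, hE _ (sg_lt i)]
    exact hsq _ (sg_lt i)
  · intro i j hij
    obtain ⟨h1, h2⟩ := sg_two i j hij
    apply Subtype.ext
    rw [Subgroup.coe_mul, Subgroup.coe_mul, hE _ (sg_lt i), hE _ (sg_lt j)]
    exact hcm _ _ (sg_lt i) (sg_lt j) h1 h2
  · intro i j hij
    apply Subtype.ext
    rw [Subgroup.coe_mul, Subgroup.coe_mul, Subgroup.coe_mul, Subgroup.coe_mul, hE _ (sg_lt i), hE _ (sg_lt j)]
    exact R.braid _ _ (sg_lt i) (sg_lt j) (sg_three i j hij)
  · have hP : wd D w0 = 1 := R.w0_eq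
    have e : w0 = [0,1,2,3,4,5,6] ++ ([0,1,2,3,4,5,6] ++ ([0,1,2,3,4,5,6] ++ ([0,1,2,3,4,5,6] ++ ([0,1,2,3,4,5,6] ++
      ([0,1,2,3,4,5,6] ++ ([0,1,2,3,4,5,6] ++ ([0,1,2,3,4,5,6] ++ [0,1,2,3,4,5,6]))))))) := rfl
    rw [e] at hP
    simp only [wd_append] at hP
    have e3 : (Cfsg.Agent.SporRec.TwoSp6.Cox.prod7 (fun i => E (sg i)) : LL D) =
        E 6 * (E 0 * E 1 * E 2 * E 3 * E 4 * E 5 * E 6) * (E 6)⁻¹ := by
      show E 0 * E 6 * E 1 * E 2 * E 3 * E 4 * E 5 = _
      have : E 0 * E 6 = E 6 * E 0 := by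
        apply Subtype.ext
        rw [Subgroup.coe_mul, Subgroup.coe_mul, hE _ (by norm_num), hE _ (by norm_num)]
        exact hcm 0 6 (by norm_num) (by norm_num) (by norm_num) (by decide)
      rw [this]
      group
    rw [e3, conj_pow]
    have e5 : (E 0 * E 1 * E 2 * E 3 * E 4 * E 5 * E 6) ^ 9 = 1 := by
      apply Subtype.ext
      rw [Subgroup.coe_pow]
      simp only [Subgroup.coe_mul, hE _ (show 0 < 7 by norm_num), hE _ (show 1 < 7 by norm_num),
        hE _ (show 2 < 7 by norm_num), hE _ (show 3 < 7 by norm_num), hE _ (show 4 < 7 by norm_num),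
        hE _ (show 5 < 7 by norm_num), hE _ (show 6 < 7 by norm_num), Subgroup.coe_one]
      rw [← hP]
      have e2 : wd D [0,1,2,3,4,5,6] = D 0 * D 1 * D 2 * D 3 * D 4 * D 5 * D 6 := by
        simp only [wd, mul_one, mul_assoc]
      rw [e2]
      simp only [pow_succ, pow_zero, one_mul, mul_assoc]
    rw [e5]; group
  · rw [eq_top_iff]
    rintro ⟨x, hx⟩ -
    have key : ∀ y (hy : y ∈ Subgroup.closure {g | ∃ j, j < 7 ∧ g = D j}),
        (⟨y, hy⟩ : LL D) ∈ Subgroup.closure (Set.range fun i => E (sg i)) := by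
      intro y hy
      induction hy using Subgroup.closure_induction with
      | one => exact one_mem _
      | mem y hy =>
        obtain ⟨j, hj, rfl⟩ := hy
        obtain ⟨i, hi⟩ := sg_surj j hj
        exact Subgroup.subset_closure ⟨i, Subtype.ext (by rw [hE _ (sg_lt i), hi])⟩
      | mul x y hx hy ihx ihy => exact mul_mem ihx ihy
      | inv x hx ihx => exact inv_mem ihx
    exact key x hx

include R in
theorem sup_eq : ev.range ⊔ LL D = ⊤ := by
  rw [eq_top_iff, ← R.gen, Subgroup.closure_le]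
  rintro x (⟨q, rfl⟩ | ⟨j, hj, rfl⟩)
  · exact Subgroup.mem_sup_left ⟨q, rfl⟩
  · exact Subgroup.mem_sup_right (D_mem hj)

include R in
theorem exists_decomp (c : C) : ∃ q : QM, ∃ h ∈ LL D, c = ev q * h := by
  have hN := normal R
  have hc : c ∈ ((ev.range ⊔ LL D : Subgroup C) : Set C) := by
    rw [sup_eq (R := R)]; exact Set.mem_univ c
  rw [Subgroup.normal_mul] at hc
  obtain ⟨x, ⟨q, rfl⟩, h, hh, e⟩ := Set.mem_mul.1 hc
  exact ⟨q, h, hh, e.symm⟩

/-- the decomposition is unique -/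
theorem decomp_unique (A : Data R) {q q' : QM} {h h' : C} (hh : h ∈ LL D) (hh' : h' ∈ LL D)
    (e : ev q * h = ev q' * h') : q = q' ∧ h = h' := by
  obtain ⟨fL, cL⟩ := card_LL_le (R := R)
  have fC : Finite C := Nat.finite_of_card_ne_zero (by rw [A.card]; norm_num)
  let f : QM × LL D → C := fun p => ev p.1 * p.2
  have hf : Function.Surjective f := by
    intro c
    obtain ⟨q, h, hh, e⟩ := exists_decomp (R := R) c
    exact ⟨(q, ⟨h, hh⟩), e.symm⟩
  have hb : Function.Bijective f := by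
    apply Function.Surjective.bijective_of_nat_card_le hf
    rw [Nat.card_prod, card_QM, A.card]
    omega
  have := hb.1 (a₁ := (q, ⟨h, hh⟩)) (a₂ := (q', ⟨h', hh'⟩)) e
  rw [Prod.mk.injEq] at this
  exact ⟨this.1, congrArg Subtype.val this.2⟩

include R in
theorem exists_isCode (c : C) : ∃ f, IsCode ev D c f := by
  have hN := normal R
  obtain ⟨q, h, hh, e⟩ := exists_decomp (R := R) c
  have him : ∀ I : ℕ, ∃ m, m < 512 ∧ h * ev (dec (2 ^ I)) * h⁻¹ = ev (dec m) := by
    intro I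
    obtain ⟨x, hx⟩ := hN.conj_mem (ev (dec (2 ^ I))) ⟨_, rfl⟩ h
    obtain ⟨m, hm, e⟩ := dec_512 x
    exact ⟨m, hm, by rw [e, hx]⟩
  choose im him1 him2 using him
  obtain ⟨m, hm, rfl⟩ := dec_512 q
  refine ⟨fun k => if k = 0 then m else im (k - 1), ?_, h, hh, ?_, ?_⟩
  · intro k _
    dsimp only
    split
    · exact hm
    · exact him1 _
  · simpa using e
  · intro I
    simpa using him2 I

theorem isCode_unique (A : Data R) {c : C} {f g : ℕ → ℕ} (hf : IsCode ev D c f) (hg : IsCode ev D c g) :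
    ∀ k, k < 9 → f k = g k := by
  obtain ⟨f1, h, hh, e, f2⟩ := hf
  obtain ⟨g1, h', hh', e', g2⟩ := hg
  obtain ⟨e1, rfl⟩ := decomp_unique A hh hh' (e ▸ e')
  intro k hk
  rcases Nat.eq_zero_or_pos k with rfl | hk0
  · exact dec_inj (f1 0 hk) (g1 0 hk) e1
  · have h1 := f2 ⟨k - 1, by omega⟩
    have h2 := g2 ⟨k - 1, by omega⟩
    have e3 : k - 1 + 1 = k := by omega
    simp only [e3] at h1 h2
    exact dec_inj (f1 k hk) (g1 k hk) (R.ev_inj (h1.symm.trans h2))

theorem isCode_inj (A : Data R) {c c' : C} {f : ℕ → ℕ} (hf : IsCode ev D c f) (hg : IsCode ev D c' f) : c = c' := by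
  obtain ⟨f1, h, hh, e, f2⟩ := hf
  obtain ⟨g1, h', hh', e', g2⟩ := hg
  have hz : ∀ x : C, x * ev (dec 256) * x⁻¹ = ev (dec 256) := by
    intro x
    rw [R.ev_z, R.cent, mul_inv_cancel_right]
  have k1 := conj_app ev h (fun I => f (I + 1)) f2 (hz h)
  have k2 := conj_app ev h' (fun I => f (I + 1)) g2 (hz h')
  have k3 : ∀ x, (h'⁻¹ * h) * ev x = ev x * (h'⁻¹ * h) := by
    intro x
    obtain ⟨m, _, rfl⟩ := dec_512 x
    have h3 : h * ev (dec m) * h⁻¹ = h' * ev (dec m) * h'⁻¹ := (k1 m).trans (k2 m).symm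
    calc h'⁻¹ * h * ev (dec m) = h'⁻¹ * (h * ev (dec m) * h⁻¹) * h := by group
      _ = ev (dec m) * (h'⁻¹ * h) := by rw [h3]; group
  obtain ⟨q, hq⟩ := A.cen _ k3
  have hm : h'⁻¹ * h ∈ LL D := mul_mem (inv_mem hh') hh
  have := decomp_unique A (q := q) (q' := 1) (h := 1) (h' := h'⁻¹ * h) (one_mem _) hm (by rw [map_one, one_mul, mul_one, hq])
  have h4 : h = h' := by
    have h5 := this.2
    calc h = h' * (h'⁻¹ * h) := by group
      _ = h' := by rw [← h5, mul_one]
  rw [e, e', h4]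

theorem isCode_mul (_A : Data R) {c c' : C} {f g : ℕ → ℕ} (hf : IsCode ev D c f) (hg : IsCode ev D c' g) :
    IsCode ev D (c * c') (mulf f g) := by
  obtain ⟨f1, h, hh, e, f2⟩ := hf
  obtain ⟨g1, h', hh', e', g2⟩ := hg
  have hz : ∀ x : C, x * ev (dec 256) * x⁻¹ = ev (dec 256) := by
    intro x
    rw [R.ev_z, R.cent, mul_inv_cancel_right]
  have k1 := conj_app ev h (fun I => f (I + 1)) f2 (hz h)
  refine ⟨fun k _ => mulf_lt f1, h * h', mul_mem hh hh', ?_, ?_⟩
  · have : mulf f g 0 = qmul (f 0) (app (fun i => f (i + 1)) (g 0)) := rfl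
    rw [this, dec_qmul, map_mul, ← k1, e, e']
    group
  · intro I
    have : mulf f g (I + 1) = app (fun i => f (i + 1)) (g (I + 1)) := rfl
    rw [this, ← k1, ← g2 I]
    group

open Classical in
/-- the code of an element -/
noncomputable def cd (ev : QM →* C) (D : ℕ → C) (c : C) : ℕ :=
  if h : ∃ f, IsCode ev D c f then pack (Classical.choose h) else 0

include R in
theorem cd_spec (c : C) : ∃ f, IsCode ev D c f ∧ cd ev D c = pack f := by
  have h := exists_isCode (R := R) c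
  refine ⟨Classical.choose h, Classical.choose_spec h, ?_⟩
  unfold cd
  rw [dif_pos h]

theorem cd_eq (A : Data R) {c : C} {f : ℕ → ℕ} (hf : IsCode ev D c f) : cd ev D c = pack f := by
  obtain ⟨g, hg, e⟩ := cd_spec (R := R) c
  rw [e]
  have h := isCode_unique A hg hf
  unfold pack
  rw [h 0 (by norm_num), h 1 (by norm_num), h 2 (by norm_num), h 3 (by norm_num), h 4 (by norm_num),
    h 5 (by norm_num), h 6 (by norm_num), h 7 (by norm_num), h 8 (by norm_num)]

theorem cd_inj (A : Data R) {c c' : C} : cd ev D c = cd ev D c' ↔ c = c' := by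
  refine ⟨fun h => ?_, fun h => by rw [h]⟩
  obtain ⟨f, hf, e⟩ := cd_spec (R := R) c
  obtain ⟨g, hg, e'⟩ := cd_spec (R := R) c'
  have h2 := pack_inj hf.1 hg.1 (by rw [← e, ← e', h])
  have hg' : IsCode ev D c' f := by
    obtain ⟨g1, h', hh', e', g2⟩ := hg
    refine ⟨hf.1, h', hh', by rw [h2 0 (by norm_num)]; exact e', fun I => ?_⟩
    rw [h2 _ (by omega)]
    exact g2 I
  exact isCode_inj A hf hg'

theorem cd_mul (A : Data R) (c c' : C) : cd ev D (c * c') = mulN (cd ev D c) (cd ev D c') := by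
  obtain ⟨f, hf, e⟩ := cd_spec (R := R) c
  obtain ⟨g, hg, e'⟩ := cd_spec (R := R) c'
  rw [e, e', mulN_pack hf.1 hg.1]
  exact cd_eq A (isCode_mul A hf hg)

/-- code of the identity -/
def one : ℕ := 0x80200802008020080200

/-- code of the letter `j`: `0..6` = `D j`, `7..14` = generators of `Q`, `15` = `t` -/
def gN (j : ℕ) : ℕ :=
  match j with
  | 0 => 0x80600806008060080600
  | 1 => 0xc0200c0200c0200c0200
  | 2 => 0x8060282e0080602a0e00
  | 3 => 0xa028080218aa28882200
  | 4 => 0x88220882208020080200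
  | 5 => 0x80200802088220882200
  | 6 => 0xa028080200a028080200
  | 7 => 0x80200802008020080201
  | 8 => 0x80200802008020080202
  | 9 => 0x80200802008020080204
  | 10 => 0x80200802008020080208
  | 11 => 0x80200802008020080210
  | 12 => 0x80200802008020080220
  | 13 => 0x80200802008020080240
  | 14 => 0x80200802008020080280
  | 15 => 0x80200802008020080300
  | _ => one

/-- the letters -/
def gv (ev : QM →* C) (D : ℕ → C) (j : ℕ) : C :=
  if j < 7 then D j else if j < 15 then ev (dec (2 ^ (j - 7))) else if j = 15 then ev (dec 256) else 1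

/-- value of a word -/
def wv (ev : QM →* C) (D : ℕ → C) : List ℕ → C
  | [] => 1
  | j :: w => gv ev D j * wv ev D w

/-- code of a word -/
noncomputable def wN : List ℕ → ℕ
  | [] => one
  | j :: w => mulN (gN j) (wN w)

theorem isCode_ev {m : ℕ} (hm : m < 512) : IsCode ev D (ev (dec m)) (fun k => if k = 0 then m else 2 ^ (k - 1)) := by
  refine ⟨?_, 1, one_mem _, ?_, ?_⟩
  · intro k hk
    dsimp only
    split
    · exact hm
    · have : k - 1 ≤ 7 := by omega
      calc 2 ^ (k - 1) ≤ 2 ^ 7 := Nat.pow_le_pow_right (by norm_num) this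
        _ < 512 := by norm_num
  · simp
  · intro I
    simp

theorem pack_ev (m : ℕ) : pack (fun k => if k = 0 then m else 2 ^ (k - 1)) = m + one := by
  have h : pack (fun k => if k = 0 then m else 2 ^ (k - 1)) = m + 2 ^ 9 * 1 + 2 ^ 18 * 2 + 2 ^ 27 * 4 +
      2 ^ 36 * 8 + 2 ^ 45 * 16 + 2 ^ 54 * 32 + 2 ^ 63 * 64 + 2 ^ 72 * 128 := rfl
  have h2 : one = 2 ^ 9 * 1 + 2 ^ 18 * 2 + 2 ^ 27 * 4 +
      2 ^ 36 * 8 + 2 ^ 45 * 16 + 2 ^ 54 * 32 + 2 ^ 63 * 64 + 2 ^ 72 * 128 := by decide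
  rw [h, h2]
  simp only [Nat.add_assoc]

theorem cd_ev (A : Data R) {m : ℕ} (hm : m < 512) : cd ev D (ev (dec m)) = m + one := by
  rw [cd_eq A (isCode_ev hm)]
  exact pack_ev m

theorem cd_one (A : Data R) : cd ev D (1 : C) = one := by
  have h := cd_ev A (m := 0) (by norm_num)
  rw [dec_zero, map_one, Nat.zero_add] at h
  exact h

theorem img_lt (j I : ℕ) : img j I < 512 := Nat.lt_of_le_of_lt Nat.and_le_right (by norm_num)

include R in
theorem isCode_D {j : ℕ} (hj : j < 7) :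
    IsCode ev D (D j) (fun k => if k = 0 then 0 else img j (k - 1)) := by
  refine ⟨?_, D j, D_mem hj, ?_, ?_⟩
  · intro k hk
    dsimp only
    split
    · norm_num
    · exact img_lt _ _
  · simp only [if_true, dec_zero, map_one, one_mul]
  · intro I
    have := R.conj j hj I
    simpa using this

theorem pack_img : ∀ j < 7, pack (fun k => if k = 0 then 0 else img j (k - 1)) = gN j := by decide +kernel

theorem cd_gv (A : Data R) (j : ℕ) : cd ev D (gv ev D j) = gN j := by
  unfold gv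
  split
  · next h => rw [cd_eq A (isCode_D (R := R) h)]; exact pack_img j h
  · split
    · next h1 h2 =>
      rw [cd_ev A (by
        have : j - 7 ≤ 7 := by omega
        calc 2 ^ (j - 7) ≤ 2 ^ 7 := Nat.pow_le_pow_right (by norm_num) this
          _ < 512 := by norm_num)]
      interval_cases j <;> rfl
    · split
      · next h => subst h; rw [cd_ev A (by norm_num)]; rfl
      · next h1 h2 h3 =>
        rw [cd_one A]
        have : gN j = one := by
          unfold gN
          split <;> first | rfl | omega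
        exact this.symm

theorem cd_wv (A : Data R) (w : List ℕ) : cd ev D (wv ev D w) = wN w := by
  induction w with
  | nil => exact cd_one A
  | cons j w ih => rw [wv, cd_mul A, cd_gv A, ih]; rfl

/-- equality of words by a kernel check -/
theorem wv_eq (A : Data R) {w w' : List ℕ} (h : wN w = wN w') : wv ev D w = wv ev D w' := by
  rw [← cd_inj A, cd_wv A, cd_wv A, h]

theorem wv_append (w w' : List ℕ) : wv ev D (w ++ w') = wv ev D w * wv ev D w' := by
  induction w with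
  | nil => simp [wv]
  | cons j w ih => simp [wv, ih, mul_assoc]

theorem gv_sq (A : Data R) (j : ℕ) : gv ev D j * gv ev D j = 1 := by
  rw [← cd_inj A, cd_mul A, cd_gv A, cd_one A]
  have key : ∀ j < 16, mulN (gN j) (gN j) = one := by decide +kernel
  rcases Nat.lt_or_ge j 16 with h | h
  · exact key j h
  · have : gN j = one := by
      unfold gN
      split <;> first | rfl | omega
    rw [this]
    have h1 : mulN one one = one := by decide +kernel
    exact h1

theorem gv_inv (A : Data R) (j : ℕ) : (gv ev D j)⁻¹ = gv ev D j := by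
  rw [inv_eq_iff_mul_eq_one]; exact gv_sq A j

theorem wv_reverse (A : Data R) (w : List ℕ) : wv ev D w.reverse = (wv ev D w)⁻¹ := by
  induction w with
  | nil => simp [wv]
  | cons j w ih =>
    rw [List.reverse_cons, wv_append, ih]
    simp only [wv, mul_one, mul_inv_rev, gv_inv A]

end

end Cfsg.Agent.Co2Type.CCode
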