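import Cfsg.Agent.Co2Type.Quad
import Cfsg.Agent.PLocal.PConstrained
import Cfsg.Agent.S0270
import Cfsg.Agent.S0246
import Cfsg.Agent.LieClassical.SympCount
import Cfsg.Agent.Transfer.Extraspecial

set_option autoImplicit false

namespace Cfsg.Agent.Co2Type.Setup

open Cfsg.Agent.Co2Type.Quad
open scoped commutatorElement

abbrev Sp6 : Type := Matrix.symplecticGroup (Fin 3) (ZMod 2)

theorem center_sp6 : Subgroup.center Sp6 = ⊥ := by
  have h := Cfsg.Agent.S0246.result (F := ZMod 2) (q := 2) (ZMod.card 2) 3 (by norm_num)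
  have h1 : Nat.card (Subgroup.center Sp6) = 1 := by rw [h]; rfl
  exact Subgroup.eq_bot_of_card_eq _ h1

theorem isSimpleGroup_sp6 : IsSimpleGroup Sp6 := by
  have h := Cfsg.Agent.S0270.result (F := ZMod 2) 3 (by norm_num) (by norm_num)
  have e : Sp6 ≃* Cfsg.PSp 3 (ZMod 2) :=
    (QuotientGroup.quotientBot.symm).trans (QuotientGroup.quotientMulEquivOfEq center_sp6.symm)
  exact (MulEquiv.isSimpleGroup_congr e).2 h

theorem card_sp6 : Nat.card Sp6 = 1451520 := by
  rw [Cfsg.Agent.LieClassical.SympCount.card_symplecticGroup, ZMod.card]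
  decide

/-- a normal subgroup of odd order of an extension of a 2-group by `Sp6(2)` is trivial -/
theorem pPrimeCore_eq_bot {C : Type*} [Group C] [Finite C]
    (e : C ⧸ Cfsg.pCore 2 C ≃* Sp6) : Cfsg.pPrimeCore 2 C = ⊥ := by
  classical
  have hsimple := isSimpleGroup_sp6
  set K := Cfsg.pPrimeCore 2 C with hK
  have hKodd : (Nat.card K).Coprime 2 := Cfsg.Agent.PLocal.PConstrained.coprime_card_pPrimeCore 2 C
  let f : C →* Sp6 := e.toMonoidHom.comp (QuotientGroup.mk' _)
  have hf : Function.Surjective f := e.surjective.comp (QuotientGroup.mk'_surjective _)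
  have hker : f.ker = Cfsg.pCore 2 C := by
    ext x
    rw [MonoidHom.mem_ker]
    show e (QuotientGroup.mk' _ x) = 1 ↔ _
    rw [map_eq_one_iff e e.injective]
    exact QuotientGroup.eq_one_iff x
  have hn : (K.map f).Normal := Subgroup.Normal.map inferInstance f hf
  have hcardmap : Nat.card (K.map f) ∣ Nat.card K :=
    Cfsg.Agent.PLocal.PConstrained.card_map_dvd f K
  have hbot : K.map f = ⊥ := by
    rcases hn.eq_bot_or_eq_top with h | h
    · exact h
    · exfalso
      rw [h, Subgroup.card_top, card_sp6] at hcardmap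
      have h2 : 2 ∣ Nat.card K := Dvd.dvd.trans (by norm_num) hcardmap
      exact absurd (Nat.Coprime.eq_one_of_dvd hKodd.symm h2) (by norm_num)
  have hle : K ≤ Cfsg.pCore 2 C := by
    intro x hx
    rw [← hker, MonoidHom.mem_ker]
    have : f x ∈ K.map f := Subgroup.mem_map_of_mem f hx
    rw [hbot] at this
    exact Subgroup.mem_bot.1 this
  have hp : IsPGroup 2 K :=
    (Cfsg.Agent.PLocal.PConstrained.isPGroup_pCore 2 C).to_le hle
  obtain ⟨n, hn⟩ := IsPGroup.iff_card.1 hp
  rw [← Subgroup.card_eq_one, hn]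
  rw [hn] at hKodd
  rcases Nat.eq_zero_or_pos n with h0 | h0
  · rw [h0, pow_zero]
  · exact absurd (Nat.Coprime.eq_one_of_dvd hKodd.symm (dvd_pow_self 2 h0.ne')) (by norm_num)

theorem centralizer_le {C : Type*} [Group C] [Finite C] (hcon : Cfsg.IsPConstrained 2 C)
    (e : C ⧸ Cfsg.pCore 2 C ≃* Sp6) :
    Subgroup.centralizer (Cfsg.pCore 2 C : Set C) ≤ Cfsg.pCore 2 C :=
  (Cfsg.Agent.PLocal.PConstrained.isPConstrained_iff_of_pPrimeCore_eq_bot
    (pPrimeCore_eq_bot e)).1 hcon

/-- from the hypotheses of S1675 to `Large` -/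
theorem large_of_hyp {G : Type*} [Group G] [Finite G] (t : G) (ht : orderOf t = 2)
    (hcon : Cfsg.IsPConstrained 2 (Subgroup.centralizer ({t} : Set G)))
    (hQ : Cfsg.IsExtraspecial 2 (Cfsg.pCore 2 (Subgroup.centralizer ({t} : Set G))))
    (e : (Subgroup.centralizer ({t} : Set G)) ⧸ Cfsg.pCore 2 (Subgroup.centralizer ({t} : Set G)) ≃*
      Sp6) :
    Large ((Cfsg.pCore 2 (Subgroup.centralizer ({t} : Set G))).map
      (Subgroup.centralizer ({t} : Set G)).subtype) t := by
  classical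
  set C := Subgroup.centralizer ({t} : Set G) with hC
  set Q := Cfsg.pCore 2 C with hQdef
  have htt : t * t = 1 := by rw [← pow_two, ← ht]; exact pow_orderOf_eq_one t
  have ht1 : t ≠ 1 := by
    intro h; rw [h, orderOf_one] at ht; exact absurd ht (by norm_num)
  have htC : t ∈ C := Subgroup.mem_centralizer_singleton_iff.2 rfl
  have hcomm : ∀ c : C, (c : G) * t = t * c := fun c => Subgroup.mem_centralizer_singleton_iff.1 c.2
  -- t ∈ Q
  have htQ : (⟨t, htC⟩ : C) ∈ Q := by
    have hnorm : (Subgroup.zpowers (⟨t, htC⟩ : C)).Normal := by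
      constructor
      intro x hx g
      obtain ⟨k, rfl⟩ := Subgroup.mem_zpowers_iff.1 hx
      have hcc : Commute g ((⟨t, htC⟩ : C) ^ k) := by
        apply Commute.zpow_right
        exact Subtype.ext (hcomm g)
      rw [hcc.eq, mul_inv_cancel_right]
      exact Subgroup.zpow_mem_zpowers _ k
    have hpg : IsPGroup 2 (Subgroup.zpowers (⟨t, htC⟩ : C)) := by
      rw [IsPGroup.iff_card]
      refine ⟨1, ?_⟩
      rw [Nat.card_zpowers, pow_one, ← Subgroup.orderOf_coe]
      exact ht
    exact Cfsg.Agent.PLocal.PConstrained.le_pCore hnorm hpg (Subgroup.mem_zpowers _)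
  have hcent := centralizer_le hcon e
  have hZ : ∀ x : Q, x ∈ Subgroup.center Q → (x : C) = 1 ∨ (x : C) = ⟨t, htC⟩ := by
    intro x hx
    have hcard2 := hQ.2
    have htz : (⟨⟨t, htC⟩, htQ⟩ : Q) ∈ Subgroup.center Q := by
      rw [Subgroup.mem_center_iff]
      intro y
      exact Subtype.ext (Subtype.ext (hcomm (y : C)))
    obtain ⟨a, b, hab, huniv⟩ := Nat.card_eq_two_iff.1 hcard2
    have h1 : (⟨⟨⟨t, htC⟩, htQ⟩, htz⟩ : Subgroup.center Q) ≠ 1 := by
      intro h
      apply ht1
      exact congrArg (fun y : Subgroup.center Q => (((y : Q) : C) : G)) h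
    have key : ∀ y : Subgroup.center Q, y = 1 ∨ y = ⟨⟨⟨t, htC⟩, htQ⟩, htz⟩ := by
      intro y
      have ha : ∀ w : Subgroup.center Q, w = a ∨ w = b := by
        intro w
        have : w ∈ ({a, b} : Set (Subgroup.center Q)) := by rw [huniv]; trivial
        simpa using this
      rcases ha y with hy | hy <;> rcases ha 1 with h2 | h2 <;>
        rcases ha ⟨⟨⟨t, htC⟩, htQ⟩, htz⟩ with h3 | h3
      · exact absurd (h3.trans h2.symm) h1
      · left; exact hy.trans h2.symm
      · right; exact hy.trans h3.symm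
      · exact absurd (h3.trans h2.symm) h1
      · exact absurd (h3.trans h2.symm) h1
      · right; exact hy.trans h3.symm
      · left; exact hy.trans h2.symm
      · exact absurd (h3.trans h2.symm) h1
    rcases key ⟨x, hx⟩ with h | h
    · left; exact congrArg (fun y : Subgroup.center Q => ((y : Q) : C)) h
    · right; exact congrArg (fun y : Subgroup.center Q => ((y : Q) : C)) h
  refine ⟨⟨⟨t, htC⟩, htQ, rfl⟩, ht1, htt, ?_, ?_, ?_, ?_, ?_, ?_⟩
  · rintro _ ⟨x, _, rfl⟩
    exact hcomm x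
  · rintro g hg _ ⟨x, hx, rfl⟩
    have hgC : g ∈ C := Subgroup.mem_centralizer_singleton_iff.2 hg
    exact ⟨⟨g, hgC⟩ * x * ⟨g, hgC⟩⁻¹, (inferInstance : Q.Normal).conj_mem x hx _, rfl⟩
  · rintro _ ⟨x, hx, rfl⟩
    have h1 : (⟨x, hx⟩ : Q) ^ 2 ∈ Subgroup.center Q :=
      Cfsg.Agent.Transfer.Extraspecial.pow_mem_center hQ ⟨x, hx⟩
    rcases hZ _ h1 with h | h
    · left
      have := congrArg (fun y : C => (y : G)) h
      rw [← pow_two]
      exact this
    · right
      have := congrArg (fun y : C => (y : G)) h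
      rw [← pow_two]
      exact this
  · rintro _ ⟨x, hx, rfl⟩ _ ⟨y, hy, rfl⟩
    have h1 : ⁅(⟨y, hy⟩ : Q)⁻¹, (⟨x, hx⟩ : Q)⁻¹⁆ ∈ Subgroup.center Q :=
      Cfsg.Agent.Transfer.Extraspecial.comm_mem_center hQ _ _
    rcases hZ _ h1 with h | h
    · left
      have h2 := congrArg (fun y : C => (y : G)) h
      have h3 : (y : G)⁻¹ * (x : G)⁻¹ * ((y : G)⁻¹)⁻¹ * ((x : G)⁻¹)⁻¹ = 1 := h2
      have h4 : (x : G) * y = (x * y : G) * ((y : G)⁻¹ * (x : G)⁻¹ * ((y : G)⁻¹)⁻¹ * ((x : G)⁻¹)⁻¹) := by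
        rw [h3, mul_one]
      calc (x : G) * y = (x * y : G) * ((y : G)⁻¹ * (x : G)⁻¹ * ((y : G)⁻¹)⁻¹ * ((x : G)⁻¹)⁻¹) := h4
        _ = y * x := by group
    · right
      have h2 := congrArg (fun y : C => (y : G)) h
      have h3 : (y : G)⁻¹ * (x : G)⁻¹ * ((y : G)⁻¹)⁻¹ * ((x : G)⁻¹)⁻¹ = t := h2
      calc (x : G) * y
          = (x * y : G) * ((y : G)⁻¹ * (x : G)⁻¹ * ((y : G)⁻¹)⁻¹ * ((x : G)⁻¹)⁻¹) *
            ((y : G)⁻¹ * (x : G)⁻¹ * ((y : G)⁻¹)⁻¹ * ((x : G)⁻¹)⁻¹)⁻¹ := by group
        _ = y * x * t⁻¹ := by rw [h3]; rw [← h3]; group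
        _ = y * x * t := by rw [inv_eq_of_mul_eq_one_left htt]
  · rintro _ ⟨x, hx, rfl⟩ hc
    have h1 : (⟨x, hx⟩ : Q) ∈ Subgroup.center Q := by
      rw [Subgroup.mem_center_iff]
      intro y
      apply Subtype.ext
      apply Subtype.ext
      exact (hc _ ⟨(y : C), y.2, rfl⟩).symm
    rcases hZ _ h1 with h | h
    · left; exact congrArg (fun y : C => (y : G)) h
    · right; exact congrArg (fun y : C => (y : G)) h
  · intro g hg hc
    have hgC : g ∈ C := Subgroup.mem_centralizer_singleton_iff.2 hg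
    refine ⟨⟨g, hgC⟩, hcent ?_, rfl⟩
    refine SetLike.mem_coe.2 (Subgroup.mem_centralizer_iff.2 ?_)
    intro y hy
    apply Subtype.ext
    exact (hc _ ⟨y, hy, rfl⟩).symm

/-- the situation of S1675: `Q = O_2(C_G(t))` of order `2^9`, `C_G(t)/Q = Sp6(2)` -/
structure Sit (G : Type*) [Group G] (Q : Subgroup G) (t : G) where
  large : Large Q t
  card : Nat.card Q = 2 ^ 9
  psi : Subgroup.centralizer ({t} : Set G) →* Sp6
  psi_surj : Function.Surjective psi
  psi_ker : ∀ c, psi c = 1 ↔ (c : G) ∈ Q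

/-- the hypotheses of S1675 give a situation -/
theorem exists_sit {G : Type*} [Group G] [Finite G] (t : G) (ht : orderOf t = 2)
    (hcon : Cfsg.IsPConstrained 2 (Subgroup.centralizer ({t} : Set G)))
    (hQ : Cfsg.IsExtraspecial 2 (Cfsg.pCore 2 (Subgroup.centralizer ({t} : Set G))))
    (hcard : Nat.card (Cfsg.pCore 2 (Subgroup.centralizer ({t} : Set G))) = 2 ^ 9)
    (e : (Subgroup.centralizer ({t} : Set G)) ⧸ Cfsg.pCore 2 (Subgroup.centralizer ({t} : Set G)) ≃*
      Sp6) :
    Nonempty (Sit G ((Cfsg.pCore 2 (Subgroup.centralizer ({t} : Set G))).map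
      (Subgroup.centralizer ({t} : Set G)).subtype) t) := by
  refine ⟨⟨large_of_hyp t ht hcon hQ e, ?_, e.toMonoidHom.comp (QuotientGroup.mk' _),
    e.surjective.comp (QuotientGroup.mk'_surjective _), ?_⟩⟩
  · rw [Subgroup.card_map_of_injective (Subgroup.subtype_injective _)]
    exact hcard
  · intro c
    show e (QuotientGroup.mk' _ c) = 1 ↔ _
    rw [map_eq_one_iff e e.injective]
    constructor
    · intro h
      exact ⟨c, (QuotientGroup.eq_one_iff c).1 h, rfl⟩
    · rintro ⟨c', hc', he⟩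
      have : c' = c := Subtype.ext he
      rw [← this]
      exact (QuotientGroup.eq_one_iff c').2 hc'

namespace Sit

variable {G : Type*} [Group G] {Q : Subgroup G} {t : G}

theorem act_eq_act (S : Sit G Q t) {c c' : Subgroup.centralizer ({t} : Set G)}
    (h : S.psi c = S.psi c') : S.large.act c = S.large.act c' := by
  have h1 : S.psi (c'⁻¹ * c) = 1 := by rw [map_mul, map_inv, h, inv_mul_cancel]
  have h2 := S.large.act_mem _ ((S.psi_ker _).1 h1)
  rw [map_mul, map_inv, inv_mul_eq_one] at h2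
  exact h2.symm

/-- the action of `Sp6(2)` on `V = Q/⟨t⟩` -/
noncomputable def rho (S : Sit G Q t) : Sp6 →* (S.large.V ≃ₗ[ZMod 2] S.large.V) where
  toFun g := S.large.act (Function.surjInv S.psi_surj g)
  map_one' := by
    rw [← map_one S.large.act]
    apply S.act_eq_act
    rw [Function.surjInv_eq S.psi_surj, map_one]
  map_mul' g g' := by
    rw [← map_mul S.large.act]
    apply S.act_eq_act
    rw [map_mul, Function.surjInv_eq S.psi_surj, Function.surjInv_eq S.psi_surj,
      Function.surjInv_eq S.psi_surj]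

theorem rho_psi (S : Sit G Q t) (c : Subgroup.centralizer ({t} : Set G)) :
    S.rho (S.psi c) = S.large.act c :=
  S.act_eq_act (Function.surjInv_eq _ _)

theorem q_rho (S : Sit G Q t) (g : Sp6) (v : S.large.V) :
    S.large.q (S.rho g v) = S.large.q v := S.large.q_act _ v

theorem b_rho (S : Sit G Q t) (g : Sp6) (v w : S.large.V) :
    S.large.b (S.rho g v) (S.rho g w) = S.large.b v w := S.large.b_act _ v w

theorem finite_Q (S : Sit G Q t) : Finite Q := by
  have := S.card
  exact (Nat.card_pos_iff.1 (by rw [this]; norm_num)).2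

theorem rho_injective (S : Sit G Q t) : Function.Injective S.rho := by
  have := S.finite_Q
  rw [injective_iff_map_eq_one]
  intro g hg
  obtain ⟨c, rfl⟩ := S.psi_surj g
  rw [S.rho_psi] at hg
  rw [S.psi_ker]
  exact S.large.mem_of_act c hg

theorem card_V (S : Sit G Q t) : Nat.card S.large.V = 2 ^ 8 := by
  have h := S.large.card_eq
  rw [S.card] at h
  omega

theorem finrank_V (S : Sit G Q t) : Module.finrank (ZMod 2) S.large.V = 8 := by
  have := S.finite_Q
  have : Module.Finite (ZMod 2) S.large.V := Module.Finite.of_finite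
  have h := Module.natCard_eq_pow_finrank (K := ZMod 2) (V := S.large.V)
  rw [S.card_V, Nat.card_zmod] at h
  exact (Nat.pow_right_injective le_rfl h).symm

end Sit

end Cfsg.Agent.Co2Type.Setup
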