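import Cfsg.Agent.Co2Type.PairCard
import Cfsg.Agent.Co2Type.Setup

/-!
# `|C_Q(x)| ≥ 16` for an involution `x` of `C(t)` (R03, Co2 type, letter B, helper595)
-/

set_option autoImplicit false
open Cfsg

namespace Cfsg.Agent.Co2Type.Pair

open Cfsg.Agent.Co2Type.Quad Cfsg.Agent.Co2Type.Setup

variable {G : Type*} [Group G] {Q : Subgroup G} {t : G}

theorem card_cent_ge (S : Sit G Q t) {x : G} (hxt : x * t = t * x) (hxx : x * x = 1) :
    2 ^ 4 ≤ Nat.card (dsub Q x) := by
  classical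
  have := S.finite_Q
  have : Module.Finite (ZMod 2) S.large.V := Module.Finite.of_finite
  set c : Subgroup.centralizer ({t} : Set G) := ⟨x, Subgroup.mem_centralizer_singleton_iff.2 hxt⟩ with hc
  have hcc : c * c = 1 := Subtype.ext hxx
  set N : S.large.V →ₗ[ZMod 2] S.large.V := LinearMap.id + (S.large.act c : S.large.V →ₗ[ZMod 2] S.large.V)
    with hN
  have hNa : ∀ v, N v = v + S.large.act c v := fun v => rfl
  have haa : ∀ v, S.large.act c (S.large.act c v) = v := by
    intro v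
    have h1 : S.large.act (c * c) v = v := by rw [hcc, map_one]; rfl
    rw [map_mul] at h1
    exact h1
  have hNN : ∀ v, N (N v) = 0 := by
    intro v
    rw [hNa, hNa, map_add, haa]
    have h2 := S.large.add_self
    calc v + S.large.act c v + (S.large.act c v + v)
        = (v + v) + (S.large.act c v + S.large.act c v) := by abel
      _ = 0 := by rw [h2, h2, add_zero]
  have hle : LinearMap.range N ≤ LinearMap.ker N := by
    rintro _ ⟨v, rfl⟩
    exact hNN v
  have h3 := LinearMap.finrank_range_add_finrank_ker N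
  rw [S.finrank_V] at h3
  have h4 : Module.finrank (ZMod 2) (LinearMap.range N) ≤ Module.finrank (ZMod 2) (LinearMap.ker N) :=
    Submodule.finrank_mono hle
  have h5 : Module.finrank (ZMod 2) (LinearMap.range N) ≤ 4 := by omega
  have h6 : Nat.card (LinearMap.range N) ≤ 2 ^ 4 := by
    rw [Module.natCard_eq_pow_finrank (K := ZMod 2), Nat.card_zmod]
    exact Nat.pow_le_pow_right (by norm_num) h5
  -- the preimage of the image of `N`
  let K : Subgroup G :=
    { carrier := {m | ∃ hm : m ∈ Q, S.large.pr ⟨m, hm⟩ ∈ LinearMap.range N}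
      one_mem' := ⟨one_mem Q, by
        have : S.large.pr ⟨1, one_mem Q⟩ = 0 := S.large.pr_one
        rw [this]; exact Submodule.zero_mem _⟩
      mul_mem' := by
        rintro a b ⟨ha, ha'⟩ ⟨hb, hb'⟩
        refine ⟨mul_mem ha hb, ?_⟩
        have : S.large.pr ⟨a * b, mul_mem ha hb⟩ = S.large.pr ⟨a, ha⟩ + S.large.pr ⟨b, hb⟩ :=
          S.large.pr_mul ⟨a, ha⟩ ⟨b, hb⟩
        rw [this]; exact Submodule.add_mem _ ha' hb'
      inv_mem' := by
        rintro a ⟨ha, ha'⟩
        refine ⟨inv_mem ha, ?_⟩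
        have : S.large.pr ⟨a⁻¹, inv_mem ha⟩ = - S.large.pr ⟨a, ha⟩ := S.large.pr_inv ⟨a, ha⟩
        rw [this]; exact Submodule.neg_mem _ ha' }
  have hKQ : K ≤ Q := fun m hm => hm.1
  have hKt : t ∈ K := ⟨S.large.z_mem, by
    have : S.large.pr ⟨t, S.large.z_mem⟩ = 0 := S.large.pr_eq_zero.2 (Or.inr rfl)
    rw [this]; exact Submodule.zero_mem _⟩
  have hKc : Nat.card K ≤ 2 ^ 5 := by
    rw [card_two_mul S.large K hKQ hKt]
    have h7 : Nat.card {v : S.large.V // ∃ x : Q, (x : G) ∈ K ∧ S.large.pr x = v} ≤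
        Nat.card (LinearMap.range N) := by
      apply Nat.card_le_card_of_injective
        (fun v => (⟨v.1, by obtain ⟨x, ⟨hx, hx'⟩, he⟩ := v.2; rw [← he]; exact hx'⟩ :
          LinearMap.range N))
      intro v w hvw
      apply Subtype.ext
      exact congrArg (fun z : LinearMap.range N => (z : S.large.V)) hvw
    calc 2 * _ ≤ 2 * 2 ^ 4 := Nat.mul_le_mul_left _ (h7.trans h6)
      _ = 2 ^ 5 := by norm_num
  have hKfin : Finite K := Finite.of_injective (fun m : K => (⟨m.1, hKQ m.2⟩ : Q)) (by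
    intro a b hab
    exact Subtype.ext (congrArg (fun z : Q => (z : G)) hab))
  -- the commutator map
  have hcm : ∀ y : Q, (y : G) * x * (y : G)⁻¹ * x⁻¹ ∈ K := by
    intro y
    have h1 : x * (y : G)⁻¹ * x⁻¹ ∈ Q := S.large.conj_mem x hxt _ (inv_mem y.2)
    have h2 : (y : G) * x * (y : G)⁻¹ * x⁻¹ ∈ Q := by
      have := mul_mem y.2 h1
      rwa [← mul_assoc, ← mul_assoc] at this
    refine ⟨h2, ?_⟩
    have h3 : (⟨(y : G) * x * (y : G)⁻¹ * x⁻¹, h2⟩ : Q) = y * S.large.conjQ c y⁻¹ := by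
      apply Subtype.ext
      show (y : G) * x * (y : G)⁻¹ * x⁻¹ = y * (x * (y : G)⁻¹ * x⁻¹)
      group
    rw [h3, S.large.pr_mul, ← S.large.act_pr, S.large.pr_inv, S.large.neg_eq]
    exact ⟨S.large.pr y, rfl⟩
  let H : Subgroup Q := (dsub Q x).subgroupOf Q
  let g : Q ⧸ H → K := fun a => ⟨_, hcm a.out⟩
  have hinj : Function.Injective g := by
    intro a b hab
    have h1 : (a.out : G) * x * (a.out : G)⁻¹ * x⁻¹ = (b.out : G) * x * (b.out : G)⁻¹ * x⁻¹ :=
      congrArg (fun z : K => (z : G)) hab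
    have h2 := mul_right_cancel h1
    have h3 : a.out⁻¹ * b.out ∈ H := by
      rw [Subgroup.mem_subgroupOf, mem_dsub]
      refine ⟨(a.out⁻¹ * b.out).2, ?_⟩
      show ((a.out : G)⁻¹ * b.out) * x = x * ((a.out : G)⁻¹ * b.out)
      calc ((a.out : G)⁻¹ * b.out) * x = (a.out : G)⁻¹ * ((b.out : G) * x * (b.out : G)⁻¹) * b.out := by
            group
        _ = (a.out : G)⁻¹ * ((a.out : G) * x * (a.out : G)⁻¹) * b.out := by rw [h2]
        _ = _ := by group
    have h4 : (QuotientGroup.mk a.out : Q ⧸ H) = QuotientGroup.mk b.out := QuotientGroup.eq.2 h3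
    rwa [QuotientGroup.out_eq', QuotientGroup.out_eq'] at h4
  have h8 : Nat.card (Q ⧸ H) ≤ 2 ^ 5 := (Nat.card_le_card_of_injective g hinj).trans hKc
  have h9 := Subgroup.card_eq_card_quotient_mul_card_subgroup H
  rw [S.card] at h9
  have h10 : Nat.card H = Nat.card (dsub Q x) :=
    Nat.card_congr (Subgroup.subgroupOfEquivOfLe (fun y hy => (mem_dsub.1 hy).1)).toEquiv
  rw [h10] at h9
  by_contra hlt
  push Not at hlt
  have h11 : Nat.card (Q ⧸ H) * Nat.card (dsub Q x) ≤ 2 ^ 5 * (2 ^ 4 - 1) :=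
    Nat.mul_le_mul h8 (by omega)
  rw [← h9] at h11
  norm_num at h11

end Cfsg.Agent.Co2Type.Pair
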