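import Cfsg.Agent.Co2Type.GFacts
import Cfsg.Agent.Involutions.CommonInvolution

/-!
# The closing argument for `Co₂` (R03, helper429)
-/

set_option autoImplicit false

namespace Cfsg.Agent.Co2Type.CloseAbs

open Cfsg.Agent.Co2Type.Good Cfsg.Agent.Co2Type.GFacts

variable {G : Type*} [Group G] {H T E : Subgroup G} {z y v z1 z2 u p a b c d : G}

section

variable (F : GF H T E z y v z1 z2 u p a b c d)

include F

/-- (D1) -/
theorem good_v [Finite G] (hz : Good H z) : Good H v := by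
  have hC : Subgroup.centralizer {z} ≤ H := fun g hg =>
    hz.cent F.zH (Subgroup.mem_centralizer_singleton_iff.1 hg)
  have hz1 : Good H z1 := F.z1A.good hz
  have hz2 : Good H z2 := F.z2A.good hz
  have z1H : z1 ∈ H := F.TH (F.ET F.z1E)
  have z2H : z2 ∈ H := F.TH (F.ET F.z2E)
  have z11 : z1 * z1 = 1 := F.Es _ F.z1E
  have z22 : z2 * z2 = 1 := F.Es _ F.z2E
  have z12 : z1 * z2 = z2 * z1 := F.Ec _ F.z1E _ F.z2E
  have z1v : z1 * v = z2 := by rw [F.v_eq, ← mul_assoc, z11, one_mul]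
  have z1cv : z1 * v = v * z1 := F.Ec _ F.z1E _ F.vE
  -- the set `{z1, z2}`
  have key : ∀ l : G, l * v = v * l → l * z1 * l⁻¹ ∈ T → l * z1 * l⁻¹ = z1 ∨ l * z1 * l⁻¹ = z2 := by
    intro l hl hT
    have hlH : l ∈ H := hz1 l (F.TH hT)
    have hlv : l * v * l⁻¹ = v := by rw [hl, mul_inv_cancel_right]
    have h1 : l * z1 * l⁻¹ * v = l * z2 * l⁻¹ := by
      calc l * z1 * l⁻¹ * v = l * z1 * l⁻¹ * (l * v * l⁻¹) := by rw [hlv]
        _ = l * (z1 * v) * l⁻¹ := by group
        _ = _ := by rw [z1v]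
    refine F.only_v _ hT ?_ (F.z1A.conj hlH) ?_
    · calc l * z1 * l⁻¹ * v = l * z1 * l⁻¹ * (l * v * l⁻¹) := by rw [hlv]
        _ = l * (z1 * v) * l⁻¹ := by group
        _ = l * (v * z1) * l⁻¹ := by rw [z1cv]
        _ = (l * v * l⁻¹) * (l * z1 * l⁻¹) := by group
        _ = _ := by rw [hlv]
    · rw [h1]; exact F.z2A.conj hlH
  -- bound on 2-groups commuting with `z1` and `z2`
  have bound : ∀ R : Subgroup G, IsPGroup 2 R → (∀ r ∈ R, r * z1 = z1 * r) → (∀ r ∈ R, r * z2 = z2 * r) →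
      Nat.card R ≤ 2 ^ 14 := by
    intro R hR h1 h2
    obtain ⟨h, hh, he⟩ := F.z1A
    have hR' : IsPGroup 2 (R.map (MulAut.conj h⁻¹).toMonoidHom) := hR.map _
    have hcard : Nat.card (R.map (MulAut.conj h⁻¹).toMonoidHom) = Nat.card R :=
      Subgroup.card_map_of_injective (MulAut.conj h⁻¹).injective
    have hzz : z = h⁻¹ * z1 * h := by rw [← he]; group
    have hconj : ∀ r w : G, r * w = w * r → (h⁻¹ * r * h) * (h⁻¹ * w * h) = (h⁻¹ * w * h) * (h⁻¹ * r * h) := by
      intro r w hrw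
      calc (h⁻¹ * r * h) * (h⁻¹ * w * h) = h⁻¹ * (r * w) * h := by group
        _ = h⁻¹ * (w * r) * h := by rw [hrw]
        _ = _ := by group
    have hmem : ∀ w : G, ∀ r ∈ R.map (MulAut.conj h⁻¹).toMonoidHom, (∀ s ∈ R, s * w = w * s) →
        r * (h⁻¹ * w * h) = (h⁻¹ * w * h) * r := by
      rintro w _ ⟨r, hr, rfl⟩ hw
      have e : (MulAut.conj h⁻¹).toMonoidHom r = h⁻¹ * r * h := by
        show h⁻¹ * r * h⁻¹⁻¹ = _
        rw [inv_inv]
      rw [e]
      exact hconj r w (hw r hr)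
    have hx : Cj H z (h⁻¹ * z2 * h) := by
      have := F.z2A.conj (H.inv_mem hh)
      rwa [inv_inv] at this
    obtain ⟨w, hwT, hw, ⟨k, hk, hkw⟩, hle⟩ := F.bound_z hC hR' (fun r hr => by
      rw [hzz]; exact hmem z1 r hr h1) hx (by rw [hzz]; exact hconj z2 z1 z12.symm) (fun r hr => hmem z2 r hr h2)
    rw [hcard] at hle
    refine hle.trans (F.c14 w hwT hw ?_)
    have hkz := Subgroup.mem_centralizer_singleton_iff.1 hk
    refine ⟨k * h⁻¹, H.mul_mem (hC hk) (H.inv_mem hh), ?_⟩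
    have hkz' : k * z * k⁻¹ = z := by rw [hkz, mul_inv_cancel_right]
    calc k * h⁻¹ * v * (k * h⁻¹)⁻¹ = k * (h⁻¹ * z1 * h) * k⁻¹ * (k * (h⁻¹ * z2 * h) * k⁻¹) := by
          rw [F.v_eq]; group
      _ = k * z * k⁻¹ * w := by rw [← hzz, hkw]
      _ = z * w := by rw [hkz']
  have P2 : IsPGroup 2 (ct T v) := F.T2.to_le inf_le_left
  set L : Subgroup G := Subgroup.centralizer {v} with hL
  obtain ⟨P, hP⟩ := exists_sylow (L := L) (P0 := ct T v) inf_le_right P2 (by
    intro N hNL hN2 hPN hNn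
    have hz1P : z1 ∈ ct T v := mem_ct.2 ⟨F.ET F.z1E, z1cv⟩
    have hNv : ∀ n ∈ N, n * v = v * n := fun n hn => Subgroup.mem_centralizer_singleton_iff.1 (hNL hn)
    have hN1 : ∀ n ∈ N, n * z1 * n⁻¹ = z1 ∨ n * z1 * n⁻¹ = z2 := by
      intro n hn
      have h1 := (Subgroup.mem_normalizer_iff.1 (hNn hn) z1).1 hz1P
      exact key n (hNv n hn) (mem_ct.1 h1).1
    -- the subgroup commuting with `z1`
    set N1 : Subgroup G := N ⊓ Subgroup.centralizer {z1} with hN1def
    have hb : Nat.card N1 ≤ 2 ^ 14 := by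
      refine bound N1 (hN2.to_le inf_le_left) ?_ ?_
      · intro r hr
        exact Subgroup.mem_centralizer_singleton_iff.1 (Subgroup.mem_inf.1 hr).2
      · intro r hr
        have h1 := Subgroup.mem_centralizer_singleton_iff.1 (Subgroup.mem_inf.1 hr).2
        have h2 := hNv r (Subgroup.mem_inf.1 hr).1
        rw [← z1v]
        exact ((show Commute r z1 from h1).mul_right (show Commute r v from h2)).eq
    have hN1' : Nat.card N ≤ 2 * Nat.card N1 := by
      by_cases hall : ∀ n ∈ N, n * z1 = z1 * n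
      · have : N ≤ N1 := fun n hn => Subgroup.mem_inf.2 ⟨hn, Subgroup.mem_centralizer_singleton_iff.2 (hall n hn)⟩
        have := Subgroup.card_le_of_le this
        omega
      · push Not at hall
        obtain ⟨s, hs, hsz⟩ := hall
        have hs2 : s * z1 * s⁻¹ = z2 := by
          rcases hN1 s hs with h | h
          · exact absurd (mul_inv_eq_iff_eq_mul.1 h) hsz
          · exact h
        classical
        have hstep : ∀ n ∈ N, ¬ (n * z1 = z1 * n) → s⁻¹ * n ∈ N1 := by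
          intro n hn hnz
          have hn2 : n * z1 * n⁻¹ = z2 := by
            rcases hN1 n hn with h | h
            · exact absurd (mul_inv_eq_iff_eq_mul.1 h) hnz
            · exact h
          refine Subgroup.mem_inf.2 ⟨N.mul_mem (N.inv_mem hs) hn, Subgroup.mem_centralizer_singleton_iff.2 ?_⟩
          have e1 : n * z1 = z2 * n := mul_inv_eq_iff_eq_mul.1 hn2
          have e2 : s⁻¹ * z2 = z1 * s⁻¹ := by rw [← hs2]; group
          rw [mul_assoc, e1, ← mul_assoc, e2, mul_assoc]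
        let f : N → Bool × N1 := fun n =>
          if h : (n : G) * z1 = z1 * n then
            (false, ⟨n, Subgroup.mem_inf.2 ⟨n.2, Subgroup.mem_centralizer_singleton_iff.2 h⟩⟩)
          else (true, ⟨s⁻¹ * n, hstep n n.2 h⟩)
        have hf : Function.Injective f := by
          intro n m hnm
          by_cases h : (n : G) * z1 = z1 * n
          · by_cases h' : (m : G) * z1 = z1 * m
            · simp only [f, dif_pos h, dif_pos h', Prod.mk.injEq, true_and, Subtype.mk.injEq] at hnm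
              exact Subtype.ext hnm
            · simp only [f, dif_pos h, dif_neg h', Prod.mk.injEq] at hnm
              exact absurd hnm.1 (by decide)
          · by_cases h' : (m : G) * z1 = z1 * m
            · simp only [f, dif_neg h, dif_pos h', Prod.mk.injEq] at hnm
              exact absurd hnm.1 (by decide)
            · simp only [f, dif_neg h, dif_neg h', Prod.mk.injEq, true_and, Subtype.mk.injEq] at hnm
              exact Subtype.ext (mul_left_cancel hnm)
        have := Nat.card_le_card_of_injective f hf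
        rw [Nat.card_prod, Nat.card_eq_fintype_card (α := Bool), Fintype.card_bool] at this
        exact this
    have h5 : Nat.card N ≤ Nat.card (ct T v) := by
      rw [F.cv]
      calc Nat.card N ≤ 2 * Nat.card N1 := hN1'
        _ ≤ 2 * 2 ^ 14 := by omega
        _ = 2 ^ 15 := by norm_num
    exact (Subgroup.eq_of_le_of_card_ge hPN h5).ge)
  have hvL : v ∈ L := Subgroup.mem_centralizer_singleton_iff.2 rfl
  have hEL : ∀ e ∈ E, e ∈ L := fun e he => Subgroup.mem_centralizer_singleton_iff.2 (F.Ec _ he _ F.vE)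
  have hz1L : z1 ∈ L := hEL _ F.z1E
  have z1_ne : z1 ≠ 1 := by
    obtain ⟨h, hh, he⟩ := F.z1A
    intro h1
    apply F.z_ne
    calc z = h⁻¹ * (h * z * h⁻¹) * h := by group
      _ = 1 := by rw [he, h1]; group
  have z2_ne : z2 ≠ 1 := by
    obtain ⟨h, hh, he⟩ := F.z2A
    intro h1
    apply F.z_ne
    calc z = h⁻¹ * (h * z * h⁻¹) * h := by group
      _ = 1 := by rw [he, h1]; group
  obtain ⟨K, hKn, hKodd, hKc⟩ := ZMod2.zstar_mod P (v := ⟨v, hvL⟩) (z := ⟨z1, hz1L⟩) (Subtype.ext F.vv)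
    (fun h => F.v_ne (congrArg Subtype.val h))
    (fun m => Subtype.ext (Subgroup.mem_centralizer_singleton_iff.1 m.2)) (Subtype.ext z11)
    (fun h => z1_ne (congrArg Subtype.val h))
    (fun h => z2_ne (by
      have h1 : z1 = v := congrArg Subtype.val h
      rw [← z1v, ← h1, z11]))
    ((hP _).2 (mem_ct.2 ⟨F.ET F.z1E, z1cv⟩))
    (by
      intro l hl
      have h1 : (l : G) * z1 * (l : G)⁻¹ ∈ ct T v := (hP _).1 hl
      rcases key l (Subgroup.mem_centralizer_singleton_iff.1 l.2) (mem_ct.1 h1).1 with h | h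
      · left; exact Subtype.ext h
      · right; exact Subtype.ext (h.trans z1v.symm))
  have hKH : K.map L.subtype ≤ H := by
    refine F.odd_le hz ?_ ?_
    · rw [Subgroup.card_map_of_injective (Subgroup.subtype_injective _)]; exact hKodd
    · intro e he
      rw [Subgroup.mem_normalizer_iff]
      intro x
      constructor
      · rintro ⟨k, hk, rfl⟩
        exact ⟨⟨e, hEL e he⟩ * k * ⟨e, hEL e he⟩⁻¹, hKn.conj_mem _ hk _, rfl⟩
      · rintro ⟨k, hk, hke⟩
        refine ⟨⟨e, hEL e he⟩⁻¹ * k * ⟨e, hEL e he⟩, ?_, ?_⟩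
        · have := hKn.conj_mem _ hk (⟨e, hEL e he⟩⁻¹)
          rwa [inv_inv] at this
        · have hke' : (k : G) = e * x * e⁻¹ := hke
          show e⁻¹ * (k : G) * e = x
          rw [hke']; group
  -- `C_G(v) ≤ H`
  refine F.good_of_cent1 hz F.vv ?_
  intro l hl
  have hlL : l ∈ L := Subgroup.mem_centralizer_singleton_iff.2 hl
  have hmem : z1 * l * z1⁻¹ * l⁻¹ ∈ H := by
    rcases hKc ⟨l, hlL⟩ with h | h
    · exact hKH ⟨_, h, rfl⟩
    · have h1 : z1 * l * z1⁻¹ * l⁻¹ * v ∈ H := hKH ⟨_, h, rfl⟩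
      have h2 := H.mul_mem h1 (H.inv_mem F.vH)
      rwa [mul_inv_cancel_right] at h2
  apply hz1
  have z1i : z1⁻¹ = z1 := inv_eq_of_mul_eq_one_left z11
  have h3 := H.mul_mem (H.inv_mem z1H) hmem
  have e : z1⁻¹ * (z1 * l * z1⁻¹ * l⁻¹) = l * z1 * l⁻¹ := by
    rw [z1i]
    calc z1 * (z1 * l * z1 * l⁻¹) = z1 * z1 * (l * z1 * l⁻¹) := by group
      _ = _ := by rw [z11, one_mul]
  rwa [e] at h3

/-- (D2') -/
theorem good2_yp [Finite G] (hz : Good H z) : Good2 H y p := by
  have hC : Subgroup.centralizer {z} ≤ H := fun g hg =>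
    hz.cent F.zH (Subgroup.mem_centralizer_singleton_iff.1 hg)
  have hEE : ∀ e ∈ E, ∀ f ∈ E, e * f = f * e := F.Ec
  set L : Subgroup G := Subgroup.centralizer {y} ⊓ Subgroup.centralizer {p} with hL
  have memL : ∀ g, g ∈ L ↔ g * y = y * g ∧ g * p = p * g := by
    intro g
    rw [hL, Subgroup.mem_inf, Subgroup.mem_centralizer_singleton_iff, Subgroup.mem_centralizer_singleton_iff]
  set P0 : Subgroup G := T ⊓ Subgroup.centralizer {y} ⊓ Subgroup.centralizer {p} with hP0
  have memP : ∀ g, g ∈ P0 ↔ g ∈ T ∧ g * y = y * g ∧ g * p = p * g := by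
    intro g
    rw [hP0, Subgroup.mem_inf, Subgroup.mem_inf, Subgroup.mem_centralizer_singleton_iff,
      Subgroup.mem_centralizer_singleton_iff, and_assoc]
  have hEL : ∀ e ∈ E, e ∈ L := fun e he => (memL e).2 ⟨hEE _ he _ F.yE, hEE _ he _ F.pE⟩
  have hzP : z ∈ P0 := (memP z).2 ⟨F.ET F.zE, hEE _ F.zE _ F.yE, hEE _ F.zE _ F.pE⟩
  have hPL : P0 ≤ L := fun g hg => (memL g).2 ((memP g).1 hg).2
  have P2 : IsPGroup 2 P0 := F.T2.to_le (inf_le_left.trans inf_le_left)
  have hconj : ∀ l w : G, l * w * l⁻¹ = w ↔ l * w = w * l := fun l w => mul_inv_eq_iff_eq_mul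
  -- `z` is fixed
  have key : ∀ l ∈ L, l * z * l⁻¹ ∈ P0 → l * z * l⁻¹ = z := by
    intro l hl hT
    obtain ⟨hly, hlp⟩ := (memL l).1 hl
    obtain ⟨hT1, hT2, hT3⟩ := (memP _).1 hT
    have hlH : l ∈ H := hz l (F.TH hT1)
    have ey : l * y * l⁻¹ = y := (hconj l y).2 hly
    have ep : l * p * l⁻¹ = p := (hconj l p).2 hlp
    refine F.only_yp _ hT1 hT2 hT3 ⟨l, hlH, rfl⟩ ?_ ?_ ?_
    · have h1 := F.zy.conj hlH
      have e : l * (z * y) * l⁻¹ = l * z * l⁻¹ * y := by
        calc l * (z * y) * l⁻¹ = l * z * l⁻¹ * (l * y * l⁻¹) := by group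
          _ = _ := by rw [ey]
      rwa [e] at h1
    · have h1 := F.zp.conj hlH
      have e : l * (z * p) * l⁻¹ = l * z * l⁻¹ * p := by
        calc l * (z * p) * l⁻¹ = l * z * l⁻¹ * (l * p * l⁻¹) := by group
          _ = _ := by rw [ep]
      rwa [e] at h1
    · have h1 := F.zyp.conj hlH
      have e : l * (z * (y * p)) * l⁻¹ = l * z * l⁻¹ * (y * p) := by
        calc l * (z * (y * p)) * l⁻¹ = l * z * l⁻¹ * (l * y * l⁻¹ * (l * p * l⁻¹)) := by group
          _ = _ := by rw [ey, ep]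
      rwa [e] at h1
  obtain ⟨P, hP⟩ := exists_sylow (L := L) (P0 := P0) hPL P2 (by
    intro N hNL hN2 hPN hNn
    have hNz : ∀ n ∈ N, n * z = z * n := by
      intro n hn
      have h1 := (Subgroup.mem_normalizer_iff.1 (hNn hn) z).1 hzP
      exact (hconj n z).1 (key n (hNL hn) h1)
    have hx : Cj H z (z * p) := F.zp
    obtain ⟨w, hwT, hw, ⟨k, hk, hkw⟩, hle⟩ := F.bound_z hC hN2 hNz hx
      (by rw [← hEE _ F.zE _ (E.mul_mem F.zE F.pE)]) (fun r hr => by
        have h1 := hNz r hr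
        have h2 := ((memL r).1 (hNL hr)).2
        exact ((show Commute r z from h1).mul_right (show Commute r p from h2)).eq)
    have hwz : w ≠ z := by
      intro h
      apply F.p_ne
      have hkz := Subgroup.mem_centralizer_singleton_iff.1 hk
      have h1 : z * p = z := by
        have h2 : k * (z * p) * k⁻¹ = z := by rw [hkw, h]
        calc z * p = k⁻¹ * (k * (z * p) * k⁻¹) * k := by group
          _ = k⁻¹ * (z * k) := by rw [h2]; group
          _ = z := by rw [← hkz]; group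
      exact mul_eq_left.1 h1
    have h5 : Nat.card N ≤ Nat.card P0 := by
      rw [F.cyp]
      exact hle.trans (F.c16 w hwT hw hwz)
    exact (Subgroup.eq_of_le_of_card_ge hPN h5).ge)
  have hzL : z ∈ L := hEL _ F.zE
  have hoz : orderOf (⟨z, hzL⟩ : L) = 2 := by
    have : Fact (Nat.Prime 2) := ⟨Nat.prime_two⟩
    refine orderOf_eq_prime ?_ (fun h => F.z_ne (congrArg Subtype.val h))
    rw [pow_two]; exact Subtype.ext F.zz
  obtain ⟨K, hKn, hKodd, hKc⟩ := Cfsg.Agent.S0215.result P (⟨z, hzL⟩ : L) hoz ((hP _).2 hzP) (by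
    intro l hl
    exact Subtype.ext (key l l.2 ((hP _).1 hl)))
  have hKH : K.map L.subtype ≤ H := by
    refine F.odd_le hz ?_ ?_
    · rw [Subgroup.card_map_of_injective (Subgroup.subtype_injective _)]; exact hKodd
    · intro e he
      rw [Subgroup.mem_normalizer_iff]
      intro x
      constructor
      · rintro ⟨k, hk, rfl⟩
        exact ⟨⟨e, hEL e he⟩ * k * ⟨e, hEL e he⟩⁻¹, hKn.conj_mem _ hk _, rfl⟩
      · rintro ⟨k, hk, hke⟩
        refine ⟨⟨e, hEL e he⟩⁻¹ * k * ⟨e, hEL e he⟩, ?_, ?_⟩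
        · have := hKn.conj_mem _ hk (⟨e, hEL e he⟩⁻¹)
          rwa [inv_inv] at this
        · have hke' : (k : G) = e * x * e⁻¹ := hke
          show e⁻¹ * (k : G) * e = x
          rw [hke']; group
  -- `C_G(⟨y, p⟩) ≤ H`
  have hLH : ∀ l ∈ L, l ∈ H := by
    intro l hl
    have hmem : z * l * z⁻¹ * l⁻¹ ∈ H := hKH ⟨_, hKc ⟨l, hl⟩, rfl⟩
    apply hz
    have zi : z⁻¹ = z := inv_eq_of_mul_eq_one_left F.zz
    have h3 := H.mul_mem (H.inv_mem F.zH) hmem
    have e : z⁻¹ * (z * l * z⁻¹ * l⁻¹) = l * z * l⁻¹ := by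
      rw [zi]
      calc z * (z * l * z * l⁻¹) = z * z * (l * z * l⁻¹) := by group
        _ = _ := by rw [F.zz, one_mul]
    rwa [e] at h3
  intro g hgy hgp
  have hY : Subgroup.closure {y, p} ≤ E := by
    rw [Subgroup.closure_le]
    rintro w (rfl | rfl)
    · exact F.yE
    · exact F.pE
  refine F.good_of_cent hz (Y := Subgroup.closure {y, p}) (F.T2.to_le (hY.trans F.ET)) ?_ ?_
  · intro k hk
    exact hLH k ((memL k).2 ⟨hk y (Subgroup.subset_closure (by simp)), hk p (Subgroup.subset_closure (by simp))⟩)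
  · intro w hw
    have h1 : Subgroup.closure {y, p} ≤ H.comap (MulAut.conj g).toMonoidHom := by
      rw [Subgroup.closure_le]
      rintro w (rfl | rfl)
      · exact hgy
      · exact hgp
    exact h1 hw

/-- (D2'') -/
theorem good_y [Finite G] (hz : Good H z) : Good H y := by
  have hC : Subgroup.centralizer {z} ≤ H := fun g hg =>
    hz.cent F.zH (Subgroup.mem_centralizer_singleton_iff.1 hg)
  have hv := good_v F hz
  have hyp := good2_yp F hz
  have hconj : ∀ l w : G, l * w * l⁻¹ = w ↔ l * w = w * l := fun l w => mul_inv_eq_iff_eq_mul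
  refine F.good_of_cent1 hz F.yy ?_
  set L : Subgroup G := Subgroup.centralizer {y} with hL
  have memL : ∀ g, g ∈ L ↔ g * y = y * g := fun g => Subgroup.mem_centralizer_singleton_iff
  have hEL : ∀ e ∈ E, e ∈ L := fun e he => (memL e).2 (F.Ec _ he _ F.yE)
  have hzP : z ∈ ct T y := mem_ct.2 ⟨F.ET F.zE, F.Ec _ F.zE _ F.yE⟩
  have P2 : IsPGroup 2 (ct T y) := F.T2.to_le inf_le_left
  -- Sylow subgroup of `C_G(y)`
  obtain ⟨P, hP⟩ := exists_sylow (L := L) (P0 := ct T y) inf_le_right P2 (by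
    intro N hNL hN2 hPN hNn
    have hNz : ∀ n ∈ N, n * z = z * n := by
      intro n hn
      have h1 := (Subgroup.mem_normalizer_iff.1 (hNn hn) z).1 hzP
      have hnT := (mem_ct.1 h1).1
      have hnH : n ∈ H := hz n (F.TH hnT)
      apply (hconj n z).1
      by_contra hne
      have h2 := F.c16 _ hnT ⟨n, hnH, rfl⟩ hne
      have h3 : ct T y ≤ ct T (n * z * n⁻¹) := by
        intro s hs
        refine mem_ct.2 ⟨(mem_ct.1 hs).1, ?_⟩
        have h4 : n⁻¹ * s * n ∈ ct T y := by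
          have h5 := (Subgroup.mem_normalizer_iff.1 (Subgroup.inv_mem _ (hNn hn)) s).1 hs
          rwa [inv_inv] at h5
        have h6 := F.zc _ (mem_ct.1 h4).1
        calc s * (n * z * n⁻¹) = n * ((n⁻¹ * s * n) * z) * n⁻¹ := by group
          _ = n * (z * (n⁻¹ * s * n)) * n⁻¹ := by rw [h6]
          _ = n * z * n⁻¹ * s := by group
      have h7 := Subgroup.card_le_of_le h3
      rw [F.cy] at h7
      have : (2 : ℕ) ^ 17 ≤ 2 ^ 16 := h7.trans h2
      norm_num at this
    -- conjugate `N` into `T`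
    obtain ⟨k, hk, hkT⟩ := F.conjT _ F.T_le_cent hC N (fun n hn =>
      Subgroup.mem_centralizer_singleton_iff.2 (hNz n hn)) hN2
    have hmap : N.map (MulAut.conj k).toMonoidHom ≤ T := by
      rintro _ ⟨n, hn, rfl⟩
      exact hkT n hn
    have hcardmap : Nat.card (N.map (MulAut.conj k).toMonoidHom) = Nat.card N :=
      Subgroup.card_map_of_injective (MulAut.conj k).injective
    have hyN : y ∈ N := hPN (mem_ct.2 ⟨F.ET F.yE, rfl⟩)
    have hne : N.map (MulAut.conj k).toMonoidHom ≠ T := by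
      intro heq
      have h1 : ∀ s ∈ T, s * (k * y * k⁻¹) = (k * y * k⁻¹) * s := by
        intro s hs
        rw [← heq] at hs
        obtain ⟨n, hn, rfl⟩ := hs
        have h2 := (memL n).1 (hNL hn)
        show k * n * k⁻¹ * (k * y * k⁻¹) = (k * y * k⁻¹) * (k * n * k⁻¹)
        calc k * n * k⁻¹ * (k * y * k⁻¹) = k * (n * y) * k⁻¹ := by group
          _ = k * (y * n) * k⁻¹ := by rw [h2]
          _ = _ := by group
      rcases F.centT _ (hkT y hyN) h1 with h2 | h2
      · apply F.y_ne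
        calc y = k⁻¹ * (k * y * k⁻¹) * k := by group
          _ = 1 := by rw [h2]; group
      · apply F.nzy
        exact (Cj.symm' ⟨k, hC hk, h2⟩)
    have hdvd : Nat.card N ∣ 2 ^ 18 := by
      rw [← hcardmap, ← F.cardT]
      exact Subgroup.card_dvd_of_le hmap
    obtain ⟨m, hm, hm2⟩ := (Nat.dvd_prime_pow Nat.prime_two).1 hdvd
    have hm17 : m ≤ 17 := by
      by_contra hcon
      have : m = 18 := by omega
      apply hne
      apply Subgroup.eq_of_le_of_card_ge hmap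
      rw [hcardmap, hm2, this, F.cardT]
    have h5 : Nat.card N ≤ Nat.card (ct T y) := by
      rw [F.cy, hm2]
      exact Nat.pow_le_pow_right (by norm_num) hm17
    exact (Subgroup.eq_of_le_of_card_ge hPN h5).ge)
  -- the closing lemma in `C_G(y)`
  set D0 : Subgroup L := H.subgroupOf L with hD0
  have hzL : z ∈ L := hEL _ F.zE
  by_contra hcon
  push Not at hcon
  obtain ⟨g0, hg0, hg0H⟩ := hcon
  have hne : D0 ≠ ⊤ := by
    intro h
    have : (⟨g0, (memL g0).2 hg0⟩ : L) ∈ D0 := by rw [h]; exact Subgroup.mem_top _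
    exact hg0H this
  have hZ' : ∀ g : L, g * ⟨z, hzL⟩ * g⁻¹ ∈ D0 → g ∈ D0 := by
    intro g hg
    exact hz (g : G) hg
  have hoz : orderOf (⟨z, hzL⟩ : L) = 2 := by
    have : Fact (Nat.Prime 2) := ⟨Nat.prime_two⟩
    refine orderOf_eq_prime ?_ (fun h => F.z_ne (congrArg Subtype.val h))
    rw [pow_two]; exact Subtype.ext F.zz
  obtain ⟨S, hSD, hS2, hzf, hnS, -, hx, hR⟩ := Cfsg.Agent.SporRec.MaxFix.exists_max hne hZ' hoz F.zH P
    (fun x hx => Subtype.ext (F.zc _ (mem_ct.1 ((hP x).1 hx)).1))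
  -- an element of the normaliser of `S` outside `H`
  obtain ⟨n, hn, hnD⟩ : ∃ n ∈ Subgroup.normalizer (S : Set L), n ∉ D0 := by
    by_contra h
    push Not at h
    exact hnS h
  have hnH : (n : G) ∉ H := hnD
  have hny : (n : G) * y * (n : G)⁻¹ = y := (hconj _ _).2 ((memL _).1 n.2)
  have hSH : ∀ s ∈ S, (s : G) ∈ H := fun s hs => hSD hs
  have hnSn : ∀ s ∈ S, n * s * n⁻¹ ∈ S := fun s hs => (Subgroup.mem_normalizer_iff.1 hn s).1 hs
  have hyL : y ∈ L := hEL _ F.yE
  have hyc : ∀ g : L, g * ⟨y, hyL⟩ = ⟨y, hyL⟩ * g := fun g => Subtype.ext ((memL _).1 g.2)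
  -- `y ∈ S`
  have hyS : (⟨y, hyL⟩ : L) ∈ S := by
    by_contra hyS
    have hlt : S < S ⊔ Subgroup.zpowers (⟨y, hyL⟩ : L) := by
      refine lt_of_le_of_ne le_sup_left (fun h => hyS ?_)
      rw [h]; exact Subgroup.mem_sup_right (Subgroup.mem_zpowers _)
    have hp : IsPGroup 2 (Subgroup.zpowers (⟨y, hyL⟩ : L)) := by
      have : Fact (Nat.Prime 2) := ⟨Nat.prime_two⟩
      rw [IsPGroup.iff_card]
      refine ⟨1, ?_⟩
      rw [Nat.card_zpowers, pow_one]
      refine orderOf_eq_prime ?_ (fun h => F.y_ne (congrArg Subtype.val h))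
      rw [pow_two]; exact Subtype.ext F.yy
    have hp2 : IsPGroup 2 (S ⊔ Subgroup.zpowers (⟨y, hyL⟩ : L) : Subgroup L) := by
      rw [sup_comm]
      refine hp.to_sup_of_normal_right' hS2 ?_
      rw [Subgroup.zpowers_le, Subgroup.mem_normalizer_iff]
      intro x
      rw [← hyc x, mul_inv_cancel_right]
    obtain ⟨g, hg⟩ := hR _ hp2 hlt
    have hyn : (Subgroup.zpowers (⟨y, hyL⟩ : L)).Normal := by
      constructor
      intro x hx g
      obtain ⟨k, rfl⟩ := Subgroup.mem_zpowers_iff.1 hx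
      have hc : Commute g ((⟨y, hyL⟩ : L) ^ k) := (show Commute g ⟨y, hyL⟩ from hyc g).zpow_right k
      rw [hc.eq, mul_inv_cancel_right]
      exact Subgroup.zpow_mem_zpowers _ k
    obtain ⟨s, hs, w, hw, hsw⟩ := Subgroup.mem_sup_of_normal_right.1 hg
    have hw' : w = 1 ∨ w = ⟨y, hyL⟩ := by
      obtain ⟨k, rfl⟩ := Subgroup.mem_zpowers_iff.1 hw
      have hyy : (⟨y, hyL⟩ : L) * ⟨y, hyL⟩ = 1 := Subtype.ext F.yy
      rcases Int.even_or_odd' k with ⟨m, rfl | rfl⟩
      · left; rw [zpow_mul, zpow_ofNat, pow_two, hyy, one_zpow]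
      · right; rw [zpow_add, zpow_mul, zpow_ofNat, pow_two, hyy, one_zpow, zpow_one, one_mul]
    have hwH : (w : G) ∈ H := by
      rcases hw' with rfl | rfl
      · exact H.one_mem
      · exact F.yH
    have hwn : n * w * n⁻¹ = w := by
      rcases hw' with rfl | rfl
      · group
      · rw [hyc, mul_inv_cancel_right]
    -- `g z g⁻¹ = s w` is in `H` and conjugated into `H` by `n`
    have h1 : ((g : G) * z * (g : G)⁻¹) = (s : G) * w := congrArg Subtype.val hsw.symm
    have hgH : (g : G) ∈ H := hz _ (by rw [h1]; exact H.mul_mem (hSH s hs) hwH)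
    have h2 : ((n : G) * g) * z * ((n : G) * g)⁻¹ ∈ H := by
      have e : ((n : G) * g) * z * ((n : G) * g)⁻¹ = (n : G) * ((g : G) * z * (g : G)⁻¹) * (n : G)⁻¹ := by group
      rw [e, h1]
      have e2 : (n : G) * ((s : G) * w) * (n : G)⁻¹ = ((n * s * n⁻¹ : L) : G) * ((n * w * n⁻¹ : L) : G) := by
        simp only [Subgroup.coe_mul, Subgroup.coe_inv]; group
      rw [e2, hwn]
      exact H.mul_mem (hSH _ (hnSn s hs)) hwH
    have h3 := hz _ h2
    exact hnH (by
      have := H.mul_mem h3 (H.inv_mem hgH)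
      rwa [mul_inv_cancel_right] at this)
  -- conjugate `S` into `T`
  have hTD : ct T y ≤ H ⊓ L := le_inf (inf_le_left.trans F.TH) inf_le_right
  obtain ⟨dd, hdd, hddT⟩ : ∃ k ∈ H ⊓ L, ∀ s ∈ S, k * (s : G) * k⁻¹ ∈ T := by
    -- Sylow in `D0`
    have : Fact (Nat.Prime 2) := ⟨Nat.prime_two⟩
    have hP0 : (P : Subgroup L) ≤ D0 := by
      intro x hx
      exact F.TH (mem_ct.1 ((hP x).1 hx)).1
    have hPs := P.subtype hP0
    obtain ⟨Q, hQ⟩ := (hS2.comap_of_injective D0.subtype (Subgroup.subtype_injective _)).exists_le_sylow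
    obtain ⟨k, hk⟩ := MulAction.exists_smul_eq D0 Q (P.subtype hP0)
    refine ⟨((k : L) : G), ⟨k.2, (k : L).2⟩, ?_⟩
    intro s hs
    have h1 : (⟨s, hSD hs⟩ : D0) ∈ Q := hQ (by
      rw [Subgroup.mem_comap]; exact hs)
    have h2 : k * ⟨s, hSD hs⟩ * k⁻¹ ∈ P.subtype hP0 := by
      rw [← hk]
      exact Subgroup.smul_mem_pointwise_smul _ (MulAut.conj k) _ h1
    have h3 : ((k * ⟨s, hSD hs⟩ * k⁻¹ : D0) : L) ∈ P := h2
    exact (mem_ct.1 ((hP _).1 h3)).1
  obtain ⟨hdH, hdL⟩ := Subgroup.mem_inf.1 hdd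
  have hdy : dd * y = y * dd := (memL dd).1 hdL
  have hdy' : dd * y * dd⁻¹ = y := (hconj _ _).2 hdy
  have huL : u ∈ L := hEL _ F.uE
  -- `u' = d⁻¹ u d`
  set u' : G := dd⁻¹ * u * dd with hu'
  have hu'L : u' ∈ L := L.mul_mem (L.mul_mem (L.inv_mem hdL) huL) hdL
  have hu'H : u' ∈ H := H.mul_mem (H.mul_mem (H.inv_mem hdH) F.uH) hdH
  have hu'u' : u' * u' = 1 := by
    rw [hu']
    calc dd⁻¹ * u * dd * (dd⁻¹ * u * dd) = dd⁻¹ * (u * u) * dd := by group
      _ = 1 := by rw [F.uu]; group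
  have hu'g : Good H u' := by
    have h1 := (F.uA.good hz).conj (H.inv_mem hdH)
    rwa [inv_inv] at h1
  have hu's : ∀ s ∈ S, (s : G) * u' * (s : G)⁻¹ = u' ∨ (s : G) * u' * (s : G)⁻¹ = u' * y := by
    intro s hs
    have hsy := (memL (s : G)).1 s.2
    have hsT := hddT s hs
    have h1 : dd * (s : G) * dd⁻¹ * y = y * (dd * (s : G) * dd⁻¹) :=
      ((show Commute dd y from hdy).mul_left (show Commute (s : G) y from hsy)).mul_left
        (show Commute dd y from hdy).inv_left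
    have e : (s : G) * u' * (s : G)⁻¹ = dd⁻¹ * ((dd * (s : G) * dd⁻¹) * u * (dd * (s : G) * dd⁻¹)⁻¹) * dd := by
      rw [hu']; group
    have hdiy : dd⁻¹ * y = y * dd⁻¹ := ((show Commute dd y from hdy).inv_left).eq
    rcases F.u_comm _ hsT h1 with h2 | h2
    · left; rw [e, h2]
    · right; rw [e, h2, hu']
      calc dd⁻¹ * (u * y) * dd = dd⁻¹ * u * (y * dd) := by group
        _ = dd⁻¹ * u * (dd * y) := by rw [hdy]
        _ = _ := by group
  have hu'nS : (⟨u', hu'L⟩ : L) ∉ S := by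
    intro h
    apply hnH
    apply hu'g
    exact hSH _ (hnSn _ h)
  have hu'norm : (⟨u', hu'L⟩ : L) ∈ Subgroup.normalizer (S : Set L) := by
    have hone : ∀ s ∈ S, (⟨u', hu'L⟩ : L) * s * (⟨u', hu'L⟩ : L)⁻¹ ∈ S := by
      intro s hs
      have hu'i : u'⁻¹ = u' := inv_eq_of_mul_eq_one_left hu'u'
      rcases hu's s hs with h | h
      · have : (⟨u', hu'L⟩ : L) * s * (⟨u', hu'L⟩ : L)⁻¹ = s := by
          apply Subtype.ext
          show u' * (s : G) * u'⁻¹ = s
          have h1 : (s : G) * u' = u' * s := mul_inv_eq_iff_eq_mul.1 h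
          rw [← h1]; group
        rw [this]; exact hs
      · have : (⟨u', hu'L⟩ : L) * s * (⟨u', hu'L⟩ : L)⁻¹ = ⟨y, hyL⟩ * s := by
          apply Subtype.ext
          show u' * (s : G) * u'⁻¹ = y * s
          have h1 : (s : G) * u' = u' * y * s := mul_inv_eq_iff_eq_mul.1 h
          have hyu : y * u' = u' * y := ((memL u').1 hu'L).symm
          have h2 : u' * (s : G) = y * s * u' := by
            have h3 : u' * ((s : G) * u') = y * s := by
              rw [h1]
              calc u' * (u' * y * s) = (u' * u') * y * s := by group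
                _ = y * s := by rw [hu'u', one_mul]
            calc u' * (s : G) = u' * ((s : G) * u') * u' := by
                  rw [mul_assoc u' _ u', mul_assoc (s : G) u' u', hu'u', mul_one]
              _ = y * s * u' := by rw [h3]
          rw [h2, mul_inv_cancel_right]
        rw [this]; exact S.mul_mem hyS hs
    rw [Subgroup.mem_normalizer_iff]
    intro s
    refine ⟨fun hs => hone s hs, fun hs => ?_⟩
    have h1 := hone _ hs
    have hu'i : (⟨u', hu'L⟩ : L)⁻¹ = ⟨u', hu'L⟩ := inv_eq_of_mul_eq_one_left (Subtype.ext hu'u')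
    have h2 : (⟨u', hu'L⟩ : L) * ((⟨u', hu'L⟩ : L) * s * (⟨u', hu'L⟩ : L)⁻¹) * (⟨u', hu'L⟩ : L)⁻¹ = s := by
      have h3 : (⟨u', hu'L⟩ : L) * ⟨u', hu'L⟩ = 1 := Subtype.ext hu'u'
      rw [hu'i]
      calc (⟨u', hu'L⟩ : L) * (⟨u', hu'L⟩ * s * ⟨u', hu'L⟩) * ⟨u', hu'L⟩ =
          (⟨u', hu'L⟩ * ⟨u', hu'L⟩) * s * (⟨u', hu'L⟩ * ⟨u', hu'L⟩) := by group
        _ = s := by rw [h3]; group
    rwa [h2] at h1
  obtain ⟨g, -, hgS⟩ := hx ⟨u', hu'L⟩ hu'norm hu'nS (by
    have : (⟨u', hu'L⟩ : L) * ⟨u', hu'L⟩ = 1 := Subtype.ext hu'u'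
    rw [this]; exact S.one_mem)
  -- `w = g z g⁻¹ = u' s`
  set s : L := (⟨u', hu'L⟩ : L)⁻¹ * (g * ⟨z, hzL⟩ * g⁻¹) with hs
  have hw : (g : G) * z * (g : G)⁻¹ = u' * (s : G) := by
    have h1 : (⟨u', hu'L⟩ : L) * s = g * ⟨z, hzL⟩ * g⁻¹ := by rw [hs, mul_inv_cancel_left]
    exact (congrArg Subtype.val h1).symm
  have hgH : (g : G) ∈ H := hz _ (by rw [hw]; exact H.mul_mem hu'H (hSH s hgS))
  have hgy : (g : G) * y * (g : G)⁻¹ = y := (hconj _ _).2 ((memL _).1 g.2)
  set w1 : G := dd * ((g : G) * z * (g : G)⁻¹) * dd⁻¹ with hw1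
  have hw1' : w1 = u * (dd * (s : G) * dd⁻¹) := by
    rw [hw1, hw, hu']; group
  have hw1T : w1 ∈ T := by
    rw [hw1']; exact T.mul_mem (F.ET F.uE) (hddT s hgS)
  have hdsy : dd * (s : G) * dd⁻¹ * y = y * (dd * (s : G) * dd⁻¹) :=
    ((show Commute dd y from hdy).mul_left (show Commute (s : G) y from (memL _).1 s.2)).mul_left
        (show Commute dd y from hdy).inv_left
  have hw1y : w1 * y = y * w1 := by
    rw [hw1']
    exact ((show Commute u y from (memL u).1 huL).mul_left (show Commute _ y from hdsy)).eq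
  have hw1A : Cj H z w1 := ⟨dd * g, H.mul_mem hdH hgH, by rw [hw1]; group⟩
  have hw1B : Cj H y (w1 * y) := by
    have h1 := F.zy.conj (H.mul_mem hdH hgH)
    have e : dd * (g : G) * (z * y) * (dd * (g : G))⁻¹ = w1 * y := by
      calc dd * (g : G) * (z * y) * (dd * (g : G))⁻¹ =
          dd * ((g : G) * z * (g : G)⁻¹) * dd⁻¹ * (dd * ((g : G) * y * (g : G)⁻¹) * dd⁻¹) := by group
        _ = w1 * y := by rw [hgy, hdy']
    rwa [e] at h1
  have hs1 : (⟨y, hyL⟩ : L) * s ∈ S := S.mul_mem hyS hgS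
  have huw : u * (w1 * y) = dd * ((⟨y, hyL⟩ * s : L) : G) * dd⁻¹ := by
    have e1 : ((⟨y, hyL⟩ * s : L) : G) = y * s := rfl
    rw [e1, hw1']
    calc u * (u * (dd * (s : G) * dd⁻¹) * y) = (u * u) * (dd * (s : G) * dd⁻¹ * y) := by group
      _ = y * (dd * (s : G) * dd⁻¹) := by rw [F.uu, one_mul, hdsy]
      _ = (dd * y * dd⁻¹) * (dd * (s : G) * dd⁻¹) := by rw [hdy']
      _ = _ := by group
  have hnot : ∀ s' ∈ S, (n : G) * (s' : G) * (n : G)⁻¹ ∈ H := fun s' hs' => hSH _ (hnSn s' hs')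
  rcases F.uxy w1 hw1T hw1y hw1A hw1B with h | ⟨h, hh, hhy, hhp⟩
  · -- an element of class `v`
    rw [huw] at h
    have h1 : Good H (dd * ((⟨y, hyL⟩ * s : L) : G) * dd⁻¹) := h.good hv
    have h2 := h1.conj (H.inv_mem hdH)
    have e : dd⁻¹ * (dd * ((⟨y, hyL⟩ * s : L) : G) * dd⁻¹) * dd⁻¹⁻¹ = ((⟨y, hyL⟩ * s : L) : G) := by group
    rw [e] at h2
    exact hnH (h2 _ (hnot _ hs1))
  · -- conjugate to `p` under `C_H(y)`
    rw [huw] at hhp
    have hk : h * dd ∈ H := H.mul_mem hh hdH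
    have h1 := hyp.conj (H.inv_mem hk)
    have ey : (h * dd)⁻¹ * y * (h * dd)⁻¹⁻¹ = y := by
      have : h * dd * y * (h * dd)⁻¹ = y := by
        calc h * dd * y * (h * dd)⁻¹ = h * (dd * y * dd⁻¹) * h⁻¹ := by group
          _ = y := by rw [hdy', hhy]
      calc (h * dd)⁻¹ * y * (h * dd)⁻¹⁻¹ = (h * dd)⁻¹ * (h * dd * y * (h * dd)⁻¹) * (h * dd)⁻¹⁻¹ := by rw [this]
        _ = y := by group
    have ep : (h * dd)⁻¹ * p * (h * dd)⁻¹⁻¹ = ((⟨y, hyL⟩ * s : L) : G) := by
      rw [← hhp]; group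
    rw [ey, ep] at h1
    exact hnH (h1 _ (by rw [hny]; exact F.yH) (hnot _ hs1))

/-- **Closing argument.** -/
theorem eq_top [Finite G] (hz : Good H z) (hzy : ¬ IsConj z y) : H = ⊤ := by
  have hv := good_v F hz
  have hy := good_y F hz
  have hgood : ∀ x ∈ H, x * x = 1 → x ≠ 1 → Good H x := by
    intro x hx hxx hx1
    rcases F.cls x hx hxx hx1 with h | h | h
    · exact h.good hz
    · exact h.good hy
    · exact h.good hv
  have : Fact (Nat.Prime 2) := ⟨Nat.prime_two⟩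
  rw [eq_top_iff]
  intro g _
  apply hz
  have hww : (g * z * g⁻¹) * (g * z * g⁻¹) = 1 := by
    calc (g * z * g⁻¹) * (g * z * g⁻¹) = g * (z * z) * g⁻¹ := by group
      _ = 1 := by rw [F.zz]; group
  have hw1 : g * z * g⁻¹ ≠ 1 := by
    intro h
    apply F.z_ne
    calc z = g⁻¹ * (g * z * g⁻¹) * g := by group
      _ = 1 := by rw [h]; group
  obtain ⟨k, hk2, hkw, hky, -⟩ := Cfsg.Agent.Involutions.CommonInvolution.exists_common_involution
    (g * z * g⁻¹) y (orderOf_eq_prime (by rw [pow_two, hww]) hw1)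
    (orderOf_eq_prime (by rw [pow_two, F.yy]) F.y_ne) (by
      intro h
      apply hzy
      exact (isConj_iff.2 ⟨g, rfl⟩ : IsConj z (g * z * g⁻¹)).trans h)
  have hkk : k * k = 1 := by rw [← pow_two, ← hk2, pow_orderOf_eq_one]
  have hk1 : k ≠ 1 := by
    intro h
    rw [h, orderOf_one] at hk2
    exact absurd hk2 (by norm_num)
  have hkH : k ∈ H := hy.cent F.yH hky.eq
  exact (hgood k hkH hkk hk1).cent hkH hkw.symm.eq

end

end Cfsg.Agent.Co2Type.CloseAbs
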