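import Cfsg.Agent.Co2Type.CloseAbs
import Cfsg.Agent.Co2Type.Facts

/-!
# The closing theorem for `Co₂`: `H = G` from the finite facts on `H`
-/

set_option autoImplicit false

namespace Cfsg.Agent.Co2Type.Closing

open Cfsg.Agent.Co2Type.Good Cfsg.Agent.Co2Type.GFacts Cfsg.Agent.Co2Type.Facts

variable {G : Type*} [Group G]

theorem cj_of {H : Subgroup G} {x w : H} (h : IsConj x w) : Cj H (x : G) (w : G) := by
  obtain ⟨k, hk⟩ := isConj_iff.1 h
  exact ⟨k, k.2, by rw [← hk]; rfl⟩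

theorem of_cj {H : Subgroup G} {x w : H} (h : Cj H (x : G) (w : G)) : IsConj x w := by
  obtain ⟨k, hk, he⟩ := h
  exact isConj_iff.2 ⟨⟨k, hk⟩, Subtype.ext he⟩

theorem cj_iff {H : Subgroup G} {x w : H} : Cj H (x : G) (w : G) ↔ IsConj x w := ⟨of_cj, cj_of⟩

variable {H : Subgroup G}

theorem mem_map_iff {T : Subgroup H} {g : G} : g ∈ T.map H.subtype ↔ ∃ h : g ∈ H, (⟨g, h⟩ : H) ∈ T := by
  constructor
  · rintro ⟨x, hx, rfl⟩
    exact ⟨x.2, hx⟩
  · rintro ⟨h, hx⟩
    exact ⟨_, hx, rfl⟩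

theorem card_ct {T : Subgroup H} {x : H} : Nat.card (ct (T.map H.subtype) (x : G)) = Nat.card (cent T x) := by
  have e : ct (T.map H.subtype) (x : G) = (cent T x).map H.subtype := by
    ext g
    rw [mem_ct, mem_map_iff, mem_map_iff]
    constructor
    · rintro ⟨⟨h, h1⟩, h2⟩
      exact ⟨h, mem_cent.2 ⟨h1, Subtype.ext h2.symm⟩⟩
    · rintro ⟨h, h1⟩
      obtain ⟨h2, h3⟩ := mem_cent.1 h1
      exact ⟨⟨h, h2⟩, (congrArg Subtype.val h3).symm⟩
  rw [e, Subgroup.card_map_of_injective (Subgroup.subtype_injective _)]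

theorem card_ct2 {T : Subgroup H} {x y : H} :
    Nat.card (T.map H.subtype ⊓ Subgroup.centralizer {(x : G)} ⊓ Subgroup.centralizer {(y : G)} : Subgroup G) =
      Nat.card (cent2 T x y) := by
  have e : (T.map H.subtype ⊓ Subgroup.centralizer {(x : G)} ⊓ Subgroup.centralizer {(y : G)} : Subgroup G) =
      (cent2 T x y).map H.subtype := by
    ext g
    rw [Subgroup.mem_inf, Subgroup.mem_inf, mem_map_iff, mem_map_iff, Subgroup.mem_centralizer_singleton_iff,
      Subgroup.mem_centralizer_singleton_iff]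
    constructor
    · rintro ⟨⟨⟨h, h1⟩, h2⟩, h3⟩
      exact ⟨h, mem_cent2.2 ⟨h1, Subtype.ext h2.symm, Subtype.ext h3.symm⟩⟩
    · rintro ⟨h, h1⟩
      obtain ⟨h2, h3, h4⟩ := mem_cent2.1 h1
      exact ⟨⟨⟨h, h2⟩, (congrArg Subtype.val h3).symm⟩, (congrArg Subtype.val h4).symm⟩
  rw [e, Subgroup.card_map_of_injective (Subgroup.subtype_injective _)]

/-- Sylow conjugation inside an intermediate subgroup -/
theorem conjT [Finite G] {T : Subgroup H} (h2 : IsPGroup 2 T) (hodd : ¬ 2 ∣ T.index) (K : Subgroup G)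
    (hTK : T.map H.subtype ≤ K) (hKH : K ≤ H) (R : Subgroup G) (hRK : R ≤ K) (hR : IsPGroup 2 R) :
    ∃ k ∈ K, ∀ r ∈ R, k * r * k⁻¹ ∈ T.map H.subtype := by
  have : Fact (Nat.Prime 2) := ⟨Nat.prime_two⟩
  have hinj : Function.Injective K.subtype := Subgroup.subtype_injective _
  have hT2 : IsPGroup 2 (T.map H.subtype) := h2.map _
  set TK : Subgroup K := (T.map H.subtype).subgroupOf K with hTKdef
  have hTK2 : IsPGroup 2 TK := hT2.comap_of_injective K.subtype hinj
  -- index of `TK` in `K` is odd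
  have hidx : ¬ 2 ∣ TK.index := by
    have h1 : (T.map H.subtype).relIndex K * K.relIndex H = (T.map H.subtype).relIndex H :=
      Subgroup.relIndex_mul_relIndex _ _ _ hTK hKH
    have h3 : (T.map H.subtype).relIndex H = T.index := by
      rw [Subgroup.relIndex]
      congr 1
      ext x
      rw [Subgroup.mem_subgroupOf, mem_map_iff]
      exact ⟨fun ⟨_, h⟩ => h, fun h => ⟨x.2, h⟩⟩
    intro h4
    apply hodd
    rw [← h3, ← h1]
    exact Dvd.dvd.mul_right h4 _
  let P : Sylow 2 K := hTK2.toSylow hidx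
  obtain ⟨Q, hQ⟩ := (hR.comap_of_injective K.subtype hinj).exists_le_sylow
  obtain ⟨k, hk⟩ := MulAction.exists_smul_eq K Q P
  refine ⟨k, k.2, ?_⟩
  intro r hr
  have h1 : (⟨r, hRK hr⟩ : K) ∈ Q := hQ (by rw [Subgroup.mem_comap]; exact hr)
  have h2 : k * ⟨r, hRK hr⟩ * k⁻¹ ∈ P := by
    rw [← hk]
    exact Subgroup.smul_mem_pointwise_smul _ (MulAut.conj k) _ h1
  have h3 : k * ⟨r, hRK hr⟩ * k⁻¹ ∈ TK := h2
  exact Subgroup.mem_subgroupOf.1 h3

/-- the facts inside `G` -/
theorem gf [Finite G] {T E : Subgroup H} {z y v z1 z2 u p a b c d : H}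
    (F : CloseFacts H T E z y v z1 z2 u p a b c d) (nab : a ≠ b) (nac : a ≠ c) (ncd : c ≠ d) :
    GF H (T.map H.subtype) (E.map H.subtype) (z : G) y v z1 z2 u p a b c d := by
  have hT2 : IsPGroup 2 T := by
    rw [IsPGroup.iff_card]
    exact ⟨18, F.cardT⟩
  have hmemT : ∀ {x : H}, (x : G) ∈ T.map H.subtype ↔ x ∈ T := by
    intro x
    rw [mem_map_iff]
    exact ⟨fun ⟨_, h⟩ => h, fun h => ⟨x.2, h⟩⟩
  have hmemE : ∀ {x : H}, (x : G) ∈ E.map H.subtype ↔ x ∈ E := by
    intro x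
    rw [mem_map_iff]
    exact ⟨fun ⟨_, h⟩ => h, fun h => ⟨x.2, h⟩⟩
  refine
    { TH := ?_
      T2 := hT2.map _
      cardT := ?_
      conjT := fun K hTK hKH R hR hR2 => conjT hT2 F.odd_index K hTK hKH R hR hR2
      ET := Subgroup.map_mono F.E_le
      Ec := ?_
      Es := ?_
      zE := hmemE.2 F.zE
      yE := hmemE.2 F.yE
      z1E := hmemE.2 F.z1E
      z2E := hmemE.2 F.z2E
      uE := hmemE.2 F.uE
      pE := hmemE.2 F.pE
      aE := hmemE.2 F.aE
      bE := hmemE.2 F.bE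
      cE := hmemE.2 F.cE
      dE := hmemE.2 F.dE
      zc := ?_
      centT := ?_
      z_ne := fun h => F.z_ne (Subtype.ext h)
      y_ne := fun h => F.y_ne (Subtype.ext h)
      v_ne := fun h => F.v_ne (Subtype.ext h)
      cls := ?_
      nzy := fun h => F.not_zy (of_cj h)
      c16 := ?_
      c14 := ?_
      v_eq := congrArg Subtype.val F.v_eq
      z1A := cj_of F.z1A
      z2A := cj_of F.z2A
      cv := by rw [card_ct]; exact F.cardv
      only_v := ?_
      zy := cj_of F.zy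
      zp := cj_of F.zp
      zyp := cj_of F.zyp
      p_ne := fun h => F.p_ne (Subtype.ext h)
      cy := by rw [card_ct]; exact F.cardy
      cyp := by rw [card_ct2]; exact F.cardyp
      only_yp := ?_
      uA := cj_of F.uA
      u_comm := ?_
      uxy := ?_
      aA := cj_of F.aA
      bA := cj_of F.bA
      cA := cj_of F.cA
      dA := cj_of F.dA
      abcdA := cj_of F.abcdA
      nab := fun h => nab (Subtype.ext h)
      nac := fun h => nac (Subtype.ext h)
      ncd := fun h => ncd (Subtype.ext h) }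
  · rintro _ ⟨x, -, rfl⟩
    exact x.2
  · rw [Subgroup.card_map_of_injective (Subgroup.subtype_injective _)]
    exact F.cardT
  · rintro _ ⟨x, hx, rfl⟩ _ ⟨w, hw, rfl⟩
    exact congrArg Subtype.val (F.E_comm x hx w hw)
  · rintro _ ⟨x, hx, rfl⟩
    exact congrArg Subtype.val (F.E_sq x hx)
  · rintro _ ⟨x, hx, rfl⟩
    exact congrArg Subtype.val (F.z_comm x hx)
  · rintro _ ⟨x, hx, rfl⟩ hs
    rcases F.center_T x hx (fun s h => Subtype.ext (hs s (hmemT.2 h))) with h | h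
    · left; exact congrArg Subtype.val h
    · right; exact congrArg Subtype.val h
  · intro x hx hxx hx1
    rcases F.classes ⟨x, hx⟩ (Subtype.ext hxx) (fun h => hx1 (congrArg Subtype.val h)) with h | h | h
    · left; exact cj_of h
    · right; left; exact cj_of h
    · right; right; exact cj_of h
  · rintro _ ⟨x, hx, rfl⟩ h hne
    show Nat.card (ct (T.map H.subtype) (x : G)) ≤ _
    rw [card_ct]
    exact F.cent_le x hx (of_cj h) (fun h => hne (congrArg Subtype.val h))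
  · rintro _ ⟨x, hx, rfl⟩ h hv
    show Nat.card (ct (T.map H.subtype) (x : G)) ≤ _
    rw [card_ct]
    exact F.cent_le_of_C x hx (of_cj h) (of_cj (w := z * x) hv)
  · rintro _ ⟨x, hx, rfl⟩ hc h1 h2
    rcases F.only_v x (mem_cent.2 ⟨hx, Subtype.ext hc.symm⟩) (of_cj h1) (of_cj (w := x * v) h2) with h | h
    · left; exact congrArg Subtype.val h
    · right; exact congrArg Subtype.val h
  · rintro _ ⟨x, hx, rfl⟩ hc hc' h1 h2 h3 h4
    exact congrArg Subtype.val (F.only_yp x (mem_cent2.2 ⟨hx, Subtype.ext hc.symm, Subtype.ext hc'.symm⟩)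
      (of_cj h1) (of_cj (w := x * y) h2) (of_cj (w := x * p) h3) (of_cj (w := x * (y * p)) h4))
  · rintro _ ⟨x, hx, rfl⟩ hc
    rcases F.u_comm x (mem_cent.2 ⟨hx, Subtype.ext hc.symm⟩) with h | h
    · left; exact congrArg Subtype.val h
    · right; exact congrArg Subtype.val h
  · rintro _ ⟨x, hx, rfl⟩ hc h1 h2
    rcases F.uxy x (mem_cent.2 ⟨hx, Subtype.ext hc.symm⟩) (of_cj h1) (of_cj (w := x * y) h2) with h | ⟨h, h3, h4⟩
    · left; exact cj_of h
    · right
      exact ⟨h, h.2, congrArg Subtype.val h3, congrArg Subtype.val h4⟩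

/-- **The closing theorem.** -/
theorem eq_top [Finite G] {T E : Subgroup H} {z y v z1 z2 u p a b c d : H}
    (F : CloseFacts H T E z y v z1 z2 u p a b c d) (nab : a ≠ b) (nac : a ≠ c) (ncd : c ≠ d)
    (hC : ∀ g : G, g * z = z * g → g ∈ H)
    (hF : ∀ (g : G) (hg : g * z * g⁻¹ ∈ H), IsConj z ⟨g * z * g⁻¹, hg⟩) : H = ⊤ := by
  have hz : Good H (z : G) := by
    intro g hg
    obtain ⟨k, hk⟩ := isConj_iff.1 (hF g hg)
    have hk' : (k : G) * z * (k : G)⁻¹ = g * z * g⁻¹ := congrArg Subtype.val hk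
    have h1 : (k : G)⁻¹ * g ∈ H := by
      apply hC
      have h2 : (k : G)⁻¹ * (g * z * g⁻¹) * k = z := by rw [← hk']; group
      calc (k : G)⁻¹ * g * z = ((k : G)⁻¹ * (g * z * g⁻¹) * k) * ((k : G)⁻¹ * g) := by group
        _ = z * ((k : G)⁻¹ * g) := by rw [h2]
    have h3 := H.mul_mem k.2 h1
    rwa [mul_inv_cancel_left] at h3
  refine CloseAbs.eq_top (gf F nab nac ncd) hz ?_
  intro h
  obtain ⟨g, hg⟩ := isConj_iff.1 h
  have hgH : g * z * g⁻¹ ∈ H := by rw [hg]; exact y.2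
  apply F.not_zy
  have h1 := hF g hgH
  have h2 : (⟨g * z * g⁻¹, hgH⟩ : H) = y := Subtype.ext hg
  rwa [h2] at h1

end Cfsg.Agent.Co2Type.Closing
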