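import Cfsg.Agent.SporadicA.Co0Mono
import Cfsg.Agent.SporadicStructure.Co0Base
import Cfsg.Agent.SporadicStructure.M24El
import Cfsg.Prelude.Def_Spor_Conway

/-!
Monomial elements of `Spor.Co2` and the trace.

* `mo m P : Co0` for a mask `m` of a code word (24 bits, `GolayBase`) and a packed permutation `P` in `M24`
  (`GolayPerm`, `M24El`): sign change on `m` after the permutation `P`; `mo_mul`, `mo_inj`.
* `tr8 g` for `g : Co0`: eight times the trace on the 24-dimensional space; `tr8_mul_comm`, `tr8_conj`, `tr8_mo`.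
* `mo2 m P : Spor.Co2` if `inE m` (code word avoiding the points with indices 23 and 0) and `okP P`
  (in `M24`, stabilising the pair of these points); `tr : Spor.Co2 → ℤ` is the trace (class function).
-/

set_option autoImplicit false

namespace Cfsg.Agent.Co2Type.Mono

open Cfsg Cfsg.Agent.SporadicA.GolayBase Cfsg.Agent.SporadicA.GolayPerm
open Cfsg.Agent.SporadicStructure.M24El Cfsg.Agent.SporadicA.Co0Mono
open Cfsg.Agent.SporadicStructure
open scoped Pointwise

/-! ### code words -/

theorem word_mem {m : ℕ} (h : isCode m = true) : word m ∈ golayCode := by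
  rw [mem_golayCode_iff, maskW_word (isCode_lt h)]
  exact h

open Classical in
/-- The code word with mask `m`. -/
noncomputable def cd (m : ℕ) : golayCode := if h : isCode m = true then ⟨word m, word_mem h⟩ else 0

theorem coe_cd {m : ℕ} (h : isCode m = true) : ((cd m : golayCode) : GolayPt → ZMod 2) = word m := by
  unfold cd
  rw [dif_pos h]

theorem cd_zero : cd 0 = 0 := by
  apply Subtype.ext
  rw [coe_cd isCode_zero, word_zero]
  rfl

theorem cd_xor {m n : ℕ} (hm : isCode m = true) (hn : isCode n = true) :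
    cd (m ^^^ n) = cd m + cd n := by
  apply Subtype.ext
  rw [coe_cd (isCode_xor hm hn), Submodule.coe_add, coe_cd hm, coe_cd hn, word_xor]

theorem cd_inj {m n : ℕ} (hm : isCode m = true) (hn : isCode n = true) (h : cd m = cd n) : m = n := by
  have h1 := congrArg (fun c : golayCode => maskW (c : GolayPt → ZMod 2)) h
  simp only [coe_cd hm, coe_cd hn, maskW_word (isCode_lt hm), maskW_word (isCode_lt hn)] at h1
  exact h1

theorem exists_cd (c : golayCode) : ∃ m, isCode m = true ∧ cd m = c := by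
  have h := (mem_golayCode_iff (c : GolayPt → ZMod 2)).1 c.2
  refine ⟨_, h, ?_⟩
  apply Subtype.ext
  rw [coe_cd h, word_maskW]

/-! ### the action of packed permutations on masks -/

theorem isCode_pimg {P m : ℕ} (hP : ok P = true) (hm : isCode m = true) :
    isCode (pimg P m) = true := by
  have h := ok_iff.1 hP
  have h1 := (mem_M24_iff _).1 (permOf_mem_M24 h.1 h.2) (fin m)
    ((fin_mem_supports_iff (isCode_lt hm)).2 hm)
  rwa [smul_fin h.1, fin_mem_supports_iff (pimg_lt h.1 _)] at h1

theorem pimg_xor {P : ℕ} (hP : isPerm P = true) (m n : ℕ) :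
    pimg P (m ^^^ n) = pimg P m ^^^ pimg P n := by
  apply eq_of_testBit_idx (pimg_lt hP _) (Nat.xor_lt_two_pow (pimg_lt hP _) (pimg_lt hP _))
  intro p
  obtain ⟨q, rfl⟩ := (permOf P hP).surjective p
  rw [idx_permOf, Nat.testBit_xor, testBit_pimg_papp hP _ (idx_lt q),
    testBit_pimg_papp hP _ (idx_lt q), testBit_pimg_papp hP _ (idx_lt q), Nat.testBit_xor]

theorem pimg_zero {P : ℕ} (hP : isPerm P = true) : pimg P 0 = 0 := by
  apply eq_of_testBit_idx (pimg_lt hP _) (by norm_num)
  intro p
  obtain ⟨q, rfl⟩ := (permOf P hP).surjective p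
  rw [idx_permOf, testBit_pimg_papp hP _ (idx_lt q), Nat.zero_testBit, Nat.zero_testBit]

theorem pimg_pcomp {P Q : ℕ} (hP : isPerm P = true) (hQ : isPerm Q = true) (m : ℕ) :
    pimg (pcomp P Q) m = pimg P (pimg Q m) := by
  apply fin_injective (pimg_lt (isPerm_pcomp hP hQ) _) (pimg_lt hP _)
  rw [← smul_fin (isPerm_pcomp hP hQ), permOf_pcomp hP hQ, mul_smul, smul_fin hQ, smul_fin hP]

/-- `(P m)_{P i} = m_i`. -/
theorem word_pimg {P : ℕ} (hP : ok P = true) (m : ℕ) (i : GolayPt) :
    word (pimg P m) i = word m ((el P : Equiv.Perm GolayPt).symm i) := by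
  obtain ⟨q, rfl⟩ := (permOf P (ok_iff.1 hP).1).surjective i
  rw [coe_el hP, Equiv.symm_apply_apply, word_apply, word_apply, idx_permOf,
    testBit_pimg_papp (ok_iff.1 hP).1 _ (idx_lt q)]

theorem wordPerm_cd {P m : ℕ} (hP : ok P = true) (hm : isCode m = true) :
    wordPerm (el P) (cd m) = cd (pimg P m) := by
  apply Subtype.ext
  funext i
  rw [wordPerm_apply, coe_cd hm, coe_cd (isCode_pimg hP hm), word_pimg hP]

/-! ### canonical packed permutations -/

theorem pack_lt {l : List ℕ} (hl : ∀ a ∈ l, a < 32) : pack l < 32 ^ l.length := by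
  induction l with
  | nil => exact Nat.one_pos
  | cons a l ih =>
    have h1 := hl a List.mem_cons_self
    have h2 := ih fun b hb => hl b (List.mem_cons_of_mem _ hb)
    show a + 32 * pack l < 32 ^ (l.length + 1)
    rw [pow_succ]
    omega

theorem pcomp_lt (P Q : ℕ) : pcomp P Q < 2 ^ 120 := by
  have h : ∀ k, papp P k < 32 := fun k => Nat.mod_lt _ (by norm_num)
  have h1 : pcomp P Q < 32 ^ 24 := by
    unfold pcomp
    apply pack_lt
    intro a ha
    simp only [List.mem_cons, List.not_mem_nil, or_false] at ha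
    rcases ha with rfl | rfl | rfl | rfl | rfl | rfl | rfl | rfl | rfl | rfl | rfl | rfl | rfl |
      rfl | rfl | rfl | rfl | rfl | rfl | rfl | rfl | rfl | rfl | rfl <;> exact h _
  calc pcomp P Q < 32 ^ 24 := h1
    _ = 2 ^ 120 := by norm_num

theorem eq_of_papp (n : ℕ) : ∀ P Q : ℕ, P < 32 ^ n → Q < 32 ^ n →
    (∀ i, i < n → papp P i = papp Q i) → P = Q := by
  induction n with
  | zero =>
    intro P Q hP hQ _
    rw [pow_zero] at hP hQ
    omega
  | succ n ih =>
    intro P Q hP hQ h
    have h0 : P % 32 = Q % 32 := h 0 (Nat.succ_pos n)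
    have h1 : P / 32 = Q / 32 := by
      apply ih
      · rw [pow_succ] at hP; omega
      · rw [pow_succ] at hQ; omega
      · intro i hi
        have h2 := h (i + 1) (by omega)
        unfold papp at h2 ⊢
        rw [show 5 * (i + 1) = 5 + 5 * i by ring, Nat.shiftRight_add, Nat.shiftRight_add,
          Nat.shiftRight_eq_div_pow P 5, Nat.shiftRight_eq_div_pow Q 5] at h2
        exact h2
    omega

/-- Packed permutations below `2 ^ 120` are determined by the element of `M24`. -/
theorem el_inj {P Q : ℕ} (hP : ok P = true) (hQ : ok Q = true) (h1 : P < 2 ^ 120)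
    (h2 : Q < 2 ^ 120) (h : el P = el Q) : P = Q := by
  have h3 : (32 : ℕ) ^ 24 = 2 ^ 120 := by norm_num
  apply eq_of_papp 24 P Q (by rw [h3]; exact h1) (by rw [h3]; exact h2)
  apply (permOf_eq_permOf_iff (ok_iff.1 hP).1 (ok_iff.1 hQ).1).1
  rw [← coe_el hP, ← coe_el hQ, h]

theorem exists_el (s : M24) : ∃ P, ok P = true ∧ P < 2 ^ 120 ∧ el P = s := by
  have h1 := isPerm_packOf (s : Equiv.Perm GolayPt)
  have h2 : isAut (packOf (s : Equiv.Perm GolayPt)) = true :=
    isAut_of_mem_M24 h1 (by rw [permOf_packOf]; exact s.2)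
  have h3 : ok (packOf (s : Equiv.Perm GolayPt)) = true := ok_iff.2 ⟨h1, h2⟩
  refine ⟨_, h3, ?_, ?_⟩
  · unfold packOf
    refine lt_of_lt_of_le (pack_lt ?_) ?_
    · intro a ha
      obtain ⟨k, -, rfl⟩ := List.mem_map.1 ha
      exact lt_trans (idx_lt _) (by norm_num)
    · rw [List.length_map, List.length_range]
      norm_num
  · apply Subtype.ext
    rw [coe_el h3, permOf_packOf]

/-! ### monomial elements of `Co0` -/

/-- The monomial element of `Co0`: permutation `P`, then sign change on `m`. -/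
noncomputable def mo (m P : ℕ) : Co0 := signCo0 (cd m) * permCo0 (el P)

theorem mo_mul {m n P Q : ℕ} (hm : isCode m = true) (hn : isCode n = true) (hP : ok P = true)
    (hQ : ok Q = true) : mo m P * mo n Q = mo (m ^^^ pimg P n) (pcomp P Q) := by
  unfold mo
  rw [mul_assoc, ← mul_assoc (permCo0 (el P)), perm_mul_sign, wordPerm_cd hP hn, mul_assoc,
    ← map_mul, ← mul_assoc, ← signCo0_add, ← cd_xor hm (isCode_pimg hP hn), el_pcomp hP hQ]

theorem mo_one : mo 0 idP = 1 := by
  unfold mo
  rw [cd_zero, signCo0_zero, el_idP, map_one, mul_one]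

theorem mo_mul_mo {m n P : ℕ} (hm : isCode m = true) (hn : isCode n = true) :
    mo m idP * mo n P = mo (m ^^^ n) P := by
  unfold mo
  rw [el_idP, map_one, mul_one, cd_xor hm hn, signCo0_add, mul_assoc]

/-- The image of `8 e_i` under a monomial element. -/
theorem mo_smul_e8 {m P : ℕ} (hm : isCode m = true) (i j : GolayPt) :
    ((mo m P • Co0Base.e8 i : leechLattice) : GolayPt → ℤ) j =
      if (el P : Equiv.Perm GolayPt) i = j then (if m.testBit (idx j) then -8 else 8) else 0 := by
  unfold mo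
  rw [mul_smul, signCo0_smul, signMap_apply, permCo0_smul, permMap_apply, Co0Base.e8_coe,
    coe_cd hm, word_apply]
  by_cases h : (el P : Equiv.Perm GolayPt) i = j
  · subst h
    rw [Equiv.symm_apply_apply, Pi.single_eq_same, if_pos rfl]
    cases m.testBit (idx ((el P : Equiv.Perm GolayPt) i)) with
    | false => simp [sgn_zero]
    | true => simp [sgn_one]
  · rw [if_neg h, Pi.single_eq_of_ne, mul_zero]
    intro h1
    apply h
    rw [← h1, Equiv.apply_symm_apply]

theorem mo_inj {m n P Q : ℕ} (hm : isCode m = true) (hn : isCode n = true)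
    (h : mo m P = mo n Q) : m = n ∧ el P = el Q := by
  have key : ∀ i j : GolayPt,
      (if (el P : Equiv.Perm GolayPt) i = j then (if m.testBit (idx j) then (-8 : ℤ) else 8) else 0) =
      if (el Q : Equiv.Perm GolayPt) i = j then (if n.testBit (idx j) then -8 else 8) else 0 := by
    intro i j
    rw [← mo_smul_e8 hm, ← mo_smul_e8 hn, h]
  have hPQ : ∀ i, (el P : Equiv.Perm GolayPt) i = (el Q : Equiv.Perm GolayPt) i := by
    intro i
    by_contra hne
    have h1 := key i ((el P : Equiv.Perm GolayPt) i)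
    rw [if_pos rfl, if_neg (Ne.symm hne)] at h1
    split at h1 <;> omega
  refine ⟨?_, Subtype.ext (Equiv.ext hPQ)⟩
  apply eq_of_testBit_idx (isCode_lt hm) (isCode_lt hn)
  intro j
  obtain ⟨i, rfl⟩ := (el P : Equiv.Perm GolayPt).surjective j
  have h1 := key i ((el P : Equiv.Perm GolayPt) i)
  rw [if_pos rfl, if_pos (hPQ i).symm] at h1
  revert h1
  cases m.testBit (idx ((el P : Equiv.Perm GolayPt) i)) <;>
    cases n.testBit (idx ((el P : Equiv.Perm GolayPt) i)) <;> simp

/-! ### the trace -/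

/-- Eight times the trace of an element of `Co0`. -/
noncomputable def tr8 (g : Co0) : ℤ := ∑ i, ((g • Co0Base.e8 i : leechLattice) : GolayPt → ℤ) i

theorem eight_tr8_mul (g h : Co0) : 8 * tr8 (g * h) =
    ∑ i, ∑ k, ((h • Co0Base.e8 i : leechLattice) : GolayPt → ℤ) k *
      ((g • Co0Base.e8 k : leechLattice) : GolayPt → ℤ) i := by
  unfold tr8
  rw [Finset.mul_sum]
  refine Finset.sum_congr rfl fun i _ => ?_
  rw [mul_smul, Co0Base.eight_mul_co0]

theorem tr8_mul_comm (g h : Co0) : tr8 (g * h) = tr8 (h * g) := by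
  have h1 := eight_tr8_mul g h
  have h2 := eight_tr8_mul h g
  rw [Finset.sum_comm] at h2
  have h3 : (8 : ℤ) * tr8 (g * h) = 8 * tr8 (h * g) := by
    rw [h1, h2]
    exact Finset.sum_congr rfl fun i _ => Finset.sum_congr rfl fun k _ => mul_comm _ _
  linarith

theorem tr8_conj (g h : Co0) : tr8 (g * h * g⁻¹) = tr8 h := by
  rw [tr8_mul_comm, inv_mul_cancel_left]

/-- The mask of the fixed points of a packed permutation. -/
def fixm (P : ℕ) : ℕ :=
  (List.range 24).foldr (fun i a => if Nat.beq (papp P i) i then a ^^^ (1 <<< i) else a) 0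

theorem testBit_fixm_aux (P : ℕ) (l : List ℕ) (hl : l.Nodup) (j : ℕ) :
    (l.foldr (fun i a => if Nat.beq (papp P i) i then a ^^^ (1 <<< i) else a) 0).testBit j =
      (decide (j ∈ l) && decide (papp P j = j)) := by
  induction l with
  | nil => simp
  | cons a l ih =>
    rw [List.nodup_cons] at hl
    rw [List.foldr_cons]
    have h1 : ((1 : ℕ) <<< a).testBit j = decide (a = j) := by
      have := testBit_term 1 a 0 j
      simpa using this
    by_cases ha : papp P a = a
    · rw [if_pos (by rw [ha]; exact Nat.beq_refl a), Nat.testBit_xor, ih hl.2, h1]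
      by_cases hj : j = a
      · subst hj
        simp [hl.1, ha]
      · simp [hj, Ne.symm hj]
    · rw [if_neg (by rw [Nat.beq_eq]; exact ha), ih hl.2]
      by_cases hj : j = a
      · subst hj
        simp [ha]
      · simp [hj]

theorem testBit_fixm (P : ℕ) {j : ℕ} (hj : j < 24) :
    (fixm P).testBit j = decide (papp P j = j) := by
  unfold fixm
  rw [testBit_fixm_aux P _ List.nodup_range]
  simp [hj]

/-- The trace of a monomial element. -/
def trN (m P : ℕ) : ℤ := (popcount (fixm P) : ℤ) - 2 * popcount (fixm P &&& m)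

theorem sum_testBit (m : ℕ) : ∑ i : GolayPt, (if m.testBit (idx i) then (1 : ℤ) else 0) = popcount m := by
  rw [← card_fin, fin, Finset.card_filter]
  push_cast
  rfl

theorem tr8_mo {m P : ℕ} (hm : isCode m = true) (hP : ok P = true) :
    tr8 (mo m P) = 8 * trN m P := by
  unfold tr8 trN
  have h1 : ∀ i : GolayPt, ((mo m P • Co0Base.e8 i : leechLattice) : GolayPt → ℤ) i =
      8 * (if (fixm P).testBit (idx i) then (1 : ℤ) else 0) -
        16 * (if (fixm P &&& m).testBit (idx i) then (1 : ℤ) else 0) := by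
    intro i
    rw [mo_smul_e8 hm, Nat.testBit_and, testBit_fixm P (idx_lt i), coe_el hP]
    have h2 : permOf P (ok_iff.1 hP).1 i = i ↔ papp P (idx i) = idx i := by
      rw [← idx_permOf (ok_iff.1 hP).1]
      exact ⟨fun h => by rw [h], fun h => idx_injective h⟩
    by_cases h3 : papp P (idx i) = idx i
    · rw [if_pos (h2.2 h3), decide_eq_true h3]
      cases m.testBit (idx i) <;> simp
    · rw [if_neg (fun h => h3 (h2.1 h)), decide_eq_false h3]
      simp
  rw [Finset.sum_congr rfl fun i _ => h1 i, Finset.sum_sub_distrib, ← Finset.mul_sum,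
    ← Finset.mul_sum, sum_testBit, sum_testBit]
  ring

/-! ### elements of `Spor.Co2` -/

/-- `Spor.Co2` in `Co0`. -/
def toCo0 : Spor.Co2 →* Co0 := Subgroup.inclusion inf_le_left

theorem toCo0_injective : Function.Injective toCo0 := Subgroup.inclusion_injective _

theorem toCo0_smul (g : Spor.Co2) : toCo0 g • Spor.leechU = Spor.leechU := g.2.2

theorem exists_toCo0 {g : Co0} (h : g • Spor.leechU = Spor.leechU) : ∃ g' : Spor.Co2, toCo0 g' = g :=
  ⟨⟨g, g.2, h⟩, rfl⟩

/-- The trace of an element of `Spor.Co2` on the 24-dimensional space. -/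
noncomputable def tr (g : Spor.Co2) : ℤ := tr8 (toCo0 g) / 8

theorem tr_conj (g h : Spor.Co2) : tr (g * h * g⁻¹) = tr h := by
  unfold tr
  rw [map_mul, map_mul, map_inv, tr8_conj]

theorem tr_of_isConj {g h : Spor.Co2} (H : IsConj g h) : tr g = tr h := by
  obtain ⟨c, rfl⟩ := isConj_iff.1 H
  rw [tr_conj]

/-- `m` is the mask of a code word avoiding the points of index 0 and 23. -/
def inE (m : ℕ) : Bool := isCode m && Nat.beq (Nat.land m 8388609) 0

/-- `P` is a packed permutation in `M24` stabilising the pair of points of index 0 and 23. -/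
def okP (P : ℕ) : Bool := ok P &&
  (Nat.beq (papp P 0) 0 && Nat.beq (papp P 23) 23 || Nat.beq (papp P 0) 23 && Nat.beq (papp P 23) 0)

theorem inE_iff {m : ℕ} : inE m = true ↔
    isCode m = true ∧ m.testBit 0 = false ∧ m.testBit 23 = false := by
  unfold inE
  rw [Bool.and_eq_true]
  refine and_congr_right fun _ => ?_
  have h2 : ∀ i, (8388609 : ℕ).testBit i = (decide (i = 0) || decide (i = 23)) := by
    intro i
    have : (8388609 : ℕ) = 1 ^^^ (1 <<< 23) := by decide
    rw [this, Nat.testBit_xor]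
    have e1 := testBit_term 1 0 0 i
    have e2 := testBit_term 1 23 0 i
    simp only [Nat.shiftRight_zero, Nat.one_mod, Nat.shiftLeft_zero, Nat.testBit_zero,
      decide_true, Bool.and_true] at e1 e2
    rw [e1, e2]
    rcases eq_or_ne i 0 with rfl | h0
    · simp
    · rcases eq_or_ne i 23 with rfl | h1
      · simp
      · simp [Ne.symm h0, Ne.symm h1, h0, h1]
  constructor
  · intro h
    have h1 : m &&& 8388609 = 0 := Nat.eq_of_beq_eq_true h
    have h3 : ∀ i, (m &&& 8388609).testBit i = false := fun i => by rw [h1, Nat.zero_testBit]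
    constructor
    · have := h3 0
      rw [Nat.testBit_and, h2] at this
      simpa using this
    · have := h3 23
      rw [Nat.testBit_and, h2] at this
      simpa using this
  · rintro ⟨h3, h4⟩
    have h5 : m &&& 8388609 = 0 := by
      apply Nat.eq_of_testBit_eq
      intro i
      rw [Nat.testBit_and, h2, Nat.zero_testBit]
      rcases eq_or_ne i 0 with rfl | h0
      · simp [h3]
      · rcases eq_or_ne i 23 with rfl | h1
        · simp [h4]
        · simp [h0, h1]
    show Nat.beq (m &&& 8388609) 0 = true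
    rw [h5]
    rfl

theorem okP_iff {P : ℕ} : okP P = true ↔ ok P = true ∧
    ((papp P 0 = 0 ∧ papp P 23 = 23) ∨ (papp P 0 = 23 ∧ papp P 23 = 0)) := by
  unfold okP
  simp only [Bool.and_eq_true, Bool.or_eq_true, Nat.beq_eq]

theorem isCode_of_inE {m : ℕ} (h : inE m = true) : isCode m = true := (inE_iff.1 h).1

theorem ok_of_okP {P : ℕ} (h : okP P = true) : ok P = true := (okP_iff.1 h).1

theorem inE_xor {m n : ℕ} (hm : inE m = true) (hn : inE n = true) : inE (m ^^^ n) = true := by
  rw [inE_iff] at hm hn ⊢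
  refine ⟨isCode_xor hm.1 hn.1, ?_, ?_⟩
  · rw [Nat.testBit_xor, hm.2.1, hn.2.1]; rfl
  · rw [Nat.testBit_xor, hm.2.2, hn.2.2]; rfl

theorem inE_zero : inE 0 = true := by decide +kernel

theorem inE_pimg {P m : ℕ} (hP : okP P = true) (hm : inE m = true) : inE (pimg P m) = true := by
  have h1 := inE_iff.1 hm
  have h2 := okP_iff.1 hP
  have h3 := (ok_iff.1 h2.1).1
  rw [inE_iff]
  refine ⟨isCode_pimg h2.1 h1.1, ?_⟩
  have e0 := testBit_pimg_papp h3 m (show 0 < 24 by norm_num)
  have e23 := testBit_pimg_papp h3 m (show 23 < 24 by norm_num)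
  rcases h2.2 with ⟨h4, h5⟩ | ⟨h4, h5⟩
  · rw [h4, h1.2.1] at e0
    rw [h5, h1.2.2] at e23
    exact ⟨e0, e23⟩
  · rw [h4, h1.2.1] at e0
    rw [h5, h1.2.2] at e23
    exact ⟨e23, e0⟩

theorem okP_pcomp {P Q : ℕ} (hP : okP P = true) (hQ : okP Q = true) : okP (pcomp P Q) = true := by
  have h1 := okP_iff.1 hP
  have h2 := okP_iff.1 hQ
  rw [okP_iff, papp_pcomp P Q (by norm_num), papp_pcomp P Q (by norm_num)]
  refine ⟨ok_pcomp h1.1 h2.1, ?_⟩
  rcases h2.2 with ⟨h4, h5⟩ | ⟨h4, h5⟩ <;> rw [h4, h5] <;>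
    rcases h1.2 with ⟨h6, h7⟩ | ⟨h6, h7⟩ <;> rw [h6, h7] <;> simp

theorem okP_idP : okP idP = true := by decide +kernel

/-- The vector `(4, 4, 0²²)` at a point. -/
theorem leechU_apply (p : GolayPt) : ((Spor.leechU : leechLattice) : GolayPt → ℤ) p =
    if idx p = 0 ∨ idx p = 23 then 4 else 0 := by
  show Spor.vecU p = _
  unfold Spor.vecU
  revert p
  decide

theorem mo_smul_leechU {m P : ℕ} (hm : inE m = true) (hP : okP P = true) :
    mo m P • Spor.leechU = Spor.leechU := by
  have h1 := inE_iff.1 hm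
  have h2 := okP_iff.1 hP
  have h3 := (ok_iff.1 h2.1).1
  apply Subtype.ext
  funext p
  unfold mo
  rw [mul_smul, signCo0_smul, signMap_apply, permCo0_smul, permMap_apply, coe_cd h1.1, word_apply]
  obtain ⟨q, rfl⟩ := (permOf P h3).surjective p
  rw [coe_el h2.1, Equiv.symm_apply_apply, leechU_apply, leechU_apply, idx_permOf]
  have key : ∀ k, k < 24 → papp P k = papp P (idx q) → k = idx q := fun k hk h =>
    papp_injOn h3 hk (idx_lt q) h
  by_cases hq : idx q = 0 ∨ idx q = 23
  · have h4 : papp P (idx q) = 0 ∨ papp P (idx q) = 23 := by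
      rcases hq with h | h <;> rw [h] <;> rcases h2.2 with ⟨h6, h7⟩ | ⟨h6, h7⟩ <;> simp [h6, h7]
    have h5 : m.testBit (papp P (idx q)) = false := by
      rcases h4 with h | h <;> rw [h]
      · exact h1.2.1
      · exact h1.2.2
    rw [if_pos hq, if_pos h4, h5]
    simp [sgn_zero]
  · have h4 : ¬ (papp P (idx q) = 0 ∨ papp P (idx q) = 23) := by
      intro h
      apply hq
      rcases h with h | h <;> rcases h2.2 with ⟨h6, h7⟩ | ⟨h6, h7⟩
      · left; exact (key 0 (by norm_num) (by rw [h6, h])).symm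
      · right; exact (key 23 (by norm_num) (by rw [h7, h])).symm
      · right; exact (key 23 (by norm_num) (by rw [h7, h])).symm
      · left; exact (key 0 (by norm_num) (by rw [h6, h])).symm
    rw [if_neg hq, if_neg h4, mul_zero]

open Classical in
/-- The monomial element of `Spor.Co2`. -/
noncomputable def mo2 (m P : ℕ) : Spor.Co2 :=
  if h : inE m = true ∧ okP P = true then ⟨mo m P, (mo m P).2, mo_smul_leechU h.1 h.2⟩ else 1

theorem toCo0_mo2 {m P : ℕ} (hm : inE m = true) (hP : okP P = true) : toCo0 (mo2 m P) = mo m P := by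
  unfold mo2
  rw [dif_pos ⟨hm, hP⟩]
  rfl

theorem mo2_mul {m n P Q : ℕ} (hm : inE m = true) (hn : inE n = true) (hP : okP P = true)
    (hQ : okP Q = true) : mo2 m P * mo2 n Q = mo2 (m ^^^ pimg P n) (pcomp P Q) := by
  apply toCo0_injective
  rw [map_mul, toCo0_mo2 hm hP, toCo0_mo2 hn hQ,
    toCo0_mo2 (inE_xor hm (inE_pimg hP hn)) (okP_pcomp hP hQ),
    mo_mul (isCode_of_inE hm) (isCode_of_inE hn) (ok_of_okP hP) (ok_of_okP hQ)]

theorem mo2_one : mo2 0 idP = 1 := by
  apply toCo0_injective
  rw [toCo0_mo2 inE_zero okP_idP, mo_one, map_one]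

theorem mo2_mul_left {m n P : ℕ} (hm : inE m = true) (hn : inE n = true) (hP : okP P = true) :
    mo2 m idP * mo2 n P = mo2 (m ^^^ n) P := by
  apply toCo0_injective
  rw [map_mul, toCo0_mo2 hm okP_idP, toCo0_mo2 hn hP, toCo0_mo2 (inE_xor hm hn) hP,
    mo_mul_mo (isCode_of_inE hm) (isCode_of_inE hn)]

theorem mo2_inj {m n P Q : ℕ} (hm : inE m = true) (hn : inE n = true) (hP : okP P = true)
    (hQ : okP Q = true) (h1 : P < 2 ^ 120) (h2 : Q < 2 ^ 120) (h : mo2 m P = mo2 n Q) :
    m = n ∧ P = Q := by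
  have h3 := congrArg toCo0 h
  rw [toCo0_mo2 hm hP, toCo0_mo2 hn hQ] at h3
  have h4 := mo_inj (isCode_of_inE hm) (isCode_of_inE hn) h3
  exact ⟨h4.1, el_inj (ok_of_okP hP) (ok_of_okP hQ) h1 h2 h4.2⟩

theorem tr_mo2 {m P : ℕ} (hm : inE m = true) (hP : okP P = true) : tr (mo2 m P) = trN m P := by
  unfold tr
  rw [toCo0_mo2 hm hP, tr8_mo (isCode_of_inE hm) (ok_of_okP hP),
    Int.mul_ediv_cancel_left _ (by norm_num)]

end Cfsg.Agent.Co2Type.Mono
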