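import Cfsg.Agent.Co2Type.MatCodes
import Cfsg.Agent.Co2Type.Mono

/-!
# Explicit elements of `Spor.Co2`: representatives and traces (R03, helper903)

Letters: `0..6 = D_0..D_6`, `7..14 = X_0..X_7`, `15 = t`, `16 = h`.
-/

set_option autoImplicit false

namespace Cfsg.Agent.Co2Type.Co2El

open Cfsg Cfsg.Agent.LeechMat.Core Cfsg.Agent.LeechMat.Code Cfsg.Agent.LeechMat.Elements
  Cfsg.Agent.LeechMat.Orbit Cfsg.Agent.LeechMat.Words Cfsg.Agent.Lib.PackMat
  Cfsg.Agent.SporRec.LeechMod3 Cfsg.Agent.SporRec.LeechChain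
  Cfsg.Agent.Co2Type.MatsData Cfsg.Agent.Co2Type.MatCodes Cfsg.Agent.Co2Type.Mono

/-- the packed matrices modulo three -/
def Cs : ℕ → ℕ
  | 0 => cD0
  | 1 => cD1
  | 2 => cD2
  | 3 => cD3
  | 4 => cD4
  | 5 => cD5
  | 6 => cD6
  | 7 => cX0
  | 8 => cX1
  | 9 => cX2
  | 10 => cX3
  | 11 => cX4
  | 12 => cX5
  | 13 => cX6
  | 14 => cX7
  | 15 => cTt
  | _ => cHh

theorem vec_cU : vec MatsA.cU = Spor.vecU := by
  have : ∀ p, vec MatsA.cU p = Spor.vecU p := by decide +kernel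
  exact funext this

theorem norm_U : sqNorm (Spor.leechU : GolayPt → ℤ) = 32 := by
  show sqNorm Spor.vecU = 32
  decide +kernel

theorem fix_of {A : List ℕ} {g : Co0} (hr : Rep 8 A g) (h : fixes 8 A [MatsA.cU] = true) :
    g • Spor.leechU = Spor.leechU := by
  refine fixes_sound hr h (List.mem_singleton.2 rfl) ?_ ?_
  · show Spor.vecU = vec MatsA.cU
    exact vec_cU.symm
  · rw [norm_U]; norm_num

/-- the property of the letters -/
def Good (k : ℕ) (g : Co0) : Prop :=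
  Rep 8 (Ms k) g ∧ g • Spor.leechU = Spor.leechU ∧ rho g = mt (Cs k)

theorem good_of {k : ℕ} {A : List ℕ} (hA : Ms k = A) (hrep : ∃ g : Co0, Rep 8 A g)
    (hfix : fixes 8 A [MatsA.cU] = true) {c : ℕ} (hc : Cs k = c) (hm : matchCode A c = true) :
    ∃ g, Good k g := by
  obtain ⟨g, hg⟩ := hrep
  refine ⟨g, ?_, fix_of hg hfix, ?_⟩
  · rw [hA]; exact hg
  · rw [hc]; exact rho_of_match hg hm

theorem exists_good (k : ℕ) (hk : k < 17) : ∃ g, Good k g := by
  interval_cases k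
  · exact good_of rfl MatsA.rep_D0 MatsA.fix_D0 rfl match_D0
  · exact good_of rfl MatsA.rep_D1 MatsA.fix_D1 rfl match_D1
  · exact good_of rfl MatsA.rep_D2 MatsA.fix_D2 rfl match_D2
  · exact good_of rfl MatsA.rep_D3 MatsA.fix_D3 rfl match_D3
  · exact good_of rfl MatsB.rep_D4 MatsB.fix_D4 rfl match_D4
  · exact good_of rfl MatsB.rep_D5 MatsB.fix_D5 rfl match_D5
  · exact good_of rfl MatsB.rep_D6 MatsB.fix_D6 rfl match_D6
  · exact good_of rfl MatsB.rep_X0 MatsB.fix_X0 rfl match_X0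
  · exact good_of rfl MatsC.rep_X1 MatsC.fix_X1 rfl match_X1
  · exact good_of rfl MatsC.rep_X2 MatsC.fix_X2 rfl match_X2
  · exact good_of rfl MatsC.rep_X3 MatsC.fix_X3 rfl match_X3
  · exact good_of rfl MatsC.rep_X4 MatsC.fix_X4 rfl match_X4
  · exact good_of rfl MatsD.rep_X5 MatsD.fix_X5 rfl match_X5
  · exact good_of rfl MatsD.rep_X6 MatsD.fix_X6 rfl match_X6
  · exact good_of rfl MatsD.rep_X7 MatsD.fix_X7 rfl match_X7
  · exact good_of rfl MatsD.rep_Tt MatsD.fix_Tt rfl match_Tt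
  · exact good_of rfl MatsD.rep_Hh MatsD.fix_Hh rfl match_Hh

theorem ok_Cs (k : ℕ) (hk : k < 17) : okG cfg (Cs k) = true := by
  interval_cases k
  · exact ok_D0
  · exact ok_D1
  · exact ok_D2
  · exact ok_D3
  · exact ok_D4
  · exact ok_D5
  · exact ok_D6
  · exact ok_X0
  · exact ok_X1
  · exact ok_X2
  · exact ok_X3
  · exact ok_X4
  · exact ok_X5
  · exact ok_X6
  · exact ok_X7
  · exact ok_Tt
  · exact ok_Hh

theorem Ss_eq (k : ℕ) (hk : k < 17) : Ss k = (Ms k).sum := by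
  interval_cases k
  · exact MatsA.sum_D0
  · exact MatsA.sum_D1
  · exact MatsA.sum_D2
  · exact MatsA.sum_D3
  · exact MatsB.sum_D4
  · exact MatsB.sum_D5
  · exact MatsB.sum_D6
  · exact MatsB.sum_X0
  · exact MatsC.sum_X1
  · exact MatsC.sum_X2
  · exact MatsC.sum_X3
  · exact MatsC.sum_X4
  · exact MatsD.sum_X5
  · exact MatsD.sum_X6
  · exact MatsD.sum_X7
  · exact MatsD.sum_Tt
  · exact MatsD.sum_Hh

/-- the letters, elements of `Co0` -/
noncomputable def el (k : ℕ) : Co0 := if h : k < 17 then (exists_good k h).choose else 1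

theorem good_el {k : ℕ} (hk : k < 17) : Good k (el k) := by
  unfold el
  rw [dif_pos hk]
  exact (exists_good k hk).choose_spec

theorem el_smul (k : ℕ) : el k • Spor.leechU = Spor.leechU := by
  by_cases hk : k < 17
  · exact (good_el hk).2.1
  · unfold el
    rw [dif_neg hk, one_smul]

/-! ### traces -/

/-- diagonal entries of the word `w` -/
def diag (w : List ℕ) (L : List ℕ) : Bool :=
  allTo (fun k => Cfsg.Agent.LeechMat.Words.run Ms Ss w (Cfsg.Agent.LeechMat.Words.c8 k) fun c => Nat.beq (dig c k) (L.getD k 0)) 24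

theorem tr8_word {w L : List ℕ} (hw : ∀ i ∈ w, i < 17) (h : diag w L = true) :
    tr8 (prodW el w) = ∑ k : Fin 24, ((L.getD k 0 : ℤ) - 16) := by
  unfold tr8
  rw [sum_pt]
  apply Finset.sum_congr rfl
  intro k _
  unfold diag at h
  rw [allTo_iff] at h
  have hk := h k k.2
  have hpk : pos (pt k) = k := pos_pt k k.2
  obtain ⟨m, -, hm, hx⟩ := run_sound (Ms := Ms) (Ss := Ss) (G := el) w
    (fun i hi => (good_el (hw i hi)).1) (fun i hi => Ss_eq i (hw i hi)) _
    (by have := c8_lt (pt k); rwa [hpk] at this) _ hk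
  have h1 := hx (SporadicStructure.Co0Base.e8 (pt k)) (by rw [← Cfsg.Agent.LeechMat.Words.vec_c8, hpk]) (sqNorm_e8 _)
  rw [h1, vec_apply, hpk]
  have h2 := Nat.eq_of_beq_eq_true hm
  unfold sdig
  rw [h2]

end Cfsg.Agent.Co2Type.Co2El
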