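import Cfsg.Agent.SporadicRecognition.CosetCertHyp

/-!
# A short presentation of `Co₂` and of its involution centralizer `2^{1+8}_+ : Sp₆(2)` (R03, helper907)

Letters: `0 = a, 1 = c, 2 = d, 3 = b, 4 = e, 5 = f, 6 = i, 7 = g, 8 = h`, all involutions.

* `relC` (letters `0..7`): Coxeter diagram `a3c c3d d3b d3e e3f f3g d4g` (all other pairs commute, in particular
  `i` is central), `(dfegdg)^3 = i`, `(abcdefg)^9 = (adcg)^4 = (bedg)^4 = 1`.
* `relG` (letters `0..8`): in addition `h` commutes with `a, b, c, d, e, f`, `(gh)^4 = (hi)^3 = 1` and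
  `(ghi)^3 = be`.
-/

set_option autoImplicit false

namespace Cfsg.Agent.Co2Type.PresDef

open Cfsg.Agent.SporadicRecognition.CosetCert

/-- relators of `2^{1+8}_+ : Sp₆(2)` -/
def relC : List (List ℕ) :=
  [[0,0], [1,1], [2,2], [3,3], [4,4], [5,5], [6,6], [7,7],
   [0,3,0,3], [0,2,0,2], [0,4,0,4], [0,5,0,5], [0,7,0,7], [0,6,0,6],
   [3,1,3,1], [3,4,3,4], [3,5,3,5], [3,7,3,7], [3,6,3,6],
   [1,4,1,4], [1,5,1,5], [1,7,1,7], [1,6,1,6], [2,5,2,5], [2,6,2,6], [4,7,4,7], [4,6,4,6],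
   [5,6,5,6], [7,6,7,6],
   [0,1,0,1,0,1], [1,2,1,2,1,2], [2,3,2,3,2,3], [2,4,2,4,2,4], [4,5,4,5,4,5], [5,7,5,7,5,7],
   [2,7,2,7,2,7,2,7],
   [2,5,4,7,2,7,2,5,4,7,2,7,2,5,4,7,2,7,6],
   [0,2,1,7,0,2,1,7,0,2,1,7,0,2,1,7],
   [3,4,2,7,3,4,2,7,3,4,2,7,3,4,2,7],
   [0,3,1,2,4,5,7,0,3,1,2,4,5,7,0,3,1,2,4,5,7,0,3,1,2,4,5,7,0,3,1,2,4,5,7,0,3,1,2,4,5,7,
    0,3,1,2,4,5,7,0,3,1,2,4,5,7,0,3,1,2,4,5,7]]

/-- the relators containing `h` -/
def relH : List (List ℕ) :=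
  [[8,8], [0,8,0,8], [1,8,1,8], [2,8,2,8], [3,8,3,8], [4,8,4,8], [5,8,5,8],
   [8,6,8,6,8,6], [7,8,7,8,7,8,7,8], [3,4,7,8,6,7,8,6,7,8,6]]

/-- relators of `Co₂` -/
def relG : List (List ℕ) := relC ++ relH

/-- the letters -/
def lett {G : Type*} [Group G] (a b c d e f g h i : G) : ℕ → G
  | 0 => a
  | 1 => c
  | 2 => d
  | 3 => b
  | 4 => e
  | 5 => f
  | 6 => i
  | 7 => g
  | 8 => h
  | _ => 1

/-- the relations of `2^{1+8}_+ : Sp₆(2)` -/
structure PC {G : Type*} [Group G] (a b c d e f g i : G) : Prop where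
  aa : a * a = 1
  bb : b * b = 1
  cc : c * c = 1
  dd : d * d = 1
  ee : e * e = 1
  ff : f * f = 1
  gg : g * g = 1
  ii : i * i = 1
  ab : a * b = b * a
  ad : a * d = d * a
  ae : a * e = e * a
  af : a * f = f * a
  ag : a * g = g * a
  ai : a * i = i * a
  bc : b * c = c * b
  be : b * e = e * b
  bf : b * f = f * b
  bg : b * g = g * b
  bi : b * i = i * b
  ce : c * e = e * c
  cf : c * f = f * c
  cg : c * g = g * c
  ci : c * i = i * c
  df : d * f = f * d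
  di : d * i = i * d
  eg : e * g = g * e
  ei : e * i = i * e
  fi : f * i = i * f
  gi : g * i = i * g
  ac : (a * c) ^ 3 = 1
  cd : (c * d) ^ 3 = 1
  db : (d * b) ^ 3 = 1
  de : (d * e) ^ 3 = 1
  ef : (e * f) ^ 3 = 1
  fg : (f * g) ^ 3 = 1
  dg : (d * g) ^ 4 = 1
  r1 : (d * f * e * g * d * g) ^ 3 = i
  r2 : (a * d * c * g) ^ 4 = 1
  r3 : (b * e * d * g) ^ 4 = 1
  r4 : (a * b * c * d * e * f * g) ^ 9 = 1

/-- the relations of `Co₂` -/
structure PG {G : Type*} [Group G] (a b c d e f g h i : G) : Prop extends PC a b c d e f g i where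
  hh : h * h = 1
  ah : a * h = h * a
  bh : b * h = h * b
  ch : c * h = h * c
  dh : d * h = h * d
  eh : e * h = h * e
  fh : f * h = h * f
  hi : (h * i) ^ 3 = 1
  gh : (g * h) ^ 4 = 1
  r5 : (g * h * i) ^ 3 = b * e

section

variable {G : Type*} [Group G] {a b c d e f g h i : G}

theorem comm_rel {x y : G} (hx : x * x = 1) (hy : y * y = 1) (h : x * y = y * x) :
    x * (y * (x * y)) = 1 := by
  rw [h, ← mul_assoc y, hy, one_mul, hx]

theorem ev2 (x : ℕ → G) (p q : ℕ) : ev x [p, q] = x p * x q := by simp [ev]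

theorem ev4 (x : ℕ → G) (p q : ℕ) : ev x [p, q, p, q] = x p * (x q * (x p * x q)) := by simp [ev]

theorem ev6 (x : ℕ → G) (p q : ℕ) : ev x [p, q, p, q, p, q] = (x p * x q) ^ 3 := by
  simp [ev, pow_succ, mul_assoc]

theorem ev8 (x : ℕ → G) (p q : ℕ) : ev x [p, q, p, q, p, q, p, q] = (x p * x q) ^ 4 := by
  simp [ev, pow_succ, mul_assoc]

theorem PC.rel (H : PC a b c d e f g i) : ∀ r ∈ relC, ev (lett a b c d e f g h i) r = 1 := by
  have hii : (d * f * e * g * d * g) ^ 3 * i = 1 := by rw [H.r1, H.ii]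
  unfold relC
  simp only [List.forall_mem_cons, ev2, ev4, ev6, ev8]
  refine ⟨H.aa, H.cc, H.dd, H.bb, H.ee, H.ff, H.ii, H.gg,
    comm_rel H.aa H.bb H.ab, comm_rel H.aa H.dd H.ad, comm_rel H.aa H.ee H.ae, comm_rel H.aa H.ff H.af,
    comm_rel H.aa H.gg H.ag, comm_rel H.aa H.ii H.ai,
    comm_rel H.bb H.cc H.bc, comm_rel H.bb H.ee H.be, comm_rel H.bb H.ff H.bf, comm_rel H.bb H.gg H.bg,
    comm_rel H.bb H.ii H.bi,
    comm_rel H.cc H.ee H.ce, comm_rel H.cc H.ff H.cf, comm_rel H.cc H.gg H.cg, comm_rel H.cc H.ii H.ci,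
    comm_rel H.dd H.ff H.df, comm_rel H.dd H.ii H.di, comm_rel H.ee H.gg H.eg, comm_rel H.ee H.ii H.ei,
    comm_rel H.ff H.ii H.fi, comm_rel H.gg H.ii H.gi,
    H.ac, H.cd, H.db, H.de, H.ef, H.fg, H.dg, ?_, ?_, ?_, ?_, ?_⟩
  · rw [← hii]; simp [ev, lett, pow_succ, mul_assoc]
  · rw [← H.r2]; simp [ev, lett, pow_succ, mul_assoc]
  · rw [← H.r3]; simp [ev, lett, pow_succ, mul_assoc]
  · rw [← H.r4]; simp [ev, lett, pow_succ, mul_assoc]
  · simp

theorem PG.rel (H : PG a b c d e f g h i) : ∀ r ∈ relG, ev (lett a b c d e f g h i) r = 1 := by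
  intro r hr
  unfold relG at hr
  rcases List.mem_append.mp hr with hr | hr
  · exact H.toPC.rel r hr
  · revert r
    have h5 : b * (e * (g * h * i) ^ 3) = 1 := by
      rw [H.r5, ← mul_assoc e, ← H.be, mul_assoc, H.ee, mul_one, H.bb]
    have hs : ∀ r ∈ relH, ev (lett a b c d e f g h i) r = 1 := by
      unfold relH
      simp only [List.forall_mem_cons, ev2, ev4, ev6, ev8]
      refine ⟨H.hh, comm_rel H.aa H.hh H.ah, comm_rel H.cc H.hh H.ch, comm_rel H.dd H.hh H.dh,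
        comm_rel H.bb H.hh H.bh, comm_rel H.ee H.hh H.eh, comm_rel H.ff H.hh H.fh, H.hi, H.gh, ?_, ?_⟩
      · rw [← h5]; simp [ev, lett, pow_succ, mul_assoc]
      · simp
    intro r _ hr
    exact hs r hr

end

end Cfsg.Agent.Co2Type.PresDef
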