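import Cfsg.Agent.Co2Type.Co2El
import Cfsg.Agent.Co2Type.PresDef
import Cfsg.Agent.Co2Type.P1Rels

/-!
# The presentation holds in `Spor.Co2` (R03, helper903)

`x k : Spor.Co2`, `k < 9`, in the order of `PresDef`: `0 = a, 1 = c, 2 = d, 3 = b, 4 = e, 5 = f, 6 = i, 7 = g, 8 = h`.
* `pg : PG (x 0) (x 3) (x 1) (x 2) (x 4) (x 5) (x 7) (x 8) (x 6)`, `p1 : P1 ...`
* `tr_x (k < 9) : tr (x k) = -8`, `tr_iegb : tr (x 6 * x 4 * x 7 * x 3) = -8`.
-/

set_option autoImplicit false

namespace Cfsg.Agent.Co2Type.Co2Rels

open Cfsg Cfsg.Agent.Lib.PackMat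
  Cfsg.Agent.SporRec.LeechMod3 Cfsg.Agent.SporRec.LeechChain
  Cfsg.Agent.Co2Type.MatCodes Cfsg.Agent.Co2Type.Mono Cfsg.Agent.Co2Type.Co2El
  Cfsg.Agent.Co2Type.PresDef
open Cfsg.Agent.LeechMat.Words (prodW)

/-- words in the letters of `Co2El` for the letters of the presentation -/
def lt' : ℕ → List ℕ
  | 0 => [0]
  | 1 => [1]
  | 2 => [10, 2]
  | 3 => [6]
  | 4 => [3]
  | 5 => [4]
  | 6 => [15]
  | 7 => [5]
  | 8 => [16]
  | _ => []

/-- the letters of the presentation in `Co0` -/
noncomputable def gP (k : ℕ) : Co0 := prodW el (lt' k)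

theorem gP_spec : ∀ k < gsP.length, okG cfg (gsP.getD k 0) = true ∧ rho (gP k) = mt (gsP.getD k 0) := by
  have key : ∀ (k : ℕ) (c : ℕ), k < 17 → Cs k = c → okG cfg c = true ∧ rho (prodW el [k]) = mt c := by
    intro k c hk hc
    refine ⟨by rw [← hc]; exact ok_Cs k hk, ?_⟩
    rw [show prodW el [k] = el k from mul_one _, (good_el hk).2.2, hc]
  intro k hk
  change k < 9 at hk
  interval_cases k
  · exact key 0 _ (by norm_num) rfl
  · exact key 1 _ (by norm_num) rfl
  · refine ⟨ok_cd, ?_⟩
    have h1 := mt_prod_eq (w₁ := [cX3, cD2]) (w₂ := [cd])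
      (by
        intro g hg
        rcases List.mem_cons.1 hg with rfl | hg
        · exact ok_X3
        · rw [List.mem_singleton.1 hg]; exact ok_D2)
      (by
        intro g hg
        rw [List.mem_singleton.1 hg]; exact ok_cd) eq_cd
    rw [List.map_cons, List.map_cons, List.map_nil, List.prod_cons, List.prod_cons, List.prod_nil, mul_one,
      List.map_cons, List.map_nil, List.prod_cons, List.prod_nil, mul_one] at h1
    show rho (el 10 * (el 2 * 1)) = mt cd
    rw [mul_one, map_mul, (good_el (by norm_num : 10 < 17)).2.2, (good_el (by norm_num : 2 < 17)).2.2]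
    exact h1
  · exact key 6 _ (by norm_num) rfl
  · exact key 3 _ (by norm_num) rfl
  · exact key 4 _ (by norm_num) rfl
  · exact key 15 _ (by norm_num) rfl
  · exact key 5 _ (by norm_num) rfl
  · exact key 16 _ (by norm_num) rfl

theorem prodW_smul (w : List ℕ) : prodW el w • Spor.leechU = Spor.leechU := by
  induction w with
  | nil => exact one_smul _ _
  | cons i w ih => rw [prodW, mul_smul, ih, el_smul]

/-- the letters of the presentation in `Spor.Co2` -/
noncomputable def x (k : ℕ) : Spor.Co2 := ⟨gP k, (gP k).2, prodW_smul _⟩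

theorem toCo0_x (k : ℕ) : toCo0 (x k) = gP k := rfl

/-- words -/
noncomputable def xw (u : List ℕ) : Spor.Co2 := (u.map x).prod

theorem toCo0_xw (u : List ℕ) : toCo0 (xw u) = (u.map gP).prod := by
  unfold xw
  rw [map_list_prod, List.map_map]
  rfl

theorem xw_one (k : ℕ) : xw [k] = x k := by
  unfold xw
  rw [List.map_cons, List.map_nil, List.prod_cons, List.prod_nil, mul_one]

theorem xw_append (u v : List ℕ) : xw (u ++ v) = xw u * xw v := by
  unfold xw
  rw [List.map_append, List.prod_append]

/-- repeated word -/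
def rep (w : List ℕ) : ℕ → List ℕ
  | 0 => []
  | n + 1 => w ++ rep w n

theorem xw_rep (w : List ℕ) (n : ℕ) : xw (rep w n) = xw w ^ n := by
  induction n with
  | zero => rw [pow_zero]; rfl
  | succ n ih => rw [rep, xw_append, ih, pow_succ']

theorem xw_eq {u w : List ℕ}
    (h : (wok gsP u && wok gsP w && checkEq cfg (wmats gsP u) (wmats gsP w) 0 24) = true) :
    xw u = xw w := by
  apply toCo0_injective
  rw [toCo0_xw, toCo0_xw]
  exact word_eq gP_spec h

theorem xw_eq_one {u : List ℕ}
    (h : (wok gsP u && wok gsP [] && checkEq cfg (wmats gsP u) (wmats gsP []) 0 24) = true) :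
    xw u = 1 := xw_eq h

theorem pg' : PG (xw [0]) (xw [3]) (xw [1]) (xw [2]) (xw [4]) (xw [5]) (xw [7]) (xw [8]) (xw [6]) where
  aa := by simp only [← xw_append]; exact xw_eq_one (by decide +kernel)
  bb := by simp only [← xw_append]; exact xw_eq_one (by decide +kernel)
  cc := by simp only [← xw_append]; exact xw_eq_one (by decide +kernel)
  dd := by simp only [← xw_append]; exact xw_eq_one (by decide +kernel)
  ee := by simp only [← xw_append]; exact xw_eq_one (by decide +kernel)
  ff := by simp only [← xw_append]; exact xw_eq_one (by decide +kernel)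
  gg := by simp only [← xw_append]; exact xw_eq_one (by decide +kernel)
  ii := by simp only [← xw_append]; exact xw_eq_one (by decide +kernel)
  ab := by simp only [← xw_append]; exact xw_eq (by decide +kernel)
  ad := by simp only [← xw_append]; exact xw_eq (by decide +kernel)
  ae := by simp only [← xw_append]; exact xw_eq (by decide +kernel)
  af := by simp only [← xw_append]; exact xw_eq (by decide +kernel)
  ag := by simp only [← xw_append]; exact xw_eq (by decide +kernel)
  ai := by simp only [← xw_append]; exact xw_eq (by decide +kernel)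
  bc := by simp only [← xw_append]; exact xw_eq (by decide +kernel)
  be := by simp only [← xw_append]; exact xw_eq (by decide +kernel)
  bf := by simp only [← xw_append]; exact xw_eq (by decide +kernel)
  bg := by simp only [← xw_append]; exact xw_eq (by decide +kernel)
  bi := by simp only [← xw_append]; exact xw_eq (by decide +kernel)
  ce := by simp only [← xw_append]; exact xw_eq (by decide +kernel)
  cf := by simp only [← xw_append]; exact xw_eq (by decide +kernel)
  cg := by simp only [← xw_append]; exact xw_eq (by decide +kernel)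
  ci := by simp only [← xw_append]; exact xw_eq (by decide +kernel)
  df := by simp only [← xw_append]; exact xw_eq (by decide +kernel)
  di := by simp only [← xw_append]; exact xw_eq (by decide +kernel)
  eg := by simp only [← xw_append]; exact xw_eq (by decide +kernel)
  ei := by simp only [← xw_append]; exact xw_eq (by decide +kernel)
  fi := by simp only [← xw_append]; exact xw_eq (by decide +kernel)
  gi := by simp only [← xw_append]; exact xw_eq (by decide +kernel)
  ac := by simp only [← xw_append, ← xw_rep]; exact xw_eq_one (by decide +kernel)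
  cd := by simp only [← xw_append, ← xw_rep]; exact xw_eq_one (by decide +kernel)
  db := by simp only [← xw_append, ← xw_rep]; exact xw_eq_one (by decide +kernel)
  de := by simp only [← xw_append, ← xw_rep]; exact xw_eq_one (by decide +kernel)
  ef := by simp only [← xw_append, ← xw_rep]; exact xw_eq_one (by decide +kernel)
  fg := by simp only [← xw_append, ← xw_rep]; exact xw_eq_one (by decide +kernel)
  dg := by simp only [← xw_append, ← xw_rep]; exact xw_eq_one (by decide +kernel)
  r1 := by simp only [← xw_append, ← xw_rep]; exact xw_eq (by decide +kernel)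
  r2 := by simp only [← xw_append, ← xw_rep]; exact xw_eq_one (by decide +kernel)
  r3 := by simp only [← xw_append, ← xw_rep]; exact xw_eq_one (by decide +kernel)
  r4 := by simp only [← xw_append, ← xw_rep]; exact xw_eq_one (by decide +kernel)
  hh := by simp only [← xw_append]; exact xw_eq_one (by decide +kernel)
  ah := by simp only [← xw_append]; exact xw_eq (by decide +kernel)
  bh := by simp only [← xw_append]; exact xw_eq (by decide +kernel)
  ch := by simp only [← xw_append]; exact xw_eq (by decide +kernel)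
  dh := by simp only [← xw_append]; exact xw_eq (by decide +kernel)
  eh := by simp only [← xw_append]; exact xw_eq (by decide +kernel)
  fh := by simp only [← xw_append]; exact xw_eq (by decide +kernel)
  hi := by simp only [← xw_append, ← xw_rep]; exact xw_eq_one (by decide +kernel)
  gh := by simp only [← xw_append, ← xw_rep]; exact xw_eq_one (by decide +kernel)
  r5 := by simp only [← xw_append, ← xw_rep]; exact xw_eq (by decide +kernel)

/-- **The presentation of `Co₂` holds in `Spor.Co2`.** -/
theorem pg : PG (x 0) (x 3) (x 1) (x 2) (x 4) (x 5) (x 7) (x 8) (x 6) := by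
  have h := pg'
  simp only [xw_one] at h
  exact h

theorem braid {G : Type*} [Group G] {a b : G} (ha : a * a = 1) (hb : b * b = 1) (h : (a * b) ^ 3 = 1) :
    a * b * a = b * a * b := by
  have hai : a⁻¹ = a := inv_eq_of_mul_eq_one_left ha
  have hbi : b⁻¹ = b := inv_eq_of_mul_eq_one_left hb
  have h1 : a * b * a * (b * a * b) = 1 := by
    rw [← h, pow_succ, pow_succ, pow_one]
    simp only [mul_assoc]
  have h2 := eq_inv_of_mul_eq_one_left h1
  rw [h2, mul_inv_rev, mul_inv_rev, hai, hbi, ← mul_assoc]

theorem braid4 {G : Type*} [Group G] {a b : G} (ha : a * a = 1) (hb : b * b = 1) (h : (a * b) ^ 4 = 1) :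
    a * b * a * b = b * a * b * a := by
  have hai : a⁻¹ = a := inv_eq_of_mul_eq_one_left ha
  have hbi : b⁻¹ = b := inv_eq_of_mul_eq_one_left hb
  have h1 : a * b * a * b * (a * b * a * b) = 1 := by
    rw [← h, pow_succ, pow_succ, pow_succ, pow_one]
    simp only [mul_assoc]
  have h2 := eq_inv_of_mul_eq_one_left h1
  rw [h2, mul_inv_rev, mul_inv_rev, mul_inv_rev, hai, hbi, ← mul_assoc, ← mul_assoc]

/-- helper907's relations imply helper143's form -/
theorem p1_of_pc {G : Type*} [Group G] {a b c d e f g i : G} (H : PC a b c d e f g i) :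
    P1Rels.P1 a b c d e f g i where
  sqa := H.aa
  sqb := H.bb
  sqc := H.cc
  sqd := H.dd
  sqe := H.ee
  sqf := H.ff
  sqg := H.gg
  sqi := H.ii
  ia := H.ai.symm
  ib := H.bi.symm
  ic := H.ci.symm
  id := H.di.symm
  ie := H.ei.symm
  if' := H.fi.symm
  ig := H.gi.symm
  ab := H.ab
  ac := braid H.aa H.cc H.ac
  ad := H.ad
  ae := H.ae
  af := H.af
  ag := H.ag
  bc := H.bc
  bd := (braid H.dd H.bb H.db).symm
  be := H.be
  bf := H.bf
  bg := H.bg
  cd := braid H.cc H.dd H.cd
  ce := H.ce
  cf := H.cf
  cg := H.cg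
  de := braid H.dd H.ee H.de
  df := H.df
  dg := braid4 H.dd H.gg H.dg
  ef := braid H.ee H.ff H.ef
  eg := H.eg
  fg := braid H.ff H.gg H.fg
  r1 := H.r1
  r2 := H.r4
  r3 := H.r2
  r4 := H.r3

theorem p1 : P1Rels.P1 (x 0) (x 3) (x 1) (x 2) (x 4) (x 5) (x 7) (x 6) := p1_of_pc pg.toPC

/-! ### traces -/

theorem tr_eq {g : Spor.Co2} {w L : List ℕ} (hg : toCo0 g = prodW el w) (hw : ∀ i ∈ w, i < 17)
    (h : diag w L = true) (hL : ∑ k : Fin 24, ((L.getD k 0 : ℤ) - 16) = -64) : tr g = -8 := by
  unfold tr
  rw [hg, tr8_word hw h, hL]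
  norm_num

theorem tr_a : tr (x 0) = -8 :=
  tr_eq (w := [0]) (L := [18, 14, 10, 14, 10, 10, 10, 14, 14, 14, 10, 10, 14, 14, 14, 14, 14, 14, 14, 14, 14, 14, 14, 18])
    rfl (by decide) (by decide +kernel) (by decide +kernel)

theorem tr_b : tr (x 3) = -8 :=
  tr_eq (w := [6]) (L := [16, 8, 8, 16, 8, 16, 16, 16, 16, 16, 8, 8, 16, 16, 16, 16, 16, 16, 8, 16, 8, 16, 8, 16])
    rfl (by decide) (by decide +kernel) (by decide +kernel)

theorem tr_c : tr (x 1) = -8 :=
  tr_eq (w := [1]) (L := [16, 8, 16, 16, 16, 8, 8, 16, 16, 16, 8, 8, 16, 8, 16, 16, 8, 16, 16, 16, 16, 16, 8, 16])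
    rfl (by decide) (by decide +kernel) (by decide +kernel)

theorem tr_i : tr (x 6) = -8 :=
  tr_eq (w := [15]) (L := [24, 8, 24, 8, 24, 24, 24, 8, 8, 8, 24, 24, 8, 8, 8, 8, 8, 8, 8, 8, 8, 8, 8, 24])
    rfl (by decide) (by decide +kernel) (by decide +kernel)

theorem tr_h : tr (x 8) = -8 :=
  tr_eq (w := [16]) (L := [18, 14, 14, 10, 14, 14, 14, 10, 10, 14, 14, 14, 10, 14, 14, 14, 14, 10, 14, 10, 14, 14, 14, 18])
    rfl (by decide) (by decide +kernel) (by decide +kernel)

/-- `t D_3 D_5 D_6` -/
theorem tr_iegb : tr (x 6 * x 4 * x 7 * x 3) = -8 :=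
  tr_eq (w := [15, 3, 5, 6]) (L := [16, 16, 16, 8, 16, 16, 16, 16, 8, 8, 16, 16, 8, 16, 8, 8, 16, 16, 16, 8, 16, 8, 16, 16])
    (by
      rw [map_mul, map_mul, map_mul, toCo0_x, toCo0_x, toCo0_x, toCo0_x]
      show el 15 * 1 * (el 3 * 1) * (el 5 * 1) * (el 6 * 1) = el 15 * (el 3 * (el 5 * (el 6 * 1)))
      simp only [mul_one, mul_assoc]) (by decide) (by decide +kernel) (by decide +kernel)

end Cfsg.Agent.Co2Type.Co2Rels
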