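import Cfsg.Agent.Co2Type.Chain0
import Cfsg.Agent.Co2Type.Chain1
import Cfsg.Agent.Co2Type.Chain2
import Cfsg.Agent.Co2Type.Chain3
import Cfsg.Agent.Co2Type.Chain4
import Cfsg.Agent.Co2Type.Co2Rels
import Cfsg.Agent.Co2Type.CardCo2
import Cfsg.Agent.S0397

/-!
# The nine elements generate `Spor.Co2` (R03, helper903)

* `gen : Subgroup.closure {x 0, x 3, x 1, x 2, x 4, x 5, x 7, x 8, x 6} = ⊤` (letters `a b c d e f g h i`);
* `exists_gens`: everything in one statement.
-/

set_option autoImplicit false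
set_option exponentiation.threshold 400

namespace Cfsg.Agent.Co2Type.Co2Gen

open Cfsg Cfsg.Agent.Lib.PackMat
  Cfsg.Agent.SporRec.LeechMod3 Cfsg.Agent.SporRec.LeechChain
  Cfsg.Agent.Co2Type.MatCodes Cfsg.Agent.Co2Type.Mono Cfsg.Agent.Co2Type.Co2El
  Cfsg.Agent.Co2Type.PresDef Cfsg.Agent.Co2Type.Co2Rels

theorem okR_of {V : ℕ} (h : (Nat.blt V (2 ^ (15 * 24)) && allBelow (fun i => Nat.blt (dg 15 V i) 3) 24) = true) :
    OkR cfg V := by
  rw [Bool.and_eq_true, Nat.blt_eq] at h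
  refine ⟨h.1, fun i hi => ?_⟩
  have := allBelow_spec h.2 i hi
  rwa [Nat.blt_eq] at this

theorem mem_one {gs : List ℕ} (hl : gs.length = 1) (P : ℕ → Prop) (h0 : P (gs.getD 0 0)) : ∀ c ∈ gs, P c := by
  intro c hc
  obtain ⟨i, hi, rfl⟩ := List.getElem_of_mem hc
  rw [hl] at hi
  interval_cases i
  rwa [List.getD_eq_getElem _ _ (by omega)] at h0

theorem mem_two {gs : List ℕ} (hl : gs.length = 2) (P : ℕ → Prop) (h0 : P (gs.getD 0 0))
    (h1 : P (gs.getD 1 0)) : ∀ c ∈ gs, P c := by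
  intro c hc
  obtain ⟨i, hi, rfl⟩ := List.getElem_of_mem hc
  rw [hl] at hi
  interval_cases i
  · rwa [List.getD_eq_getElem _ _ (by omega)] at h0
  · rwa [List.getD_eq_getElem _ _ (by omega)] at h1

/-- one step, packaged -/
theorem step' {K : Subgroup Co0} {gs gs' : List ℕ} {V n m : ℕ} {T : List (List ℕ)} [Finite Co0]
    (hgs : ∀ c ∈ gs, HasCode K c) (hgs' : ∀ c ∈ gs', HasCode K c)
    (hV : (Nat.blt V (2 ^ (15 * 24)) && allBelow (fun i => Nat.blt (dg 15 V i) 3) 24) = true)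
    (hfix : ∀ c ∈ gs', Nat.beq (run cfg [c] V) V = true)
    (hinc : incr gs V T = true) (hlen : T.length = n)
    (hrec : m ≤ Nat.card (KO gs')) : n * m ≤ Nat.card K := by
  have h := step (KO_le hgs') hgs (okR_of hV)
    (fun g hg => KO_fix (okR_of hV) (fun c hc => (hgs' c hc).1)
      (fun c hc => Nat.eq_of_beq_eq_true (hfix c hc)) g hg) hinc inferInstance
  rw [hlen] at h
  exact (Nat.mul_le_mul_left n hrec).trans h

theorem g01 : Chain0.gs' = Chain1.gs := rfl
theorem g12 : Chain1.gs' = Chain2.gs := rfl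
theorem g23 : Chain2.gs' = Chain3.gs := rfl
theorem g34 : Chain3.gs' = Chain4.gs := rfl

theorem l1 : Chain0.gs'.length = 2 := rfl
theorem l2 : Chain1.gs'.length = 2 := rfl
theorem l3 : Chain2.gs'.length = 2 := rfl
theorem l4 : Chain3.gs'.length = 1 := rfl

/-- **Lower bound for the order of the group generated by the nine elements.** -/
theorem card_ge [Finite Co0] {K : Subgroup Co0} (h0 : ∀ c ∈ gsP, HasCode K c) :
    42305421312000 ≤ Nat.card K := by
  have w1 := mem_two l1 (HasCode K) (HasCode.word h0 Chain0.word_0) (HasCode.word h0 Chain0.word_1)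
  have h1 := KO_hasCode w1
  have w2 := mem_two l2 (HasCode (KO Chain0.gs')) (HasCode.word h1 Chain1.word_0) (HasCode.word h1 Chain1.word_1)
  have h2 := KO_hasCode w2
  have w3 := mem_two l3 (HasCode (KO Chain1.gs')) (HasCode.word h2 Chain2.word_0) (HasCode.word h2 Chain2.word_1)
  have h3 := KO_hasCode w3
  have w4 := mem_one l4 (HasCode (KO Chain2.gs')) (HasCode.word h3 Chain3.word_0)
  have h4 := KO_hasCode w4
  have s4 : 2 * 1 ≤ Nat.card (KO Chain3.gs') := by
    refine step' (gs' := []) (m := 1) h4 (fun c hc => absurd hc List.not_mem_nil) Chain4.row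
      (fun c hc => absurd hc List.not_mem_nil) Chain4.inc Chain4.len ?_
    exact Nat.card_pos
  have s3 := step' h3 w4 Chain3.row
    (mem_one l4 (fun c => Nat.beq (run cfg [c] Chain3.V) Chain3.V = true) Chain3.fixr_0) Chain3.inc Chain3.len s4
  have s2 := step' h2 w3 Chain2.row
    (mem_two l3 (fun c => Nat.beq (run cfg [c] Chain2.V) Chain2.V = true) Chain2.fixr_0 Chain2.fixr_1)
    Chain2.inc Chain2.len s3
  have s1 := step' h1 w2 Chain1.row
    (mem_two l2 (fun c => Nat.beq (run cfg [c] Chain1.V) Chain1.V = true) Chain1.fixr_0 Chain1.fixr_1)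
    Chain1.inc Chain1.len s2
  have s0 := step' h0 w1 Chain0.row
    (mem_two l1 (fun c => Nat.beq (run cfg [c] Chain0.V) Chain0.V = true) Chain0.fixr_0 Chain0.fixr_1)
    Chain0.inc Chain0.len s1
  exact s0


/-- the set of the nine generators (letters `a b c d e f g h i`) -/
def gset : Set Spor.Co2 := {x 0, x 3, x 1, x 2, x 4, x 5, x 7, x 8, x 6}

theorem x_mem {k : ℕ} (hk : k < 9) : x k ∈ gset := by
  unfold gset
  interval_cases k <;> simp

theorem gen_of_finite [Finite Co0] : Subgroup.closure gset = ⊤ := by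
  have hC : ∀ c ∈ gsP, HasCode ((Subgroup.closure gset).map toCo0) c := by
    intro c hc
    obtain ⟨k, hk, rfl⟩ := List.getElem_of_mem hc
    obtain ⟨h1, h2⟩ := gP_spec k hk
    rw [List.getD_eq_getElem _ _ hk] at h1 h2
    exact ⟨h1, gP k, ⟨x k, Subgroup.subset_closure (x_mem hk), rfl⟩, h2⟩
  have h1 := card_ge hC
  rw [Subgroup.card_map_of_injective toCo0_injective] at h1
  have h2 := CardCo2.card_co2
  have : Finite Spor.Co2 := CardCo2.finite_co2
  apply Subgroup.eq_top_of_le_card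
  rw [h2]
  exact h1

theorem finite_co0 : Finite Co0 :=
  Nat.finite_of_card_ne_zero (by rw [Cfsg.Agent.S0397.result]; norm_num)

/-- **The nine elements generate `Spor.Co2`.** -/
theorem gen : Subgroup.closure {x 0, x 3, x 1, x 2, x 4, x 5, x 7, x 8, x 6} = (⊤ : Subgroup Spor.Co2) :=
  haveI := finite_co0
  gen_of_finite

/-- **Everything in one statement.** -/
theorem exists_gens : ∃ a b c d e f g h i : Spor.Co2,
    PG a b c d e f g h i ∧ P1Rels.P1 a b c d e f g i ∧
    Subgroup.closure {a, b, c, d, e, f, g, h, i} = (⊤ : Subgroup Spor.Co2) ∧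
    tr i = -8 ∧ tr a = -8 ∧ tr (i * e * g * b) = -8 :=
  ⟨x 0, x 3, x 1, x 2, x 4, x 5, x 7, x 8, x 6, pg, p1, gen, tr_i, tr_a, tr_iegb⟩

end Cfsg.Agent.Co2Type.Co2Gen
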