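import Cfsg.Agent.Co2Type.Spin

/-!
# Codes for the spin module of `Sp6(2)` (R03, letter B, helper595)

A vector `∑ a_I B_I` (`I < 8`) is coded by the number `∑ a_I 2^I`.
-/

set_option autoImplicit false
open Cfsg

namespace Cfsg.Agent.Co2Type.Code

open Cfsg.Agent.Co2Type.Setup Cfsg.Agent.Co2Type.Spin
open Cfsg.Agent.ClassicalGeometry.SympBasic
open Cfsg.Agent.LieClassical.SympPerfect

section Enc

variable {V : Type*} [AddCommGroup V] [Module (ZMod 2) V] (B : Module.Basis (Fin 8) (ZMod 2) V)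

/-- the vector with code `c` -/
noncomputable def enc (c : ℕ) : V := ∑ I : Fin 8, (if c.testBit I then (1 : ZMod 2) else 0) • B I

theorem ite_xor (a b : Bool) : (if (a ^^ b) = true then (1 : ZMod 2) else 0) =
    (if a = true then 1 else 0) + (if b = true then 1 else 0) := by
  cases a <;> cases b <;> decide

theorem enc_xor (c d : ℕ) : enc B (c ^^^ d) = enc B c + enc B d := by
  unfold enc
  rw [← Finset.sum_add_distrib]
  refine Finset.sum_congr rfl fun I _ => ?_
  rw [Nat.testBit_xor, ite_xor, add_smul]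

theorem enc_zero : enc B 0 = 0 := by
  unfold enc
  simp

theorem enc_pow (I : Fin 8) : enc B (2 ^ (I : ℕ)) = B I := by
  unfold enc
  rw [Finset.sum_eq_single I]
  · rw [Nat.testBit_two_pow_self, if_pos rfl, one_smul]
  · intro J _ hJ
    rw [Nat.testBit_two_pow_of_ne (fun h => hJ (Fin.ext h.symm))]
    simp
  · intro h; exact absurd (Finset.mem_univ I) h

/-- the code of a coordinate vector -/
def code (a : Fin 8 → ZMod 2) : ℕ :=
  (if a 0 = 1 then 1 else 0) ^^^ ((if a 1 = 1 then 2 else 0) ^^^ ((if a 2 = 1 then 4 else 0) ^^^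
    ((if a 3 = 1 then 8 else 0) ^^^ ((if a 4 = 1 then 16 else 0) ^^^ ((if a 5 = 1 then 32 else 0) ^^^
      ((if a 6 = 1 then 64 else 0) ^^^ (if a 7 = 1 then 128 else 0)))))))

theorem exists_enc (v : V) : ∃ c < 256, v = enc B c := by
  refine ⟨code (B.repr v), ?_, ?_⟩
  · have : ∀ x y : ℕ, x < 2 ^ 8 → y < 2 ^ 8 → x ^^^ y < 2 ^ 8 := fun x y => Nat.xor_lt_two_pow
    have h : ∀ (p : Prop) [Decidable p] (k : ℕ), k < 2 ^ 8 → (if p then k else 0) < 2 ^ 8 := by
      intro p _ k hk; split_ifs; exacts [hk, by norm_num]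
    unfold code
    refine this _ _ (h _ _ (by norm_num)) (this _ _ (h _ _ (by norm_num))
      (this _ _ (h _ _ (by norm_num)) (this _ _ (h _ _ (by norm_num)) (this _ _ (h _ _ (by norm_num))
      (this _ _ (h _ _ (by norm_num)) (this _ _ (h _ _ (by norm_num)) (h _ _ (by norm_num))))))))
  · have h1 : ∀ (a : ZMod 2) (I : Fin 8),
        enc B (if a = 1 then 2 ^ (I : ℕ) else 0) = a • B I := by
      intro a I
      rcases zmod2_cases a with rfl | rfl
      · rw [if_neg (by decide), enc_zero, zero_smul]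
      · rw [if_pos rfl, enc_pow, one_smul]
    unfold code
    simp only [enc_xor]
    have e0 := h1 (B.repr v 0) 0
    have e1 := h1 (B.repr v 1) 1
    have e2 := h1 (B.repr v 2) 2
    have e3 := h1 (B.repr v 3) 3
    have e4 := h1 (B.repr v 4) 4
    have e5 := h1 (B.repr v 5) 5
    have e6 := h1 (B.repr v 6) 6
    have e7 := h1 (B.repr v 7) 7
    have p0 : 2 ^ ((0 : Fin 8) : ℕ) = 1 := rfl
    have p1 : 2 ^ ((1 : Fin 8) : ℕ) = 2 := rfl
    have p2 : 2 ^ ((2 : Fin 8) : ℕ) = 4 := rfl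
    have p3 : 2 ^ ((3 : Fin 8) : ℕ) = 8 := rfl
    have p4 : 2 ^ ((4 : Fin 8) : ℕ) = 16 := rfl
    have p5 : 2 ^ ((5 : Fin 8) : ℕ) = 32 := rfl
    have p6 : 2 ^ ((6 : Fin 8) : ℕ) = 64 := rfl
    have p7 : 2 ^ ((7 : Fin 8) : ℕ) = 128 := rfl
    rw [p0] at e0; rw [p1] at e1; rw [p2] at e2; rw [p3] at e3
    rw [p4] at e4; rw [p5] at e5; rw [p6] at e6; rw [p7] at e7
    rw [e0, e1, e2, e3, e4, e5, e6, e7]
    conv_lhs => rw [← B.sum_repr v, Fin.sum_univ_eight]
    abel

theorem repr_enc (c : ℕ) (I : Fin 8) : B.repr (enc B c) I = if c.testBit I then 1 else 0 := by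
  unfold enc
  rw [map_sum, Finsupp.finsetSum_apply]
  rw [Finset.sum_eq_single I]
  · rw [map_smul, Module.Basis.repr_self, Finsupp.smul_apply, Finsupp.single_eq_same, smul_eq_mul,
      mul_one]
  · intro J _ hJ
    rw [map_smul, Module.Basis.repr_self, Finsupp.smul_apply, Finsupp.single_apply, if_neg hJ,
      smul_zero]
  · intro h; exact absurd (Finset.mem_univ I) h

theorem enc_inj {c d : ℕ} (hc : c < 256) (hd : d < 256) (h : enc B c = enc B d) : c = d := by
  apply Nat.eq_of_testBit_eq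
  intro i
  by_cases hi : i < 8
  · have h1 := repr_enc B c ⟨i, hi⟩
    rw [h, repr_enc] at h1
    simp only at h1
    cases hcb : c.testBit i <;> cases hdb : d.testBit i <;> simp [hcb, hdb] at h1 ⊢
  · have h2 : 2 ^ 8 ≤ 2 ^ i := Nat.pow_le_pow_right (by norm_num) (not_lt.1 hi)
    rw [Nat.testBit_lt_two_pow (lt_of_lt_of_le hc h2), Nat.testBit_lt_two_pow (lt_of_lt_of_le hd h2)]

end Enc

/-! ### operators on codes -/

/-- mask of the `I` not containing `i` -/
def mask (i : ℕ) : ℕ := match i with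
  | 0 => 0x55
  | 1 => 0x33
  | _ => 0x0f

/-- `n_{e_i}` on codes -/
def nE (i c : ℕ) : ℕ := (c &&& mask i) <<< (2 ^ i)

/-- `n_{f_i}` on codes -/
def nF (i c : ℕ) : ℕ := (c >>> (2 ^ i)) &&& mask i

section Ops

variable {V : Type*} [AddCommGroup V] [Module (ZMod 2) V] {rho : Sp6 →* (V ≃ₗ[ZMod 2] V)}
  {B : Module.Basis (Fin 8) (ZMod 2) V}

theorem mod_succ_pow (c k : ℕ) :
    c % 2 ^ (k + 1) = (c % 2 ^ k) ^^^ (if c.testBit k then 2 ^ k else 0) := by
  apply Nat.eq_of_testBit_eq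
  intro i
  rw [Nat.testBit_xor, Nat.testBit_mod_two_pow, Nat.testBit_mod_two_pow]
  by_cases hck : c.testBit k
  · rw [if_pos hck, Nat.testBit_two_pow]
    rcases lt_trichotomy i k with hik | hik | hik
    · simp [hik, Nat.lt_succ_of_lt hik, hik.ne']
    · subst hik; simp [hck]
    · have : ¬ i < k := not_lt.2 hik.le
      have h3 : ¬ i < k + 1 := by omega
      simp [this, h3, hik.ne]
  · rw [if_neg hck, Nat.zero_testBit]
    rcases lt_trichotomy i k with hik | hik | hik
    · simp [hik, Nat.lt_succ_of_lt hik]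
    · subst hik; simp [hck]
    · have : ¬ i < k := not_lt.2 hik.le
      have h3 : ¬ i < k + 1 := by omega
      simp [this, h3]

/-- linear maps are computed on the eight basis vectors -/
theorem map_enc (L : V →ₗ[ZMod 2] V) (g : ℕ → ℕ)
    (hg : ∀ c d, c < 256 → d < 256 → g (c ^^^ d) = g c ^^^ g d)
    (h : ∀ I : Fin 8, L (B I) = enc B (g (2 ^ (I : ℕ)))) {c : ℕ} (hc : c < 256) :
    L (enc B c) = enc B (g c) := by
  have h0 : g 0 = 0 := by
    have := hg 0 0 (by norm_num) (by norm_num)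
    simpa using this
  -- induction on the number of low bits
  have key : ∀ k ≤ 8, L (enc B (c % 2 ^ k)) = enc B (g (c % 2 ^ k)) := by
    intro k
    induction k with
    | zero => intro _; rw [pow_zero, Nat.mod_one, enc_zero, map_zero, h0, enc_zero]
    | succ k ih =>
      intro hk
      have h1 := mod_succ_pow c k
      have h2 : c % 2 ^ k < 256 := lt_of_le_of_lt (Nat.mod_le _ _) hc
      have h3 : (if c.testBit k then 2 ^ k else 0) < 256 := by
        split_ifs
        · calc 2 ^ k ≤ 2 ^ 7 := Nat.pow_le_pow_right (by norm_num) (by omega)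
            _ < 256 := by norm_num
        · norm_num
      rw [h1, enc_xor, map_add, hg _ _ h2 h3, enc_xor, ih (by omega)]
      congr 1
      split_ifs
      · have := h ⟨k, by omega⟩
        rw [← this, ← enc_pow B ⟨k, by omega⟩]
      · rw [enc_zero, map_zero, h0, enc_zero]
  have h8 := key 8 le_rfl
  rwa [Nat.mod_eq_of_lt (by simpa using hc)] at h8

theorem nE_xor (i c d : ℕ) : nE i (c ^^^ d) = nE i c ^^^ nE i d := by
  unfold nE
  rw [Nat.and_xor_distrib_right, Nat.shiftLeft_xor_distrib]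

theorem nF_xor (i c d : ℕ) : nF i (c ^^^ d) = nF i c ^^^ nF i d := by
  unfold nF
  rw [Nat.shiftRight_xor_distrib, Nat.and_xor_distrib_right]

theorem n_e_enc (hE : ∀ i I, n rho (e i) (B I) =
      if (I : ℕ).testBit i then 0 else B (I + 2 ^ (i : ℕ))) (i : Fin 3) {c : ℕ} (hc : c < 256) :
    n rho (e i) (enc B c) = enc B (nE i c) := by
  refine map_enc _ (nE i) (fun c d _ _ => nE_xor i c d) ?_ hc
  intro I
  rw [hE]
  have h1 : ∀ (i : Fin 3) (I : Fin 8), nE i (2 ^ (I : ℕ)) =
      if (I : ℕ).testBit i then 0 else 2 ^ ((I + 2 ^ (i : ℕ) : Fin 8) : ℕ) := by decide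
  rw [h1]
  split_ifs
  · rw [enc_zero]
  · rw [enc_pow]

theorem n_f_enc (hF : ∀ i I, n rho (f i) (B I) =
      if (I : ℕ).testBit i then B (I - 2 ^ (i : ℕ)) else 0) (i : Fin 3) {c : ℕ} (hc : c < 256) :
    n rho (f i) (enc B c) = enc B (nF i c) := by
  refine map_enc _ (nF i) (fun c d _ _ => nF_xor i c d) ?_ hc
  intro I
  rw [hF]
  have h1 : ∀ (i : Fin 3) (I : Fin 8), nF i (2 ^ (I : ℕ)) =
      if (I : ℕ).testBit i then 2 ^ ((I - 2 ^ (i : ℕ) : Fin 8) : ℕ) else 0 := by decide
  rw [h1]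
  split_ifs
  · rw [enc_pow]
  · rw [enc_zero]

theorem nE_lt (i : Fin 3) {c : ℕ} (hc : c < 256) : nE i c < 256 := by
  have : ∀ i : Fin 3, ∀ c < 256, nE i c < 256 := by decide +kernel
  exact this i c hc

theorem nF_lt (i : Fin 3) {c : ℕ} (hc : c < 256) : nF i c < 256 := by
  have : ∀ i : Fin 3, ∀ c < 256, nF i c < 256 := by decide +kernel
  exact this i c hc

/-! ### the forms on codes -/

/-- the quadratic form on codes -/
def qN (c : ℕ) : Bool :=
  (c.testBit 0 && c.testBit 7) ^^ ((c.testBit 1 && c.testBit 6) ^^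
    ((c.testBit 2 && c.testBit 5) ^^ (c.testBit 3 && c.testBit 4)))

/-- the bilinear form on codes -/
def bN (c d : ℕ) : Bool :=
  ((c.testBit 0 && d.testBit 7) ^^ (c.testBit 7 && d.testBit 0)) ^^
  (((c.testBit 1 && d.testBit 6) ^^ (c.testBit 6 && d.testBit 1)) ^^
  (((c.testBit 2 && d.testBit 5) ^^ (c.testBit 5 && d.testBit 2)) ^^
    ((c.testBit 3 && d.testBit 4) ^^ (c.testBit 4 && d.testBit 3))))

/-- a boolean as an element of `ZMod 2` -/
def bz (p : Bool) : ZMod 2 := if p = true then 1 else 0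

theorem bz_xor (p r : Bool) : bz (p ^^ r) = bz p + bz r := ite_xor p r

theorem bz_and (p r : Bool) : bz (p && r) = bz p * bz r := by
  cases p <;> cases r <;> decide

theorem b_enc {b : LinearMap.BilinForm (ZMod 2) V}
    (hb : ∀ I J, b (B I) (B J) = if I + J = 7 then 1 else 0) (c d : ℕ) :
    b (enc B c) (enc B d) = bz (bN c d) := by
  have e0 : ∀ x : ℕ → Bool, ∀ I : Fin 8, (if x I = true then (1 : ZMod 2) else 0) = bz (x I) :=
    fun _ _ => rfl
  have h1 : ∀ I : Fin 8, b (enc B c) (B I) = bz (c.testBit (7 - I)) := by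
    intro I
    rw [show enc B c = ∑ J : Fin 8, bz (c.testBit J) • B J from rfl]
    rw [map_sum, LinearMap.sum_apply]
    rw [Finset.sum_eq_single (7 - I)]
    · rw [map_smul, LinearMap.smul_apply, hb, if_pos (by abel), smul_eq_mul, mul_one]
      have : ((7 - I : Fin 8) : ℕ) = 7 - (I : ℕ) := by revert I; decide
      rw [this]
    · intro J _ hJ
      rw [map_smul, LinearMap.smul_apply, hb, if_neg, smul_zero]
      intro h; apply hJ; rw [← h]; abel
    · intro h; exact absurd (Finset.mem_univ _) h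
  have h2 : b (enc B c) (enc B d) = ∑ I : Fin 8, bz (d.testBit I) * bz (c.testBit (7 - I)) := by
    conv_lhs => rw [show enc B d = ∑ I : Fin 8, bz (d.testBit I) • B I from rfl]
    rw [map_sum]
    refine Finset.sum_congr rfl fun I _ => ?_
    rw [map_smul, h1, smul_eq_mul]
  rw [h2, Fin.sum_univ_eight]
  unfold bN
  simp only [bz_xor, bz_and]
  have p0 : ((0 : Fin 8) : ℕ) = 0 := rfl
  have p1 : ((1 : Fin 8) : ℕ) = 1 := rfl
  have p2 : ((2 : Fin 8) : ℕ) = 2 := rfl
  have p3 : ((3 : Fin 8) : ℕ) = 3 := rfl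
  have p4 : ((4 : Fin 8) : ℕ) = 4 := rfl
  have p5 : ((5 : Fin 8) : ℕ) = 5 := rfl
  have p6 : ((6 : Fin 8) : ℕ) = 6 := rfl
  have p7 : ((7 : Fin 8) : ℕ) = 7 := rfl
  rw [p0, p1, p2, p3, p4, p5, p6, p7]
  norm_num only
  ring

theorem q_enc {q : V → ZMod 2} {b : LinearMap.BilinForm (ZMod 2) V}
    (hq : ∀ x y, q (x + y) = q x + q y + b x y) (hqB : ∀ I, q (B I) = 0)
    (hb : ∀ I J, b (B I) (B J) = if I + J = 7 then 1 else 0) {c : ℕ} (hc : c < 256) :
    q (enc B c) = bz (qN c) := by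
  have h0 : q 0 = 0 := by
    have := hq 0 0
    rw [add_zero, map_zero, add_zero] at this
    exact (left_eq_add.1 this)
  have key : ∀ k ≤ 8, q (enc B (c % 2 ^ k)) = bz (qN (c % 2 ^ k)) := by
    intro k
    induction k with
    | zero => intro _; rw [pow_zero, Nat.mod_one, enc_zero, h0]; rfl
    | succ k ih =>
      intro hk
      have h1 : c % 2 ^ (k + 1) = (c % 2 ^ k) ^^^ (if c.testBit k then 2 ^ k else 0) :=
        mod_succ_pow c k
      have h3 : ∀ k < 8, ∀ c < 256, ∀ p : Bool, bz (qN ((c % 2 ^ k) ^^^ (if p then 2 ^ k else 0))) =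
          bz (qN (c % 2 ^ k)) + (if p then bz (bN (c % 2 ^ k) (2 ^ k)) else 0) := by decide +kernel
      rw [h1, h3 k (by omega) c hc, enc_xor, hq, ih (by omega), b_enc hb]
      split_ifs
      · have h5 := hqB ⟨k, by omega⟩
        rw [← enc_pow] at h5
        simp only at h5
        rw [h5, add_zero]
      · rw [enc_zero, h0, add_zero]
        have h6 : bN (c % 2 ^ k) 0 = false := by simp [bN]
        rw [h6, show bz false = 0 from rfl, add_zero]
  have h8 := key 8 le_rfl
  rwa [Nat.mod_eq_of_lt (by simpa using hc)] at h8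

end Ops

end Cfsg.Agent.Co2Type.Code
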