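import Cfsg.Agent.Co2Type.Code
import Cfsg.Agent.SporRec.TwoSp6.Sp

/-!
# The operators `n_u` for all `u` on codes (R03, letter B, helper595)

`Sp.enc m` (`m < 64`, bits 0,1,2 = coordinates at `e_i`, bits 3,4,5 = coordinates at `f_i`) is the
code of a vector of the natural module (helper609's convention).
-/

set_option autoImplicit false
open Cfsg

namespace Cfsg.Agent.Co2Type.Code

open Cfsg.Agent.Co2Type.Setup Cfsg.Agent.Co2Type.Spin
open Cfsg.Agent.ClassicalGeometry.SympBasic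

open Cfsg.Agent.SporRec.TwoSp6

/-- the quadratic form `∑ a_i b_i` on `U` -/
def Qf (u : U) : ZMod 2 :=
  u (Sum.inl 0) * u (Sum.inr 0) + u (Sum.inl 1) * u (Sum.inr 1) + u (Sum.inl 2) * u (Sum.inr 2)

theorem sf_explicit (u w : U) : sf u w =
    u (Sum.inl 0) * w (Sum.inr 0) + u (Sum.inl 1) * w (Sum.inr 1) + u (Sum.inl 2) * w (Sum.inr 2) +
    (u (Sum.inr 0) * w (Sum.inl 0) + u (Sum.inr 1) * w (Sum.inl 1) +
      u (Sum.inr 2) * w (Sum.inl 2)) := by
  have e1 : w = w (Sum.inl 0) • e 0 + w (Sum.inl 1) • e 1 + w (Sum.inl 2) • e 2 +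
      (w (Sum.inr 0) • f 0 + w (Sum.inr 1) • f 1 + w (Sum.inr 2) • f 2) := by
    funext i
    rcases i with i | i <;> fin_cases i <;> simp [e, f]
  have e2 : ∀ i, sf u (e i) = u (Sum.inr i) := by
    intro i
    rw [sf_comm, sf, e, sympForm_single_inl_left, ZModModule.neg_eq_self]
  have e3 : ∀ i, sf u (f i) = u (Sum.inl i) := by
    intro i
    rw [sf_comm, sf, f, sympForm_single_inr_left]
  have hadd : ∀ x y : U, sf u (x + y) = sf u x + sf u y := fun x y => sympForm_add_right u x y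
  have hsm : ∀ (a : ZMod 2) (x : U), sf u (a • x) = a * sf u x := by
    intro a x
    rcases zmod2_cases a with rfl | rfl
    · rw [zero_smul, zero_mul]
      have := hadd 0 0
      rw [add_zero] at this
      exact (left_eq_add.1 this)
    · rw [one_smul, one_mul]
  conv_lhs => rw [e1]
  simp only [hadd, hsm, e2, e3]
  ring

theorem Qf_add (u w : U) : Qf (u + w) = Qf u + Qf w + sf u w := by
  rw [sf_explicit]
  simp only [Qf, Pi.add_apply]
  ring

theorem Qf_e (i : Fin 3) : Qf (e i) = 0 := by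
  fin_cases i <;> simp [Qf, e]

theorem Qf_f (i : Fin 3) : Qf (f i) = 0 := by
  fin_cases i <;> simp [Qf, f]

theorem Qf_zero : Qf 0 = 0 := by simp [Qf]

section Ops

variable {V : Type*} [AddCommGroup V] [Module (ZMod 2) V] {rho : Sp6 →* (V ≃ₗ[ZMod 2] V)}
  {B : Module.Basis (Fin 8) (ZMod 2) V}

/-- `u ↦ n_u + Q(u)` is additive -/
noncomputable def Aop (hs : SpinHyp rho) (hcard : Nat.card V = 2 ^ 8) :
    U →+ Module.End (ZMod 2) V where
  toFun u := n rho u + Qf u • (1 : Module.End (ZMod 2) V)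
  map_zero' := by rw [n_zero, Qf_zero, zero_smul, add_zero]
  map_add' u w := by
    rw [n_add hs hcard, Qf_add, add_smul, add_smul]
    have h : sf u w • (1 : Module.End (ZMod 2) V) + sf u w • (1 : Module.End (ZMod 2) V) = 0 :=
      add_self' _
    calc n rho u + n rho w + sf u w • (1 : Module.End (ZMod 2) V) + (Qf u • (1 : Module.End (ZMod 2) V) +
          Qf w • (1 : Module.End (ZMod 2) V) + sf u w • (1 : Module.End (ZMod 2) V))
        = n rho u + Qf u • (1 : Module.End (ZMod 2) V) + (n rho w + Qf w • (1 : Module.End (ZMod 2) V)) +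
          (sf u w • (1 : Module.End (ZMod 2) V) + sf u w • (1 : Module.End (ZMod 2) V)) := by abel
      _ = _ := by rw [h, add_zero]

theorem Aop_apply (hs : SpinHyp rho) (hcard : Nat.card V = 2 ^ 8) (u : U) :
    Aop hs hcard u = n rho u + Qf u • (1 : Module.End (ZMod 2) V) := rfl

theorem Aop_smul (hs : SpinHyp rho) (hcard : Nat.card V = 2 ^ 8) (a : ZMod 2) (u : U) :
    Aop hs hcard (a • u) = a • Aop hs hcard u := by
  rcases zmod2_cases a with rfl | rfl
  · rw [zero_smul, zero_smul, map_zero]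
  · rw [one_smul, one_smul]

theorem enc_eq (m : ℕ) : (Sp.enc m : U) = bz (m.testBit 0) • e 0 + bz (m.testBit 1) • e 1 +
    bz (m.testBit 2) • e 2 + (bz (m.testBit 3) • f 0 + bz (m.testBit 4) • f 1 +
      bz (m.testBit 5) • f 2) := by
  have hb : ∀ k, Sp.bitf m k = bz (m.testBit k) := fun _ => rfl
  funext i
  rcases i with i | i <;> fin_cases i <;>
    simp [Sp.enc, hb, e, f, Pi.add_apply, Pi.smul_apply, Pi.single_apply,
      -Nat.testBit_zero]

/-- `n_u` on codes -/
def nU (m c : ℕ) : ℕ :=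
  (((if m.testBit 0 then nE 0 c else 0) ^^^ (if m.testBit 1 then nE 1 c else 0)) ^^^
    (if m.testBit 2 then nE 2 c else 0)) ^^^
  ((((if m.testBit 3 then nF 0 c else 0) ^^^ (if m.testBit 4 then nF 1 c else 0)) ^^^
    (if m.testBit 5 then nF 2 c else 0)) ^^^
  (if ((m.testBit 0 && m.testBit 3) ^^ (m.testBit 1 && m.testBit 4)) ^^
    (m.testBit 2 && m.testBit 5) then c else 0))

theorem Qf_enc (m : ℕ) : Qf (Sp.enc m) = bz (((m.testBit 0 && m.testBit 3) ^^
    (m.testBit 1 && m.testBit 4)) ^^ (m.testBit 2 && m.testBit 5)) := by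
  rw [bz_xor, bz_xor, bz_and, bz_and, bz_and]
  rfl

theorem bz_smul_enc (p : Bool) (c : ℕ) : bz p • enc B c = enc B (if p then c else 0) := by
  cases p
  · rw [show bz false = 0 from rfl, zero_smul, if_neg (by decide), enc_zero]
  · rw [show bz true = 1 from rfl, one_smul, if_pos rfl]

/-- `n_u` on codes -/
theorem n_enc (hs : SpinHyp rho) (hcard : Nat.card V = 2 ^ 8)
    (hE : ∀ i I, n rho (e i) (B I) = if (I : ℕ).testBit i then 0 else B (I + 2 ^ (i : ℕ)))
    (hF : ∀ i I, n rho (f i) (B I) = if (I : ℕ).testBit i then B (I - 2 ^ (i : ℕ)) else 0)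
    (m : ℕ) {c : ℕ} (hc : c < 256) :
    n rho (Sp.enc m) (enc B c) = enc B (nU m c) := by
  have h1 : n rho (Sp.enc m) = Aop hs hcard (Sp.enc m) + Qf (Sp.enc m) • 1 := by
    rw [Aop_apply, add_assoc, add_self', add_zero]
  have h2 : Aop hs hcard (Sp.enc m) = bz (m.testBit 0) • n rho (e 0) +
      bz (m.testBit 1) • n rho (e 1) + bz (m.testBit 2) • n rho (e 2) +
      (bz (m.testBit 3) • n rho (f 0) + bz (m.testBit 4) • n rho (f 1) +
        bz (m.testBit 5) • n rho (f 2)) := by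
    have he : ∀ i, Aop hs hcard (e i) = n rho (e i) := by
      intro i; rw [Aop_apply, Qf_e, zero_smul, add_zero]
    have hf : ∀ i, Aop hs hcard (f i) = n rho (f i) := by
      intro i; rw [Aop_apply, Qf_f, zero_smul, add_zero]
    rw [enc_eq]
    simp only [map_add, Aop_smul, he, hf]
  rw [h1, h2, Qf_enc]
  simp only [LinearMap.add_apply, LinearMap.smul_apply, Module.End.one_apply]
  rw [n_e_enc hE 0 hc, n_e_enc hE 1 hc, n_e_enc hE 2 hc, n_f_enc hF 0 hc, n_f_enc hF 1 hc,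
    n_f_enc hF 2 hc]
  simp only [bz_smul_enc, ← enc_xor]
  rw [nU]
  congr 1
  exact Nat.xor_assoc _ _ _

/-- the action of the transvection `d_u` on codes -/
def stU (m c : ℕ) : ℕ := c ^^^ nU m c

theorem rho_tr_enc (hs : SpinHyp rho) (hcard : Nat.card V = 2 ^ 8)
    (hE : ∀ i I, n rho (e i) (B I) = if (I : ℕ).testBit i then 0 else B (I + 2 ^ (i : ℕ)))
    (hF : ∀ i I, n rho (f i) (B I) = if (I : ℕ).testBit i then B (I - 2 ^ (i : ℕ)) else 0)
    (m : ℕ) {c : ℕ} (hc : c < 256) :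
    rho (Sp.tr (Sp.enc m)) (enc B c) = enc B (stU m c) := by
  have h1 : rho (Sp.tr (Sp.enc m)) (enc B c) = enc B c + n rho (Sp.enc m) (enc B c) := by
    rw [n_apply, ← add_assoc, ZModModule.add_self (enc B c), zero_add]
    rfl
  rw [h1, n_enc hs hcard hE hF m hc, stU, enc_xor]

theorem nU_lt (m : ℕ) {c : ℕ} (hc : c < 256) : nU m c < 256 := by
  have hx : ∀ x y : ℕ, x < 2 ^ 8 → y < 2 ^ 8 → x ^^^ y < 2 ^ 8 := fun x y => Nat.xor_lt_two_pow
  have hi : ∀ (p : Bool) (k : ℕ), k < 2 ^ 8 → (if p then k else 0) < 2 ^ 8 := by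
    intro p k hk; split_ifs; exacts [hk, by norm_num]
  unfold nU
  exact hx _ _ (hx _ _ (hx _ _ (hi _ _ (nE_lt 0 hc)) (hi _ _ (nE_lt 1 hc))) (hi _ _ (nE_lt 2 hc)))
    (hx _ _ (hx _ _ (hx _ _ (hi _ _ (nF_lt 0 hc)) (hi _ _ (nF_lt 1 hc))) (hi _ _ (nF_lt 2 hc)))
      (hi _ _ hc))

theorem stU_lt (m : ℕ) {c : ℕ} (hc : c < 256) : stU m c < 256 :=
  Nat.xor_lt_two_pow (n := 8) hc (nU_lt m hc)

end Ops

/-! ### the code of a vector -/

section Cd

variable {V : Type*} [AddCommGroup V] [Module (ZMod 2) V] (B : Module.Basis (Fin 8) (ZMod 2) V)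

/-- the code of a vector -/
noncomputable def cd (v : V) : ℕ := Classical.choose (exists_enc B v)

theorem cd_lt (v : V) : cd B v < 256 := (Classical.choose_spec (exists_enc B v)).1

theorem enc_cd (v : V) : enc B (cd B v) = v := (Classical.choose_spec (exists_enc B v)).2.symm

theorem cd_enc {c : ℕ} (hc : c < 256) : cd B (enc B c) = c :=
  enc_inj B (cd_lt B _) hc (enc_cd B _)

theorem cd_add (v w : V) : cd B (v + w) = cd B v ^^^ cd B w := by
  apply enc_inj B (cd_lt B _) (Nat.xor_lt_two_pow (n := 8) (cd_lt B v) (cd_lt B w))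
  rw [enc_cd, enc_xor, enc_cd, enc_cd]

theorem cd_zero : cd B (0 : V) = 0 := by
  rw [← enc_zero B, cd_enc B (by norm_num)]

theorem cd_inj {v w : V} (h : cd B v = cd B w) : v = w := by
  rw [← enc_cd B v, h, enc_cd]

end Cd

end Cfsg.Agent.Co2Type.Code
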