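import Mathlib

/-!
# `h` commutes with `c` (R03, letter C, items (C-i)/(C-iii); helper337)

Abstract part: `P y` is "`y` is conjugate to `t` and commutes with `t`".
`x` swaps `t` and `a` and maps the tuple `(b,d,e,f,r')` to `(b*,d*,e*,f*,r*)`.
-/

set_option autoImplicit false

namespace Cfsg.Agent.Co2Type.CommC

variable {G : Type*} [Group G]

/-- conjugation by `x⁻¹` -/
theorem conj_comm {x u v : G} (h : u * v = v * u) : (x⁻¹ * u * x) * (x⁻¹ * v * x) =
    (x⁻¹ * v * x) * (x⁻¹ * u * x) := by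
  have e1 : (x⁻¹ * u * x) * (x⁻¹ * v * x) = x⁻¹ * (u * v) * x := by group
  have e2 : (x⁻¹ * v * x) * (x⁻¹ * u * x) = x⁻¹ * (v * u) * x := by group
  rw [e1, e2, h]

theorem conj_comm' {x u v : G} (h : u * v = v * u) : (x * u * x⁻¹) * (x * v * x⁻¹) =
    (x * v * x⁻¹) * (x * u * x⁻¹) := by
  have e1 : (x * u * x⁻¹) * (x * v * x⁻¹) = x * (u * v) * x⁻¹ := by group
  have e2 : (x * v * x⁻¹) * (x * u * x⁻¹) = x * (v * u) * x⁻¹ := by group
  rw [e1, e2, h]

/-- braid relation `u v u = v u v` -/
def Br (u v : G) : Prop := u * v * u = v * u * v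

theorem conj_br {x u v : G} (h : Br u v) : Br (x⁻¹ * u * x) (x⁻¹ * v * x) := by
  unfold Br at *
  have e1 : (x⁻¹ * u * x) * (x⁻¹ * v * x) * (x⁻¹ * u * x) = x⁻¹ * (u * v * u) * x := by group
  have e2 : (x⁻¹ * v * x) * (x⁻¹ * u * x) * (x⁻¹ * v * x) = x⁻¹ * (v * u * v) * x := by group
  rw [e1, e2, h]

theorem conj_br' {x u v : G} (h : Br u v) : Br (x * u * x⁻¹) (x * v * x⁻¹) := by
  unfold Br at *
  have e1 : (x * u * x⁻¹) * (x * v * x⁻¹) * (x * u * x⁻¹) = x * (u * v * u) * x⁻¹ := by group
  have e2 : (x * v * x⁻¹) * (x * u * x⁻¹) * (x * v * x⁻¹) = x * (v * u * v) * x⁻¹ := by group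
  rw [e1, e2, h]

theorem conj_eq_of {x u v : G} (h : x⁻¹ * u * x = v) : x * v * x⁻¹ = u := by
  rw [← h]; group

/-- the abstract argument -/
theorem comm_c (P : G → Prop) (t a b c d e f r x k h h0 bs es fs rs : G)
    -- `P` is invariant and implies commutation with `t`
    (hPt : ∀ y, P y → y * t = t * y)
    (hPc : ∀ y g, P y → (g * y * g⁻¹) * t = t * (g * y * g⁻¹) → P (g * y * g⁻¹))
    -- `x` swaps `t` and `a`
    (hxt : x⁻¹ * t * x = a) (hxa : x⁻¹ * a * x = t)
    (hxb : x⁻¹ * b * x = bs) (hxe : x⁻¹ * e * x = es) (hxf : x⁻¹ * f * x = fs)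
    (hxr : x⁻¹ * r * x = rs)
    (hh : h = x * h0 * x⁻¹) (hP0 : P h0)
    -- `k`
    (hkt : k * t = t * k) (hka : k * a * k⁻¹ = b) (hkb : k * b * k⁻¹ = a) (hke : k * e * k⁻¹ = r)
    (hkf : k * f * k⁻¹ = f) (hkr : k * r * k⁻¹ = e)
    -- relations of `h`
    (ha : h * a = a * h) (hb : h * b = b * h) (hd : h * d = d * h) (he : h * e = e * h)
    (hf : h * f = f * h) (hr : h * r = r * h) (hbr : Br h t) (haa : a * a = 1)
    -- first check
    (hA : ∀ H, P H → H * bs = bs * H → H * es = es * H → H * fs = fs * H → H * rs = rs * H →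
      Br H a → H * a ≠ a * H → ∃ D, P D ∧ D * a = a * D ∧ D * H = H * D ∧ Br bs D ∧ Br D es ∧
        D * fs = fs * D ∧ D * rs = rs * D)
    -- second check
    (hB : ∀ y, P y → Br a y → Br y r → y * b = b * y → y * e = e * y → y * f = f * y →
      y = c ∨ y = a * c * a ∨
      t = (y * d * y * d) * (e * b * a * (y * d * y * d) * a * b * e) *
        (y * d * y * d)⁻¹ * (e * b * a * (y * d * y * d) * a * b * e)⁻¹)
    (hne : h * t ≠ t * h) : h * c = c * h := by
  -- `H`
  set H : G := x⁻¹ * (k⁻¹ * h * k) * x with hH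
  have kinv : ∀ u v : G, k * u * k⁻¹ = v → k⁻¹ * v * k = u := by
    intro u v huv; rw [← huv]; group
  -- commutation of `k⁻¹ h k` with things
  have key : ∀ u v w : G, k * u * k⁻¹ = v → x⁻¹ * u * x = w → h * v = v * h → H * w = w * H := by
    intro u v w h1 h2 h3
    have h4 := conj_comm (x := k) h3
    rw [kinv u v h1] at h4
    have h5 := conj_comm (x := x) h4
    rw [h2] at h5
    exact h5
  have Ht : H * t = t * H := key a b t hka hxa hb
  have HP : P H := by
    have e0 : H = (x⁻¹ * k⁻¹ * x) * h0 * (x⁻¹ * k⁻¹ * x)⁻¹ := by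
      rw [hH, hh]; group
    rw [e0]
    apply hPc _ _ hP0
    rw [← e0]; exact Ht
  have Hb : H * bs = bs * H := key b a bs hkb hxb ha
  have He : H * es = es * H := key e r es hke hxe hr
  have Hf : H * fs = fs * H := key f f fs hkf hxf hf
  have Hr : H * rs = rs * H := key r e rs hkr hxr he
  have Hbr : Br H a := by
    have h4 : Br (k⁻¹ * h * k) (k⁻¹ * t * k) := conj_br hbr
    have e1 : k⁻¹ * t * k = t := by
      rw [mul_assoc, ← hkt, ← mul_assoc, inv_mul_cancel, one_mul]
    rw [e1] at h4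
    have h5 : Br (x⁻¹ * (k⁻¹ * h * k) * x) (x⁻¹ * t * x) := conj_br h4
    rw [hxt] at h5
    exact h5
  have Hne : H * a ≠ a * H := by
    intro h0
    have h4 := conj_comm' (x := x) h0
    rw [conj_eq_of hxt] at h4
    have h5 := conj_comm' (x := k) h4
    have e0 : k * (x * H * x⁻¹) * k⁻¹ = h := by rw [hH]; group
    have e1 : k * t * k⁻¹ = t := by rw [hkt]; group
    rw [e0, e1] at h5
    exact hne h5
  obtain ⟨D, DP, Da, DH, Db, De, Df, Dr⟩ := hA H HP Hb He Hf Hr Hbr Hne
  -- `y = k x D x⁻¹ k⁻¹`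
  set y : G := k * (x * D * x⁻¹) * k⁻¹ with hy
  have key2 : ∀ u v w : G, k * u * k⁻¹ = v → x⁻¹ * u * x = w → D * w = w * D → y * v = v * y := by
    intro u v w h1 h2 h3
    have h4 := conj_comm' (x := x) h3
    rw [conj_eq_of h2] at h4
    have h5 := conj_comm' (x := k) h4
    rw [h1] at h5
    exact h5
  have key3 : ∀ u v w : G, k * u * k⁻¹ = v → x⁻¹ * u * x = w → Br D w → Br y v := by
    intro u v w h1 h2 h3
    have h4 := conj_br' (x := x) h3
    rw [conj_eq_of h2] at h4
    have h5 := conj_br' (x := k) h4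
    rw [h1] at h5
    exact h5
  have hktt : k * t * k⁻¹ = t := by rw [hkt]; group
  have yt : y * t = t * y := key2 t t a hktt hxt Da
  have yP : P y := by
    have e0 : y = (k * x) * D * (k * x)⁻¹ := by rw [hy]; group
    rw [e0]
    apply hPc _ _ DP
    rw [← e0]; exact yt
  have yb : y * b = b * y := key2 a b t hka hxa (hPt D DP)
  have ya : Br a y := by
    have : Br y a := key3 b a bs hkb hxb (by unfold Br at *; exact Db.symm)
    unfold Br at *; exact this.symm
  have yr : Br y r := key3 e r es hke hxe De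
  have yf : y * f = f * y := key2 f f fs hkf hxf Df
  have ye : y * e = e * y := key2 r e rs hkr hxr Dr
  have yh : y * h = h * y := by
    have h4 := conj_comm' (x := x) DH
    have h5 := conj_comm' (x := k) h4
    have e0 : k * (x * H * x⁻¹) * k⁻¹ = h := by rw [hH]; group
    rw [e0] at h5
    exact h5
  have hyh : Commute h y := yh.symm
  have cha : Commute h a := ha
  have chb : Commute h b := hb
  have chd : Commute h d := hd
  have che : Commute h e := he
  rcases hB y yP ya yr yb ye yf with h1 | h1 | h1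
  · rw [h1] at hyh; exact hyh
  · have h2 : c = a * y * a := by
      rw [h1]
      calc c = (a * a) * c * (a * a) := by rw [haa]; group
        _ = a * (a * c * a) * a := by group
    have : Commute h c := by
      rw [h2]; exact (cha.mul_right hyh).mul_right cha
    exact this
  · exfalso
    apply hne
    have hq : Commute h (y * d * y * d) := ((hyh.mul_right chd).mul_right hyh).mul_right chd
    have hz : Commute h (e * b * a * (y * d * y * d) * a * b * e) :=
      (((((che.mul_right chb).mul_right cha).mul_right hq).mul_right cha).mul_right chb).mul_right che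
    have : Commute h t := by
      rw [h1]
      exact ((hq.mul_right hz).mul_right hq.inv_right).mul_right hz.inv_right
    exact this

end Cfsg.Agent.Co2Type.CommC
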