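import Cfsg.Agent.Co2Type.CCode

/-!
# Code checks for `[h, c] = 1` (R03, letter C; helper337)

Words in the letters of `CCode` (`0..6 = D j`, `7..14 = X_I`, `15 = t`).
-/

set_option autoImplicit false

namespace Cfsg.Agent.Co2Type.CommChk

open Cfsg.Agent.Co2Type.CCode

/-! ### words -/
/-- word -/
def w_a : List ℕ := [0]
/-- its code -/
def c_a : ℕ := 0x80600806008060080600
/-- word -/
def w_b : List ℕ := [6]
/-- its code -/
def c_b : ℕ := 0xa028080200a028080200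
/-- word -/
def w_c : List ℕ := [1]
/-- its code -/
def c_c : ℕ := 0xc0200c0200c0200c0200
/-- word -/
def w_d : List ℕ := [10,2]
/-- its code -/
def c_d : ℕ := 0x8060282e0080602a0e08
/-- word -/
def w_e : List ℕ := [3]
/-- its code -/
def c_e : ℕ := 0xa028080218aa28882200
/-- word -/
def w_f : List ℕ := [4]
/-- its code -/
def c_f : ℕ := 0x88220882208020080200
/-- word -/
def w_g : List ℕ := [5]
/-- its code -/
def c_g : ℕ := 0x80200802088220882200
/-- word -/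
def w_t : List ℕ := [15]
/-- its code -/
def c_t : ℕ := 0x80200802008020080300
/-- word -/
def w_r : List ℕ := [8,1,2,6,3,2,1,0,1,2,3,6,2,1,8]
/-- its code -/
def c_r : ℕ := 0x80600806088a608a2620
/-- word -/
def w_bs : List ℕ := [8,6,1,2,3,0,1,2,6,4,5,3,4,2,3,1,2,6,4,5,3,4,2,3,1,2,0,1]
/-- its code -/
def c_bs : ℕ := 0x182308802008830080202
/-- word -/
def w_ds : List ℕ := [15,8,12,14,6,5,2,3,4,1,2,3,0,1,2,6,2,3,4,1,2,3,0,1,2,6,2,3,4,5,2,3,2,0]
/-- its code -/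
def c_ds : ℕ := 0x22dc88164aaafa82b5a2
/-- word -/
def w_es : List ℕ := [15,1,2,6,2,3,4,1,2,3,0,1,2,6,3,4,5,2,3,4,1,2,3,0,1,2,6,0,1,2,0,1]
/-- its code -/
def c_es : ℕ := 0x80a44a32c080200a1300
/-- word -/
def w_fs : List ℕ := [15,6,1,2,3,0,1,2,6,4,5,3,4,2,3,1,2,6,2,3,4,5,1,2,3,4,2,3,1,2,0,1]
/-- its code -/
def c_fs : ℕ := 0x80b008021280b0080300
/-- word -/
def w_gs : List ℕ := [15,2,6,3,4,1,2,3,0,1,2,6,1,2,3,4,1,2,3,0,1,2,0]
/-- its code -/
def c_gs : ℕ := 0x18a72ca96a088700a1700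
/-- word -/
def w_rs : List ℕ := [7,1,2,6,0,1,2,3,4,2,3,0,1,2,15,3,5,6,2,1,0,3,2,4,3,2,1,0,6,2,1,7]
/-- its code -/
def c_rs : ℕ := 0x18af6cab6e088700a160a
/-- word -/
def w_h0 : List ℕ := [14,3,2,6,5,4,3,2,1,0,1,2,3,4,5,6,2,3,14]
/-- its code -/
def c_h0 : ℕ := 0xe86a4ca628e26c8e2668
/-- word -/
def w_H1 : List ℕ := [9,3,2,6,5,4,3,2,1,0,1,2,3,4,5,6,2,3,9]
/-- its code -/
def c_H1 : ℕ := 0xe86a4ca628e26c8e2649
/-- word -/
def w_H2 : List ℕ := [0,9,3,2,6,5,4,3,2,1,0,1,2,3,4,5,6,2,3,9,0]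
/-- its code -/
def c_H2 : ℕ := 0x688a4480286a0c8420cb
/-- word -/
def w_H3 : List ℕ := [14,3,2,6,5,4,3,2,1,0,1,2,3,4,5,6,2,3,14]
/-- its code -/
def c_H3 : ℕ := 0xe86a4ca628e26c8e2668
/-- word -/
def w_H4 : List ℕ := [0,14,3,2,6,5,4,3,2,1,0,1,2,3,4,5,6,2,3,14,0]
/-- its code -/
def c_H4 : ℕ := 0x688a4480286a0c8420e8
/-- word -/
def w_D1 : List ℕ := [4,3,1,2,6,0,1,2,3,4,2,3,0,1,2,15,3,5,6,2,1,0,3,2,4,3,2,1,0,6,2,1,3,4]
/-- its code -/
def c_D1 : ℕ := 0x22dc88164aaafa82b500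
/-- word -/
def w_D2 : List ℕ := [1,2,6,4,5,0,1,2,3,4,2,3,0,1,2,15,3,5,6,2,1,0,3,2,4,3,2,1,0,5,4,6,2,1]
/-- its code -/
def c_D2 : ℕ := 0x80f008361a8ef68af700
/-- word -/
def w_k : List ℕ := [1,10,2,0,1,6,10,2,0,1,6]
/-- its code -/
def c_k : ℕ := 0x10b80814001838081502
/-- word -/
def w_c2 : List ℕ := [1,2,6,3,4,2,3,1,2,6,5,4,3,2,1,0,1,2,3,4,5,6,2,1,3,2,4,3,6,2,1]
/-- its code -/
def c_c2 : ℕ := 0x160c80404106848040400
/-- word -/
def w_c2a : List ℕ := [0,1,2,6,3,4,2,3,1,2,6,5,4,3,2,1,0,1,2,3,4,5,6,2,1,3,2,4,3,6,2,1,0]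
/-- its code -/
def c_c2a : ℕ := 0x1e0280c0210e0280c0200
/-- word -/
def w_ca : List ℕ := [0,1,0]
/-- its code -/
def c_ca : ℕ := 0x40400404004040040400

theorem cw_a : wN w_a = c_a := by decide +kernel
theorem cw_b : wN w_b = c_b := by decide +kernel
theorem cw_c : wN w_c = c_c := by decide +kernel
theorem cw_d : wN w_d = c_d := by decide +kernel
theorem cw_e : wN w_e = c_e := by decide +kernel
theorem cw_f : wN w_f = c_f := by decide +kernel
theorem cw_g : wN w_g = c_g := by decide +kernel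
theorem cw_t : wN w_t = c_t := by decide +kernel
theorem cw_r : wN w_r = c_r := by decide +kernel
theorem cw_bs : wN w_bs = c_bs := by decide +kernel
theorem cw_ds : wN w_ds = c_ds := by decide +kernel
theorem cw_es : wN w_es = c_es := by decide +kernel
theorem cw_fs : wN w_fs = c_fs := by decide +kernel
theorem cw_gs : wN w_gs = c_gs := by decide +kernel
theorem cw_rs : wN w_rs = c_rs := by decide +kernel
theorem cw_h0 : wN w_h0 = c_h0 := by decide +kernel
theorem cw_H1 : wN w_H1 = c_H1 := by decide +kernel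
theorem cw_H2 : wN w_H2 = c_H2 := by decide +kernel
theorem cw_H3 : wN w_H3 = c_H3 := by decide +kernel
theorem cw_H4 : wN w_H4 = c_H4 := by decide +kernel
theorem cw_D1 : wN w_D1 = c_D1 := by decide +kernel
theorem cw_D2 : wN w_D2 = c_D2 := by decide +kernel
theorem cw_k : wN w_k = c_k := by decide +kernel
theorem cw_c2 : wN w_c2 = c_c2 := by decide +kernel
theorem cw_c2a : wN w_c2a = c_c2a := by decide +kernel
theorem cw_ca : wN w_ca = c_ca := by decide +kernel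

/-- commuting codes -/
noncomputable def comB (m n : ℕ) : Bool := Nat.beq (mulN m n) (mulN n m)
/-- braid relation on codes -/
noncomputable def brB (m n : ℕ) : Bool := Nat.beq (mulN (mulN m n) m) (mulN (mulN n m) n)
/-- `(y * es * gs * ds) ^ 3` -/
noncomputable def p3 (y : ℕ) : ℕ :=
  mulN (mulN (mulN (mulN y c_es) (mulN c_gs c_ds)) (mulN (mulN y c_es) (mulN c_gs c_ds)))
    (mulN (mulN y c_es) (mulN c_gs c_ds))

/-- test for `r*` -/
noncomputable def tC (y : ℕ) : Bool :=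
  cond (comB y c_a) (cond (comB y c_bs) (cond (comB y c_ds) (cond (comB y c_es) (brB y c_fs) false) false) false) false
/-- test A -/
noncomputable def tA (y : ℕ) : Bool :=
  cond (comB y c_bs) (cond (comB y c_es) (cond (comB y c_fs) (cond (comB y c_rs) (brB y c_a) false) false) false) false
/-- test B -/
noncomputable def tB (y : ℕ) : Bool :=
  cond (comB y c_b) (cond (comB y c_e) (cond (comB y c_f) (cond (brB c_a y) (brB y c_r) false) false) false) false

/-- all three tests for a code -/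
noncomputable def chk (y : ℕ) : Bool :=
  (cond (tC y) (cond (Nat.beq y c_rs) true (Nat.beq (p3 y) one)) true) &&
  ((cond (tA y) (cond (Nat.beq y c_a) true (cond (Nat.beq y c_H1) true (cond (Nat.beq y c_H2) true (cond (Nat.beq y c_H3) true
    (Nat.beq y c_H4))))) true) &&
  (cond (tB y) (cond (Nat.beq y c_c) true (cond (Nat.beq y c_ca) true (cond (Nat.beq y c_c2) true
    (Nat.beq y c_c2a)))) true))

end Cfsg.Agent.Co2Type.CommChk
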