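import Cfsg.Agent.Co2Type.CommOut
import Cfsg.Agent.Co2Type.FList

/-!
# Letter C of `Co₂`: the relations (P2) from the swap (R03, helper337)
-/

set_option autoImplicit false

namespace Cfsg.Agent.Co2Type.CommFin

open Cfsg.Agent.Co2Type.QModel Cfsg.Agent.Co2Type.Act Cfsg.Agent.Co2Type.Rels Cfsg.Agent.Co2Type.CCode
open Cfsg.Agent.Co2Type.CommChk Cfsg.Agent.Co2Type.CommOut Cfsg.Agent.Co2Type.FList

theorem chk_B : tabAll chk tabB = true := by decide +kernel
theorem chk_A : tabAll chk tabA = true := by decide +kernel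
theorem chk_t : chk (gN 15) = true := by decide +kernel

variable {G : Type*} [Group G] {t : G} {tc : Subgroup.centralizer ({t} : Set G)}
  {ev : QM →* Subgroup.centralizer ({t} : Set G)} {D : ℕ → Subgroup.centralizer ({t} : Set G)}
  {R : Rels false tc ev D}

/-- the input of the checks from piece B (`t^G ∩ C = {t} ∪ β₁ ∪ α₂`, all fused) -/
theorem bdata (A : Data R)
    (fus : ∀ y : Subgroup.centralizer ({t} : Set G), IsConj t (y : G) ↔ InF tc D y) : BData ev D where
  beta := by
    have h := (fus (D 0)).2 (Or.inr (Or.inl (IsConj.refl _)))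
    have e : wg ev D [0] = (D 0 : G) := by
      show ((gv ev D 0 * 1 : Subgroup.centralizer ({t} : Set G)) : G) = _
      rw [mul_one]; rfl
    rw [e]; exact h
  alpha := by
    have h := (fus (tc * D 3 * D 5 * D 6)).2 (Or.inr (Or.inr (IsConj.refl _)))
    have e : wg ev D [15, 3, 5, 6] = ((tc * D 3 * D 5 * D 6 : Subgroup.centralizer ({t} : Set G)) : G) := by
      show ((gv ev D 15 * (gv ev D 3 * (gv ev D 5 * (gv ev D 6 * 1))) :
        Subgroup.centralizer ({t} : Set G)) : G) = _
      rw [gv_t (R := R), gv_lt (ev := ev) (D := D) (show 3 < 7 by norm_num),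
        gv_lt (ev := ev) (D := D) (show 5 < 7 by norm_num),
        gv_lt (ev := ev) (D := D) (show 6 < 7 by norm_num), mul_one, ← mul_assoc, ← mul_assoc]
    rw [e]; exact h
  list := by
    intro y hy hc
    have h1 : FC (cd ev D ⟨y, Subgroup.mem_centralizer_singleton_iff.2 hy⟩) :=
      FC_of_InF A ((fus ⟨y, Subgroup.mem_centralizer_singleton_iff.2 hy⟩).1 hc)
    rcases h1 with h1 | h1 | h1
    · show chk (cd ev D _) = true
      rw [h1]; exact chk_t
    · exact tabAll_spec chk_B h1
    · exact tabAll_spec chk_A h1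

end Cfsg.Agent.Co2Type.CommFin
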