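import Cfsg.Agent.Co2Type.CommChk
import Cfsg.Agent.Co2Type.CommC

/-!
# The relations of the swap (R03, letter C; helper337)

Input: `x : G` with `x⁻¹ t x = a`, `x⁻¹ a x = t` and `x⁻¹ u x = u*` for `u = b, d, e, f, g`
(output of (C-ii)).  Output: with `h = x h0 x⁻¹` all relations of the presentation (P2) of `Co₂` over `C`.
-/

set_option autoImplicit false

namespace Cfsg.Agent.Co2Type.CommOut

open Cfsg.Agent.Co2Type.QModel Cfsg.Agent.Co2Type.Act Cfsg.Agent.Co2Type.Rels Cfsg.Agent.Co2Type.CCode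
open Cfsg.Agent.Co2Type.CommChk
open Cfsg.Agent.Co2Type.CommC (Br)

section

variable {G : Type*} [Group G] {t : G} {tc : Subgroup.centralizer ({t} : Set G)}
  {ev : QM →* Subgroup.centralizer ({t} : Set G)} {D : ℕ → Subgroup.centralizer ({t} : Set G)}
  {R : Rels false tc ev D}

/-- value of a word in `G` -/
def wg (ev : QM →* Subgroup.centralizer ({t} : Set G)) (D : ℕ → Subgroup.centralizer ({t} : Set G))
    (w : List ℕ) : G := ((wv ev D w : Subgroup.centralizer ({t} : Set G)) : G)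

/-- `y` is a conjugate of `t` commuting with `t` -/
def P (t y : G) : Prop := IsConj t y ∧ y * t = t * y

theorem wg_comm (w : List ℕ) : wg ev D w * t = t * wg ev D w := by
  have := (Subgroup.mem_centralizer_singleton_iff.1 (wv ev D w).2)
  exact this

/-- the code of an element of `C` given as an element of `G` commuting with `t` -/
noncomputable def cg (ev : QM →* Subgroup.centralizer ({t} : Set G)) (D : ℕ → Subgroup.centralizer ({t} : Set G))
    (y : G) (hy : y * t = t * y) : ℕ := cd ev D ⟨y, Subgroup.mem_centralizer_singleton_iff.2 hy⟩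

theorem cg_wg (A : Data R) (w : List ℕ) : cg ev D (wg ev D w) (wg_comm w) = wN w := by
  rw [← cd_wv A w]; rfl

theorem comB_of (A : Data R) {y z : G} (hy : y * t = t * y) (hz : z * t = t * z) (h : y * z = z * y) :
    comB (cg ev D y hy) (cg ev D z hz) = true := by
  unfold comB cg
  rw [← cd_mul A, ← cd_mul A]
  have : (⟨y, Subgroup.mem_centralizer_singleton_iff.2 hy⟩ * ⟨z, Subgroup.mem_centralizer_singleton_iff.2 hz⟩ :
      Subgroup.centralizer ({t} : Set G)) = ⟨z, Subgroup.mem_centralizer_singleton_iff.2 hz⟩ *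
        ⟨y, Subgroup.mem_centralizer_singleton_iff.2 hy⟩ := Subtype.ext h
  rw [this]
  exact Nat.beq_refl _

theorem brB_of (A : Data R) {y z : G} (hy : y * t = t * y) (hz : z * t = t * z) (h : Br y z) :
    brB (cg ev D y hy) (cg ev D z hz) = true := by
  unfold brB cg
  rw [← cd_mul A, ← cd_mul A, ← cd_mul A, ← cd_mul A]
  have : (⟨y, Subgroup.mem_centralizer_singleton_iff.2 hy⟩ * ⟨z, Subgroup.mem_centralizer_singleton_iff.2 hz⟩ *
        ⟨y, Subgroup.mem_centralizer_singleton_iff.2 hy⟩ :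
      Subgroup.centralizer ({t} : Set G)) = ⟨z, Subgroup.mem_centralizer_singleton_iff.2 hz⟩ *
        ⟨y, Subgroup.mem_centralizer_singleton_iff.2 hy⟩ * ⟨z, Subgroup.mem_centralizer_singleton_iff.2 hz⟩ :=
    Subtype.ext h
  rw [this]
  exact Nat.beq_refl _

theorem eq_of_cg (A : Data R) {y : G} (hy : y * t = t * y) {w : List ℕ} {n : ℕ} (hw : wN w = n)
    (h : Nat.beq (cg ev D y hy) n = true) : y = wg ev D w := by
  have h1 : cg ev D y hy = wN w := by rw [hw]; exact Nat.eq_of_beq_eq_true h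
  rw [← cd_wv A w] at h1
  have := (cd_inj A).1 h1
  exact congrArg Subtype.val this

theorem wg_eq (A : Data R) {w w' : List ℕ} (h : wN w = wN w') : wg ev D w = wg ev D w' :=
  congrArg Subtype.val (wv_eq A h)

theorem wg_append (w w' : List ℕ) : wg ev D (w ++ w') = wg ev D w * wg ev D w' := by
  unfold wg
  rw [wv_append]; rfl

/-- equality of products of two words -/
theorem mul_eq (A : Data R) {u v u' v' : List ℕ} (h : wN (u ++ v) = wN (u' ++ v')) :
    wg ev D u * wg ev D v = wg ev D u' * wg ev D v' := by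
  rw [← wg_append, ← wg_append]; exact wg_eq A h

theorem wg_nil : wg ev D [] = 1 := rfl


/-- conjugate words -/
theorem conj_word (A : Data R) (u v : List ℕ) (h : IsConj t (wg ev D v)) :
    IsConj t (wg ev D (u ++ (v ++ u.reverse))) := by
  rw [wg_append, wg_append]
  have e : wg ev D u.reverse = (wg ev D u)⁻¹ := by
    unfold wg
    rw [wv_reverse A]; rfl
  rw [e, ← mul_assoc]
  exact h.trans (isConj_iff.2 ⟨wg ev D u, rfl⟩)

theorem P_conj {y g : G} (hy : P t y) (h : (g * y * g⁻¹) * t = t * (g * y * g⁻¹)) : P t (g * y * g⁻¹) :=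
  ⟨hy.1.trans (isConj_iff.2 ⟨g, rfl⟩), h⟩

/-- what the letter B and the list of `t^G ∩ C` give -/
structure BData (ev : QM →* Subgroup.centralizer ({t} : Set G)) (D : ℕ → Subgroup.centralizer ({t} : Set G)) :
    Prop where
  beta : IsConj t (wg ev D [0])
  alpha : IsConj t (wg ev D [15,3,5,6])
  list : ∀ (y : G) (hy : y * t = t * y), IsConj t y → chk (cg ev D y hy) = true

theorem cube_eq (u : G) : u ^ 3 = u * u * u := by rw [pow_succ, pow_two]

/-- the tuple `(b*, d*, e*, f*, g*)` determines `r*` -/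
theorem rs_of (A : Data R) (B : BData ev D) {x : G} (hxt : x⁻¹ * t * x = wg ev D w_a)
    (hxa : x⁻¹ * wg ev D w_a * x = t)
    (hxb : x⁻¹ * wg ev D w_b * x = wg ev D w_bs) (hxd : x⁻¹ * wg ev D w_d * x = wg ev D w_ds)
    (hxe : x⁻¹ * wg ev D w_e * x = wg ev D w_es) (hxf : x⁻¹ * wg ev D w_f * x = wg ev D w_fs)
    (hxg : x⁻¹ * wg ev D w_g * x = wg ev D w_gs) :
    x⁻¹ * wg ev D w_r * x = wg ev D w_rs := by
  set y := x⁻¹ * wg ev D w_r * x with hy
  have cm : ∀ u v : G, wg ev D w_r * u = u * wg ev D w_r → x⁻¹ * u * x = v → y * v = v * y := by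
    intro u v h1 h2
    have := CommC.conj_comm (x := x) h1
    rw [h2] at this
    exact this
  have yt : y * t = t * y := cm _ _ (mul_eq A (by decide +kernel)) hxa
  have ya : y * wg ev D w_a = wg ev D w_a * y := cm _ _ (wg_comm _) hxt
  have yb : y * wg ev D w_bs = wg ev D w_bs * y := cm _ _ (mul_eq A (by decide +kernel)) hxb
  have yd : y * wg ev D w_ds = wg ev D w_ds * y := cm _ _ (mul_eq A (by decide +kernel)) hxd
  have ye : y * wg ev D w_es = wg ev D w_es * y := cm _ _ (mul_eq A (by decide +kernel)) hxe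
  have yf : Br y (wg ev D w_fs) := by
    have h0 : Br (wg ev D w_r) (wg ev D w_f) := by
      show wg ev D w_r * wg ev D w_f * wg ev D w_r = wg ev D w_f * wg ev D w_r * wg ev D w_f
      rw [← wg_append, ← wg_append, ← wg_append, ← wg_append]
      exact wg_eq A (by decide +kernel)
    have := CommC.conj_br (x := x) h0
    rw [hxf] at this
    exact this
  have yc : IsConj t y := by
    have h1 : IsConj t (wg ev D w_r) := by
      have := conj_word A [8,1,2,6,3,2,1] [0] B.beta
      exact this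
    refine h1.trans (isConj_iff.2 ⟨x⁻¹, ?_⟩)
    rw [hy, inv_inv]
  have hc := B.list y yt yc
  unfold chk at hc
  rw [Bool.and_eq_true] at hc
  have hc1 := hc.1
  have e1 : tC (cg ev D y yt) = true := by
    unfold tC
    have k1 := comB_of A yt (wg_comm w_a) ya
    have k2 := comB_of A yt (wg_comm w_bs) yb
    have k3 := comB_of A yt (wg_comm w_ds) yd
    have k4 := comB_of A yt (wg_comm w_es) ye
    have k5 := brB_of A yt (wg_comm w_fs) yf
    rw [cg_wg A, cw_a] at k1
    rw [cg_wg A, cw_bs] at k2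
    rw [cg_wg A, cw_ds] at k3
    rw [cg_wg A, cw_es] at k4
    rw [cg_wg A, cw_fs] at k5
    rw [k1, k2, k3, k4, k5]; rfl
  rw [e1, cond_true] at hc1
  cases hb : Nat.beq (cg ev D y yt) c_rs
  · exfalso
    rw [hb, cond_false] at hc1
    -- `(y e* g* d*)^3 = 1`
    have h3 : (y * wg ev D w_es * (wg ev D w_gs * wg ev D w_ds)) ^ 3 = 1 := by
      have h4 : wv ev D w_es = ⟨wg ev D w_es, Subgroup.mem_centralizer_singleton_iff.2 (wg_comm _)⟩ := rfl
      set Y : Subgroup.centralizer ({t} : Set G) := ⟨y, Subgroup.mem_centralizer_singleton_iff.2 yt⟩ with hY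
      have h5 : cd ev D ((Y * wv ev D w_es * (wv ev D w_gs * wv ev D w_ds)) *
          (Y * wv ev D w_es * (wv ev D w_gs * wv ev D w_ds)) *
          (Y * wv ev D w_es * (wv ev D w_gs * wv ev D w_ds))) = cd ev D 1 := by
        simp only [cd_mul A, cd_wv A, cw_es, cw_gs, cw_ds, cd_one A]
        exact Nat.eq_of_beq_eq_true hc1
      have h6 := congrArg Subtype.val ((cd_inj A).1 h5)
      rw [cube_eq]
      exact h6
    have h7 : (wg ev D w_r * wg ev D w_e * (wg ev D w_g * wg ev D w_d)) ^ 3 = 1 := by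
      have e2 : y * wg ev D w_es * (wg ev D w_gs * wg ev D w_ds) =
          x⁻¹ * (wg ev D w_r * wg ev D w_e * (wg ev D w_g * wg ev D w_d)) * x := by
        rw [← hxe, ← hxg, ← hxd, hy]; group
      rw [e2] at h3
      have e3 : (x⁻¹ * (wg ev D w_r * wg ev D w_e * (wg ev D w_g * wg ev D w_d)) * x) ^ 3 =
          x⁻¹ * (wg ev D w_r * wg ev D w_e * (wg ev D w_g * wg ev D w_d)) ^ 3 * x := by
        rw [cube_eq, cube_eq]; group
      rw [e3] at h3
      calc (wg ev D w_r * wg ev D w_e * (wg ev D w_g * wg ev D w_d)) ^ 3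
          = x * (x⁻¹ * (wg ev D w_r * wg ev D w_e * (wg ev D w_g * wg ev D w_d)) ^ 3 * x) * x⁻¹ := by group
        _ = 1 := by rw [h3]; group
    rw [cube_eq] at h7
    have h8 : wv ev D ((w_r ++ w_e ++ (w_g ++ w_d)) ++ (w_r ++ w_e ++ (w_g ++ w_d)) ++
        (w_r ++ w_e ++ (w_g ++ w_d))) = 1 := by
      apply Subtype.ext
      simp only [wv_append]
      exact h7
    have h9 : wN ((w_r ++ w_e ++ (w_g ++ w_d)) ++ (w_r ++ w_e ++ (w_g ++ w_d)) ++
        (w_r ++ w_e ++ (w_g ++ w_d))) = one := by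
      rw [← cd_wv A, h8, cd_one A]
    have h10 : Nat.beq (wN ((w_r ++ w_e ++ (w_g ++ w_d)) ++ (w_r ++ w_e ++ (w_g ++ w_d)) ++
        (w_r ++ w_e ++ (w_g ++ w_d)))) one = false := by decide +kernel
    rw [h9, Nat.beq_refl] at h10
    exact Bool.noConfusion h10
  · exact eq_of_cg A yt cw_rs hb


theorem P_word (w : List ℕ) (h : IsConj t (wg ev D w)) : P t (wg ev D w) :=
  ⟨h, wg_comm w⟩

/-- `y` with given relations is one of the words -/
theorem caseA (A : Data R) (B : BData ev D) {H : G} (hH : P t H)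
    (hb : H * wg ev D w_bs = wg ev D w_bs * H) (he : H * wg ev D w_es = wg ev D w_es * H)
    (hf : H * wg ev D w_fs = wg ev D w_fs * H) (hr : H * wg ev D w_rs = wg ev D w_rs * H)
    (ha : Br H (wg ev D w_a)) (hne : H * wg ev D w_a ≠ wg ev D w_a * H) :
    H = wg ev D w_H1 ∨ H = wg ev D w_H2 ∨ H = wg ev D w_H3 ∨ H = wg ev D w_H4 := by
  have hc := B.list H hH.2 hH.1
  unfold chk at hc
  rw [Bool.and_eq_true, Bool.and_eq_true] at hc
  have hc1 := hc.2.1
  have e1 : tA (cg ev D H hH.2) = true := by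
    unfold tA
    have k1 := comB_of A hH.2 (wg_comm w_bs) hb
    have k2 := comB_of A hH.2 (wg_comm w_es) he
    have k3 := comB_of A hH.2 (wg_comm w_fs) hf
    have k4 := comB_of A hH.2 (wg_comm w_rs) hr
    have k5 := brB_of A hH.2 (wg_comm w_a) ha
    rw [cg_wg A, cw_bs] at k1
    rw [cg_wg A, cw_es] at k2
    rw [cg_wg A, cw_fs] at k3
    rw [cg_wg A, cw_rs] at k4
    rw [cg_wg A, cw_a] at k5
    rw [k1, k2, k3, k4, k5]; rfl
  rw [e1, cond_true] at hc1
  cases h0 : Nat.beq (cg ev D H hH.2) c_a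
  · rw [h0, cond_false] at hc1
    cases h1 : Nat.beq (cg ev D H hH.2) c_H1
    · rw [h1, cond_false] at hc1
      cases h2 : Nat.beq (cg ev D H hH.2) c_H2
      · rw [h2, cond_false] at hc1
        cases h3 : Nat.beq (cg ev D H hH.2) c_H3
        · rw [h3, cond_false] at hc1
          exact Or.inr (Or.inr (Or.inr (eq_of_cg A hH.2 cw_H4 hc1)))
        · exact Or.inr (Or.inr (Or.inl (eq_of_cg A hH.2 cw_H3 h3)))
      · exact Or.inr (Or.inl (eq_of_cg A hH.2 cw_H2 h2))
    · exact Or.inl (eq_of_cg A hH.2 cw_H1 h1)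
  · exfalso
    apply hne
    rw [eq_of_cg A hH.2 cw_a h0]

theorem caseB (A : Data R) (B : BData ev D) {y : G} (hy : P t y)
    (ha : Br (wg ev D w_a) y) (hr : Br y (wg ev D w_r))
    (hb : y * wg ev D w_b = wg ev D w_b * y) (he : y * wg ev D w_e = wg ev D w_e * y)
    (hf : y * wg ev D w_f = wg ev D w_f * y) :
    y = wg ev D w_c ∨ y = wg ev D w_ca ∨ y = wg ev D w_c2 ∨ y = wg ev D w_c2a := by
  have hc := B.list y hy.2 hy.1
  unfold chk at hc
  rw [Bool.and_eq_true, Bool.and_eq_true] at hc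
  have hc1 := hc.2.2
  have e1 : tB (cg ev D y hy.2) = true := by
    unfold tB
    have k1 := comB_of A hy.2 (wg_comm w_b) hb
    have k2 := comB_of A hy.2 (wg_comm w_e) he
    have k3 := comB_of A hy.2 (wg_comm w_f) hf
    have k4 := brB_of A (wg_comm w_a) hy.2 ha
    have k5 := brB_of A hy.2 (wg_comm w_r) hr
    rw [cg_wg A, cw_b] at k1
    rw [cg_wg A, cw_e] at k2
    rw [cg_wg A, cw_f] at k3
    rw [cg_wg A, cw_a] at k4
    rw [cg_wg A, cw_r] at k5
    rw [k1, k2, k3, k4, k5]; rfl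
  rw [e1, cond_true] at hc1
  cases h0 : Nat.beq (cg ev D y hy.2) c_c
  · rw [h0, cond_false] at hc1
    cases h1 : Nat.beq (cg ev D y hy.2) c_ca
    · rw [h1, cond_false] at hc1
      cases h2 : Nat.beq (cg ev D y hy.2) c_c2
      · rw [h2, cond_false] at hc1
        exact Or.inr (Or.inr (Or.inr (eq_of_cg A hy.2 cw_c2a hc1)))
      · exact Or.inr (Or.inr (Or.inl (eq_of_cg A hy.2 cw_c2 h2)))
    · exact Or.inr (Or.inl (eq_of_cg A hy.2 cw_ca h1))
  · exact Or.inl (eq_of_cg A hy.2 cw_c h0)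

/-- transport of a commutation from `C` -/
theorem tr_comm {x u v u' v' : G} (hu : x⁻¹ * u * x = u') (hv : x⁻¹ * v * x = v') (h : u' * v' = v' * u') :
    u * v = v * u := by
  have := CommC.conj_comm' (x := x) h
  rwa [CommC.conj_eq_of hu, CommC.conj_eq_of hv] at this

/-- **the relations of `h = x h0 x⁻¹`** -/
theorem relations (A : Data R) (B : BData ev D) (htc : (tc : G) = t) {x : G} (hxt : x⁻¹ * t * x = wg ev D w_a)
    (hxa : x⁻¹ * wg ev D w_a * x = t)
    (hxb : x⁻¹ * wg ev D w_b * x = wg ev D w_bs) (hxd : x⁻¹ * wg ev D w_d * x = wg ev D w_ds)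
    (hxe : x⁻¹ * wg ev D w_e * x = wg ev D w_es) (hxf : x⁻¹ * wg ev D w_f * x = wg ev D w_fs)
    (hxg : x⁻¹ * wg ev D w_g * x = wg ev D w_gs) :
    ∃ h : G, IsConj t h ∧ h * h = 1 ∧
      h * wg ev D w_a = wg ev D w_a * h ∧ h * wg ev D w_b = wg ev D w_b * h ∧
      h * wg ev D w_c = wg ev D w_c * h ∧ h * wg ev D w_d = wg ev D w_d * h ∧
      h * wg ev D w_e = wg ev D w_e * h ∧ h * wg ev D w_f = wg ev D w_f * h ∧
      (h * t) ^ 3 = 1 ∧ (wg ev D w_g * h) ^ 4 = 1 ∧
      (wg ev D w_g * h * t) ^ 3 = wg ev D w_b * wg ev D w_e := by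
  have hxr := rs_of A B hxt hxa hxb hxd hxe hxf hxg
  set h0 := wg ev D w_h0 with h0def
  set h := x * h0 * x⁻¹ with hdef
  have hxh : x⁻¹ * h * x = h0 := by rw [hdef]; group
  have P0 : P t h0 := P_word _ (by
    have := conj_word A [14,3,2,6,5,4,3,2,1] [0] B.beta
    exact this)
  have ta : wg ev D w_t = t := by
    have h1 : ev (dec 256) = tc := R.ev_z
    have h2 : wv ev D w_t = ev (dec 256) := by
      show gv ev D 15 * 1 = _
      rw [mul_one]; rfl
    unfold wg
    rw [h2, h1, htc]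
  have ha : h * wg ev D w_a = wg ev D w_a * h := tr_comm hxh hxa P0.2
  have hb : h * wg ev D w_b = wg ev D w_b * h := tr_comm hxh hxb (mul_eq A (by decide +kernel))
  have hd : h * wg ev D w_d = wg ev D w_d * h := tr_comm hxh hxd (mul_eq A (by decide +kernel))
  have he : h * wg ev D w_e = wg ev D w_e * h := tr_comm hxh hxe (mul_eq A (by decide +kernel))
  have hf : h * wg ev D w_f = wg ev D w_f * h := tr_comm hxh hxf (mul_eq A (by decide +kernel))
  have hr : h * wg ev D w_r = wg ev D w_r * h := tr_comm hxh hxr (mul_eq A (by decide +kernel))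
  have h00 : h0 * h0 = 1 := by
    have := mul_eq (ev := ev) (D := D) A (u := w_h0) (v := w_h0) (u' := []) (v' := []) (by decide +kernel)
    simpa [wg_nil] using this
  have hh : h * h = 1 := by
    have e : h * h = x * (h0 * h0) * x⁻¹ := by rw [hdef]; group
    rw [e, h00]; group
  have br0 : Br h0 (wg ev D w_a) := by
    show h0 * wg ev D w_a * h0 = wg ev D w_a * h0 * wg ev D w_a
    rw [h0def, ← wg_append, ← wg_append, ← wg_append, ← wg_append]
    exact wg_eq A (by decide +kernel)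
  have hbr : Br h t := by
    have := CommC.conj_br' (x := x) br0
    rwa [← hdef, CommC.conj_eq_of hxt] at this
  have hne : h * t ≠ t * h := by
    intro h1
    have h2 := CommC.conj_comm (x := x) h1
    rw [hxh, hxt, h0def, ← wg_append, ← wg_append] at h2
    have h3 : wv ev D (w_h0 ++ w_a) = wv ev D (w_a ++ w_h0) := Subtype.ext h2
    have h4 : wN (w_h0 ++ w_a) = wN (w_a ++ w_h0) := by
      rw [← cd_wv A, ← cd_wv A, h3]
    have h5 : Nat.beq (wN (w_h0 ++ w_a)) (wN (w_a ++ w_h0)) = false := by decide +kernel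
    rw [h4, Nat.beq_refl] at h5
    exact Bool.noConfusion h5
  have haa : wg ev D w_a * wg ev D w_a = 1 := by
    have := mul_eq (ev := ev) (D := D) A (u := w_a) (v := w_a) (u' := []) (v' := []) (by decide +kernel)
    simpa [wg_nil] using this
  have kconj : ∀ u v : List ℕ, wN (w_k ++ u) = wN (v ++ w_k) →
      wg ev D w_k * wg ev D u * (wg ev D w_k)⁻¹ = wg ev D v := by
    intro u v huv
    rw [mul_eq A huv]; group
  have PD : ∀ u : List ℕ, P t (wg ev D (u ++ ([15,3,5,6] ++ u.reverse))) := fun u =>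
    P_word _ (conj_word A u _ B.alpha)
  have hcc : h * wg ev D w_c = wg ev D w_c * h := by
    refine CommC.comm_c (P t) t (wg ev D w_a) (wg ev D w_b) (wg ev D w_c) (wg ev D w_d) (wg ev D w_e)
      (wg ev D w_f) (wg ev D w_r) x (wg ev D w_k) h h0 (wg ev D w_bs) (wg ev D w_es) (wg ev D w_fs)
      (wg ev D w_rs) (fun y hy => hy.2) (fun y g hy hg => P_conj hy hg) hxt hxa hxb hxe hxf hxr hdef P0
      (wg_comm _) (kconj _ _ (by decide +kernel)) (kconj _ _ (by decide +kernel))
      (kconj _ _ (by decide +kernel)) (kconj _ _ (by decide +kernel)) (kconj _ _ (by decide +kernel))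
      ha hb hd he hf hr hbr haa ?_ ?_ hne
    · intro H PH Hb He Hf Hr Ha Hne
      have D1 : ∀ u v : List ℕ, wN (u ++ v) = wN (v ++ u) → wg ev D u * wg ev D v = wg ev D v * wg ev D u :=
        fun u v h => mul_eq A h
      have D2 : ∀ u v : List ℕ, wN (u ++ v ++ u) = wN (v ++ u ++ v) → Br (wg ev D u) (wg ev D v) := by
        intro u v h
        show wg ev D u * wg ev D v * wg ev D u = wg ev D v * wg ev D u * wg ev D v
        rw [← wg_append, ← wg_append, ← wg_append, ← wg_append]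
        exact wg_eq A h
      have case12 : ∀ w : List ℕ, wN (w_D1 ++ w) = wN (w ++ w_D1) → H = wg ev D w →
          ∃ D_1, P t D_1 ∧ D_1 * wg ev D w_a = wg ev D w_a * D_1 ∧ D_1 * H = H * D_1 ∧
          Br (wg ev D w_bs) D_1 ∧ Br D_1 (wg ev D w_es) ∧ D_1 * wg ev D w_fs = wg ev D w_fs * D_1 ∧
          D_1 * wg ev D w_rs = wg ev D w_rs * D_1 := by
        intro w hw hHw
        refine ⟨wg ev D w_D1, PD [4,3,1,2,6,0,1,2,3,4,2,3,0,1,2], D1 _ _ (by decide +kernel), ?_, D2 _ _ (by decide +kernel),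
          D2 _ _ (by decide +kernel), D1 _ _ (by decide +kernel), D1 _ _ (by decide +kernel)⟩
        rw [hHw]; exact D1 _ _ hw
      have case34 : ∀ w : List ℕ, wN (w_D2 ++ w) = wN (w ++ w_D2) → H = wg ev D w →
          ∃ D_1, P t D_1 ∧ D_1 * wg ev D w_a = wg ev D w_a * D_1 ∧ D_1 * H = H * D_1 ∧
          Br (wg ev D w_bs) D_1 ∧ Br D_1 (wg ev D w_es) ∧ D_1 * wg ev D w_fs = wg ev D w_fs * D_1 ∧
          D_1 * wg ev D w_rs = wg ev D w_rs * D_1 := by
        intro w hw hHw
        refine ⟨wg ev D w_D2, PD [1,2,6,4,5,0,1,2,3,4,2,3,0,1,2], D1 _ _ (by decide +kernel), ?_, D2 _ _ (by decide +kernel),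
          D2 _ _ (by decide +kernel), D1 _ _ (by decide +kernel), D1 _ _ (by decide +kernel)⟩
        rw [hHw]; exact D1 _ _ hw
      rcases caseA A B PH Hb He Hf Hr Ha Hne with h1 | h1 | h1 | h1
      · exact case12 _ (by decide +kernel) h1
      · exact case12 _ (by decide +kernel) h1
      · exact case34 _ (by decide +kernel) h1
      · exact case34 _ (by decide +kernel) h1
    · intro y Py ya yr yb ye yf
      have key : ∀ w : List ℕ,
          wN ((w_t ++ (w_e ++ w_b ++ w_a ++ (w ++ w_d ++ w ++ w_d) ++ w_a ++ w_b ++ w_e)) ++ (w ++ w_d ++ w ++ w_d)) =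
          wN ((w ++ w_d ++ w ++ w_d) ++ (w_e ++ w_b ++ w_a ++ (w ++ w_d ++ w ++ w_d) ++ w_a ++ w_b ++ w_e)) →
          y = wg ev D w → t = (y * wg ev D w_d * y * wg ev D w_d) *
            (wg ev D w_e * wg ev D w_b * wg ev D w_a * (y * wg ev D w_d * y * wg ev D w_d) *
              wg ev D w_a * wg ev D w_b * wg ev D w_e) * (y * wg ev D w_d * y * wg ev D w_d)⁻¹ *
            (wg ev D w_e * wg ev D w_b * wg ev D w_a * (y * wg ev D w_d * y * wg ev D w_d) *
              wg ev D w_a * wg ev D w_b * wg ev D w_e)⁻¹ := by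
        intro w hw hyw
        have h1 := wg_eq (ev := ev) (D := D) A hw
        simp only [wg_append, ta] at h1
        rw [hyw, ← h1]
        group
      rcases caseB A B Py ya yr yb ye yf with h1 | h1 | h1 | h1
      · exact Or.inl h1
      · refine Or.inr (Or.inl ?_)
        rw [h1, ← wg_append, ← wg_append]
        exact wg_eq A (by decide +kernel)
      · exact Or.inr (Or.inr (key _ (by decide +kernel) h1))
      · exact Or.inr (Or.inr (key _ (by decide +kernel) h1))
  have ptr : ∀ (u u' : G) (n : ℕ), x⁻¹ * u * x = u' → u ^ n = x * u' ^ n * x⁻¹ := by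
    intro u u' n hu
    rw [← conj_pow, CommC.conj_eq_of hu]
  refine ⟨h, P0.1.trans (isConj_iff.2 ⟨x, rfl⟩), hh, ha, hb, hcc, hd, he, hf, ?_, ?_, ?_⟩
  · have e : x⁻¹ * (h * t) * x = h0 * wg ev D w_a := by rw [← hxh, ← hxt]; group
    rw [ptr _ _ 3 e]
    have e2 : (h0 * wg ev D w_a) ^ 3 = 1 := by
      rw [h0def, ← wg_append, cube_eq, ← wg_append, ← wg_append]
      exact wg_eq A (w' := []) (by decide +kernel)
    rw [e2]; group
  · have e : x⁻¹ * (wg ev D w_g * h) * x = wg ev D w_gs * h0 := by rw [← hxh, ← hxg]; group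
    rw [ptr _ _ 4 e]
    have e2 : (wg ev D w_gs * h0) ^ 4 = 1 := by
      rw [h0def, ← wg_append, pow_succ, cube_eq, ← wg_append, ← wg_append, ← wg_append]
      exact wg_eq A (w' := []) (by decide +kernel)
    rw [e2]; group
  · have e : x⁻¹ * (wg ev D w_g * h * t) * x = wg ev D w_gs * h0 * wg ev D w_a := by
      rw [← hxh, ← hxg, ← hxt]; group
    rw [ptr _ _ 3 e]
    have e2 : (wg ev D w_gs * h0 * wg ev D w_a) ^ 3 = wg ev D w_bs * wg ev D w_es := by
      rw [h0def, ← wg_append, ← wg_append, cube_eq, ← wg_append, ← wg_append, ← wg_append]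
      exact wg_eq A (by decide +kernel)
    rw [e2, ← hxb, ← hxe]; group

end

end Cfsg.Agent.Co2Type.CommOut
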