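import Cfsg.Agent.Co2Type.CodeU
import Cfsg.Agent.Co2Type.Pair

/-!
# The situation of S1675 in the spin case: context, lifting, transitivity (R03, letter B, helper595)

`Sit.conj S g` : the situation at the conjugate involution.  `Ctx S` : the spin basis.
`exists_lift` : an element of `Sp6(2)` fixing `pr t'` lifts to an element of `C(t) ∩ C(t')`.
`Ctx.exists_rho_B7` : transitivity on the nonzero singular vectors.
-/

set_option autoImplicit false
open Cfsg

namespace Cfsg.Agent.Co2Type.Setup.Sit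

open Cfsg.Agent.Co2Type.Quad

variable {G : Type*} [Group G] {Q : Subgroup G} {t : G}

/-- conjugation `c ↦ g⁻¹ c g` from `C(g t g⁻¹)` to `C(t)` -/
def conjHom (g t : G) : Subgroup.centralizer ({g * t * g⁻¹} : Set G) →*
    Subgroup.centralizer ({t} : Set G) where
  toFun c := ⟨g⁻¹ * c * g, by
    have h := Subgroup.mem_centralizer_singleton_iff.1 c.2
    rw [Subgroup.mem_centralizer_singleton_iff]
    calc g⁻¹ * c * g * t = g⁻¹ * (c * (g * t * g⁻¹)) * g := by group
      _ = g⁻¹ * (g * t * g⁻¹ * c) * g := by rw [h]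
      _ = t * (g⁻¹ * c * g) := by group⟩
  map_one' := by
    apply Subtype.ext
    show g⁻¹ * ((1 : Subgroup.centralizer ({g * t * g⁻¹} : Set G)) : G) * g = 1
    rw [Subgroup.coe_one]; group
  map_mul' c c' := by
    apply Subtype.ext
    show g⁻¹ * ((c : G) * c') * g = g⁻¹ * c * g * (g⁻¹ * c' * g)
    group

theorem conjHom_coe (g t : G) (c : Subgroup.centralizer ({g * t * g⁻¹} : Set G)) :
    ((conjHom g t c : Subgroup.centralizer ({t} : Set G)) : G) = g⁻¹ * c * g := rfl

theorem conjHom_surjective (g t : G) : Function.Surjective (conjHom g t) := by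
  intro c
  refine ⟨⟨g * c * g⁻¹, ?_⟩, ?_⟩
  · have h := Subgroup.mem_centralizer_singleton_iff.1 c.2
    rw [Subgroup.mem_centralizer_singleton_iff]
    calc g * c * g⁻¹ * (g * t * g⁻¹) = g * (c * t) * g⁻¹ := by group
      _ = g * (t * c) * g⁻¹ := by rw [h]
      _ = _ := by group
  · apply Subtype.ext
    rw [conjHom_coe]
    group

/-- the situation at a conjugate of `t` -/
def conj (S : Sit G Q t) (g : G) : Sit G (Q.map (MulAut.conj g).toMonoidHom) (g * t * g⁻¹) where
  large := S.large.conj g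
  card := by
    rw [Subgroup.card_map_of_injective (MulAut.conj g).injective]
    exact S.card
  psi := S.psi.comp (conjHom g t)
  psi_surj := S.psi_surj.comp (conjHom_surjective g t)
  psi_ker c := by
    rw [MonoidHom.comp_apply, S.psi_ker, conjHom_coe]
    constructor
    · intro h
      refine ⟨_, h, ?_⟩
      show g * (g⁻¹ * c * g) * g⁻¹ = c
      group
    · rintro ⟨x, hx, hxe⟩
      have hxe' : g * x * g⁻¹ = c := hxe
      rw [← hxe']
      have : g⁻¹ * (g * x * g⁻¹) * g = x := by group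
      rw [this]; exact hx

/-- `psi` of an element of `G` centralising `t` -/
noncomputable def ps (S : Sit G Q t) {x : G} (hx : x * t = t * x) : Sp6 :=
  S.psi ⟨x, Subgroup.mem_centralizer_singleton_iff.2 hx⟩

theorem ps_mul (S : Sit G Q t) {x y : G} (hx : x * t = t * x) (hy : y * t = t * y)
    (hxy : x * y * t = t * (x * y)) : S.ps hxy = S.ps hx * S.ps hy := by
  unfold ps
  rw [← map_mul]
  rfl

theorem ps_eq_one (S : Sit G Q t) {x : G} (hx : x * t = t * x) : S.ps hx = 1 ↔ x ∈ Q :=
  S.psi_ker _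

theorem ps_inv (S : Sit G Q t) {x : G} (hx : x * t = t * x) (hx' : x⁻¹ * t = t * x⁻¹) :
    S.ps hx' = (S.ps hx)⁻¹ := by
  unfold ps
  rw [← map_inv]
  rfl

theorem rho_ps (S : Sit G Q t) {x : G} (hx : x * t = t * x) (y : Q) :
    S.rho (S.ps hx) (S.large.pr y) = S.large.pr ⟨x * y * x⁻¹, S.large.conj_mem x hx y y.2⟩ := by
  unfold ps
  rw [S.rho_psi, S.large.act_pr]
  rfl

/-- an element of `Sp6(2)` fixing `pr t'` lifts to an element of `C(t) ∩ C(t')` -/
theorem exists_lift (S : Sit G Q t) {t' : G} (ht' : t' ∈ Q) (hne : t' ≠ 1) (hne' : t' ≠ t)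
    (k : Sp6) (hk : S.rho k (S.large.pr ⟨t', ht'⟩) = S.large.pr ⟨t', ht'⟩) :
    ∃ a, ∃ (ha : a * t = t * a), a * t' = t' * a ∧ S.ps ha = k := by
  obtain ⟨c, rfl⟩ := S.psi_surj k
  rw [S.rho_psi, S.large.act_pr, S.large.pr_eq_pr, Large.conjQ_coe] at hk
  have hct : (c : G) * t = t * c := Subgroup.mem_centralizer_singleton_iff.1 c.2
  rcases hk with h | h
  · refine ⟨c, hct, ?_, rfl⟩
    simp only at h
    rw [mul_inv_eq_iff_eq_mul] at h
    exact h
  · -- some element of `Q` does not commute with `t'`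
    have hx : ∃ x ∈ Q, x * t' ≠ t' * x := by
      by_contra hno
      push Not at hno
      rcases S.large.cent t' ht' (fun y hy => (hno y hy).symm) with h1 | h1
      · exact hne h1
      · exact hne' h1
    obtain ⟨x, hxQ, hx⟩ := hx
    have hx2 : x * t' = t' * x * t := by
      rcases S.large.comm x hxQ t' ht' with h1 | h1
      · exact absurd h1 hx
      · exact h1
    have hxt : x * t = t * x := S.large.comm_z x hxQ
    have hxc : x * c * t = t * (x * c) := by
      rw [mul_assoc, hct, ← mul_assoc, hxt, mul_assoc]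
    refine ⟨x * c, hxc, ?_, ?_⟩
    · simp only at h
      have h3 : (c : G) * t' = t' * t * c := by rw [← h]; group
      calc x * c * t' = x * (c * t') := by group
        _ = x * t' * (t * c) := by rw [h3]; group
        _ = t' * x * (t * t) * c := by rw [hx2]; group
        _ = t' * (x * c) := by rw [S.large.z_sq]; group
    · rw [S.ps_mul hxt hct, (S.ps_eq_one hxt).2 hxQ, one_mul]
      rfl

end Cfsg.Agent.Co2Type.Setup.Sit

namespace Cfsg.Agent.Co2Type.Code

open Cfsg.Agent.Co2Type.Quad Cfsg.Agent.Co2Type.Setup Cfsg.Agent.Co2Type.Spin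
open Cfsg.Agent.SporRec.TwoSp6

variable {G : Type*} [Group G] {Q : Subgroup G} {t : G}

/-- the spin basis -/
structure Ctx (S : Sit G Q t) where
  hs : SpinHyp S.rho
  B : Module.Basis (Fin 8) (ZMod 2) S.large.V
  hE : ∀ i I, n S.rho (e i) (B I) = if (I : ℕ).testBit i then 0 else B (I + 2 ^ (i : ℕ))
  hF : ∀ i I, n S.rho (f i) (B I) = if (I : ℕ).testBit i then B (I - 2 ^ (i : ℕ)) else 0
  hq : ∀ I, S.large.q (B I) = 0
  hb : ∀ I J, S.large.b (B I) (B J) = if I + J = 7 then 1 else 0

theorem exists_ctx (S : Sit G Q t) (hs : SpinHyp S.rho) : Nonempty (Ctx S) := by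
  obtain ⟨B, h1, h2, h3, h4⟩ := exists_basis_sit S hs
  exact ⟨⟨hs, B, h1, h2, h3, h4⟩⟩

namespace Ctx

variable {S : Sit G Q t} (P : Ctx S)

theorem n_enc (m : ℕ) {c : ℕ} (hc : c < 256) :
    n S.rho (Sp.enc m) (enc P.B c) = enc P.B (nU m c) :=
  Code.n_enc P.hs S.card_V P.hE P.hF m hc

theorem rho_enc (m : ℕ) {c : ℕ} (hc : c < 256) :
    S.rho (Sp.tr (Sp.enc m)) (enc P.B c) = enc P.B (stU m c) :=
  Code.rho_tr_enc P.hs S.card_V P.hE P.hF m hc

theorem b_enc (c d : ℕ) : S.large.b (enc P.B c) (enc P.B d) = bz (bN c d) :=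
  Code.b_enc P.hb c d

theorem q_enc {c : ℕ} (hc : c < 256) : S.large.q (enc P.B c) = bz (qN c) :=
  Code.q_enc S.large.q_add' P.hq P.hb hc

theorem bz_eq_zero {p : Bool} (h : bz p = 0) : p = false := by
  cases p
  · rfl
  · exact absurd h (by decide)

/-- the depth of a singular vector (distance from `B 7`) -/
def dep (c : ℕ) : ℕ :=
  if c.testBit 0 then 3 else if c &&& 22 ≠ 0 then 2 else if c &&& 104 ≠ 0 then 1 else 0

theorem dep_step : ∀ c < 256, qN c = false → c ≠ 0 → c = 128 ∨
    ∃ m < 64, dep (stU m c) < dep c ∧ qN (stU m c) = false ∧ stU m c ≠ 0 := by decide +kernel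

theorem enc_128 : enc P.B 128 = P.B 7 := enc_pow P.B 7

/-- `Sp6(2)` is transitive on the nonzero singular vectors -/
theorem exists_rho_B7 {v : S.large.V} (hv : v ≠ 0) (hqv : S.large.q v = 0) :
    ∃ k : Sp6, S.rho k v = P.B 7 := by
  have key : ∀ d : ℕ, ∀ c < 256, dep c = d → qN c = false → c ≠ 0 →
      ∃ k : Sp6, S.rho k (enc P.B c) = P.B 7 := by
    intro d
    induction d using Nat.strong_induction_on with
    | _ d ih =>
      intro c hc hd hqc hc0
      rcases dep_step c hc hqc hc0 with rfl | ⟨m, _, h1, h2, h3⟩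
      · exact ⟨1, by rw [map_one, enc_128]; rfl⟩
      · obtain ⟨k, hk⟩ := ih (dep (stU m c)) (by omega) (stU m c) (stU_lt m hc) rfl h2 h3
        refine ⟨k * Sp.tr (Sp.enc m), ?_⟩
        rw [map_mul, LinearEquiv.mul_apply, P.rho_enc m hc, hk]
  have h := key _ (cd P.B v) (cd_lt P.B v) rfl ?_ ?_
  · rwa [enc_cd] at h
  · rw [← enc_cd P.B v, P.q_enc (cd_lt P.B v)] at hqv
    exact bz_eq_zero hqv
  · intro h0
    apply hv
    rw [← enc_cd P.B v, h0, enc_zero]

end Ctx

end Cfsg.Agent.Co2Type.Code
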