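import Cfsg.Agent.Co2Type.R5
import Cfsg.Agent.Co2Type.Alpha
import Cfsg.Agent.Co2Type.Ctx

/-!
# Involutions over the types `b1` and `c2` (R03, Co2 type, letter B, helper595)

`BC r h`: `r = d_h` or `r = d_a d_b` with `a ⊥ b`, `h = a + b`.  Then `ker (ρ(r)-1) = im (ρ(r)-1) = ker n_h`.
`chi_gen`: `σ r` centralises every `x ∈ Q` with `x̄` fixed by `r`, if `r` commutes with a hyperbolic pair of
transvections.  `coset`: every involution of `C(t)` over `r` is `Q`-conjugate to `σ r` or `t σ r`.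
-/

set_option autoImplicit false

namespace Cfsg.Agent.Co2Type.CosetB

open Cfsg Subgroup Cfsg.Agent.Co2Type.Quad Cfsg.Agent.Co2Type.Setup Cfsg.Agent.Co2Type.Spin
open Cfsg.Agent.Co2Type.LineMod Cfsg.Agent.Co2Type.Alpha Cfsg.Agent.Co2Type.R5
open Cfsg.Agent.SporRec.TwoSp6
open Cfsg.Agent.SporRec.TwoSp6.Sp (tr act act_om act_add act_mul act_one conj_tr tr_comm tr_sq act_tr)

/-- the types `b1` and `c2` -/
def BC (r : Sp6) (h : U) : Prop :=
  (h ≠ 0 ∧ r = tr h) ∨ ∃ a b, IsLine a b ∧ h = a + b ∧ r = tr a * tr b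

theorem BC.ne {r : Sp6} {h : U} (H : BC r h) : h ≠ 0 := by
  rcases H with ⟨H, -⟩ | ⟨a, b, hl, rfl, -⟩
  · exact H
  · intro h0
    exact hl.2.2.1 (Invol.eq_of_add_eq_zero h0).symm

theorem BC.sq {r : Sp6} {h : U} (H : BC r h) : r * r = 1 := by
  rcases H with ⟨-, rfl⟩ | ⟨a, b, hl, -, rfl⟩
  · exact tr_sq h
  · have h1 : tr a * tr b = tr b * tr a := tr_comm hl.2.2.2
    calc tr a * tr b * (tr a * tr b) = tr a * (tr b * tr a) * tr b := by group
      _ = (tr a * tr a) * (tr b * tr b) := by rw [← h1]; group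
      _ = 1 := by rw [tr_sq, tr_sq, one_mul]

/-- a hyperbolic pair commuting with `r` -/
theorem BC.exists_hyp {r : Sp6} {h : U} (H : BC r h) :
    ∃ p p' : U, sf p p' = 1 ∧ sf h p = 0 ∧ sf h p' = 0 ∧ r * tr p = tr p * r ∧
      r * tr p' = tr p' * r := by
  rcases H with ⟨H, rfl⟩ | ⟨a, b, hl, rfl, rfl⟩
  · obtain ⟨g, hg⟩ := Sp.exists_act (u := e 0) (w := h) (by decide +kernel) H
    have h1 : sf h (act g (e 1)) = 0 := by
      rw [← hg]; exact (act_om g _ _).trans (sf_e_e 0 1)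
    have h2 : sf h (act g (f 1)) = 0 := by
      rw [← hg]; exact (act_om g _ _).trans (by show sf _ _ = 0; rw [sf_e_f]; rfl)
    refine ⟨act g (e 1), act g (f 1), ?_, h1, h2, tr_comm h1, tr_comm h2⟩
    exact (act_om g _ _).trans (by show sf _ _ = 1; rw [sf_e_f]; rfl)
  · obtain ⟨u, w, h1, h2, h3, h4, h5⟩ := LineMod.exists_hyp hl
    refine ⟨u, w, h5, by rw [sf_add', h1, h2, add_zero], by rw [sf_add', h3, h4, add_zero], ?_, ?_⟩
    · have e1 : tr a * tr u = tr u * tr a := tr_comm h1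
      have e2 : tr b * tr u = tr u * tr b := tr_comm h2
      rw [mul_assoc, e2, ← mul_assoc, e1, mul_assoc]
    · have e1 : tr a * tr w = tr w * tr a := tr_comm h3
      have e2 : tr b * tr w = tr w * tr b := tr_comm h4
      rw [mul_assoc, e2, ← mul_assoc, e1, mul_assoc]

variable {G : Type*} [Group G] {Q : Subgroup G} {t : G}

section Mod

variable {S : Sit G Q t} (hs : SpinHyp S.rho)
include hs

theorem rho_sub {r : Sp6} {h : U} (H : BC r h) :
    ∃ φ : S.large.V → S.large.V, (∀ v, S.rho r v + v = n S.rho h (φ v)) ∧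
      (∀ v, φ (φ v) = v) ∧ (∀ v, n S.rho h v = 0 → n S.rho h (φ v) = 0) := by
  rcases H with ⟨H, rfl⟩ | ⟨a, b, hl, rfl, rfl⟩
  · refine ⟨id, ?_, fun _ => rfl, fun _ h => h⟩
    intro v
    rw [rho_tr, add_comm v, add_assoc, addV, add_zero]
    rfl
  · refine ⟨fun v => v + n S.rho a v, ?_, ?_, ?_⟩
    · intro v
      rw [map_mul, LinearEquiv.mul_apply, rho_tr, rho_tr, n_add_zero hs S.card_V hl.2.2.2]
      simp only [map_add, n_n_apply]
      rw [n_comm_apply hs hl.2.2.2]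
      calc v + n S.rho b v + (n S.rho a v + n S.rho b (n S.rho a v)) + v
          = (v + v) + (n S.rho b v + (n S.rho a v + n S.rho b (n S.rho a v))) := by abel
        _ = _ := by rw [addV]; abel
    · intro v
      simp only [map_add, n_n_apply, add_zero]
      rw [add_assoc, addV, add_zero]
    · intro v hv
      simp only [map_add]
      have hc : sf (a + b) a = 0 := by
        rw [sf_add', sf_self, sf_comm, hl.2.2.2, add_zero]
      rw [hv, n_comm_apply hs hc, hv, map_zero, add_zero]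

theorem fix_iff {r : Sp6} {h : U} (H : BC r h) (v : S.large.V) :
    S.rho r v = v ↔ n S.rho h v = 0 := by
  obtain ⟨φ, h1, h2, h3⟩ := rho_sub hs H
  constructor
  · intro hv
    have h4 := h1 v
    rw [hv, addV] at h4
    have h5 := h3 _ h4.symm
    rwa [h2] at h5
  · intro hv
    have h4 := h1 v
    rw [h3 v hv] at h4
    have h5 := congrArg (fun z => z + v) h4
    simp only [add_assoc, zero_add] at h5
    rwa [addV, add_zero] at h5

theorem exists_sub {r : Sp6} {h : U} (H : BC r h) {v : S.large.V} (hv : n S.rho h v = 0) :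
    ∃ w, v = S.rho r w + w := by
  obtain ⟨φ, h1, h2, h3⟩ := rho_sub hs H
  obtain ⟨w, rfl⟩ := exists_of_ker hs H.ne hv
  exact ⟨φ w, by rw [h1, h2]⟩

theorem n_sub {r : Sp6} {h : U} (H : BC r h) (v : S.large.V) :
    n S.rho h (S.rho r v + v) = 0 := by
  obtain ⟨φ, h1, h2, h3⟩ := rho_sub hs H
  rw [h1, n_n_apply]

end Mod

section Chi

variable (S : Sit G Q t) (σ : Sp6 →* centralizer ({t} : Set G)) (hσ : ∀ g, S.psi (σ g) = g)
variable (hs : SpinHyp S.rho)
include hσ hs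

/-- `σ r` centralises every element of `Q` whose image it fixes -/
theorem chi_gen {r : Sp6} {p p' : U} (hpp : sf p p' = 1) (c1 : r * tr p = tr p * r)
    (c2 : r * tr p' = tr p' * r) {x : G} (hx : x ∈ Q)
    (hfix : S.rho r (S.large.pr ⟨x, hx⟩) = S.large.pr ⟨x, hx⟩) :
    sg σ r * x = x * sg σ r := by
  have htt := tt S
  have hmem : ∀ g : Sp6, sg σ g * x * (sg σ g)⁻¹ ∈ Q := fun g => conj_mem S (sg_comm σ g) hx
  have hrt : sg σ r * t = t * sg σ r := sg_comm σ _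
  have h1 : sg σ r * x * (sg σ r)⁻¹ = x ∨ sg σ r * x * (sg σ r)⁻¹ = x * t := by
    apply eq_or_of_pr S (hmem _) hx
    rw [pr_conj S σ r ⟨x, hx⟩ (hmem _) hσ, hfix]
  rcases h1 with h1 | h1
  · exact mul_inv_eq_iff_eq_mul.mp h1
  exfalso
  set l1 := tr p * tr p' with hl1
  set l2 := tr p * tr (p + p') with hl2
  have e3 : tr p * tr p' * (tr p)⁻¹ = tr (p + p') := by
    have h3 := conj_tr (tr p) p'
    rw [h3, act_tr]
    have : Sp.om p' p = 1 := by rw [Sp.om_symm]; exact hpp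
    rw [this, one_smul, add_comm]
  have c1' : r * (tr p)⁻¹ = (tr p)⁻¹ * r := by
    rw [eq_inv_mul_iff_mul_eq, ← mul_assoc, ← c1, mul_assoc, mul_inv_cancel, mul_one]
  have c3 : r * tr (p + p') = tr (p + p') * r := by
    rw [← e3]
    calc r * (tr p * tr p' * (tr p)⁻¹) = (r * tr p) * tr p' * (tr p)⁻¹ := by group
      _ = tr p * (r * tr p') * (tr p)⁻¹ := by rw [c1]; group
      _ = tr p * tr p' * (r * (tr p)⁻¹) := by rw [c2]; group
      _ = _ := by rw [c1']; group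
  have d1 : r * l1 = l1 * r := by rw [hl1, ← mul_assoc, c1, mul_assoc, c2, mul_assoc]
  have d2 : r * l2 = l2 * r := by rw [hl2, ← mul_assoc, c1, mul_assoc, c3, mul_assoc]
  have mv : ∀ l : Sp6, r * l = l * r →
      sg σ r * (sg σ l * x * (sg σ l)⁻¹) * (sg σ r)⁻¹ = (sg σ l * x * (sg σ l)⁻¹) * t := by
    intro l hl
    have e1 : sg σ r * sg σ l = sg σ l * sg σ r := by rw [← sg_mul, hl, sg_mul]
    have e2 : (sg σ l)⁻¹ * (sg σ r)⁻¹ = (sg σ r)⁻¹ * (sg σ l)⁻¹ := by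
      rw [← mul_inv_rev, e1, mul_inv_rev]
    have e3 : t * (sg σ l)⁻¹ = (sg σ l)⁻¹ * t := by
      rw [← sg_inv]; exact (sg_comm σ _).symm
    calc sg σ r * (sg σ l * x * (sg σ l)⁻¹) * (sg σ r)⁻¹
        = (sg σ r * sg σ l) * x * ((sg σ l)⁻¹ * (sg σ r)⁻¹) := by group
      _ = sg σ l * (sg σ r * x * (sg σ r)⁻¹) * (sg σ l)⁻¹ := by rw [e1, e2]; group
      _ = sg σ l * x * (t * (sg σ l)⁻¹) := by rw [h1]; group
      _ = _ := by rw [e3]; group
  have m1 := mv l1 d1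
  have m2 := mv l2 d2
  have q1 := hmem l1
  have q2 := hmem l2
  have p1 := pr_conj S σ l1 ⟨x, hx⟩ q1 hσ
  have p2 := pr_conj S σ l2 ⟨x, hx⟩ q2 hσ
  set x1 := sg σ l1 * x * (sg σ l1)⁻¹ with hx1
  set x2 := sg σ l2 * x * (sg σ l2)⁻¹ with hx2
  have hsum : ∀ v, v + S.rho l1 v + S.rho l2 v = 0 := by
    intro v
    have h2 := hs p p' hpp v
    have h3 : S.rho (tr p) (S.rho (tr p) v) + S.rho (tr p) (S.rho (tr p') v) +
        S.rho (tr p) (S.rho (tr (p + p')) v) = 0 := by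
      have h3 := congrArg (S.rho (tr p)) h2
      rw [map_zero, map_add, map_add] at h3
      exact h3
    have e0 : S.rho (tr p) (S.rho (tr p) v) = v := by
      have e1 : S.rho (tr p * tr p) v = v := by
        rw [tr_sq, map_one]; rfl
      rw [map_mul] at e1
      exact e1
    rw [e0] at h3
    rw [hl1, hl2, map_mul, map_mul]
    exact h3
  have h4 : S.large.pr (⟨x, hx⟩ * ⟨x1, q1⟩ * ⟨x2, q2⟩) = 0 := by
    rw [S.large.pr_mul, S.large.pr_mul, p1, p2, hsum]
  have h5 : x * x1 * x2 = 1 ∨ x * x1 * x2 = t := S.large.pr_eq_zero.1 h4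
  have h6 : sg σ r * (x * x1 * x2) * (sg σ r)⁻¹ = x * x1 * x2 := by
    rcases h5 with h5 | h5
    · rw [h5]; group
    · rw [h5, hrt]; group
  have x1t : x1 * t = t * x1 := comm_t S q1
  have x2t : x2 * t = t * x2 := comm_t S q2
  have h7 : sg σ r * (x * x1 * x2) * (sg σ r)⁻¹ = x * x1 * x2 * t := by
    calc sg σ r * (x * x1 * x2) * (sg σ r)⁻¹ = (sg σ r * x * (sg σ r)⁻¹) *
          (sg σ r * x1 * (sg σ r)⁻¹) * (sg σ r * x2 * (sg σ r)⁻¹) := by group
      _ = (x * t) * (x1 * t) * (x2 * t) := by rw [h1, m1, m2]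
      _ = x * (t * x1) * (t * x2) * t := by group
      _ = x * (x1 * t) * (t * x2) * t := by rw [← x1t]
      _ = x * x1 * (t * t) * x2 * t := by group
      _ = _ := by rw [htt]; group
  rw [h6] at h7
  exact t_ne S (left_eq_mul.mp h7)

theorem chi_BC {r : Sp6} {h : U} (H : BC r h) {x : G} (hx : x ∈ Q)
    (hfix : n S.rho h (S.large.pr ⟨x, hx⟩) = 0) : sg σ r * x = x * sg σ r := by
  obtain ⟨p, p', hpp, -, -, c1, c2⟩ := H.exists_hyp
  exact chi_gen S σ hσ hs hpp c1 c2 hx ((fix_iff hs H _).2 hfix)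

/-- every involution over `r` is `Q`-conjugate to `σ r` or `t σ r` -/
theorem coset {r : Sp6} {h : U} (H : BC r h) {z : G} (hzt : z * t = t * z) (hzz : z * z = 1)
    (hz : S.ps hzt = r) :
    ∃ q ∈ Q, q * sg σ r * q⁻¹ = z ∨ q * (t * sg σ r) * q⁻¹ = z := by
  set s := sg σ r with hsdef
  have hst : s * t = t * s := sg_comm σ r
  have hss : s * s = 1 := by rw [hsdef, ← sg_mul, H.sq, sg_one]
  have hsi : s⁻¹ = s := inv_eq_of_mul_eq_one_left hss
  have htt := tt S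
  have hps : S.ps hst = r := by
    have : S.ps hst = S.psi (σ r) := rfl
    rw [this, hσ]
  -- x = z s⁻¹
  have hx : z * s ∈ Q := by
    have hzs : z * s * t = t * (z * s) := by rw [mul_assoc, hst, ← mul_assoc, hzt, mul_assoc]
    rw [← S.ps_eq_one hzs, S.ps_mul hzt hst hzs, hz, hps, H.sq]
  set x := z * s with hxdef
  have hzx : z = x * s := by rw [hxdef, mul_assoc, hss, mul_one]
  have hsx : s * x * s⁻¹ = x⁻¹ := by
    rw [hsi]
    have h1 : x * s * (x * s) = 1 := by rw [← hzx]; exact hzz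
    calc s * x * s = x⁻¹ * (x * s * (x * s)) := by group
      _ = x⁻¹ := by rw [h1, mul_one]
  have hfix : S.rho r (S.large.pr ⟨x, hx⟩) = S.large.pr ⟨x, hx⟩ := by
    have h1 := pr_conj S σ r ⟨x, hx⟩ (conj_mem S hst hx) hσ
    rw [← h1]
    have h2 : (⟨sg σ r * x * (sg σ r)⁻¹, conj_mem S hst hx⟩ : Q) = (⟨x, hx⟩ : Q)⁻¹ :=
      Subtype.ext hsx
    rw [h2, S.large.pr_inv, S.large.neg_eq]
  have hn := (fix_iff hs H _).1 hfix
  obtain ⟨w, hw⟩ := exists_sub hs H hn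
  obtain ⟨y, rfl⟩ := S.large.pr_surjective w
  -- y s y⁻¹ s⁻¹
  have hm : (y : G) * (s * (y : G)⁻¹ * s⁻¹) ∈ Q := mul_mem y.2 (conj_mem S hst (inv_mem y.2))
  have h3 : S.large.pr ⟨_, hm⟩ = S.large.pr ⟨x, hx⟩ := by
    rw [hw]
    have h4 : (⟨_, hm⟩ : Q) = y * ⟨s * (y⁻¹ : Q) * s⁻¹, conj_mem S hst (y⁻¹).2⟩ := Subtype.ext rfl
    rw [h4, S.large.pr_mul, pr_conj S σ r (y⁻¹) _ hσ, S.large.pr_inv, S.large.neg_eq, add_comm]
  refine ⟨y, y.2, ?_⟩
  have hyt : (y : G) * t = t * y := comm_t S y.2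
  rcases eq_or_of_pr S hm hx h3 with h5 | h5
  · left
    calc (y : G) * s * (y : G)⁻¹ = (y * (s * (y : G)⁻¹ * s⁻¹)) * s := by group
      _ = z := by rw [h5, ← hzx]
  · right
    calc (y : G) * (t * s) * (y : G)⁻¹ = (y * t) * s * (y : G)⁻¹ := by group
      _ = t * ((y * (s * (y : G)⁻¹ * s⁻¹)) * s) := by rw [hyt]; group
      _ = (t * x) * t * s := by rw [h5]; group
      _ = (x * t) * t * s := by rw [comm_t S hx]
      _ = x * (t * t) * s := by group
      _ = z := by rw [htt, mul_one, ← hzx]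

end Chi

end Cfsg.Agent.Co2Type.CosetB
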