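import Cfsg.Agent.Co2Type.CCode
import Cfsg.Agent.Co2Type.ExistsRels

/-!
# `CCode.Data` in the situation of S1675 (R03, helper143)
-/

set_option autoImplicit false

namespace Cfsg.Agent.Co2Type.DataSit

open Cfsg Cfsg.Agent.Co2Type.Setup Cfsg.Agent.Co2Type.QModel Cfsg.Agent.Co2Type.Rels
open Cfsg.Agent.Co2Type.ExistsRels

variable {G : Type*} [Group G] {Q : Subgroup G} {t : G}

/-- the order of `C_G(t)` -/
theorem card_centralizer (S : Sit G Q t) :
    Nat.card (Subgroup.centralizer ({t} : Set G)) = 743178240 := by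
  have h1 := Subgroup.card_eq_card_quotient_mul_card_subgroup S.psi.ker
  have h2 : Nat.card (Subgroup.centralizer ({t} : Set G) ⧸ S.psi.ker) = 1451520 := by
    rw [Nat.card_congr (QuotientGroup.quotientKerEquivOfSurjective S.psi S.psi_surj).toEquiv, card_sp6]
  have h3 : Nat.card S.psi.ker = 2 ^ 9 := by
    rw [← S.card]
    refine Nat.card_congr ⟨fun x => ⟨(x : Subgroup.centralizer ({t} : Set G)),
      (S.psi_ker _).1 x.2⟩, fun y => ⟨⟨y, Subgroup.mem_centralizer_singleton_iff.2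
        (S.large.comm_z y y.2)⟩, (S.psi_ker _).2 y.2⟩, fun x => rfl, fun y => rfl⟩
  rw [h1, h2, h3]; norm_num

/-- `CCode.Data` -/
theorem data (S : Sit G Q t) {ev : QM →* Subgroup.centralizer ({t} : Set G)}
    {D : ℕ → Subgroup.centralizer ({t} : Set G)} (R : Rels false (tc t) ev D)
    (hQ : ∀ x ∈ Q, ∃ y : QM, (ev y : G) = x) : CCode.Data R := by
  refine ⟨card_centralizer S, ?_⟩
  intro c hc
  have h1 : ∀ x ∈ Q, (c : G) * x = x * c := by
    intro x hx
    obtain ⟨y, rfl⟩ := hQ x hx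
    exact congrArg Subtype.val (hc y)
  have h2 : (c : G) ∈ Q := S.large.self c (Subgroup.mem_centralizer_singleton_iff.1 c.2) h1
  obtain ⟨y, hy⟩ := hQ _ h2
  exact ⟨y, Subtype.ext hy⟩

end Cfsg.Agent.Co2Type.DataSit
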