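import Cfsg.Agent.Co2Type.LineMod
import Cfsg.Agent.Co2Type.Code

/-!
# The involution `r = d_0 d_1 d_2` of `Sp6(2)` on the spin module

`K`: elements of `Sp6(2)` commuting with `r` and fixing `w ∈ [V, r]`, `q w = 0`; `|K| ≤ 16`.
-/

set_option autoImplicit false

namespace Cfsg.Agent.Co2Type.DeltaK

open Cfsg Cfsg.Agent.Co2Type.Setup Cfsg.Agent.Co2Type.Spin
open Cfsg.Agent.Co2Type.LineMod Cfsg.Agent.Co2Type.Code
open Cfsg.Agent.SporRec.TwoSp6.Sp (tr act act_om act_add act_mul act_one conj_tr tr_comm tr_sq act_tr act_ext)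
open Cfsg.Agent.SporRec.TwoSp6.Invol (Ind Orth maximal)

/-- the element of type `b3` -/
def r0 : Sp6 := tr (e 0) * tr (e 1) * tr (e 2)

/-- another one -/
def r1 : Sp6 := tr (e 0) * tr (e 0 + e 1) * tr (e 0 + e 2)

theorem ind_e : Ind (e 0) (e 1) (e 2) := by decide +kernel

theorem orth_e : Orth (e 0) (e 1) (e 2) := ⟨sf_e_e 0 1, sf_e_e 0 2, sf_e_e 1 2⟩

theorem ind_e' : Ind (e 0) (e 0 + e 1) (e 0 + e 2) := by decide +kernel

theorem orth_e' : Orth (e 0) (e 0 + e 1) (e 0 + e 2) := by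
  refine ⟨?_, ?_, ?_⟩
  · show sf _ _ = 0
    rw [sf_add, sf_self, sf_e_e, add_zero]
  · show sf _ _ = 0
    rw [sf_add, sf_self, sf_e_e, add_zero]
  · show sf _ _ = 0
    rw [sf_add, sf_add', sf_add', sf_self, sf_e_e, sf_e_e, sf_e_e]; rfl

theorem tr3_sq {a b c : U} (h : Orth a b c) : tr a * tr b * tr c * (tr a * tr b * tr c) = 1 := by
  obtain ⟨h1, h2, h3⟩ := h
  have e1 : tr a * tr b = tr b * tr a := tr_comm h1
  have e2 : tr a * tr c = tr c * tr a := tr_comm h2
  have e3 : tr b * tr c = tr c * tr b := tr_comm h3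
  calc tr a * tr b * tr c * (tr a * tr b * tr c) = tr a * tr b * (tr c * tr a) * tr b * tr c := by group
    _ = tr a * tr b * (tr a * tr c) * tr b * tr c := by rw [e2]
    _ = tr a * (tr b * tr a) * (tr c * tr b) * tr c := by group
    _ = tr a * (tr a * tr b) * (tr b * tr c) * tr c := by rw [e1, e3]
    _ = (tr a * tr a) * (tr b * tr b) * (tr c * tr c) := by group
    _ = 1 := by rw [tr_sq, tr_sq, tr_sq]; group

theorem r0_sq : r0 * r0 = 1 := tr3_sq orth_e

theorem r1_sq : r1 * r1 = 1 := tr3_sq orth_e'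

theorem r1_comm : r1 * r0 = r0 * r1 := by
  have h : ∀ i : Fin 3, r1 * tr (e i) = tr (e i) * r1 := by
    intro i
    have e1 : tr (e 0) * tr (e i) = tr (e i) * tr (e 0) := tr_comm (sf_e_e 0 i)
    have e2 : tr (e 0 + e 1) * tr (e i) = tr (e i) * tr (e 0 + e 1) := by
      apply tr_comm
      show sf _ _ = 0
      rw [sf_add', sf_e_e, sf_e_e, add_zero]
    have e3 : tr (e 0 + e 2) * tr (e i) = tr (e i) * tr (e 0 + e 2) := by
      apply tr_comm
      show sf _ _ = 0
      rw [sf_add', sf_e_e, sf_e_e, add_zero]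
    unfold r1
    calc tr (e 0) * tr (e 0 + e 1) * tr (e 0 + e 2) * tr (e i)
        = tr (e 0) * tr (e 0 + e 1) * (tr (e 0 + e 2) * tr (e i)) := by group
      _ = tr (e 0) * (tr (e 0 + e 1) * tr (e i)) * tr (e 0 + e 2) := by rw [e3]; group
      _ = (tr (e 0) * tr (e i)) * tr (e 0 + e 1) * tr (e 0 + e 2) := by rw [e2]; group
      _ = _ := by rw [e1]; group
  unfold r0
  rw [← mul_assoc, ← mul_assoc, h 0, mul_assoc (tr (e 0)), h 1, ← mul_assoc, mul_assoc _ r1, h 2,
    ← mul_assoc]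

theorem act_r0 (x : U) : act r0 x = x + (sf x (e 0) • e 0 + (sf x (e 1) • e 1 + sf x (e 2) • e 2)) := by
  have hsm : ∀ (a : ZMod 2) (i j : Fin 3), sf (a • e i) (e j) = 0 := by
    intro a i j
    rcases zmod2_cases a with rfl | rfl
    · rw [zero_smul, sf_comm]; exact SporRec.TwoSp6.Invol.om_zero _
    · rw [one_smul, sf_e_e]
  unfold r0
  rw [act_mul, act_mul, act_tr (e 2), act_tr (e 1), act_tr (e 0)]
  change x + sf x (e 2) • e 2 + sf (x + sf x (e 2) • e 2) (e 1) • e 1 +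
    sf (x + sf x (e 2) • e 2 + sf (x + sf x (e 2) • e 2) (e 1) • e 1) (e 0) • e 0 = _
  rw [sf_add', sf_add', sf_add', hsm, hsm, hsm, add_zero, add_zero, add_zero]
  generalize sf x (e 2) • e 2 = A
  generalize sf x (e 1) • e 1 = A'
  generalize sf x (e 0) • e 0 = A''
  abel

theorem r1_ne : r1 ≠ r0 := by
  intro h
  have h1 : act r1 (f 1) = act r0 (f 1) := by rw [h]
  rw [act_r0] at h1
  unfold r1 at h1
  rw [act_mul, act_mul, act_tr, act_tr, act_tr] at h1
  revert h1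
  decide +kernel

section Mod

variable {V : Type*} [AddCommGroup V] [Module (ZMod 2) V]
variable {rho : Sp6 →* (V ≃ₗ[ZMod 2] V)}
variable (hs : SpinHyp rho) (hcard : Nat.card V = 2 ^ 8)
variable {B : Module.Basis (Fin 8) (ZMod 2) V}
variable (hE : ∀ i I, n rho (e i) (B I) = if (I : ℕ).testBit i then 0 else B (I + 2 ^ (i : ℕ)))
variable (hF : ∀ i I, n rho (f i) (B I) = if (I : ℕ).testBit i then B (I - 2 ^ (i : ℕ)) else 0)

/-- `d_i` on codes -/
def T (i c : ℕ) : ℕ := c ^^^ nE i c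

/-- `1 + r0` on codes -/
def Mr (c : ℕ) : ℕ := c ^^^ T 0 (T 1 (T 2 c))

theorem T_lt (i : Fin 3) {c : ℕ} (hc : c < 256) : T i c < 256 := by
  have : ∀ i : Fin 3, ∀ c < 256, T i c < 256 := by decide +kernel
  exact this i c hc

theorem Mr_lt {c : ℕ} (hc : c < 256) : Mr c < 256 := by
  have : ∀ c < 256, Mr c < 256 := by decide +kernel
  exact this c hc

include hE in
theorem rho_tr_enc (i : Fin 3) {c : ℕ} (hc : c < 256) : rho (tr (e i)) (enc B c) = enc B (T i c) := by
  rw [rho_tr, n_e_enc hE i hc, ← enc_xor]; rfl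

include hE in
theorem rho_r0_enc {c : ℕ} (hc : c < 256) : enc B c + rho r0 (enc B c) = enc B (Mr c) := by
  have h1 : rho r0 (enc B c) = rho (tr (e 0)) (rho (tr (e 1)) (rho (tr (e 2)) (enc B c))) := by
    rw [r0, map_mul, map_mul]; rfl
  have h2 := rho_tr_enc hE 2 hc
  have h3 := rho_tr_enc hE 1 (T_lt 2 hc)
  have h4 := rho_tr_enc hE 0 (T_lt 1 (T_lt 2 hc))
  rw [h1, h2]
  erw [h3, h4]
  rw [← enc_xor]; rfl

include hE in
/-- `C_V(r) = [V, r]` -/
theorem exists_of_fixed {v : V} (hv : v + rho r0 v = 0) : ∃ w, v = w + rho r0 w := by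
  obtain ⟨c, hc, rfl⟩ := exists_enc B v
  rw [rho_r0_enc hE hc, ← enc_zero B] at hv
  have h0 := enc_inj B (Mr_lt hc) (by norm_num) hv
  have key : ∀ c < 256, Mr c = 0 → ∃ d < 256, c = Mr d := by decide +kernel
  obtain ⟨d, hd, hcd⟩ := key c hc h0
  exact ⟨enc B d, by rw [rho_r0_enc hE hd, ← hcd]⟩

/-- scalars and `n` -/
theorem n_smul (a : ZMod 2) (u : U) (v : V) : n rho (a • u) v = a • n rho u v := by
  rcases zmod2_cases a with rfl | rfl
  · rw [zero_smul, zero_smul, n_zero]; rfl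
  · rw [one_smul, one_smul]

theorem sf_smul_e (a c : ZMod 2) (i j : Fin 3) : sf (a • e i) (c • e j) = 0 := by
  rcases zmod2_cases a with rfl | rfl
  · rw [zero_smul, sf_comm]; exact SporRec.TwoSp6.Invol.om_zero _
  · rcases zmod2_cases c with rfl | rfl
    · rw [zero_smul]; exact SporRec.TwoSp6.Invol.om_zero _
    · rw [one_smul, one_smul, sf_e_e]

include hs hcard in
theorem n_lin (a b c : ZMod 2) (v : V) : n rho (a • e 0 + b • e 1 + c • e 2) v =
    a • n rho (e 0) v + b • n rho (e 1) v + c • n rho (e 2) v := by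
  rw [n_add_zero hs hcard, n_add_zero hs hcard, n_smul, n_smul, n_smul]
  · exact sf_smul_e _ _ _ _
  · rw [sf_add', sf_smul_e, sf_smul_e, add_zero]

variable {g : Sp6} (h1 : g * r0 = r0 * g) (hw1 : rho g (enc B 40) = enc B 40)
    (hw2 : rho g (enc B 72) = enc B 72) (hw3 : rho g (enc B 128) = enc B 128)

include h1 in
theorem act_e_expand (j : Fin 3) : ∃ a0 a1 a2 : ZMod 2, a0 + a1 + a2 = 1 ∧
    act g (e j) = a0 • e 0 + a1 • e 1 + a2 • e 2 := by
  have k1 : act g (act r0 (f j)) = act r0 (act g (f j)) := by rw [← act_mul, h1, act_mul]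
  rw [act_r0, act_r0] at k1
  have k2 : sf (f j) (e 0) • e 0 + (sf (f j) (e 1) • e 1 + sf (f j) (e 2) • e 2) = e j := by
    fin_cases j <;> decide +kernel
  rw [k2, act_add] at k1
  have k3 := add_left_cancel k1
  refine ⟨sf (act g (f j)) (e 0), sf (act g (f j)) (e 1), sf (act g (f j)) (e 2), ?_, ?_⟩
  · have k4 : sf (act g (f j)) (act g (e j)) = 1 := by
      have k5 : sf (act g (f j)) (act g (e j)) = sf (f j) (e j) := act_om g _ _
      rw [k5, sf_f_e, if_pos rfl]
    rw [k3, sf_add, sf_add] at k4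
    have k6 : ∀ (y : U) (i : Fin 3), sf y (sf y (e i) • e i) = sf y (e i) := by
      intro y i
      rcases zmod2_cases (sf y (e i)) with h | h
      · rw [h, zero_smul]; exact SporRec.TwoSp6.Invol.om_zero _
      · rw [h, one_smul, h]
    rw [k6, k6, k6] at k4
    rw [add_assoc]; exact k4
  · rw [k3, add_assoc]

theorem rho_n' (u : U) (v : V) : rho g (n rho u v) = n rho (act g u) (rho g v) := rho_n g u v

include hs hcard hE h1 hw1 hw2 hw3 in
theorem act_e (j : Fin 3) : act g (e j) = e j := by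
  have c40 : (40 : ℕ) < 256 := by norm_num
  have c72 : (72 : ℕ) < 256 := by norm_num
  obtain ⟨a0, a1, a2, hsum, hexp⟩ := act_e_expand h1 j
  have v0 := rho_n' (rho := rho) (g := g) (e j) (enc B 40)
  have v1 := rho_n' (rho := rho) (g := g) (e j) (enc B 72)
  rw [hw1, hexp, n_lin hs hcard, n_e_enc hE j c40, n_e_enc hE 0 c40, n_e_enc hE 1 c40,
    n_e_enc hE 2 c40] at v0
  rw [hw2, hexp, n_lin hs hcard, n_e_enc hE j c72, n_e_enc hE 0 c72, n_e_enc hE 1 c72,
    n_e_enc hE 2 c72] at v1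
  have m00 : nE ((0 : Fin 3) : ℕ) 40 = 0 := rfl
  have m01 : nE ((1 : Fin 3) : ℕ) 40 = 128 := rfl
  have m02 : nE ((2 : Fin 3) : ℕ) 40 = 128 := rfl
  have m10 : nE ((0 : Fin 3) : ℕ) 72 = 128 := rfl
  have m11 : nE ((1 : Fin 3) : ℕ) 72 = 0 := rfl
  have m12 : nE ((2 : Fin 3) : ℕ) 72 = 128 := rfl
  rw [m00, m01, m02, enc_zero, smul_zero, zero_add] at v0
  rw [m10, m11, m12, enc_zero, smul_zero, add_zero] at v1
  have hne : enc B 128 ≠ 0 := by
    intro h
    rw [← enc_zero B] at h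
    exact absurd (enc_inj B (by norm_num) (by norm_num) h) (by norm_num)
  have hsm : ∀ a b c : ZMod 2, c • enc B 128 = a • enc B 128 + b • enc B 128 → a + b = c := by
    intro a b c h
    rw [← add_smul] at h
    have h0 : (a + b + c) • enc B 128 = 0 := by
      rw [add_smul, ← h]; exact ZModModule.add_self _
    rcases zmod2_cases (a + b + c) with h5 | h5
    · have : ∀ a b c : ZMod 2, a + b + c = 0 → a + b = c := by decide
      exact this a b c h5
    · rw [h5, one_smul] at h0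
      exact absurd h0 hne
  have hg0 : rho g (enc B 0) = 0 := by rw [enc_zero, map_zero]
  obtain ⟨c0, c1, hc0, hc1, hj⟩ : ∃ c0 c1 : ZMod 2, rho g (enc B (nE (j : ℕ) 40)) = c0 • enc B 128 ∧
      rho g (enc B (nE (j : ℕ) 72)) = c1 • enc B 128 ∧
      ((j = 0 ∧ c0 = 0 ∧ c1 = 1) ∨ (j = 1 ∧ c0 = 1 ∧ c1 = 0) ∨ (j = 2 ∧ c0 = 1 ∧ c1 = 1)) := by
    have hj : ∀ j : Fin 3, j = 0 ∨ j = 1 ∨ j = 2 := by decide
    rcases hj j with rfl | rfl | rfl
    · exact ⟨0, 1, by rw [m00, hg0, zero_smul], by rw [m10, hw3, one_smul], Or.inl ⟨rfl, rfl, rfl⟩⟩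
    · exact ⟨1, 0, by rw [m01, hw3, one_smul], by rw [m11, hg0, zero_smul],
        Or.inr (Or.inl ⟨rfl, rfl, rfl⟩)⟩
    · exact ⟨1, 1, by rw [m02, hw3, one_smul], by rw [m12, hw3, one_smul],
        Or.inr (Or.inr ⟨rfl, rfl, rfl⟩)⟩
  rw [hc0] at v0
  rw [hc1] at v1
  have w0 := hsm _ _ _ v0
  have w1 := hsm _ _ _ v1
  have fin : ∀ a0 a1 a2 c0 c1 : ZMod 2, ∀ j : Fin 3, a0 + a1 + a2 = 1 → a1 + a2 = c0 → a0 + a2 = c1 →
      ((j = 0 ∧ c0 = 0 ∧ c1 = 1) ∨ (j = 1 ∧ c0 = 1 ∧ c1 = 0) ∨ (j = 2 ∧ c0 = 1 ∧ c1 = 1)) →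
      a0 = (if j = 0 then 1 else 0) ∧ a1 = (if j = 1 then 1 else 0) ∧ a2 = (if j = 2 then 1 else 0) := by
    decide
  obtain ⟨f0, f1, f2⟩ := fin a0 a1 a2 c0 c1 j hsum w0 w1 hj
  rw [hexp, f0, f1, f2]
  have : ∀ j : Fin 3, (if j = 0 then (1 : ZMod 2) else 0) • e 0 + (if j = 1 then (1 : ZMod 2) else 0) • e 1 +
      (if j = 2 then (1 : ZMod 2) else 0) • e 2 = e j := by decide +kernel
  exact this j

/-- the entries of the symmetric matrix -/
def ent (g : Sp6) (i j : Fin 3) : ZMod 2 := sf (act g (f i)) (f j)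

section

variable (hfix : ∀ j, act g (e j) = e j)
include hfix

theorem act_f (i : Fin 3) : act g (f i) = f i + (ent g i 0 • e 0 + ent g i 1 • e 1 + ent g i 2 • e 2) := by
  have hperp : ∀ j, sf (act g (f i) + f i) (e j) = 0 := by
    intro j
    have h2 : sf (act g (f i)) (act g (e j)) = sf (f i) (e j) := act_om g _ _
    rw [hfix] at h2
    rw [sf_add', h2, zmod2_add_self]
  obtain ⟨α, β, γ, h3⟩ := maximal ind_e orth_e (hperp 0) (hperp 1) (hperp 2)
  have h4 : act g (f i) = f i + (α • e 0 + β • e 1 + γ • e 2) := by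
    rw [← h3, add_comm (act g (f i)), ← add_assoc, ZModModule.add_self, zero_add]
  have hsm : ∀ (a : ZMod 2) (i j : Fin 3), sf (a • e i) (f j) = a * (if i = j then 1 else 0) := by
    intro a i j
    rcases zmod2_cases a with rfl | rfl
    · rw [zero_smul, zero_mul, sf_comm]; exact SporRec.TwoSp6.Invol.om_zero _
    · rw [one_smul, sf_e_f, one_mul]
  have h5 : ∀ j, ent g i j = α * (if (0 : Fin 3) = j then 1 else 0) + β * (if (1 : Fin 3) = j then 1 else 0) +
      γ * (if (2 : Fin 3) = j then 1 else 0) := by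
    intro j
    rw [ent, h4, sf_add', sf_add', sf_add', hsm, hsm, hsm, sf_f_f, zero_add]
  have e0 := h5 0
  have e1 := h5 1
  have e2 := h5 2
  simp at e0 e1 e2
  rw [e0, e1, e2]
  exact h4

theorem ent_symm (i j : Fin 3) : ent g i j = ent g j i := by
  have h1 : sf (act g (f i)) (act g (f j)) = 0 := by
    have : sf (act g (f i)) (act g (f j)) = sf (f i) (f j) := act_om g _ _
    rw [this, sf_f_f]
  have hge : ∀ k, sf (act g (f i)) (e k) = if i = k then 1 else 0 := by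
    intro k
    have h2 : sf (act g (f i)) (act g (e k)) = sf (f i) (e k) := act_om g _ _
    rw [hfix, sf_f_e] at h2
    exact h2
  have hsm : ∀ (a : ZMod 2) (x y : U), sf x (a • y) = a * sf x y := SporRec.TwoSp6.Invol.om_smul
  rw [act_f hfix j, sf_add, sf_add, sf_add, hsm, hsm, hsm, hge, hge, hge] at h1
  have h3 : ent g i j + (ent g j 0 * (if i = 0 then 1 else 0) + ent g j 1 * (if i = 1 then 1 else 0) +
      ent g j 2 * (if i = 2 then 1 else 0)) = 0 := h1
  have h4 : ent g j 0 * (if i = 0 then 1 else 0) + ent g j 1 * (if i = 1 then 1 else 0) +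
      ent g j 2 * (if i = 2 then 1 else 0) = ent g j i := by
    have hj : ∀ j : Fin 3, j = 0 ∨ j = 1 ∨ j = 2 := by decide
    rcases hj i with rfl | rfl | rfl <;> simp
  rw [h4] at h3
  have : ∀ a b : ZMod 2, a + b = 0 → a = b := by decide
  exact this _ _ h3

end

include hs hcard hE hF hw3 in
theorem rho_diag (hfix : ∀ j, act g (e j) = e j) (i : Fin 3) :
    rho g (enc B (nF i 128)) = enc B (nF i 128) + ent g i i • enc B 128 := by
  have c128 : (128 : ℕ) < 256 := by norm_num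
  have h1 := rho_n' (rho := rho) (g := g) (f i) (enc B 128)
  rw [n_f_enc hF i c128, hw3, act_f hfix i, n_add hs hcard] at h1
  rw [h1]
  have h2 : sf (f i) (ent g i 0 • e 0 + ent g i 1 • e 1 + ent g i 2 • e 2) = ent g i i := by
    have hsm : ∀ (a : ZMod 2) (x y : U), sf x (a • y) = a * sf x y := SporRec.TwoSp6.Invol.om_smul
    rw [sf_add, sf_add, hsm, hsm, hsm, sf_f_e, sf_f_e, sf_f_e]
    have hj : ∀ j : Fin 3, j = 0 ∨ j = 1 ∨ j = 2 := by decide
    rcases hj i with rfl | rfl | rfl <;> simp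
  have h3 : ∀ j : Fin 3, n rho (e j) (enc B 128) = 0 := by
    intro j
    rw [n_e_enc hE j c128]
    have : ∀ j : Fin 3, nE j 128 = 0 := by decide
    rw [this, enc_zero]
  rw [h2, LinearMap.add_apply, LinearMap.add_apply, LinearMap.smul_apply, Module.End.one_apply,
    n_f_enc hF i c128, n_lin hs hcard, h3, h3, h3, smul_zero, smul_zero, smul_zero, add_zero, add_zero,
    add_zero]

include hs hcard hE hF hw1 hw2 hw3 in
theorem diag_eq (hfix : ∀ j, act g (e j) = e j) (i : Fin 3) : ent g i i = ent g 0 0 := by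
  have d0 := rho_diag hs hcard hE hF hw3 hfix 0
  have d1 := rho_diag hs hcard hE hF hw3 hfix 1
  have d2 := rho_diag hs hcard hE hF hw3 hfix 2
  have m0 : nF ((0 : Fin 3) : ℕ) 128 = 64 := rfl
  have m1 : nF ((1 : Fin 3) : ℕ) 128 = 32 := rfl
  have m2 : nF ((2 : Fin 3) : ℕ) 128 = 8 := rfl
  rw [m0] at d0; rw [m1] at d1; rw [m2] at d2
  have hne : enc B 128 ≠ 0 := by
    intro h
    rw [← enc_zero B] at h
    exact absurd (enc_inj B (by norm_num) (by norm_num) h) (by norm_num)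
  have x40 : (40 : ℕ) = 8 ^^^ 32 := by decide
  have x72 : (72 : ℕ) = 8 ^^^ 64 := by decide
  rw [x40, enc_xor, map_add, d2, d1] at hw1
  rw [x72, enc_xor, map_add, d2, d0] at hw2
  have hcan : ∀ (x y : V) (a b : ZMod 2), x + a • enc B 128 + (y + b • enc B 128) = x + y → a = b := by
    intro x y a b h
    have h4 : x + y + (a + b) • enc B 128 = x + y := by
      rw [add_smul]
      refine Eq.trans ?_ h
      abel
    have h5 : (a + b) • enc B 128 = 0 := add_eq_left.1 h4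
    rcases zmod2_cases (a + b) with h6 | h6
    · have : ∀ a b : ZMod 2, a + b = 0 → a = b := by decide
      exact this a b h6
    · rw [h6, one_smul] at h5
      exact absurd h5 hne
  have q1 := hcan _ _ _ _ hw1
  have q2 := hcan _ _ _ _ hw2
  have hj : ∀ j : Fin 3, j = 0 ∨ j = 1 ∨ j = 2 := by decide
  rcases hj i with rfl | rfl | rfl
  · rfl
  · exact q1.symm.trans q2
  · exact q2

/-- the group `K` (as a set) -/
def K (rho : Sp6 →* (V ≃ₗ[ZMod 2] V)) (B : Module.Basis (Fin 8) (ZMod 2) V) : Set Sp6 :=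
  {g | g * r0 = r0 * g ∧ rho g (enc B 40) = enc B 40 ∧ rho g (enc B 72) = enc B 72 ∧
    rho g (enc B 128) = enc B 128}

theorem basis_expand (x : U) : x = x (Sum.inl 0) • e 0 + x (Sum.inl 1) • e 1 + x (Sum.inl 2) • e 2 +
    (x (Sum.inr 0) • f 0 + x (Sum.inr 1) • f 1 + x (Sum.inr 2) • f 2) := by
  funext k
  rcases k with k | k <;> fin_cases k <;> simp [e, f]

include hs hcard hE hF in
theorem card_K : (K rho B).ncard ≤ 16 := by
  let φ : K rho B → (Fin 4 → ZMod 2) := fun g =>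
    ![ent g.1 0 0, ent g.1 0 1, ent g.1 0 2, ent g.1 1 2]
  have hφ : Function.Injective φ := by
    rintro ⟨g, g1, g2, g3, g4⟩ ⟨h, h1, h2, h3, h4⟩ hgh
    have a1 : ent g 0 0 = ent h 0 0 := congrFun hgh 0
    have a2 : ent g 0 1 = ent h 0 1 := congrFun hgh 1
    have a3 : ent g 0 2 = ent h 0 2 := congrFun hgh 2
    have a4 : ent g 1 2 = ent h 1 2 := congrFun hgh 3
    have fg := act_e hs hcard hE g1 g2 g3 g4
    have fh := act_e hs hcard hE h1 h2 h3 h4
    have dg := diag_eq hs hcard hE hF g2 g3 g4 fg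
    have dh := diag_eq hs hcard hE hF h2 h3 h4 fh
    have sg := ent_symm fg
    have sh := ent_symm fh
    have hff : ∀ i, act g (f i) = act h (f i) := by
      intro i
      rw [act_f fg, act_f fh]
      have hj : ∀ j : Fin 3, j = 0 ∨ j = 1 ∨ j = 2 := by decide
      rcases hj i with rfl | rfl | rfl
      · rw [a1, a2, a3]
      · rw [sg 1 0, sh 1 0, a2, dg 1, dh 1, a1, a4]
      · rw [sg 2 0, sh 2 0, sg 2 1, sh 2 1, a3, dg 2, dh 2, a1, a4]
    apply Subtype.ext
    apply act_ext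
    intro x
    rw [basis_expand x]
    have hsm := SporRec.TwoSp6.Invol.act_smul
    simp only [act_add, hsm, hff, fg, fh]
  have h := Nat.card_le_card_of_injective φ hφ
  rw [Nat.card_eq_fintype_card (α := Fin 4 → ZMod 2)] at h
  have h2 : Fintype.card (Fin 4 → ZMod 2) = 16 := by simp [ZMod.card]
  rw [h2] at h
  exact h

include hs hcard hE in
theorem rho_tr_sum_enc {i j : Fin 3} (h : sf (e i) (e j) = 0) {c : ℕ} (hc : c < 256) :
    rho (tr (e i + e j)) (enc B c) = enc B (c ^^^ (nE i c ^^^ nE j c)) := by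
  rw [rho_tr, n_add_zero hs hcard h, n_e_enc hE i hc, n_e_enc hE j hc, ← enc_xor, ← enc_xor]

include hs hcard hE in
theorem r1_mem : r1 ∈ K rho B := by
  have key : ∀ c, c = 40 ∨ c = 72 ∨ c = 128 → rho r1 (enc B c) = enc B c := by
    intro c hc
    have h1 : rho r1 (enc B c) = rho (tr (e 0)) (rho (tr (e 0 + e 1)) (rho (tr (e 0 + e 2)) (enc B c))) := by
      rw [r1, map_mul, map_mul]; rfl
    have hlt : c < 256 := by omega
    have k1 : ∀ c < 256, (c ^^^ (nE ((0 : Fin 3) : ℕ) c ^^^ nE ((2 : Fin 3) : ℕ) c)) < 256 := by decide +kernel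
    have k2 : ∀ c < 256, (c ^^^ (nE ((0 : Fin 3) : ℕ) c ^^^ nE ((1 : Fin 3) : ℕ) c)) < 256 := by decide +kernel
    rw [h1, rho_tr_sum_enc hs hcard hE (sf_e_e 0 2) hlt, rho_tr_sum_enc hs hcard hE (sf_e_e 0 1) (k1 c hlt),
      rho_tr_enc hE 0 (k2 _ (k1 c hlt))]
    rcases hc with rfl | rfl | rfl <;> rfl
  exact ⟨r1_comm, key 40 (Or.inl rfl), key 72 (Or.inr (Or.inl rfl)), key 128 (Or.inr (Or.inr rfl))⟩

end Mod

end Cfsg.Agent.Co2Type.DeltaK
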