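import Mathlib
import Cfsg.Agent.ClassicalGeometry.SympBasic
import Cfsg.Agent.S0765

/-!
# Transvections of `Sp6(2)` (R03, Co2 type, piece A1; helper587)

`T u` is the transvection of `Sp6(2)` at `u`, `om` the symplectic form on `W = F_2^6`,
`e i`, `f i` the standard hyperbolic basis.
-/

set_option autoImplicit false

namespace Cfsg.Agent.Co2Type.SympT

open Cfsg.Agent.ClassicalGeometry.SympBasic
open scoped Matrix

abbrev W : Type := Fin 3 ⊕ Fin 3 → ZMod 2
abbrev Sp6 : Type := Matrix.symplecticGroup (Fin 3) (ZMod 2)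

/-- the symplectic form on `W` -/
abbrev om (u v : W) : ZMod 2 := Cfsg.sympForm 3 (ZMod 2) u v

/-- the action of `Sp6(2)` on `W` -/
def ac (g : Sp6) (u : W) : W := (g : Matrix (Fin 3 ⊕ Fin 3) (Fin 3 ⊕ Fin 3) (ZMod 2)) *ᵥ u

/-- the transvection at `u` -/
def T (u : W) : Sp6 := transv u 1

theorem ac_mul (g h : Sp6) (u : W) : ac (g * h) u = ac g (ac h u) := coe_mul_mulVec g h u

theorem ac_one (u : W) : ac 1 u = u := by
  show (1 : Matrix (Fin 3 ⊕ Fin 3) (Fin 3 ⊕ Fin 3) (ZMod 2)) *ᵥ u = u
  exact Matrix.one_mulVec u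

theorem ac_add (g : Sp6) (u v : W) : ac g (u + v) = ac g u + ac g v := Matrix.mulVec_add _ _ _

theorem ac_zero (g : Sp6) : ac g 0 = 0 := Matrix.mulVec_zero _

theorem ac_inj {g : Sp6} {u v : W} (h : ac g u = ac g v) : u = v := by
  have := congrArg (ac g⁻¹) h
  rwa [← ac_mul, ← ac_mul, inv_mul_cancel, ac_one, ac_one] at this

theorem ext_ac {g h : Sp6} (H : ∀ u, ac g u = ac h u) : g = h := by
  apply Subtype.ext
  apply Matrix.mulVec_injective
  funext u
  exact H u

theorem om_ac (g : Sp6) (u v : W) : om (ac g u) (ac g v) = om u v := sympForm_mulVec g.2 u v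

theorem om_add_left (u u' v : W) : om (u + u') v = om u v + om u' v := sympForm_add_left u u' v
theorem om_add_right (u v v' : W) : om u (v + v') = om u v + om u v' := sympForm_add_right u v v'
theorem om_self (u : W) : om u u = 0 := sympForm_self u
theorem om_comm (u v : W) : om u v = om v u := by
  have h := sympForm_swap u v
  have : ∀ a : ZMod 2, -a = a := by decide
  rw [this] at h
  exact h
theorem om_zero_left (u : W) : om 0 u = 0 := sympForm_zero_left u
theorem om_zero_right (u : W) : om u 0 = 0 := sympForm_zero_right u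

theorem zmod2 (a : ZMod 2) : a = 0 ∨ a = 1 := by revert a; decide

theorem w_add_self (u : W) : u + u = 0 := ZModModule.add_self u

theorem ac_T (u x : W) : ac (T u) x = x + om x u • u := by
  show (Cfsg.sympTransvection 3 u 1) *ᵥ x = _
  rw [sympTransvection_mulVec, one_mul]

theorem ac_T_of_zero {u x : W} (h : om x u = 0) : ac (T u) x = x := by
  rw [ac_T, h, zero_smul, add_zero]

theorem ac_T_of_one {u x : W} (h : om x u = 1) : ac (T u) x = x + u := by
  rw [ac_T, h, one_smul]

theorem T_zero : T 0 = 1 := by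
  apply ext_ac
  intro u
  rw [ac_one, ac_T_of_zero (om_zero_right u)]

theorem T_mul_self (u : W) : T u * T u = 1 := by
  apply ext_ac
  intro x
  rw [ac_mul, ac_one]
  rcases zmod2 (om x u) with h | h
  · rw [ac_T_of_zero h, ac_T_of_zero h]
  · rw [ac_T_of_one h, ac_T_of_one (by rw [om_add_left, h, om_self, add_zero]), add_assoc,
      w_add_self, add_zero]

theorem T_inv (u : W) : (T u)⁻¹ = T u := inv_eq_of_mul_eq_one_left (T_mul_self u)

theorem mul_T (g : Sp6) (u : W) : g * T u = T (ac g u) * g := by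
  apply ext_ac
  intro x
  rw [ac_mul, ac_mul, ac_T, ac_T, ac_add, om_ac]
  congr 1
  exact Matrix.mulVec_smul _ _ _

theorem conj_T (g : Sp6) (u : W) : g * T u * g⁻¹ = T (ac g u) := by
  rw [mul_T, mul_inv_cancel_right]

theorem T_inj {u v : W} (h : T u = T v) : u = v := by
  by_contra hne
  -- find x with om x u = 1, om x v = 0 or so
  rcases eq_or_ne u 0 with rfl | hu
  · have hv : v ≠ 0 := fun h0 => hne h0.symm
    obtain ⟨x, hx⟩ : ∃ x, om x v ≠ 0 := by
      by_contra hc
      push Not at hc
      exact hv (eq_zero_of_forall_sympForm_left hc)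
    have h1 : om x v = 1 := (zmod2 _).resolve_left hx
    have h2 := congrArg (fun g => ac g x) h
    simp only [T_zero, ac_one, ac_T_of_one h1] at h2
    exact hv (by simpa using h2.symm)
  · obtain ⟨x, hx⟩ : ∃ x, om x u ≠ 0 := by
      by_contra hc
      push Not at hc
      exact hu (eq_zero_of_forall_sympForm_left hc)
    have h1 : om x u = 1 := (zmod2 _).resolve_left hx
    have h2 := congrArg (fun g => ac g x) h
    simp only [ac_T_of_one h1] at h2
    rcases zmod2 (om x v) with h3 | h3
    · rw [ac_T_of_zero h3] at h2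
      exact hu (by simpa using h2)
    · rw [ac_T_of_one h3] at h2
      exact hne (add_left_cancel h2)

theorem T_ne_one {u : W} (hu : u ≠ 0) : T u ≠ 1 := by
  intro h
  rw [← T_zero] at h
  exact hu (T_inj h)

theorem T_comm {u w : W} (h : om u w = 0) : T u * T w = T w * T u := by
  have h1 := mul_T (T u) w
  rw [ac_T_of_zero (by rw [om_comm]; exact h)] at h1
  exact h1

theorem T_braid {u w : W} (h : om u w = 1) : T u * T w * T u = T (u + w) := by
  have h1 := conj_T (T u) w
  rw [T_inv, ac_T_of_one (by rw [om_comm]; exact h), add_comm w u] at h1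
  exact h1

/-- induction on generation by transvections -/
theorem closure_T : Subgroup.closure (Set.range T) = ⊤ := by
  rw [eq_top_iff, ← Cfsg.Agent.S0765.result (F := ZMod 2) 3, Subgroup.closure_le]
  rintro A ⟨w, c, hA⟩
  rcases zmod2 c with rfl | rfl
  · have : A = 1 := by
      apply Subtype.ext
      rw [hA, sympTransvection_zero]
      rfl
    rw [this]
    exact Subgroup.one_mem _
  · apply Subgroup.subset_closure
    exact ⟨w, Subtype.ext hA.symm⟩

theorem exists_hyperbolic {u w u' w' : W} (h : om u w = 1) (h' : om u' w' = 1) :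
    ∃ g : Sp6, ac g u = u' ∧ ac g w = w' := by
  obtain ⟨A, -, h1, h2⟩ := exists_transvGroup_hyperbolic h h'
  exact ⟨A, h1, h2⟩

theorem exists_transitive {u u' : W} (h : u ≠ 0) (h' : u' ≠ 0) : ∃ g : Sp6, ac g u = u' := by
  obtain ⟨A, -, h1⟩ := exists_transvGroup_mulVec_eq h h'
  exact ⟨A, h1⟩

/-! ### frames -/

/-- hyperbolic frame -/
structure Frame (e f : Fin 3 → W) : Prop where
  ee : ∀ i j, om (e i) (e j) = 0
  ff : ∀ i j, om (f i) (f j) = 0
  ef : ∀ i, om (e i) (f i) = 1
  ef' : ∀ i j, i ≠ j → om (e i) (f j) = 0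

theorem Frame.perm {e f : Fin 3 → W} (h : Frame e f) (s : Equiv.Perm (Fin 3)) :
    Frame (fun i => e (s i)) (fun i => f (s i)) :=
  ⟨fun _ _ => h.ee _ _, fun _ _ => h.ff _ _, fun _ => h.ef _, fun i j hij => h.ef' _ _ fun hs =>
    hij (s.injective hs)⟩

/-- standard frame -/
def e0 (i : Fin 3) : W := Pi.single (Sum.inl i) 1
def f0 (i : Fin 3) : W := Pi.single (Sum.inr i) 1

theorem frame_std : Frame e0 f0 := by
  refine ⟨?_, ?_, ?_, ?_⟩
  · intro i j
    show Cfsg.sympForm 3 (ZMod 2) (Pi.single (Sum.inl i) 1) (Pi.single (Sum.inl j) 1) = 0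
    rw [sympForm_single_inl_left]; simp
  · intro i j
    show Cfsg.sympForm 3 (ZMod 2) (Pi.single (Sum.inr i) 1) (Pi.single (Sum.inr j) 1) = 0
    rw [sympForm_single_inr_left]; simp
  · intro i
    show Cfsg.sympForm 3 (ZMod 2) (Pi.single (Sum.inl i) 1) (Pi.single (Sum.inr i) 1) = 1
    rw [sympForm_single_inl_left]; simp
  · intro i j hij
    show Cfsg.sympForm 3 (ZMod 2) (Pi.single (Sum.inl i) 1) (Pi.single (Sum.inr j) 1) = 0
    rw [sympForm_single_inl_left]
    simp [hij]

/-- the swap of two hyperbolic pairs -/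
theorem Frame.exists_swap {e f : Fin 3 → W} (h : Frame e f) (i j k : Fin 3) (hij : i ≠ j)
    (hik : i ≠ k) (hjk : j ≠ k) :
    ∃ s : Sp6, ac s (e i) = e j ∧ ac s (f i) = f j ∧ ac s (e j) = e i ∧ ac s (f j) = f i ∧
      ac s (e k) = e k ∧ ac s (f k) = f k := by
  have fe : ∀ i j, om (f i) (e j) = om (e j) (f i) := fun i j => om_comm _ _
  have key : ∀ z : W, ac (T (e i + e j) * T (f i + f j) * T ((e i + e j) + (f i + f j))) z =
      z + om z (f i + f j) • (e i + e j) + om z (e i + e j) • (f i + f j) := by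
    intro z
    have hxy : om (e i + e j) (f i + f j) = 0 := by
      rw [om_add_left, om_add_right, om_add_right, h.ef, h.ef, h.ef' _ _ hij, h.ef' _ _ hij.symm]
      decide
    have hyx : om (f i + f j) (e i + e j) = 0 := by rw [om_comm]; exact hxy
    have hxx := om_self (e i + e j)
    have hyy := om_self (f i + f j)
    rw [ac_mul, ac_mul]
    generalize e i + e j = x at *
    generalize f i + f j = y at *
    rcases zmod2 (om z x) with h1 | h1 <;> rcases zmod2 (om z y) with h2 | h2
    · rw [ac_T_of_zero (u := x + y) (by rw [om_add_right, h1, h2, add_zero]), ac_T_of_zero h2,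
        ac_T_of_zero h1, h1, h2]; simp
    · rw [ac_T_of_one (u := x + y) (by rw [om_add_right, h1, h2, zero_add]),
        ac_T_of_one (u := y) (by rw [om_add_left, om_add_left, h2, hxy, hyy]; decide),
        ac_T_of_zero (u := x) (by
          rw [om_add_left, om_add_left, om_add_left, h1, hxx, hyx]; decide), h1, h2]
      rw [one_smul, zero_smul, add_zero, ← add_assoc, add_assoc (z + x), w_add_self, add_zero]
    · rw [ac_T_of_one (u := x + y) (by rw [om_add_right, h1, h2, add_zero]),
        ac_T_of_zero (u := y) (by rw [om_add_left, om_add_left, h2, hxy, hyy]; decide),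
        ac_T_of_one (u := x) (by
          rw [om_add_left, om_add_left, h1, hxx, hyx]; decide), h1, h2]
      rw [one_smul, zero_smul, add_zero, add_comm x y, ← add_assoc, add_assoc (z + y), w_add_self,
        add_zero]
    · rw [ac_T_of_zero (u := x + y) (by rw [om_add_right, h1, h2]; decide), ac_T_of_one h2,
        ac_T_of_one (u := x) (by rw [om_add_left, h1, hyx]; decide), h1, h2]
      rw [one_smul, one_smul]
      abel
  refine ⟨T (e i + e j) * T (f i + f j) * T ((e i + e j) + (f i + f j)), ?_, ?_, ?_, ?_, ?_, ?_⟩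
  all_goals rw [key]
  · rw [om_add_right, om_add_right, h.ef, h.ef' _ _ hij, h.ee, h.ee]
    simp only [add_zero, one_smul, zero_smul]
    rw [← add_assoc, w_add_self, zero_add]
  · rw [om_add_right, om_add_right, h.ff, h.ff, fe, fe, h.ef, h.ef' _ _ hij.symm]
    simp only [add_zero, one_smul, zero_smul]
    rw [← add_assoc, w_add_self, zero_add]
  · rw [om_add_right, om_add_right, h.ef, h.ef' _ _ hij.symm, h.ee, h.ee]
    simp only [add_zero, zero_add, one_smul, zero_smul]
    rw [add_comm (e i), ← add_assoc, w_add_self, zero_add]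
  · rw [om_add_right, om_add_right, h.ff, h.ff, fe, fe, h.ef, h.ef' _ _ hij]
    simp only [add_zero, zero_add, one_smul, zero_smul]
    rw [add_comm (f i), ← add_assoc, w_add_self, zero_add]
  · rw [om_add_right, om_add_right, h.ef' _ _ hik.symm, h.ef' _ _ hjk.symm, h.ee, h.ee]
    simp
  · rw [om_add_right, om_add_right, h.ff, h.ff, fe, fe, h.ef' _ _ hik, h.ef' _ _ hjk]
    simp

end Cfsg.Agent.Co2Type.SympT
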