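import Mathlib
import Cfsg.Agent.Co2Type.SympT

/-!
# The 8-dimensional orthogonal `F_2`-modules of `Sp6(2)` (R03, Co2 type, piece A1; helper587)
-/

set_option autoImplicit false

namespace Cfsg.Agent.Co2Type.Dichotomy

open Cfsg.Agent.Co2Type.SympT

section Basic

theorem three_le {α : Type*} [Finite α] {a b c : α} (h1 : a ≠ b) (h2 : a ≠ c) (h3 : b ≠ c) :
    3 ≤ Nat.card α := by
  classical
  have := Fintype.ofFinite α
  rw [Nat.card_eq_fintype_card]
  have h4 : ({a, b, c} : Finset α).card = 3 := Finset.card_eq_three.2 ⟨a, b, c, h1, h2, h3, rfl⟩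
  rw [← h4]; exact Finset.card_le_univ _

variable {V : Type*} [AddCommGroup V] [Module (ZMod 2) V]

theorem of_one_smul {x y : V} (h : (1 : ZMod 2) • x = (1 : ZMod 2) • y) : x = y := by
  simpa using h

theorem v_add_self (x : V) : x + x = 0 := ZModModule.add_self x

theorem eq_of_add_eq_zero {x y : V} (h : x + y = 0) : x = y := by
  have := congrArg (· + y) h
  simpa [add_assoc, v_add_self] using this

theorem add_eq_zero_of_eq {x y : V} (h : x = y) : x + y = 0 := by rw [h, v_add_self]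

/-- `1 + A + A²` -/
def P (A : V ≃ₗ[ZMod 2] V) (x : V) : V := x + A x + A (A x)

theorem P_zero (A : V ≃ₗ[ZMod 2] V) : P A (0 : V) = 0 := by simp [P]

theorem P_add (A : V ≃ₗ[ZMod 2] V) (x y : V) : P A (x + y) = P A x + P A y := by
  simp only [P, map_add]; abel

theorem P_of_fix {A : V ≃ₗ[ZMod 2] V} {x : V} (h : A x = x) : P A x = x := by
  rw [P, h, h, v_add_self, zero_add]

theorem eq_zero_of_P_fix {A : V ≃ₗ[ZMod 2] V} {x : V} (h : A x = x) (h' : P A x = 0) : x = 0 := by
  rw [P_of_fix h] at h'; exact h'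

theorem fix_P {A : V ≃ₗ[ZMod 2] V} (h3 : ∀ x, A (A (A x)) = x) (x : V) : A (P A x) = P A x := by
  simp only [P, map_add, h3]; abel

theorem P_add_P {A : V ≃ₗ[ZMod 2] V} (h3 : ∀ x, A (A (A x)) = x) (x : V) :
    P A (x + P A x) = 0 := by
  rw [P_add, P_of_fix (fix_P h3 x), v_add_self]

theorem P_comm {A B : V ≃ₗ[ZMod 2] V} (hAB : ∀ x, A (B x) = B (A x)) (x : V) :
    A (P B x) = P B (A x) := by
  simp only [P, map_add, hAB]

/-- kernel of `1 + A + A²` -/
def K (A : V ≃ₗ[ZMod 2] V) : Submodule (ZMod 2) V where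
  carrier := {x | P A x = 0}
  zero_mem' := P_zero A
  add_mem' := by
    intro x y hx hy
    show P A (x + y) = 0
    rw [P_add, show P A x = 0 from hx, show P A y = 0 from hy, add_zero]
  smul_mem' := by
    intro c x hx
    rcases zmod2 c with rfl | rfl
    · rw [zero_smul]; exact P_zero A
    · rw [one_smul]; exact hx

theorem mem_K {A : V ≃ₗ[ZMod 2] V} {x : V} : x ∈ K A ↔ P A x = 0 := Iff.rfl

/-- fixed points -/
def Fx (A : V ≃ₗ[ZMod 2] V) : Submodule (ZMod 2) V where
  carrier := {x | A x = x}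
  zero_mem' := map_zero A
  add_mem' := by
    intro x y hx hy
    show A (x + y) = x + y
    rw [map_add, show A x = x from hx, show A y = y from hy]
  smul_mem' := by
    intro c x hx
    show A (c • x) = c • x
    rw [map_smul, show A x = x from hx]

theorem mem_Fx {A : V ≃ₗ[ZMod 2] V} {x : V} : x ∈ Fx A ↔ A x = x := Iff.rfl

variable [Finite V]

theorem small (M : Submodule (ZMod 2) V) (hM : Nat.card M ≤ 8) (X : Submodule (ZMod 2) V)
    (hX : X ≤ M) (φ : V ≃ₗ[ZMod 2] V) (hφ : ∀ x ∈ X, φ x ∈ M) (hφ' : ∀ x ∈ X, φ x ∈ X → x = 0)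
    (A : V ≃ₗ[ZMod 2] V) (hA : ∀ x ∈ X, A x ∈ X) (hA' : ∀ x ∈ X, A x = x → x = 0) :
    ∀ x ∈ X, x = 0 := by
  intro x hx
  by_contra hne
  have hle : 3 ≤ Nat.card X := by
    have h01 : (0 : X) ≠ ⟨x, hx⟩ := fun h => hne (congrArg Subtype.val h).symm
    have h02 : (0 : X) ≠ ⟨A x, hA x hx⟩ := fun h => hne (by
      have h' : A x = 0 := (congrArg Subtype.val h).symm
      exact (map_eq_zero_iff A A.injective).1 h')
    have h12 : (⟨x, hx⟩ : X) ≠ ⟨A x, hA x hx⟩ := fun h => by
      have h' : A x = x := (congrArg Subtype.val h).symm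
      exact hne (hA' x hx h')
    exact three_le h01 h02 h12
  have hle2 : Nat.card X * Nat.card X ≤ Nat.card M := by
    rw [← Nat.card_prod]
    refine Nat.card_le_card_of_injective
      (fun p : X × X => (⟨p.1 + φ p.2, M.add_mem (hX p.1.2) (hφ _ p.2.2)⟩ : M)) ?_
    rintro ⟨a, b⟩ ⟨a', b'⟩ h
    have h1 : (a : V) + φ b = a' + φ b' := congrArg Subtype.val h
    have h2 : φ ((b : V) - b') = (a' : V) - a := by
      have h3 : φ (b : V) = a' + φ b' - a := by rw [← h1]; abel
      rw [map_sub, h3]; abel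
    have h3 : (b : V) - b' = 0 := by
      refine hφ' _ (X.sub_mem b.2 b'.2) ?_
      rw [h2]
      exact X.sub_mem a'.2 a.2
    have hb : b = b' := Subtype.ext (sub_eq_zero.1 h3)
    subst hb
    have ha : a = a' := Subtype.ext (add_right_cancel h1)
    rw [ha]
  nlinarith

theorem card_four {X : Submodule (ZMod 2) V} (hX : Nat.card X = 4) {c v : V} (hc : c ∈ X)
    (hv : v ∈ X) (hc0 : c ≠ 0) (hv0 : v ≠ 0) (hcv : c ≠ v) :
    ∀ x ∈ X, x = 0 ∨ x = c ∨ x = v ∨ x = c + v := by
  classical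
  have := Fintype.ofFinite X
  have hcv' : c + v ∈ X := X.add_mem hc hv
  let s : Finset X := {0, ⟨c, hc⟩, ⟨v, hv⟩, ⟨c + v, hcv'⟩}
  have hs : s.card = 4 := by
    have h1 : (⟨v, hv⟩ : X) ∉ ({⟨c + v, hcv'⟩} : Finset X) := by
      rw [Finset.mem_singleton]
      intro h
      have h' : v = c + v := congrArg Subtype.val h
      exact hc0 (by simpa using h')
    have h2 : (⟨c, hc⟩ : X) ∉ ({⟨v, hv⟩, ⟨c + v, hcv'⟩} : Finset X) := by
      rw [Finset.mem_insert, Finset.mem_singleton]
      rintro (h | h)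
      · exact hcv (congrArg Subtype.val h)
      · have h' : c = c + v := congrArg Subtype.val h
        exact hv0 (by simpa using h')
    have h3 : (0 : X) ∉ ({⟨c, hc⟩, ⟨v, hv⟩, ⟨c + v, hcv'⟩} : Finset X) := by
      rw [Finset.mem_insert, Finset.mem_insert, Finset.mem_singleton]
      rintro (h | h | h)
      · exact hc0 (congrArg Subtype.val h).symm
      · exact hv0 (congrArg Subtype.val h).symm
      · have h' : (0 : V) = c + v := congrArg Subtype.val h
        exact hcv (eq_of_add_eq_zero h'.symm)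
    rw [Finset.card_insert_of_notMem h3, Finset.card_insert_of_notMem h2,
      Finset.card_insert_of_notMem h1, Finset.card_singleton]
  have hs' : s = Finset.univ := by
    apply Finset.eq_univ_of_card
    rw [hs, ← hX, Nat.card_eq_fintype_card]
  intro x hx
  have : (⟨x, hx⟩ : X) ∈ s := by rw [hs']; exact Finset.mem_univ _
  simp only [s, Finset.mem_insert, Finset.mem_singleton] at this
  rcases this with h | h | h | h
  · left; exact congrArg Subtype.val h
  · right; left; exact congrArg Subtype.val h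
  · right; right; left; exact congrArg Subtype.val h
  · right; right; right; exact congrArg Subtype.val h

/-! ### representations -/

end Basic

/-- faithful orthogonal 8-dimensional representation of `Sp6(2)` -/
structure Rep (V : Type*) [AddCommGroup V] [Module (ZMod 2) V] where
  ρ : Sp6 →* (V ≃ₗ[ZMod 2] V)
  q : V → ZMod 2
  b : LinearMap.BilinForm (ZMod 2) V
  q_add : ∀ x y, q (x + y) = q x + q y + b x y
  nondeg : ∀ x, (∀ y, b x y = 0) → x = 0
  q_inv : ∀ g x, q (ρ g x) = q x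
  inj : Function.Injective ρ
  card : Nat.card V = 256

namespace Rep

variable {V : Type*} [AddCommGroup V] [Module (ZMod 2) V] (R : Rep V)

theorem mul (g h : Sp6) (x : V) : R.ρ (g * h) x = R.ρ g (R.ρ h x) := by
  rw [map_mul]; rfl

theorem one (x : V) : R.ρ 1 x = x := by
  rw [map_one]; rfl

theorem b_inv (g : Sp6) (x y : V) : R.b (R.ρ g x) (R.ρ g y) = R.b x y := by
  have h1 := R.q_add x y
  have h2 := R.q_add (R.ρ g x) (R.ρ g y)
  rw [← map_add, R.q_inv, R.q_inv, R.q_inv, h1] at h2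
  exact (add_left_cancel h2).symm

theorem b_comm (x y : V) : R.b x y = R.b y x := by
  have h1 := R.q_add x y
  have h2 := R.q_add y x
  rw [add_comm y x, h1, add_comm (R.q y)] at h2
  exact add_left_cancel h2

theorem q_zero : R.q 0 = 0 := by
  have h := R.q_add 0 0
  simpa using h

theorem b_self (x : V) : R.b x x = 0 := by
  have h := R.q_add x x
  rw [v_add_self, R.q_zero] at h
  have : ∀ a b : ZMod 2, 0 = a + a + b → b = 0 := by decide
  exact this _ _ h

include R in
theorem finite : Finite V := by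
  have := R.card
  exact (Nat.card_pos_iff.1 (by rw [this]; norm_num)).2

/-- the element `T u * T w` -/
abbrev r (u w : W) : V ≃ₗ[ZMod 2] V := R.ρ (T u * T w)

theorem T_sq (u : W) (x : V) : R.ρ (T u) (R.ρ (T u) x) = x := by
  rw [← R.mul, T_mul_self, R.one]

theorem r_apply (u w : W) (x : V) : R.r u w x = R.ρ (T u) (R.ρ (T w) x) := R.mul _ _ _

theorem r_cube {u w : W} (h : om u w = 1) (x : V) : R.r u w (R.r u w (R.r u w x)) = x := by
  show R.ρ _ (R.ρ _ (R.ρ _ x)) = x
  rw [← R.mul, ← R.mul]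
  have : T u * T w * (T u * T w) * (T u * T w) = 1 := by
    calc T u * T w * (T u * T w) * (T u * T w)
        = (T u * T w * T u) * (T w * T u * T w) := by group
      _ = 1 := by
        rw [T_braid h, T_braid (u := w) (w := u) (by rw [om_comm]; exact h), add_comm w u,
          T_mul_self]
  rw [this, R.one]

theorem T_r {u w : W} (x : V) : R.ρ (T u) (R.r u w x) = R.ρ (T w) x := by
  rw [R.r_apply, R.T_sq]

/-- `d r d = r⁻¹` -/
theorem T_r' {u w : W} (h : om u w = 1) (x : V) :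
    R.ρ (T u) (R.r u w x) = R.r u w (R.r u w (R.ρ (T u) x)) := by
  have h1 : T u * (T u * T w) = (T u * T w) * ((T u * T w) * T u) := by
    calc T u * (T u * T w) = (T u * T u) * T w := by group
      _ = (T u * T w * T u) * (T u * T w * T u) * T w := by
          rw [T_braid h, T_mul_self, T_mul_self]
      _ = (T u * T w) * (T u * T u) * (T w * T u * T w) := by group
      _ = (T u * T w) * ((T u * T w) * T u) := by
          rw [T_mul_self, mul_one, T_braid (u := w) (w := u) (by rw [om_comm]; exact h),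
            add_comm w u, ← T_braid h]
  show R.ρ (T u) (R.ρ (T u * T w) x) = R.ρ (T u * T w) (R.ρ (T u * T w) (R.ρ (T u) x))
  rw [← R.mul, ← R.mul, ← R.mul, h1, mul_assoc (T u * T w)]

theorem comm_apply {g h : Sp6} (hc : g * h = h * g) (x : V) :
    R.ρ g (R.ρ h x) = R.ρ h (R.ρ g x) := by
  rw [← R.mul, ← R.mul, hc]

theorem conj_apply {g h k : Sp6} (hc : g * h = k * g) (x : V) :
    R.ρ g (R.ρ h x) = R.ρ k (R.ρ g x) := by
  rw [← R.mul, ← R.mul, hc]

theorem P_conj {g h k : Sp6} (hc : g * h = k * g) (x : V) :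
    R.ρ g (P (R.ρ h) x) = P (R.ρ k) (R.ρ g x) := by
  simp only [P, map_add, R.conj_apply hc]

/-- `g T(u) T(w) g⁻¹ = T(gu) T(gw)` -/
theorem mul_r (g : Sp6) (u w : W) : g * (T u * T w) = (T (ac g u) * T (ac g w)) * g := by
  rw [← mul_assoc, mul_T g u, mul_assoc, mul_T g w, mul_assoc]

theorem mem_K_conj {u w : W} (g : Sp6) {x : V} (hx : x ∈ K (R.r u w)) :
    R.ρ g x ∈ K (R.r (ac g u) (ac g w)) := by
  rw [mem_K] at hx ⊢
  rw [← R.P_conj (mul_r g u w), hx, map_zero]

/-- vectors of `K` fixed by `T u` -/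
def M (u w : W) : Submodule (ZMod 2) V := K (R.r u w) ⊓ Fx (R.ρ (T u))

theorem mem_M {u w : W} {x : V} :
    x ∈ R.M u w ↔ P (R.r u w) x = 0 ∧ R.ρ (T u) x = x := Iff.rfl

theorem M_decomp {u w : W} (h : om u w = 1) {x : V} (hx : x ∈ K (R.r u w)) :
    x + R.ρ (T u) x ∈ R.M u w ∧
      x + R.r u w x + R.r u w (R.ρ (T u) x) ∈ R.M u w ∧
      x = (x + R.r u w x + R.r u w (R.ρ (T u) x)) + R.r u w (x + R.ρ (T u) x) := by
  have hP : P (R.r u w) x = 0 := hx
  have hPd : P (R.r u w) (R.ρ (T u) x) = 0 := by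
    have h1 := R.r_cube h
    have h2 : R.ρ (T u) (P (R.r u w) x) = P (R.r u w) (R.ρ (T u) x) := by
      simp only [P, map_add, R.T_r' h, h1]
      abel
    rw [← h2, hP, map_zero]
  have hPr : ∀ y, P (R.r u w) y = 0 → P (R.r u w) (R.r u w y) = 0 := by
    intro y hy
    have : P (R.r u w) (R.r u w y) = R.r u w (P (R.r u w) y) := by
      simp only [P, map_add]
    rw [this, hy, map_zero]
  refine ⟨⟨?_, ?_⟩, ⟨?_, ?_⟩, ?_⟩
  · show P _ _ = 0
    rw [P_add, hP, hPd, add_zero]
  · show R.ρ (T u) _ = _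
    rw [map_add, R.T_sq, add_comm]
  · show P _ _ = 0
    rw [P_add, P_add, hP, hPr _ hP, hPr _ hPd]; simp
  · show R.ρ (T u) _ = _
    rw [map_add, map_add, R.T_r' h, R.T_r' h, R.T_sq]
    have h1 : R.r u w (R.r u w x) = x + R.r u w x := by
      apply eq_of_add_eq_zero
      rw [← hP, P]; abel
    have h2 : R.r u w (R.r u w (R.ρ (T u) x)) = R.ρ (T u) x + R.r u w (R.ρ (T u) x) := by
      apply eq_of_add_eq_zero
      rw [← hPd, P]; abel
    rw [h1, h2]
    apply of_one_smul
    match_scalars <;> decide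
  · rw [map_add]
    apply of_one_smul
    match_scalars <;> decide

theorem card_pow (X : Submodule (ZMod 2) V) [Finite V] : ∃ n, Nat.card X = 2 ^ n := by
  have : Module.Finite (ZMod 2) X := Module.Finite.of_finite
  refine ⟨Module.finrank (ZMod 2) X, ?_⟩
  have h := Module.natCard_eq_pow_finrank (K := ZMod 2) (V := X)
  rwa [Nat.card_zmod] at h

theorem card_M_sq [Finite V] {u w : W} (h : om u w = 1) :
    Nat.card (R.M u w) * Nat.card (R.M u w) ≤ Nat.card (K (R.r u w)) := by
  rw [← Nat.card_prod]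
  have h3 := R.r_cube h
  have hmem : ∀ x ∈ R.M u w, R.r u w x ∈ K (R.r u w) := by
    intro x hx
    show P _ _ = 0
    have : P (R.r u w) (R.r u w x) = R.r u w (P (R.r u w) x) := by
      simp only [P, map_add]
    rw [this, show P (R.r u w) x = 0 from hx.1, map_zero]
  refine Nat.card_le_card_of_injective
    (fun p : R.M u w × R.M u w =>
      (⟨p.1 + R.r u w p.2, (K (R.r u w)).add_mem p.1.2.1 (hmem _ p.2.2)⟩ : K (R.r u w))) ?_
  have key : ∀ x ∈ R.M u w, ∀ y ∈ R.M u w, x + R.r u w y = 0 → x = 0 ∧ y = 0 := by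
    intro x hx y hy hxy
    have h1 : x = R.r u w y := eq_of_add_eq_zero hxy
    have h2 : R.r u w y = R.r u w (R.r u w y) := by
      have h4 : R.ρ (T u) x = R.ρ (T u) (R.r u w y) := by rw [h1]
      rw [R.T_r' h, show R.ρ (T u) x = x from hx.2, show R.ρ (T u) y = y from hy.2, h1] at h4
      exact h4
    have h5 : R.r u w y = y := ((R.r u w).injective h2).symm
    have hy0 : y = 0 := eq_zero_of_P_fix h5 hy.1
    refine ⟨?_, hy0⟩
    rw [h1, hy0, map_zero]
  rintro ⟨a, b⟩ ⟨a', b'⟩ hab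
  have h1 : (a : V) + R.r u w b = a' + R.r u w b' := congrArg Subtype.val hab
  have h2 := key (a + a') ((R.M u w).add_mem a.2 a'.2) (b + b') ((R.M u w).add_mem b.2 b'.2) (by
    rw [map_add]
    have : (a : V) + a' + (R.r u w b + R.r u w b') = (a + R.r u w b) + (a' + R.r u w b') := by abel
    rw [this, h1, v_add_self])
  have ha : a = a' := Subtype.ext (eq_of_add_eq_zero h2.1)
  have hb : b = b' := Subtype.ext (eq_of_add_eq_zero h2.2)
  rw [ha, hb]

theorem card_M_le [Finite V] {u w : W} (h : om u w = 1) (hK : Nat.card (K (R.r u w)) < 256) :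
    Nat.card (R.M u w) ≤ 8 := by
  have h1 := R.card_M_sq h
  obtain ⟨n, hn⟩ := card_pow (R.M u w)
  rw [hn] at h1 ⊢
  have h2 : 2 ^ n * 2 ^ n < 256 := lt_of_le_of_lt h1 hK
  have : n < 4 := by
    by_contra hc
    have : 2 ^ 4 ≤ 2 ^ n := Nat.pow_le_pow_right (by norm_num) (by omega)
    nlinarith
  calc 2 ^ n ≤ 2 ^ 3 := Nat.pow_le_pow_right (by norm_num) (by omega)
    _ = 8 := by norm_num

/-- an element fixing `M` pointwise and commuting with `r` fixes `K` pointwise -/
theorem fix_K {u w : W} (h : om u w = 1) (A : V ≃ₗ[ZMod 2] V)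
    (hA : ∀ x, A (R.r u w x) = R.r u w (A x)) (hM : ∀ x ∈ R.M u w, A x = x) :
    ∀ x ∈ K (R.r u w), A x = x := by
  intro x hx
  obtain ⟨h1, h2, h3⟩ := R.M_decomp h hx
  rw [h3, map_add, hM _ h2, hA, hM _ h1]

theorem comm_T_of_ac {g : Sp6} {u : W} (h : ac g u = u) : g * T u = T u * g := by
  rw [mul_T, h]

theorem comm_r_of_ac {g : Sp6} {u w : W} (h : ac g u = u) (h' : ac g w = w) :
    g * (T u * T w) = (T u * T w) * g := by
  rw [mul_r, h, h']

theorem M_inv {u w : W} {g : Sp6} (h : ac g u = u) (h' : ac g w = w) {x : V}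
    (hx : x ∈ R.M u w) : R.ρ g x ∈ R.M u w := by
  refine ⟨?_, ?_⟩
  · have := R.mem_K_conj g hx.1
    rwa [h, h'] at this
  · show R.ρ (T u) (R.ρ g x) = R.ρ g x
    rw [← R.comm_apply (comm_T_of_ac h), show R.ρ (T u) x = x from hx.2]

theorem main_identity {A B : V ≃ₗ[ZMod 2] V} (hA3 : ∀ x, A (A (A x)) = x)
    (hBA : ∀ x, B (A x) = A (B x)) {x : V} (h1 : P A x = 0)
    (h2 : P B x = 0) (h3 : P (A * B) x = 0) (h4 : P (A * A * B) x = 0) : x = 0 := by
  have h5 : P A (P B x) = 0 := by rw [h2, P_zero]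
  have e : x = P A x + P B x + P (A * B) x + P (A * A * B) x + P A (P B x) := by
    simp only [P, LinearEquiv.mul_apply, map_add, hBA, hA3]
    apply of_one_smul
    match_scalars <;> decide
  rw [e, h1, h2, h3, h4, P_zero]
  simp

theorem r_trivial [Finite V] {e f : Fin 3 → W} (hF : Frame e f)
    (hK : Nat.card (K (R.r (e 0) (f 0))) < 256) :
    ∀ x ∈ K (R.r (e 0) (f 0)), R.r (e 1) (f 1) x = x := by
  have hM := R.card_M_le (hF.ef 0) hK
  obtain ⟨s, s1, s2, s3, s4, s5, s6⟩ := hF.exists_swap 1 2 0 (by decide) (by decide) (by decide)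
  have fe : ∀ i j, i ≠ j → om (f i) (e j) = 0 := fun i j hij => by
    rw [om_comm]; exact hF.ef' _ _ hij.symm
  set A := R.r (e 1) (f 1) with hAdef
  set B := R.r (e 2) (f 2) with hBdef
  have hA3 : ∀ x, A (A (A x)) = x := R.r_cube (hF.ef 1)
  have hB3 : ∀ x, B (B (B x)) = x := R.r_cube (hF.ef 2)
  -- fixing vectors
  have acT : ∀ (u v : W), om v u = 0 → ac (T u) v = v := fun u v h => ac_T_of_zero h
  have ac1 : ∀ j, j ≠ 1 → ac (T (e 1) * T (f 1)) (e j) = e j := by
    intro j hj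
    rw [ac_mul, acT _ _ (hF.ef' _ _ hj), acT _ _ (hF.ee _ _)]
  have ac1' : ∀ j, j ≠ 1 → ac (T (e 1) * T (f 1)) (f j) = f j := by
    intro j hj
    rw [ac_mul, acT _ _ (hF.ff _ _), acT _ _ (fe _ _ hj)]
  have ac2 : ∀ j, j ≠ 2 → ac (T (e 2) * T (f 2)) (e j) = e j := by
    intro j hj
    rw [ac_mul, acT _ _ (hF.ef' _ _ hj), acT _ _ (hF.ee _ _)]
  have ac2' : ∀ j, j ≠ 2 → ac (T (e 2) * T (f 2)) (f j) = f j := by
    intro j hj
    rw [ac_mul, acT _ _ (hF.ff _ _), acT _ _ (fe _ _ hj)]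
  have hBA : ∀ x, B (A x) = A (B x) := by
    intro x
    exact R.comm_apply (comm_r_of_ac (ac2 1 (by decide)) (ac2' 1 (by decide))) x
  have hMA : ∀ x ∈ R.M (e 0) (f 0), A x ∈ R.M (e 0) (f 0) := fun x hx =>
    R.M_inv (ac1 0 (by decide)) (ac1' 0 (by decide)) hx
  have hMB : ∀ x ∈ R.M (e 0) (f 0), B x ∈ R.M (e 0) (f 0) := fun x hx =>
    R.M_inv (ac2 0 (by decide)) (ac2' 0 (by decide)) hx
  -- s
  have hsA : ∀ x, R.ρ s (A x) = B (R.ρ s x) := by
    intro x
    refine R.conj_apply ?_ x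
    rw [mul_r, s1, s2]
  -- X1
  have hX1 : ∀ x ∈ (R.M (e 0) (f 0) ⊓ Fx B ⊓ K A : Submodule (ZMod 2) V), x = 0 := by
    refine small (R.M (e 0) (f 0)) hM _ (fun x hx => hx.1.1) (R.ρ s) ?_ ?_ A ?_ ?_
    · intro x hx
      exact R.M_inv s5 s6 hx.1.1
    · intro x hx hx'
      have h1 : B (R.ρ s x) = R.ρ s x := hx'.1.2
      rw [← hsA] at h1
      exact eq_zero_of_P_fix ((R.ρ s).injective h1) hx.2
    · intro x hx
      refine ⟨⟨hMA _ hx.1.1, ?_⟩, ?_⟩
      · show B (A x) = A x
        rw [hBA, show B x = x from hx.1.2]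
      · show P A (A x) = 0
        have : P A (A x) = A (P A x) := by simp only [P, map_add]
        rw [this, show P A x = 0 from hx.2, map_zero]
    · intro x hx h
      exact eq_zero_of_P_fix h hx.2
  -- t
  have ht1 : ac (T (e 1)) (e 0) = e 0 := acT _ _ (hF.ee _ _)
  have ht2 : ac (T (e 1)) (f 0) = f 0 := acT _ _ (fe _ _ (by decide))
  have htB : ∀ x, R.ρ (T (e 1)) (B x) = B (R.ρ (T (e 1)) x) := by
    intro x
    exact R.comm_apply (comm_r_of_ac (acT _ _ (hF.ee _ _)) (acT _ _ (fe _ _ (by decide)))) x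
  have htA : ∀ x, R.ρ (T (e 1)) (A x) = A (A (R.ρ (T (e 1)) x)) := R.T_r' (hF.ef 1)
  have hX2 : ∀ x ∈ (R.M (e 0) (f 0) ⊓ Fx (A * B) ⊓ K A : Submodule (ZMod 2) V), x = 0 := by
    refine small (R.M (e 0) (f 0)) hM _ (fun x hx => hx.1.1) (R.ρ (T (e 1))) ?_ ?_ A ?_ ?_
    · intro x hx
      exact R.M_inv ht1 ht2 hx.1.1
    · intro x hx hx'
      have h1 : A (B (R.ρ (T (e 1)) x)) = R.ρ (T (e 1)) x := hx'.1.2
      have h2 : A (B x) = x := hx.1.2
      have h3 : R.ρ (T (e 1)) (A x) = R.ρ (T (e 1)) x := by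
        calc R.ρ (T (e 1)) (A x) = R.ρ (T (e 1)) (A (A (B x))) := by rw [h2]
          _ = A (A (A (A (R.ρ (T (e 1)) (B x))))) := by rw [htA, htA]
          _ = A (B (R.ρ (T (e 1)) x)) := by rw [hA3, htB]
          _ = _ := h1
      exact eq_zero_of_P_fix ((R.ρ (T (e 1))).injective h3) hx.2
    · intro x hx
      refine ⟨⟨hMA _ hx.1.1, ?_⟩, ?_⟩
      · show A (B (A x)) = A x
        rw [hBA, show A (B x) = x from hx.1.2]
      · show P A (A x) = 0
        have : P A (A x) = A (P A x) := by simp only [P, map_add]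
        rw [this, show P A x = 0 from hx.2, map_zero]
    · intro x hx h
      exact eq_zero_of_P_fix h hx.2
  apply R.fix_K (hF.ef 0) A
  · intro x
    exact R.comm_apply (comm_r_of_ac (ac1 0 (by decide)) (ac1' 0 (by decide))) x
  · intro x hx
    have hP : ∀ C : V ≃ₗ[ZMod 2] V, (∀ y ∈ R.M (e 0) (f 0), C y ∈ R.M (e 0) (f 0)) →
        ∀ y ∈ R.M (e 0) (f 0), P C y ∈ R.M (e 0) (f 0) := by
      intro C hC y hy
      exact Submodule.add_mem _ (Submodule.add_mem _ hy (hC _ hy)) (hC _ (hC _ hy))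
    have hx1M : x + P A x ∈ R.M (e 0) (f 0) := Submodule.add_mem _ hx (hP A hMA x hx)
    have hPA : P A (x + P A x) = 0 := P_add_P hA3 x
    generalize hx1 : x + P A x = x1 at hx1M hPA
    have hAP : ∀ (C : V ≃ₗ[ZMod 2] V), (∀ y, A (C y) = C (A y)) → ∀ y, P A y = 0 →
        P A (P C y) = 0 := by
      intro C hC y hy
      have : P A (P C y) = P C (P A y) := by
        show P C y + A (P C y) + A (A (P C y)) = P C (y + A y + A (A y))
        rw [P_comm hC, P_comm hC, P_add, P_add]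
      rw [this, hy, P_zero]
    have y1 : P B x1 = 0 := by
      refine hX1 _ ⟨⟨hP B hMB _ hx1M, fix_P hB3 x1⟩, hAP B (fun y => (hBA y).symm) _ hPA⟩
    have hABM : ∀ y ∈ R.M (e 0) (f 0), (A * B) y ∈ R.M (e 0) (f 0) := fun y hy => hMA _ (hMB _ hy)
    have hAABM : ∀ y ∈ R.M (e 0) (f 0), (A * A * B) y ∈ R.M (e 0) (f 0) := fun y hy =>
      hMA _ (hMA _ (hMB _ hy))
    have hAB3 : ∀ y, (A * B) ((A * B) ((A * B) y)) = y := by
      intro y
      simp only [LinearEquiv.mul_apply, hBA, hA3, hB3]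
    have hAAB3 : ∀ y, (A * A * B) ((A * A * B) ((A * A * B) y)) = y := by
      intro y
      simp only [LinearEquiv.mul_apply, hBA, hA3, hB3]
    have y2 : P (A * B) x1 = 0 := by
      refine hX2 _ ⟨⟨hP _ hABM _ hx1M, fix_P hAB3 x1⟩, hAP _ (fun y => ?_) _ hPA⟩
      simp only [LinearEquiv.mul_apply, hBA]
    have y3 : P (A * A * B) x1 = 0 := by
      have hc : ∀ y, R.ρ (T (e 1)) ((A * A * B) y) = (A * B) (R.ρ (T (e 1)) y) := by
        intro y
        simp only [LinearEquiv.mul_apply, htA, htB, hA3]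
      have hPc : R.ρ (T (e 1)) (P (A * A * B) x1) = P (A * B) (R.ρ (T (e 1)) x1) := by
        simp only [P, map_add, hc]
      have h0 : R.ρ (T (e 1)) (P (A * A * B) x1) = 0 := by
        refine hX2 _ ⟨⟨R.M_inv ht1 ht2 (hP _ hAABM _ hx1M), ?_⟩, ?_⟩
        · rw [hPc]; exact fix_P hAB3 _
        · rw [hPc]
          show P A _ = 0
          apply hAP
          · intro y
            simp only [LinearEquiv.mul_apply, hBA]
          · have : P A (R.ρ (T (e 1)) x1) = R.ρ (T (e 1)) (P A x1) := by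
              simp only [P, map_add, htA, hA3]; abel
            rw [this, hPA, map_zero]
      exact (map_eq_zero_iff _ (R.ρ (T (e 1))).injective).1 h0
    have h0 : x1 = 0 := main_identity hA3 hBA hPA y1 y2 y3
    rw [h0] at hx1
    have h1 : P A x = x := (eq_of_add_eq_zero hx1).symm
    rw [← h1]; exact fix_P hA3 x

theorem r_trivial' [Finite V] {e f : Fin 3 → W} (hF : Frame e f)
    (hK : ∀ u w, om u w = 1 → Nat.card (K (R.r u w)) < 256) {i j : Fin 3} (hij : i ≠ j) :
    ∀ x ∈ K (R.r (e i) (f i)), R.r (e j) (f j) x = x := by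
  have hσ : ∀ i j : Fin 3, i ≠ j → ∃ σ : Equiv.Perm (Fin 3), σ 0 = i ∧ σ 1 = j := by decide
  obtain ⟨σ, h0, h1⟩ := hσ i j hij
  have h := R.r_trivial (hF.perm σ) (hK _ _ ((hF.perm σ).ef 0))
  simpa only [h0, h1] using h

theorem card_K_le [Finite V] {u w u' w' : W} (h : om u w = 1) (h' : om u' w' = 1) :
    Nat.card (K (R.r u w)) ≤ Nat.card (K (R.r u' w')) := by
  obtain ⟨g, h1, h2⟩ := exists_hyperbolic h h'
  refine Nat.card_le_card_of_injective
    (fun x : K (R.r u w) => (⟨R.ρ g x, by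
      have := R.mem_K_conj g x.2
      rwa [h1, h2] at this⟩ : K (R.r u' w'))) ?_
  intro x y hxy
  exact Subtype.ext ((R.ρ g).injective (congrArg Subtype.val hxy))

theorem card_K_eq [Finite V] {u w u' w' : W} (h : om u w = 1) (h' : om u' w' = 1) :
    Nat.card (K (R.r u w)) = Nat.card (K (R.r u' w')) :=
  le_antisymm (R.card_K_le h h') (R.card_K_le h' h)

/-- the spin alternative -/
def Spin : Prop := ∀ u w, om u w = 1 → ∀ x,
  R.ρ (T u) x + R.ρ (T w) x + R.ρ (T (u + w)) x = 0

theorem sum_eq {u w : W} (h : om u w = 1) (x : V) :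
    R.ρ (T u) x + R.ρ (T w) x + R.ρ (T (u + w)) x = P (R.r u w) (R.ρ (T u) x) := by
  have h1 : R.ρ (T (u + w)) x = R.r u w (R.ρ (T u) x) := by
    rw [← T_braid h, R.mul]
  have h2 : R.ρ (T w) x = R.r u w (R.r u w (R.ρ (T u) x)) := by
    rw [← R.T_r' h, R.T_r]
  rw [h1, h2, P]; abel

theorem spin_or [Finite V] : R.Spin ∨ ∀ u w, om u w = 1 → Nat.card (K (R.r u w)) < 256 := by
  by_cases hc : ∃ u w, om u w = 1 ∧ ¬ Nat.card (K (R.r u w)) < 256
  · left
    obtain ⟨u, w, h, hcard⟩ := hc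
    intro u' w' h'
    have h1 : Nat.card (K (R.r u' w')) = Nat.card V := by
      have h2 : Nat.card (K (R.r u' w')) ≤ Nat.card V :=
        Nat.card_le_card_of_injective _ Subtype.val_injective
      have h3 := R.card_K_eq h h'
      have h4 := R.card
      omega
    have htop : K (R.r u' w') = ⊤ := by
      have h2 : Nat.card (K (R.r u' w')).toAddSubgroup = Nat.card V := h1
      have h3 := AddSubgroup.eq_top_of_card_eq _ h2
      rw [eq_top_iff]
      intro x _
      have : x ∈ (K (R.r u' w')).toAddSubgroup := by rw [h3]; trivial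
      exact this
    intro x
    rw [R.sum_eq h']
    have : R.ρ (T u') x ∈ K (R.r u' w') := by rw [htop]; trivial
    exact this
  · right
    intro u w h
    by_contra hcon
    exact hc ⟨u, w, h, hcon⟩

/-- non-spin case -/
abbrev NS : Prop := ∀ u w, om u w = 1 → Nat.card (K (R.r u w)) < 256

theorem exists_ne_zero {u w : W} (h : om u w = 1) : ∃ x ∈ K (R.r u w), x ≠ 0 := by
  by_contra hc
  push Not at hc
  have h3 := R.r_cube h
  have h1 : ∀ x, R.r u w x = x := by
    intro x
    have h4 := hc _ (P_add_P h3 x)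
    have h5 : P (R.r u w) x = x := (eq_of_add_eq_zero h4).symm
    rw [← h5]; exact fix_P h3 x
  have h2 : T u * T w = 1 := by
    apply R.inj
    rw [map_one]
    ext x
    exact h1 x
  have h4 : T u = T w := by
    rw [← T_inv w]; exact eq_inv_of_mul_eq_one_left h2
  rw [T_inj h4, om_self] at h
  exact absurd h (by decide)

theorem indep [Finite V] {e f : Fin 3 → W} (hF : Frame e f) (hns : R.NS) {x y z : V}
    (hx : x ∈ K (R.r (e 0) (f 0))) (hy : y ∈ K (R.r (e 1) (f 1)))
    (hz : z ∈ K (R.r (e 2) (f 2))) (hxyz : x + (y + z) = 0) : x = 0 ∧ y = 0 ∧ z = 0 := by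
  have h1 : P (R.r (e 0) (f 0)) (x + (y + z)) = 0 := by rw [hxyz, P_zero]
  rw [P_add, P_add, show P (R.r (e 0) (f 0)) x = 0 from hx, zero_add,
    P_of_fix (R.r_trivial' hF hns (i := 1) (j := 0) (by decide) y hy),
    P_of_fix (R.r_trivial' hF hns (i := 2) (j := 0) (by decide) z hz)] at h1
  have h2 : P (R.r (e 1) (f 1)) (y + z) = 0 := by rw [h1, P_zero]
  rw [P_add, show P (R.r (e 1) (f 1)) y = 0 from hy, zero_add,
    P_of_fix (R.r_trivial' hF hns (i := 2) (j := 1) (by decide) z hz)] at h2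
  rw [h2, add_zero] at h1
  rw [h1, h2, add_zero, add_zero] at hxyz
  exact ⟨hxyz, h1, h2⟩

theorem card_K_prod [Finite V] {e f : Fin 3 → W} (hF : Frame e f) (hns : R.NS) :
    Nat.card (K (R.r (e 0) (f 0))) *
      (Nat.card (K (R.r (e 1) (f 1))) * Nat.card (K (R.r (e 2) (f 2)))) ≤ 256 := by
  rw [← R.card, ← Nat.card_prod, ← Nat.card_prod]
  refine Nat.card_le_card_of_injective (fun p : K (R.r (e 0) (f 0)) ×
    (K (R.r (e 1) (f 1)) × K (R.r (e 2) (f 2))) => (p.1 : V) + (p.2.1 + p.2.2)) ?_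
  rintro ⟨a, b, c⟩ ⟨a', b', c'⟩ hab
  have h1 : (a : V) + (b + c) = a' + (b' + c') := hab
  obtain ⟨k1, k2, k3⟩ := R.indep hF hns (Submodule.add_mem _ a.2 a'.2)
    (Submodule.add_mem _ b.2 b'.2) (Submodule.add_mem _ c.2 c'.2) (by
      have : (a : V) + a' + (b + b' + (c + c')) = (a + (b + c)) + (a' + (b' + c')) := by abel
      rw [this, h1, v_add_self])
  have ha : a = a' := Subtype.ext (eq_of_add_eq_zero k1)
  have hb : b = b' := Subtype.ext (eq_of_add_eq_zero k2)
  have hc : c = c' := Subtype.ext (eq_of_add_eq_zero k3)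
  rw [ha, hb, hc]

theorem r_mem_K {u w : W} {x : V} (hx : x ∈ K (R.r u w)) : R.r u w x ∈ K (R.r u w) := by
  show P _ _ = 0
  have : P (R.r u w) (R.r u w x) = R.r u w (P (R.r u w) x) := by simp only [P, map_add]
  rw [this, show P (R.r u w) x = 0 from hx, map_zero]

theorem three_le_card_K [Finite V] {u w : W} (h : om u w = 1) :
    3 ≤ Nat.card (K (R.r u w)) := by
  obtain ⟨x, hx, hx0⟩ := R.exists_ne_zero h
  have h01 : (0 : K (R.r u w)) ≠ ⟨x, hx⟩ := fun h => hx0 (congrArg Subtype.val h).symm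
  have h02 : (0 : K (R.r u w)) ≠ ⟨R.r u w x, R.r_mem_K hx⟩ := fun h => hx0 (by
    have h' : R.r u w x = 0 := (congrArg Subtype.val h).symm
    exact (map_eq_zero_iff (R.r u w) (R.r u w).injective).1 h')
  have h12 : (⟨x, hx⟩ : K (R.r u w)) ≠ ⟨R.r u w x, R.r_mem_K hx⟩ := fun h => by
    have h' : R.r u w x = x := (congrArg Subtype.val h).symm
    exact hx0 (eq_zero_of_P_fix h' hx)
  exact three_le h01 h02 h12

theorem card_K [Finite V] (hns : R.NS) {u w : W} (h : om u w = 1) :
    Nat.card (K (R.r u w)) = 4 := by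
  have hge := R.three_le_card_K h
  have hle : Nat.card (K (R.r u w)) * (Nat.card (K (R.r u w)) * Nat.card (K (R.r u w))) ≤ 256 :=
    (congrArg₂ (· * ·) (R.card_K_eq h (frame_std.ef 0))
      (congrArg₂ (· * ·) (R.card_K_eq h (frame_std.ef 1))
        (R.card_K_eq h (frame_std.ef 2)))).trans_le (R.card_K_prod frame_std hns)
  obtain ⟨n, hn⟩ := card_pow (K (R.r u w))
  rw [hn] at hge hle ⊢
  have hn2 : 2 ≤ n := by
    by_contra hc
    have : n = 0 ∨ n = 1 := by omega
    rcases this with h | h <;> subst h <;> norm_num at hge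
  have hn3 : n < 3 := by
    by_contra hc
    have : 2 ^ 3 ≤ 2 ^ n := Nat.pow_le_pow_right (by norm_num) (by omega)
    have h8 : 8 * (8 * 8) ≤ 2 ^ n * (2 ^ n * 2 ^ n) := by
      apply Nat.mul_le_mul this (Nat.mul_le_mul this this)
    omega
  have : n = 2 := by omega
  rw [this]; norm_num

theorem orth {u w : W} {x y : V} (hx : x ∈ K (R.r u w)) (hy : R.r u w y = y) :
    R.b x y = 0 := by
  have h1 : R.b (R.r u w x) y = R.b x y := by
    conv_lhs => rw [← hy]
    exact R.b_inv _ _ _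
  have h2 : R.b (R.r u w (R.r u w x)) y = R.b x y := by
    conv_lhs => rw [← hy]
    rw [← h1]
    exact R.b_inv _ _ _
  have h3 : R.b (P (R.r u w) x) y = R.b x y + R.b x y + R.b x y := by
    rw [P, map_add, map_add, LinearMap.add_apply, LinearMap.add_apply, h1, h2]
  rw [show P (R.r u w) x = 0 from hx, map_zero, LinearMap.zero_apply] at h3
  have : ∀ a : ZMod 2, 0 = a + a + a → a = 0 := by decide
  exact this _ h3

theorem exists_root [Finite V] (hns : R.NS) {u w : W} (h : om u w = 1) :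
    ∃ a, a ≠ 0 ∧ R.ρ (T u) a = a ∧ a ∈ K (R.r u w) ∧ (∀ x ∈ R.M u w, x = 0 ∨ x = a) ∧
      (∀ x ∈ K (R.r u w), x = 0 ∨ x = a ∨ x = R.r u w a ∨ x = a + R.r u w a) := by
  have hcard := R.card_K hns h
  have hM := R.card_M_sq h
  rw [hcard] at hM
  obtain ⟨x, hx, hx0⟩ := R.exists_ne_zero h
  obtain ⟨h1, h2, h3⟩ := R.M_decomp h hx
  have hM2 : Nat.card (R.M u w) < 3 := by
    by_contra hc
    nlinarith
  obtain ⟨a, haM, ha0⟩ : ∃ a ∈ R.M u w, a ≠ 0 := by
    by_contra hc
    push Not at hc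
    rw [hc _ h1, hc _ h2, map_zero, add_zero] at h3
    exact hx0 h3
  have hMa : ∀ m ∈ R.M u w, m = 0 ∨ m = a := by
    intro m hm
    by_contra hc
    push Not at hc
    have := three_le (a := (0 : R.M u w)) (b := ⟨a, haM⟩) (c := ⟨m, hm⟩)
      (fun h => ha0 (congrArg Subtype.val h).symm) (fun h => hc.1 (congrArg Subtype.val h).symm)
      (fun h => hc.2 (congrArg Subtype.val h).symm)
    omega
  refine ⟨a, ha0, haM.2, haM.1, hMa, ?_⟩
  intro y hy
  obtain ⟨h1, h2, h3⟩ := R.M_decomp h hy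
  rcases hMa _ h1 with h4 | h4 <;> rcases hMa _ h2 with h5 | h5 <;> rw [h4, h5] at h3
  · left; rw [h3, map_zero, add_zero]
  · right; left; rw [h3, map_zero, add_zero]
  · right; right; left; rw [h3, zero_add]
  · right; right; right; exact h3

theorem root_form [Finite V] {u w : W} (h : om u w = 1) {a : V} (ha0 : a ≠ 0)
    (ha : R.ρ (T u) a = a) (haK : a ∈ K (R.r u w))
    (hK : ∀ x ∈ K (R.r u w), x = 0 ∨ x = a ∨ x = R.r u w a ∨ x = a + R.r u w a) :
    R.q a = 1 ∧ R.b a (R.r u w a) = 1 ∧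
      ∀ x ∈ K (R.r u w), R.ρ (T u) x = x + R.b x a • a := by
  have h3 := R.r_cube h
  have hra : R.r u w (R.r u w a) = a + R.r u w a := by
    apply eq_of_add_eq_zero
    have : P (R.r u w) a = 0 := haK
    rw [← this, P]; abel
  have hq1 : R.q (R.r u w a) = R.q a := R.q_inv _ _
  have hq2 : R.q (a + R.r u w a) = R.q a := by rw [← hra, R.q_inv, hq1]
  have hb : R.b a (R.r u w a) = R.q a := by
    have := R.q_add a (R.r u w a)
    rw [hq1, hq2] at this
    have h4 : ∀ x y : ZMod 2, x = x + x + y → y = x := by decide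
    exact h4 _ _ this
  have hqa : R.q a = 1 := by
    rcases zmod2 (R.q a) with h4 | h4
    · exfalso
      rw [h4] at hb
      apply ha0
      apply R.nondeg
      intro y
      have e : y = (y + P (R.r u w) y) + P (R.r u w) y := by
        rw [add_assoc, v_add_self, add_zero]
      rw [e, map_add, R.orth haK (fix_P h3 y), add_zero]
      have hy : y + P (R.r u w) y ∈ K (R.r u w) := P_add_P h3 y
      rcases hK _ hy with h5 | h5 | h5 | h5 <;> rw [h5]
      · exact map_zero _
      · exact R.b_self a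
      · exact hb
      · rw [map_add, R.b_self, hb, add_zero]
    · exact h4
  rw [hqa] at hb
  refine ⟨hqa, hb, ?_⟩
  have hb' : R.b (R.r u w a) a = 1 := by rw [R.b_comm]; exact hb
  have hdr : R.ρ (T u) (R.r u w a) = a + R.r u w a := by rw [R.T_r' h, ha, hra]
  intro x hx
  rcases hK _ hx with h5 | h5 | h5 | h5 <;> rw [h5]
  · simp
  · rw [ha, R.b_self, zero_smul, add_zero]
  · rw [hdr, hb', one_smul, add_comm]
  · rw [map_add, map_add, LinearMap.add_apply, hb', R.b_self, hdr, ha, zero_add, one_smul]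
    abel

/-- an element fixing `u` and `w` is trivial on `K` -/
theorem fix_K_of_ac [Finite V] (hns : R.NS) {u w : W} (h : om u w = 1) {g : Sp6}
    (h1 : ac g u = u) (h2 : ac g w = w) {x : V} (hx : x ∈ K (R.r u w)) : R.ρ g x = x := by
  obtain ⟨a, ha0, ha1, ha2, hM, -⟩ := R.exists_root hns h
  refine R.fix_K h (R.ρ g) (R.comm_apply (comm_r_of_ac h1 h2)) ?_ x hx
  intro m hm
  rcases hM m hm with h3 | h3
  · rw [h3, map_zero]
  · rw [h3]
    rcases hM _ (R.M_inv h1 h2 (⟨ha2, ha1⟩ : a ∈ R.M u w)) with h4 | h4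
    · exact absurd ((map_eq_zero_iff _ (R.ρ g).injective).1 h4) ha0
    · exact h4

/-! ### the common fixed space of a frame -/

/-- common fixed points of the three elements of order 3 -/
def CF (e f : Fin 3 → W) : Submodule (ZMod 2) V :=
  Fx (R.r (e 0) (f 0)) ⊓ Fx (R.r (e 1) (f 1)) ⊓ Fx (R.r (e 2) (f 2))

theorem mem_CF {e f : Fin 3 → W} {x : V} : x ∈ R.CF e f ↔ ∀ i, R.r (e i) (f i) x = x := by
  constructor
  · intro h i
    fin_cases i
    · exact h.1.1
    · exact h.1.2
    · exact h.2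
  · intro h
    exact ⟨⟨h 0, h 1⟩, h 2⟩

theorem r_comm {e f : Fin 3 → W} (hF : Frame e f) {i j : Fin 3} (hij : i ≠ j) (x : V) :
    R.r (e i) (f i) (R.r (e j) (f j) x) = R.r (e j) (f j) (R.r (e i) (f i) x) := by
  refine R.comm_apply (comm_r_of_ac ?_ ?_) x
  · rw [ac_mul, ac_T_of_zero (hF.ef' _ _ hij.symm), ac_T_of_zero (hF.ee _ _)]
  · rw [ac_mul, ac_T_of_zero (hF.ff _ _), ac_T_of_zero (by rw [om_comm]; exact hF.ef' _ _ hij)]

theorem decomp [Finite V] {e f : Fin 3 → W} (hF : Frame e f) (x : V) :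
    ∃ x0 ∈ K (R.r (e 0) (f 0)), ∃ x1 ∈ K (R.r (e 1) (f 1)), ∃ x2 ∈ K (R.r (e 2) (f 2)),
      ∃ c ∈ R.CF e f, x = x0 + (x1 + (x2 + c)) := by
  have h0 := R.r_cube (hF.ef 0)
  have h1 := R.r_cube (hF.ef 1)
  have h2 := R.r_cube (hF.ef 2)
  refine ⟨x + P (R.r (e 0) (f 0)) x, P_add_P h0 x, P (R.r (e 0) (f 0)) x +
    P (R.r (e 1) (f 1)) (P (R.r (e 0) (f 0)) x), P_add_P h1 _,
    P (R.r (e 1) (f 1)) (P (R.r (e 0) (f 0)) x) +
    P (R.r (e 2) (f 2)) (P (R.r (e 1) (f 1)) (P (R.r (e 0) (f 0)) x)), P_add_P h2 _,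
    P (R.r (e 2) (f 2)) (P (R.r (e 1) (f 1)) (P (R.r (e 0) (f 0)) x)), ?_, ?_⟩
  · rw [R.mem_CF]
    intro i
    fin_cases i
    · show R.r (e 0) (f 0) _ = _
      rw [P_comm (R.r_comm hF (by decide)), P_comm (R.r_comm hF (by decide)), fix_P h0]
    · show R.r (e 1) (f 1) _ = _
      rw [P_comm (R.r_comm hF (by decide)), fix_P h1]
    · exact fix_P h2 _
  · generalize P (R.r (e 2) (f 2)) (P (R.r (e 1) (f 1)) (P (R.r (e 0) (f 0)) x)) = c
    generalize P (R.r (e 1) (f 1)) (P (R.r (e 0) (f 0)) x) = d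
    generalize P (R.r (e 0) (f 0)) x = k
    apply of_one_smul
    match_scalars <;> decide

theorem indep4 [Finite V] {e f : Fin 3 → W} (hF : Frame e f) (hns : R.NS) {x y z c : V}
    (hx : x ∈ K (R.r (e 0) (f 0))) (hy : y ∈ K (R.r (e 1) (f 1)))
    (hz : z ∈ K (R.r (e 2) (f 2))) (hc : c ∈ R.CF e f) (h : x + (y + (z + c)) = 0) :
    x = 0 ∧ y = 0 ∧ z = 0 ∧ c = 0 := by
  rw [R.mem_CF] at hc
  have h1 : P (R.r (e 0) (f 0)) (x + (y + (z + c))) = 0 := by rw [h, P_zero]
  rw [P_add, P_add, P_add, show P (R.r (e 0) (f 0)) x = 0 from hx, zero_add,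
    P_of_fix (R.r_trivial' hF hns (i := 1) (j := 0) (by decide) y hy),
    P_of_fix (R.r_trivial' hF hns (i := 2) (j := 0) (by decide) z hz), P_of_fix (hc 0)] at h1
  have h2 : P (R.r (e 1) (f 1)) (y + (z + c)) = 0 := by rw [h1, P_zero]
  rw [P_add, P_add, show P (R.r (e 1) (f 1)) y = 0 from hy, zero_add,
    P_of_fix (R.r_trivial' hF hns (i := 2) (j := 1) (by decide) z hz), P_of_fix (hc 1)] at h2
  have h3 : P (R.r (e 2) (f 2)) (z + c) = 0 := by rw [h2, P_zero]
  rw [P_add, show P (R.r (e 2) (f 2)) z = 0 from hz, zero_add, P_of_fix (hc 2)] at h3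
  rw [h3, add_zero] at h2
  rw [h2, h3, add_zero, add_zero] at h1
  rw [h1, h2, h3, add_zero, add_zero, add_zero] at h
  exact ⟨h, h1, h2, h3⟩

theorem card_CF [Finite V] {e f : Fin 3 → W} (hF : Frame e f) (hns : R.NS) :
    Nat.card (R.CF e f) = 4 := by
  have hb : Function.Bijective (fun p : K (R.r (e 0) (f 0)) ×
      (K (R.r (e 1) (f 1)) × (K (R.r (e 2) (f 2)) × R.CF e f)) =>
      (p.1 : V) + (p.2.1 + (p.2.2.1 + p.2.2.2))) := by
    constructor
    · rintro ⟨a, b, c, d⟩ ⟨a', b', c', d'⟩ hab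
      have h1 : (a : V) + (b + (c + d)) = a' + (b' + (c' + d')) := hab
      obtain ⟨k1, k2, k3, k4⟩ := R.indep4 hF hns (Submodule.add_mem _ a.2 a'.2)
        (Submodule.add_mem _ b.2 b'.2) (Submodule.add_mem _ c.2 c'.2)
        (Submodule.add_mem _ d.2 d'.2) (by
          have : (a : V) + a' + (b + b' + (c + c' + (d + d'))) =
            (a + (b + (c + d))) + (a' + (b' + (c' + d'))) := by abel
          rw [this, h1, v_add_self])
      have ha : a = a' := Subtype.ext (eq_of_add_eq_zero k1)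
      have hb : b = b' := Subtype.ext (eq_of_add_eq_zero k2)
      have hc : c = c' := Subtype.ext (eq_of_add_eq_zero k3)
      have hd : d = d' := Subtype.ext (eq_of_add_eq_zero k4)
      rw [ha, hb, hc, hd]
    · intro x
      obtain ⟨x0, h0, x1, h1, x2, h2, c, hc, rfl⟩ := R.decomp hF x
      exact ⟨⟨⟨x0, h0⟩, ⟨x1, h1⟩, ⟨x2, h2⟩, ⟨c, hc⟩⟩, rfl⟩
  have h := Nat.card_congr (Equiv.ofBijective _ hb)
  rw [Nat.card_prod, Nat.card_prod, Nat.card_prod, R.card, R.card_K hns (hF.ef 0),
    R.card_K hns (hF.ef 1), R.card_K hns (hF.ef 2)] at h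
  omega

theorem CF_T_e [Finite V] {e f : Fin 3 → W} (hF : Frame e f) (i : Fin 3) {x : V}
    (hx : x ∈ R.CF e f) : R.ρ (T (e i)) x ∈ R.CF e f := by
  rw [R.mem_CF] at hx ⊢
  intro j
  by_cases hij : i = j
  · subst hij
    have h1 := R.T_r' (hF.ef i) x
    rw [hx i] at h1
    have h2 := R.r_cube (hF.ef i) (R.ρ (T (e i)) x)
    rw [← h1] at h2
    exact h2
  · have h1 : T (e i) * (T (e j) * T (f j)) = (T (e j) * T (f j)) * T (e i) :=
      comm_r_of_ac (ac_T_of_zero (hF.ee _ _))
        (ac_T_of_zero (by rw [om_comm]; exact hF.ef' _ _ hij))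
    have h2 := R.comm_apply h1 x
    have h3 : R.ρ (T (e j) * T (f j)) x = x := hx j
    rw [h3] at h2
    exact h2.symm

theorem T_f_eq {e f : Fin 3 → W} (i : Fin 3) {x : V} (hx : x ∈ R.CF e f) :
    R.ρ (T (f i)) x = R.ρ (T (e i)) x := by
  rw [R.mem_CF] at hx
  have h1 := R.T_r (u := e i) (w := f i) x
  rw [hx i] at h1
  exact h1.symm

theorem CF_nondeg [Finite V] {e f : Fin 3 → W} (hF : Frame e f) {v : V} (hv : v ∈ R.CF e f)
    (h : ∀ x ∈ R.CF e f, R.b v x = 0) : v = 0 := by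
  apply R.nondeg
  intro y
  obtain ⟨x0, h0, x1, h1, x2, h2, c, hc, rfl⟩ := R.decomp hF y
  have hv' := R.mem_CF.1 hv
  rw [map_add, map_add, map_add, R.b_comm v x0, R.b_comm v x1, R.b_comm v x2,
    R.orth h0 (hv' 0), R.orth h1 (hv' 1), R.orth h2 (hv' 2), h c hc]
  simp

theorem four (C : Submodule (ZMod 2) V) [Finite V] (hC : Nat.card C = 4)
    (hnd : ∀ v ∈ C, (∀ x ∈ C, R.b v x = 0) → v = 0) (g : Sp6)
    (hg : ∀ x ∈ C, R.ρ g x ∈ C) (hg2 : ∀ x, R.ρ g (R.ρ g x) = x) :
    (∀ x ∈ C, R.ρ g x = x) ∨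
      ∃ v ∈ C, R.q v = 1 ∧ R.ρ g v = v ∧ ∀ x ∈ C, R.ρ g x = x + R.b x v • v := by
  by_cases htriv : ∀ x ∈ C, R.ρ g x = x
  · exact Or.inl htriv
  · right
    push Not at htriv
    obtain ⟨c, hc, hcc⟩ := htriv
    have hvC : c + R.ρ g c ∈ C := C.add_mem hc (hg c hc)
    have hv0 : c + R.ρ g c ≠ 0 := fun h => hcc (eq_of_add_eq_zero h).symm
    have hc0 : c ≠ 0 := by
      intro h; rw [h, map_zero] at hcc; exact hcc rfl
    have hcv : c ≠ c + R.ρ g c := by
      intro h
      have : R.ρ g c = 0 := by simpa using h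
      exact hc0 ((map_eq_zero_iff _ (R.ρ g).injective).1 this)
    have hgv : R.ρ g (c + R.ρ g c) = c + R.ρ g c := by rw [map_add, hg2, add_comm]
    have hqv : R.q (c + R.ρ g c) = R.b c (c + R.ρ g c) := by
      rw [R.q_add, R.q_inv, map_add, R.b_self, zero_add]
      have : ∀ a b : ZMod 2, a + a + b = b := by decide
      exact this _ _
    have h4 := card_four hC hc hvC hc0 hv0 hcv
    have hgc : R.ρ g c = c + (c + R.ρ g c) := by rw [← add_assoc, v_add_self, zero_add]
    generalize hv : c + R.ρ g c = v at *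
    have hcv1 : R.b c v = 1 := by
      rcases zmod2 (R.b c v) with h | h
      · exfalso
        apply hv0
        apply hnd v hvC
        have hvc : R.b v c = 0 := by rw [R.b_comm]; exact h
        intro x hx
        rcases h4 x hx with h5 | h5 | h5 | h5 <;> rw [h5]
        · exact map_zero _
        · exact hvc
        · exact R.b_self v
        · rw [map_add, hvc, R.b_self, add_zero]
      · exact h
    refine ⟨v, hvC, by rw [hqv, hcv1], hgv, ?_⟩
    intro x hx
    rcases h4 x hx with h5 | h5 | h5 | h5 <;> rw [h5]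
    · simp
    · rw [hcv1, one_smul]; exact hgc
    · rw [R.b_self, zero_smul, add_zero]; exact hgv
    · rw [map_add, map_add, LinearMap.add_apply, hcv1, R.b_self, add_zero, one_smul, hgc, hgv]

theorem r_swap {s : Sp6} {u w u' w' : W} (h1 : ac s u = u') (h2 : ac s w = w') {x : V}
    (hx : R.r u w x = x) : R.r u' w' (R.ρ s x) = R.ρ s x := by
  have h3 : s * (T u * T w) = (T u' * T w') * s := by rw [mul_r, h1, h2]
  have h4 := R.conj_apply h3 x
  have h5 : R.ρ (T u * T w) x = x := hx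
  rw [h5] at h4
  exact h4.symm

theorem exists_swap_CF {e f : Fin 3 → W} (hF : Frame e f) {i j : Fin 3} (hij : i ≠ j) :
    ∃ s : Sp6, ac s (e i) = e j ∧ ∀ x ∈ R.CF e f, R.ρ s x ∈ R.CF e f := by
  have hk : ∀ i j : Fin 3, i ≠ j → ∃ k, i ≠ k ∧ j ≠ k ∧ ∀ l, l = i ∨ l = j ∨ l = k := by decide
  obtain ⟨k, hik, hjk, hl⟩ := hk i j hij
  obtain ⟨s, s1, s2, s3, s4, s5, s6⟩ := hF.exists_swap i j k hij hik hjk
  refine ⟨s, s1, ?_⟩
  intro x hx
  rw [R.mem_CF] at hx ⊢
  intro l
  rcases hl l with h | h | h <;> subst h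
  · exact R.r_swap s3 s4 (hx j)
  · exact R.r_swap s1 s2 (hx i)
  · exact R.r_swap s5 s6 (hx l)

theorem CF_cases [Finite V] {e f : Fin 3 → W} (hF : Frame e f) (hns : R.NS) :
    (∀ i, ∀ x ∈ R.CF e f, R.ρ (T (e i)) x = x) ∨
      ∃ v ∈ R.CF e f, R.q v = 1 ∧ ∀ i, ∀ x ∈ R.CF e f, R.ρ (T (e i)) x = x + R.b x v • v := by
  have hcard := R.card_CF hF hns
  have hnd : ∀ v ∈ R.CF e f, (∀ x ∈ R.CF e f, R.b v x = 0) → v = 0 :=
    fun v hv h => R.CF_nondeg hF hv h
  have hfour : ∀ i, (∀ x ∈ R.CF e f, R.ρ (T (e i)) x = x) ∨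
      ∃ v ∈ R.CF e f, R.q v = 1 ∧ R.ρ (T (e i)) v = v ∧
        ∀ x ∈ R.CF e f, R.ρ (T (e i)) x = x + R.b x v • v := fun i =>
    R.four _ hcard hnd _ (fun x hx => R.CF_T_e hF i hx) (R.T_sq _)
  by_cases htriv : ∀ i, ∀ x ∈ R.CF e f, R.ρ (T (e i)) x = x
  · exact Or.inl htriv
  · right
    obtain ⟨i, hi⟩ : ∃ i, ¬ ∀ x ∈ R.CF e f, R.ρ (T (e i)) x = x := by
      by_contra hc
      push Not at hc
      exact htriv hc
    obtain ⟨v, hv, hqv, hvv, hvf⟩ := (hfour i).resolve_left hi
    refine ⟨v, hv, hqv, ?_⟩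
    have q0 : ∀ v, R.q v = 1 → v ≠ 0 := by
      intro v h h0
      rw [h0, R.q_zero] at h
      exact absurd h (by decide)
    intro j
    by_cases hij : i = j
    · subst hij; exact hvf
    rcases hfour j with hj | ⟨v', hv', hqv', hvv', hvf'⟩
    · exfalso
      apply hi
      obtain ⟨s, s1, s2⟩ := R.exists_swap_CF hF hij
      intro x hx
      have h1 : s * T (e i) = T (e j) * s := by rw [mul_T, s1]
      have h2 := R.conj_apply h1 x
      rw [hj _ (s2 x hx)] at h2
      exact (R.ρ s).injective h2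
    · have hvv'' : v = v' := by
        by_contra hne
        have h1 := R.comm_apply (T_comm (hF.ee i j)) v'
        rw [hvv', hvf' _ (R.CF_T_e hF i hv')] at h1
        have h2 : R.b (R.ρ (T (e i)) v') v' • v' = 0 := by simpa using h1.symm
        have h3 : R.b (R.ρ (T (e i)) v') v' = 0 := by
          rcases zmod2 (R.b (R.ρ (T (e i)) v') v') with h | h
          · exact h
          · rw [h, one_smul] at h2
            exact absurd h2 (q0 _ hqv')
        rw [hvf _ hv', map_add, map_smul, LinearMap.add_apply, LinearMap.smul_apply, R.b_self,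
          zero_add, R.b_comm v' v] at h3
        have h4 : R.b v v' = 0 := by
          rcases zmod2 (R.b v v') with h | h
          · exact h
          · rw [h] at h3; exact absurd h3 (by decide)
        apply q0 v hqv
        apply hnd v hv
        intro x hx
        rcases card_four hcard hv hv' (q0 _ hqv) (q0 _ hqv') hne x hx with h5 | h5 | h5 | h5 <;>
          rw [h5]
        · exact map_zero _
        · exact R.b_self v
        · exact h4
        · rw [map_add, R.b_self, h4, add_zero]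
      rw [hvv'']
      exact hvf'

/-- formula for the transvections of a frame, assuming the formula on the common fixed space -/
theorem T_formula [Finite V] {e f : Fin 3 → W} (hF : Frame e f) (hns : R.NS) (v : V)
    (hv : v ∈ R.CF e f) (i : Fin 3)
    (hvf : ∀ x ∈ R.CF e f, R.ρ (T (e i)) x = x + R.b x v • v) :
    ∃ a, a ≠ 0 ∧ R.ρ (T (e i)) a = a ∧ a ∈ K (R.r (e i) (f i)) ∧
      (∀ x ∈ R.M (e i) (f i), x = 0 ∨ x = a) ∧ R.q a = 1 ∧ R.b a v = 0 ∧
      ∀ x, R.ρ (T (e i)) x = x + R.b x a • a + R.b x v • v := by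
  obtain ⟨a, ha0, ha1, ha2, hM, hK⟩ := R.exists_root hns (hF.ef i)
  obtain ⟨hqa, -, hform⟩ := R.root_form (hF.ef i) ha0 ha1 ha2 hK
  have hv' := R.mem_CF.1 hv
  refine ⟨a, ha0, ha1, ha2, hM, hqa, R.orth ha2 (hv' i), ?_⟩
  have hKj : ∀ j, ∀ x ∈ K (R.r (e j) (f j)),
      R.ρ (T (e i)) x = x + R.b x a • a + R.b x v • v := by
    intro j x hx
    rw [R.orth hx (hv' j), zero_smul, add_zero]
    by_cases hij : i = j
    · subst hij; exact hform x hx
    · have h1 : R.b x a = 0 := R.orth hx (R.r_trivial' hF hns hij a ha2)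
      rw [h1, zero_smul, add_zero]
      exact R.fix_K_of_ac hns (hF.ef j) (ac_T_of_zero (hF.ee _ _))
        (ac_T_of_zero (by rw [om_comm]; exact hF.ef' _ _ hij)) hx
  have hC : ∀ x ∈ R.CF e f, R.ρ (T (e i)) x = x + R.b x a • a + R.b x v • v := by
    intro x hx
    have h1 : R.b x a = 0 := by rw [R.b_comm]; exact R.orth ha2 (R.mem_CF.1 hx i)
    rw [h1, zero_smul, add_zero]
    exact hvf x hx
  intro x
  obtain ⟨x0, h0, x1, h1, x2, h2, c, hc, rfl⟩ := R.decomp hF x
  rw [map_add, map_add, map_add, hKj 0 x0 h0, hKj 1 x1 h1, hKj 2 x2 h2, hC c hc]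
  simp only [map_add, LinearMap.add_apply, add_smul]
  abel

/-! ### the transvections are not reflections -/

theorem conj_formula {u : W} {a v : V} (h : ∀ x, R.ρ (T u) x = x + R.b x a • a + R.b x v • v)
    (g : Sp6) (x : V) : R.ρ (T (ac g u)) x =
      x + R.b x (R.ρ g a) • R.ρ g a + R.b x (R.ρ g v) • R.ρ g v := by
  have h1 : T (ac g u) = g * T u * g⁻¹ := (conj_T g u).symm
  have h2 : R.ρ g (R.ρ g⁻¹ x) = x := by rw [← R.mul, mul_inv_cancel, R.one]
  have h3 : ∀ c, R.b (R.ρ g⁻¹ x) c = R.b x (R.ρ g c) := by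
    intro c
    rw [← R.b_inv g, h2]
  rw [h1, R.mul, R.mul, h, map_add, map_add, map_smul, map_smul, h2, h3, h3]

/-- the seven nonzero vectors of `F_2^3` -/
def L7 : List (Fin 3 → ZMod 2) :=
  [![1,0,0], ![0,1,0], ![0,0,1], ![1,1,0], ![1,0,1], ![0,1,1], ![1,1,1]]

/-- combination of the `e i` -/
def ue (e : Fin 3 → W) (ε : Fin 3 → ZMod 2) : W := ε 0 • e 0 + ε 1 • e 1 + ε 2 • e 2

theorem om_smul_left (c : ZMod 2) (u v : W) : om (c • u) v = c * om u v :=
  Cfsg.Agent.ClassicalGeometry.SympBasic.sympForm_smul_left c u v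

theorem om_smul_right (c : ZMod 2) (u v : W) : om u (c • v) = c * om u v :=
  Cfsg.Agent.ClassicalGeometry.SympBasic.sympForm_smul_right c u v

theorem om_ue_f {e f : Fin 3 → W} (hF : Frame e f) (ε : Fin 3 → ZMod 2) (i : Fin 3) :
    om (ue e ε) (f i) = ε i := by
  rw [ue, om_add_left, om_add_left, om_smul_left, om_smul_left, om_smul_left]
  fin_cases i
  · show ε 0 * om (e 0) (f 0) + ε 1 * om (e 1) (f 0) + ε 2 * om (e 2) (f 0) = ε 0
    rw [hF.ef, hF.ef' 1 0 (by decide), hF.ef' 2 0 (by decide)]; simp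
  · show ε 0 * om (e 0) (f 1) + ε 1 * om (e 1) (f 1) + ε 2 * om (e 2) (f 1) = ε 1
    rw [hF.ef, hF.ef' 0 1 (by decide), hF.ef' 2 1 (by decide)]; simp
  · show ε 0 * om (e 0) (f 2) + ε 1 * om (e 1) (f 2) + ε 2 * om (e 2) (f 2) = ε 2
    rw [hF.ef, hF.ef' 0 2 (by decide), hF.ef' 1 2 (by decide)]; simp

theorem om_ue_ue {e f : Fin 3 → W} (hF : Frame e f) (ε ε' : Fin 3 → ZMod 2) :
    om (ue e ε) (ue e ε') = 0 := by
  simp only [ue, om_add_left, om_add_right, om_smul_left, om_smul_right, hF.ee]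
  simp

theorem ac_list {e f : Fin 3 → W} (hF : Frame e f) (l : List (Fin 3 → ZMod 2)) (x : W) :
    ac ((l.map fun ε => T (ue e ε)).prod) x =
      x + (l.map fun ε => om x (ue e ε) • ue e ε).sum := by
  have horth : ∀ (l : List (Fin 3 → ZMod 2)) (c : (Fin 3 → ZMod 2) → ZMod 2) ε,
      om (l.map fun ε => c ε • ue e ε).sum (ue e ε) = 0 := by
    intro l c ε
    induction l with
    | nil => simp
    | cons a l ih =>
      rw [List.map_cons, List.sum_cons, om_add_left, ih, om_smul_left, om_ue_ue hF]; simp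
  induction l with
  | nil => simp [ac_one]
  | cons a l ih =>
    rw [List.map_cons, List.prod_cons, ac_mul, ih, List.map_cons, List.sum_cons, ac_T,
      om_add_left, horth l (fun ε => om x (ue e ε)), add_zero]
    abel

theorem prod_L7 {e f : Fin 3 → W} (hF : Frame e f) : (L7.map fun ε => T (ue e ε)).prod = 1 := by
  apply ext_ac
  intro x
  rw [ac_list hF, ac_one]
  simp only [L7, List.map_cons, List.map_nil, List.sum_cons, List.sum_nil, ue, om_add_right,
    om_smul_right, Matrix.cons_val_zero, Matrix.cons_val_one, Matrix.cons_val]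
  generalize e 0 = a
  generalize e 1 = b
  generalize e 2 = c
  rcases zmod2 (om x a) with h1 | h1 <;> rcases zmod2 (om x b) with h2 | h2 <;>
    rcases zmod2 (om x c) with h3 | h3 <;> rw [h1, h2, h3] <;>
    (apply of_one_smul; match_scalars <;> decide)

theorem not_reflections [Finite V] {e f : Fin 3 → W} (hF : Frame e f) (a : W → V)
    (hq : ∀ u, u ≠ 0 → R.q (a u) = 1)
    (ha : ∀ u, u ≠ 0 → ∀ x, R.ρ (T u) x = x + R.b x (a u) • a u) : False := by
  have hne0 : ∀ u, u ≠ 0 → a u ≠ 0 := by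
    intro u hu h
    have := hq u hu
    rw [h, R.q_zero] at this
    exact absurd this (by decide)
  have horth : ∀ u w, u ≠ 0 → w ≠ 0 → u ≠ w → om u w = 0 → R.b (a u) (a w) = 0 := by
    intro u w hu hw huw hom
    have hauw : a u ≠ a w := by
      intro h
      apply huw
      apply T_inj
      apply R.inj
      ext x
      show R.ρ (T u) x = R.ρ (T w) x
      rw [ha u hu, ha w hw, h]
    rcases zmod2 (R.b (a u) (a w)) with h | h
    · exact h
    · exfalso
      obtain ⟨x, hx⟩ : ∃ x, R.b x (a w) = 1 := by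
        by_contra hc
        push Not at hc
        apply hne0 w hw
        apply R.nondeg
        intro y
        rw [R.b_comm]
        exact (zmod2 _).resolve_right (hc y)
      have h1 := R.comm_apply (T_comm hom) x
      rw [ha w hw, ha u hu, ha u hu, ha w hw] at h1
      simp only [map_add, LinearMap.add_apply, map_smul, LinearMap.smul_apply, smul_eq_mul,
        R.b_comm (a w) (a u), h, hx, mul_one, one_smul] at h1
      rcases zmod2 (R.b x (a u)) with h2 | h2
      · rw [h2] at h1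
        apply hne0 u hu
        have : x + a w + (0 + 1 : ZMod 2) • a u = x + (0 : ZMod 2) • a u + (1 + 0 : ZMod 2) • a w := h1
        have h3 : (x + a w) + a u = x + a w := by simpa using this
        simpa using h3
      · rw [h2] at h1
        apply hauw
        have : x + a w + (1 + 1 : ZMod 2) • a u = x + (1 : ZMod 2) • a u + (1 + 1 : ZMod 2) • a w := h1
        rw [show (1 + 1 : ZMod 2) = 0 by decide] at this
        have h3 : x + a w = x + a u := by simpa using this
        exact (add_left_cancel h3).symm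
  have hue0 : ∀ ε, ε ≠ 0 → ue e ε ≠ 0 := by
    intro ε hε h
    apply hε
    funext i
    rw [← om_ue_f hF ε i, h, om_zero_left]; rfl
  have hueinj : ∀ ε ε', ue e ε = ue e ε' → ε = ε' := by
    intro ε ε' h
    funext i
    rw [← om_ue_f hF ε i, h, om_ue_f hF]
  have hL : ∀ (l : List (Fin 3 → ZMod 2)) (c : (Fin 3 → ZMod 2) → ZMod 2) (ε : Fin 3 → ZMod 2),
      ε ≠ 0 → ε ∉ l → (∀ ε ∈ l, ε ≠ 0) →
      R.b (l.map fun ε => c ε • a (ue e ε)).sum (a (ue e ε)) = 0 := by
    intro l c ε hε hεl hl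
    induction l with
    | nil => simp
    | cons b l ih =>
      rw [List.map_cons, List.sum_cons, map_add, LinearMap.add_apply,
        ih (fun h => hεl (List.mem_cons_of_mem _ h)) (fun ε h => hl ε (List.mem_cons_of_mem _ h)),
        map_smul, LinearMap.smul_apply, horth _ _ (hue0 _ (hl b List.mem_cons_self)) (hue0 _ hε)
          (fun h => hεl (by rw [← hueinj _ _ h]; exact List.mem_cons_self)) (om_ue_ue hF _ _)]
      simp
  have hρ : ∀ (l : List (Fin 3 → ZMod 2)), l.Nodup → (∀ ε ∈ l, ε ≠ 0) → ∀ x,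
      R.ρ ((l.map fun ε => T (ue e ε)).prod) x =
        x + (l.map fun ε => R.b x (a (ue e ε)) • a (ue e ε)).sum := by
    intro l hnd hl x
    induction l with
    | nil => simp
    | cons b l ih =>
      rw [List.nodup_cons] at hnd
      have hl' : ∀ ε ∈ l, ε ≠ 0 := fun ε h => hl ε (List.mem_cons_of_mem _ h)
      rw [List.map_cons, List.prod_cons, R.mul, ih hnd.2 hl',
        ha _ (hue0 _ (hl b List.mem_cons_self)), map_add, LinearMap.add_apply,
        hL l (fun ε => R.b x (a (ue e ε))) b (hl b List.mem_cons_self) hnd.1 hl', add_zero,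
        List.map_cons, List.sum_cons]
      abel
  have hqs : ∀ (l : List (Fin 3 → ZMod 2)) (c : (Fin 3 → ZMod 2) → ZMod 2), l.Nodup →
      (∀ ε ∈ l, ε ≠ 0) → R.q (l.map fun ε => c ε • a (ue e ε)).sum = (l.map c).sum := by
    intro l c hnd hl
    induction l with
    | nil => simpa using R.q_zero
    | cons b l ih =>
      rw [List.nodup_cons] at hnd
      have hl' : ∀ ε ∈ l, ε ≠ 0 := fun ε h => hl ε (List.mem_cons_of_mem _ h)
      rw [List.map_cons, List.sum_cons, R.q_add, ih hnd.2 hl', List.map_cons, List.sum_cons,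
        R.b_comm, map_smul, hL l c b (hl b List.mem_cons_self) hnd.1 hl', smul_zero, add_zero]
      congr 1
      rcases zmod2 (c b) with h | h <;> rw [h]
      · rw [zero_smul, R.q_zero]
      · rw [one_smul, hq _ (hue0 _ (hl b List.mem_cons_self))]
  have hnd7 : L7.Nodup := by decide
  have h07 : ∀ ε ∈ L7, ε ≠ 0 := by decide
  have h1 : ∀ x, (L7.map fun ε => R.b x (a (ue e ε)) • a (ue e ε)).sum = 0 := by
    intro x
    have h2 := hρ L7 hnd7 h07 x
    rw [prod_L7 hF, R.one] at h2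
    simpa using h2.symm
  have h2 : ∀ x, (L7.map fun ε => R.b x (a (ue e ε))).sum = 0 := by
    intro x
    rw [← hqs L7 _ hnd7 h07, h1, R.q_zero]
  have h3 : ∀ (l : List (Fin 3 → ZMod 2)) x, R.b x (l.map fun ε => (1 : ZMod 2) • a (ue e ε)).sum =
      (l.map fun ε => R.b x (a (ue e ε))).sum := by
    intro l x
    induction l with
    | nil => simp
    | cons b l ih =>
      rw [List.map_cons, List.sum_cons, map_add, ih, one_smul, List.map_cons, List.sum_cons]
  have h4 : (L7.map fun ε => (1 : ZMod 2) • a (ue e ε)).sum = 0 := by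
    apply R.nondeg
    intro y
    rw [R.b_comm, h3, h2]
  have h5 := hqs L7 (fun _ => 1) hnd7 h07
  rw [h4, R.q_zero] at h5
  exact absurd h5 (by decide)

theorem exists_b_one {v : V} (hv : v ≠ 0) : ∃ x, R.b x v = 1 := by
  by_contra hc
  push Not at hc
  apply hv
  apply R.nondeg
  intro y
  rw [R.b_comm]
  exact (zmod2 _).resolve_right (hc y)

theorem ne_zero_of_q {v : V} (hv : R.q v = 1) : v ≠ 0 := by
  intro h
  rw [h, R.q_zero] at hv
  exact absurd hv (by decide)

/-- the reducible alternative -/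
structure Red (v : V) : Prop where
  q_v : R.q v = 1
  fix : ∀ g, R.ρ g v = v
  root : ∀ u, u ≠ 0 → ∃ a, R.q a = 1 ∧ R.b a v = 0 ∧
    ∀ x, R.ρ (T u) x = x + R.b x a • a + R.b x v • v

theorem exists_red [Finite V] (hns : R.NS) : ∃ v, R.Red v := by
  have hF := frame_std
  have he0 : e0 0 ≠ 0 := by
    intro h
    have := hF.ef 0
    rw [h, om_zero_left] at this
    exact absurd this (by decide)
  rcases R.CF_cases hF hns with htriv | ⟨v, hv, hqv, hvf⟩
  · exfalso
    obtain ⟨a, -, -, -, -, hqa, -, hform⟩ := R.T_formula hF hns 0 (Submodule.zero_mem _) 0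
      (fun x hx => by rw [htriv 0 x hx]; simp)
    have hall : ∀ u, u ≠ 0 → ∃ a, R.q a = 1 ∧ ∀ x, R.ρ (T u) x = x + R.b x a • a := by
      intro u hu
      obtain ⟨g, hg⟩ := exists_transitive he0 hu
      refine ⟨R.ρ g a, by rw [R.q_inv, hqa], ?_⟩
      intro x
      have := R.conj_formula hform g x
      rw [hg, map_zero] at this
      simpa using this
    choose! a' h1 h2 using hall
    exact R.not_reflections hF a' h1 h2
  · have hv0 := R.ne_zero_of_q hqv
    have hfix1 : ∀ i, ∀ g, ac g (e0 i) = e0 i → ac g (f0 i) = f0 i → R.ρ g v = v := by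
      intro i g h1 h2
      obtain ⟨a, ha0, ha1, ha2, hM, hqa, hav, hform⟩ := R.T_formula hF hns v hv i (hvf i)
      have hga : R.ρ g a = a := R.fix_K_of_ac hns (hF.ef i) h1 h2 ha2
      obtain ⟨x, hx⟩ := R.exists_b_one hv0
      have h3 := R.conj_formula hform g x
      rw [h1, hform, hga, hx, one_smul] at h3
      have h4 : v = R.b x (R.ρ g v) • R.ρ g v := add_left_cancel h3
      rcases zmod2 (R.b x (R.ρ g v)) with h5 | h5
      · rw [h5, zero_smul] at h4; exact absurd h4 hv0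
      · rw [h5, one_smul] at h4; exact h4.symm
    have hfix2 : ∀ i u, om (e0 i) u = 0 → om (f0 i) u = 0 → R.ρ (T u) v = v := by
      intro i u h1 h2
      exact hfix1 i _ (ac_T_of_zero h1) (ac_T_of_zero h2)
    have hfe : ∀ i j, i ≠ j → om (f0 i) (e0 j) = 0 := fun i j hij => by
      rw [om_comm]; exact hF.ef' _ _ hij.symm
    have hfe' : ∀ i, om (f0 i) (e0 i) = 1 := fun i => by rw [om_comm]; exact hF.ef i
    have hT : ∀ u, R.ρ (T u) v = v := by
      intro u
      by_cases h2 : om (e0 2) u = 0 ∧ om (f0 2) u = 0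
      · exact hfix2 2 u h2.1 h2.2
      · obtain ⟨w, hw, hwe, hwf⟩ : ∃ w, om w u = 1 ∧ (∀ i, i ≠ 2 → om (e0 i) w = 0) ∧
            (∀ i, i ≠ 2 → om (f0 i) w = 0) := by
          rcases zmod2 (om (e0 2) u) with h3 | h3
          · have h4 : om (f0 2) u = 1 := (zmod2 _).resolve_left fun h4 => h2 ⟨h3, h4⟩
            exact ⟨f0 2, h4, fun i hi => hF.ef' _ _ hi, fun i _ => hF.ff _ _⟩
          · exact ⟨e0 2, h3, fun i _ => hF.ee _ _, fun i hi => hfe _ _ hi⟩
        generalize hx : om (f0 0) u • e0 0 + om (e0 0) u • f0 0 + w = x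
        have hx1 : om (e0 1) x = 0 := by
          rw [← hx, om_add_right, om_add_right, om_smul_right, om_smul_right, hwe 1 (by decide),
            hF.ee, hF.ef' 1 0 (by decide)]; simp
        have hx2 : om (f0 1) x = 0 := by
          rw [← hx, om_add_right, om_add_right, om_smul_right, om_smul_right, hwf 1 (by decide),
            hF.ff, hfe 1 0 (by decide)]; simp
        have hy1 : om (e0 0) (u + x) = 0 := by
          rw [← hx, om_add_right, om_add_right, om_add_right, om_smul_right, om_smul_right,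
            hwe 0 (by decide), hF.ee, hF.ef, mul_zero, mul_one, zero_add, add_zero]
          exact CharTwo.add_self_eq_zero _
        have hy2 : om (f0 0) (u + x) = 0 := by
          rw [← hx, om_add_right, om_add_right, om_add_right, om_smul_right, om_smul_right,
            hwf 0 (by decide), hF.ff, hfe', mul_zero, mul_one, add_zero, add_zero]
          exact CharTwo.add_self_eq_zero _
        have hxy : om x (u + x) = 1 := by
          rw [om_add_right, om_self, add_zero, ← hx, om_add_left, om_add_left, om_smul_left,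
            om_smul_left, hw, mul_comm, CharTwo.add_self_eq_zero, zero_add]
        have hu : u = x + (u + x) := by
          rw [add_comm u x, ← add_assoc, w_add_self, zero_add]
        rw [hu, ← T_braid hxy, R.mul, R.mul, hfix2 1 x hx1 hx2, hfix2 0 _ hy1 hy2,
          hfix2 1 x hx1 hx2]
    have hall : ∀ g, R.ρ g v = v := by
      intro g
      have hg : g ∈ Subgroup.closure (Set.range T) := by rw [closure_T]; trivial
      induction hg using Subgroup.closure_induction with
      | mem x hx =>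
        obtain ⟨u, rfl⟩ := hx
        exact hT u
      | one => exact R.one v
      | mul x y _ _ hx hy => rw [R.mul, hy, hx]
      | inv x _ hx =>
        conv_lhs => rw [← hx]
        rw [← R.mul, inv_mul_cancel, R.one]
    refine ⟨v, hqv, hall, ?_⟩
    intro u hu
    obtain ⟨g, hg⟩ := exists_transitive he0 hu
    obtain ⟨a, ha0, ha1, ha2, hM, hqa, hav, hform⟩ := R.T_formula hF hns v hv 0 (hvf 0)
    refine ⟨R.ρ g a, by rw [R.q_inv, hqa], ?_, ?_⟩
    · conv_lhs => rw [← hall g]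
      rw [R.b_inv, hav]
    · intro x
      have := R.conj_formula hform g x
      rwa [hg, hall g] at this

/-- **Dichotomy** -/
theorem dichotomy [Finite V] : R.Spin ∨ ∃ v, R.Red v := by
  rcases R.spin_or with h | h
  · exact Or.inl h
  · exact Or.inr (R.exists_red h)

end Rep

end Cfsg.Agent.Co2Type.Dichotomy
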