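import Cfsg.Agent.Co2Type.DuoD

/-!
# No fused involution over `c2` (R03, Co2 type, helper595)

`Good σ z`: `z = c (σ r) c⁻¹` or `z = c (t σ r) c⁻¹`, `c ∈ C(t)`, `r` commuting with a hyperbolic pair of
transvections.  If all fused `z ≠ t` are good then no fused involution lies over `c2`.
-/

set_option autoImplicit false

namespace Cfsg.Agent.Co2Type.CosetB

open Cfsg Subgroup Cfsg.Agent.Co2Type.Quad Cfsg.Agent.Co2Type.Setup Cfsg.Agent.Co2Type.Spin
open Cfsg.Agent.Co2Type.LineMod Cfsg.Agent.Co2Type.Alpha Cfsg.Agent.Co2Type.R5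
open Cfsg.Agent.Co2Type.Pair
open Cfsg.Agent.SporRec.TwoSp6
open Cfsg.Agent.SporRec.TwoSp6.Sp (tr act act_om act_add act_mul act_one conj_tr tr_comm tr_sq act_tr)

variable {G : Type*} [Group G] {Q Q' : Subgroup G} {t s : G}

/-- good involutions -/
def Good (σ : Sp6 →* centralizer ({t} : Set G)) (z : G) : Prop :=
  ∃ c, c * t = t * c ∧ ∃ r : Sp6, ∃ p p' : U, sf p p' = 1 ∧ r * tr p = tr p * r ∧
    r * tr p' = tr p' * r ∧ (z = c * sg σ r * c⁻¹ ∨ z = c * (t * sg σ r) * c⁻¹)

/-- if `z` is good then no `y ∈ Q` outside `⟨t⟩` commutes with `C(t) ∩ C(z)` -/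
theorem Good.elim {S : Sit G Q t} {σ : Sp6 →* centralizer ({t} : Set G)}
    (hσ : ∀ g, S.psi (σ g) = g) (hs : SpinHyp S.rho) {z : G} (hz : Good σ z) {y : G} (hy : y ∈ Q)
    (hcomm : ∀ a, a * t = t * a → a * z = z * a → a * y = y * a) : y = 1 ∨ y = t := by
  obtain ⟨c, hct, r, p, p', hpp, c1, c2, hz⟩ := hz
  have hcit : c⁻¹ * t = t * c⁻¹ := (show Commute c t from hct).inv_left
  have hy' : c⁻¹ * y * c ∈ Q := by
    have := S.large.conj_mem c⁻¹ hcit y hy
    rwa [inv_inv] at this
  have key : ∀ p : U, r * tr p = tr p * r → n S.rho p (S.large.pr ⟨_, hy'⟩) = 0 := by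
    intro p hp
    have hpt := sg_comm σ (tr p)
    have h1 : sg σ (tr p) * sg σ r = sg σ r * sg σ (tr p) := by rw [← sg_mul, ← hp, sg_mul]
    set a := c * sg σ (tr p) * c⁻¹ with ha
    have hat : a * t = t * a := by
      have e1 : Commute c t := hct
      have e2 : Commute (sg σ (tr p)) t := hpt
      exact ((e1.mul_left e2).mul_left e1.inv_left)
    have haz : a * z = z * a := by
      rcases hz with rfl | rfl
      · calc c * sg σ (tr p) * c⁻¹ * (c * sg σ r * c⁻¹) = c * (sg σ (tr p) * sg σ r) * c⁻¹ := by group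
          _ = c * (sg σ r * sg σ (tr p)) * c⁻¹ := by rw [h1]
          _ = _ := by rw [ha]; group
      · calc c * sg σ (tr p) * c⁻¹ * (c * (t * sg σ r) * c⁻¹)
            = c * ((sg σ (tr p) * t) * sg σ r) * c⁻¹ := by group
          _ = c * (t * (sg σ (tr p) * sg σ r)) * c⁻¹ := by rw [hpt]; group
          _ = c * (t * (sg σ r * sg σ (tr p))) * c⁻¹ := by rw [h1]
          _ = _ := by rw [ha]; group
    have h2 := hcomm a hat haz
    have h3 : sg σ (tr p) * (c⁻¹ * y * c) * (sg σ (tr p))⁻¹ = c⁻¹ * y * c := by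
      calc sg σ (tr p) * (c⁻¹ * y * c) * (sg σ (tr p))⁻¹
          = c⁻¹ * (c * sg σ (tr p) * c⁻¹ * y) * c * (sg σ (tr p))⁻¹ := by group
        _ = c⁻¹ * (y * (c * sg σ (tr p) * c⁻¹)) * c * (sg σ (tr p))⁻¹ := by rw [← ha, h2]
        _ = _ := by group
    have h4 := pr_conj S σ (tr p) ⟨_, hy'⟩ (conj_mem S hpt hy') hσ
    have h5 : S.rho (tr p) (S.large.pr ⟨_, hy'⟩) = S.large.pr ⟨_, hy'⟩ := by
      rw [← h4]
      congr 1
      exact Subtype.ext h3
    rw [rho_tr] at h5
    exact add_eq_left.1 h5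
  have h8 := n_anticomm_apply hs p p' (S.large.pr ⟨_, hy'⟩)
  rw [key p c1, key p' c2, map_zero, map_zero, hpp, one_smul, zero_add] at h8
  rcases S.large.pr_eq_zero.1 h8.symm with h9 | h9
  · left
    simp only at h9
    calc y = c * (c⁻¹ * y * c) * c⁻¹ := by group
      _ = 1 := by rw [h9]; group
  · right
    simp only at h9
    calc y = c * (c⁻¹ * y * c) * c⁻¹ := by group
      _ = c * t * c⁻¹ := by rw [h9]
      _ = t := by rw [hct, mul_inv_cancel_right]

/-- `x` lies in `⟨h⟩` if it is orthogonal to `h` and to `e_1, e_2, f_1, f_2` of a basis with `e_0 = h` -/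
theorem eq_of_perp {w : U} (h0 : sf (e 0) w = 0) (h1 : sf (e 1) w = 0) (h2 : sf (e 2) w = 0)
    (h3 : sf (f 1) w = 0) (h4 : sf (f 2) w = 0) : w = 0 ∨ w = e 0 := by
  have k : ∀ w : U, sf (e 0) w = w (Sum.inr 0) ∧ sf (e 1) w = w (Sum.inr 1) ∧
      sf (e 2) w = w (Sum.inr 2) ∧ sf (f 1) w = w (Sum.inl 1) ∧ sf (f 2) w = w (Sum.inl 2) := by
    intro w
    refine ⟨?_, ?_, ?_, ?_, ?_⟩
    · exact ClassicalGeometry.SympBasic.sympForm_single_inl_left 0 w |>.trans (by
        first | rfl | rw [ZModModule.neg_eq_self])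
    · exact ClassicalGeometry.SympBasic.sympForm_single_inl_left 1 w |>.trans (by
        first | rfl | rw [ZModModule.neg_eq_self])
    · exact ClassicalGeometry.SympBasic.sympForm_single_inl_left 2 w |>.trans (by
        first | rfl | rw [ZModModule.neg_eq_self])
    · exact ClassicalGeometry.SympBasic.sympForm_single_inr_left 1 w
    · exact ClassicalGeometry.SympBasic.sympForm_single_inr_left 2 w
  obtain ⟨k0, k1, k2, k3, k4⟩ := k w
  rw [k0] at h0
  rw [k1] at h1
  rw [k2] at h2
  rw [k3] at h3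
  rw [k4] at h4
  rcases zmod2_cases (w (Sum.inl 0)) with h5 | h5
  · left
    funext i
    rcases i with i | i <;> fin_cases i
    · exact h5
    · exact h3
    · exact h4
    · exact h0
    · exact h1
    · exact h2
  · right
    funext i
    rcases i with i | i <;> fin_cases i
    · exact h5
    · exact h3
    · exact h4
    · exact h0
    · exact h1
    · exact h2

namespace Duo

variable {S : Sit G Q t} {S' : Sit G Q' s} {σ : Sp6 →* centralizer ({t} : Set G)} {h : U} {a b : U}

/-- test vectors -/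
def xt (k : Fin 4) : U := ![e 1, e 2, f 1, f 2] k

/-- in the case `c2` some element of `D'` lies over `d_h` -/
theorem c2_exists (d : Duo S S' σ (tr a * tr b) (a + b)) (hl : IsLine a b) :
    ∃ y, ∃ hy : y ∈ dsub Q' t, S.ps (mem_dsub.1 hy).2 = tr (a + b) := by
  classical
  by_contra hno
  push Not at hno
  have hts : t * s = s * t := d.st.symm
  have hcard := card_cent_ge S' hts S.large.z_sq
  have hfin : Finite (dsub Q' t) := (Nat.card_pos_iff.1 (by omega)).2
  have hhne : a + b ≠ 0 := d.H.ne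
  have hab := hl.2.2.2
  have hha : sf (a + b) a = 0 := by rw [sf_add', sf_self, sf_comm b a, hab, add_zero]
  have hline : IsLine (a + b) a := by
    refine ⟨hhne, hl.1, ?_, hha⟩
    intro h0
    apply hl.2.1
    have h1 : a + (a + b) = a + a := by rw [← h0]
    rwa [← add_assoc, Sp.add_self, zero_add] at h1
  obtain ⟨g, hg1, hg2⟩ := exists_act_line isLine_e01 hline
  have hom : ∀ x y : U, sf (act g x) (act g y) = sf x y := act_om g
  have hyt : ∀ y : dsub Q' t, (y : G) * t = t * y := fun y => (mem_dsub.1 y.2).2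
  -- the injective map
  let F : dsub Q' t → (Fin 4 → Bool) := fun y k =>
    decide (act (S.ps (hyt y)) (act g (xt k)) = act g (xt k))
  have hxh : ∀ k, sf (act g (xt k)) (a + b) = 0 := by
    intro k
    rw [← hg1, hom]
    fin_cases k
    · exact sf_e_e 1 0
    · exact sf_e_e 2 0
    · show sf (f 1) (e 0) = 0
      rw [sf_f_e]; rfl
    · show sf (f 2) (e 0) = 0
      rw [sf_f_e]; rfl
  -- the action of an element over `w`
  have hact : ∀ (y : dsub Q' t) (w : U), sf (a + b) w = 0 → (S.ps (hyt y) = line (a + b) w ∨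
      S.ps (hyt y) = tr (a + b) * line (a + b) w) → ∀ x, sf x (a + b) = 0 →
      act (S.ps (hyt y)) x = x + sf x w • (a + b) := by
    intro y w hw hps x hx
    have e1 : act (line (a + b) w) x = x + sf x w • (a + b) := by
      rw [act_line hw, hx, zero_smul, add_zero]
    rcases hps with h1 | h1
    · rw [h1, e1]
    · rw [h1, act_mul, e1, act_tr]
      have e2 : Sp.om (x + sf x w • (a + b)) (a + b) = 0 := by
        show sf _ _ = 0
        rw [sf_add', hx, zero_add]
        have := Invol.om_smul' (sf x w) (a + b) (a + b)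
        rw [show Sp.om (a + b) (a + b) = 0 from sf_self _, mul_zero] at this
        exact this
      rw [e2, zero_smul, add_zero]
  have hfixw : ∀ (y : dsub Q' t) (w : U), sf (a + b) w = 0 → (S.ps (hyt y) = line (a + b) w ∨
      S.ps (hyt y) = tr (a + b) * line (a + b) w) → ∀ k, (F y k = true ↔ sf (act g (xt k)) w = 0) := by
    intro y w hw hps k
    simp only [F, decide_eq_true_eq]
    rw [hact y w hw hps _ (hxh k)]
    constructor
    · intro h1
      have h2 := add_eq_left.1 h1
      rcases zmod2_cases (sf (act g (xt k)) w) with h3 | h3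
      · exact h3
      · rw [h3, one_smul] at h2
        exact absurd h2 hhne
    · intro h1
      rw [h1, zero_smul, add_zero]
  have hinj : ∀ y y' : dsub Q' t, F y = F y' → y⁻¹ * y' ∈ (⊥ : Subgroup (dsub Q' t)) := by
    intro y y' hyy
    rw [Subgroup.mem_bot]
    obtain ⟨w, hw, hps⟩ := d.ps_mem y.2 (hyt y)
    obtain ⟨w', hw', hps'⟩ := d.ps_mem y'.2 (hyt y')
    obtain ⟨v, hv, hpv⟩ := d.ps_mem (y⁻¹ * y').2 (hyt (y⁻¹ * y'))
    have hww : ∀ k, sf (act g (xt k)) w = sf (act g (xt k)) w' := by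
      intro k
      have h1 := hfixw y w hw hps k
      have h2 := hfixw y' w' hw' hps' k
      rw [hyy] at h1
      have h3 := h1.symm.trans h2
      rcases zmod2_cases (sf (act g (xt k)) w) with h4 | h4
      · rw [h4, h3.1 h4]
      · rcases zmod2_cases (sf (act g (xt k)) w') with h5 | h5
        · rw [h3.2 h5, h5]
        · rw [h4, h5]
    -- the product fixes all test vectors
    have hyit : (y : G)⁻¹ * t = t * (y : G)⁻¹ := (show Commute (y : G) t from hyt y).inv_left
    have hpsm : S.ps (hyt (y⁻¹ * y')) = (S.ps (hyt y))⁻¹ * S.ps (hyt y') := by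
      rw [← S.ps_inv (hyt y) hyit]
      exact S.ps_mul hyit (hyt y') (hyt (y⁻¹ * y'))
    have hfix : ∀ k, sf (act g (xt k)) v = 0 := by
      intro k
      rw [← hfixw (y⁻¹ * y') v hv hpv k]
      simp only [F, decide_eq_true_eq]
      rw [hpsm, act_mul, hact y' w' hw' hps' _ (hxh k), ← hww k,
        ← hact y w hw hps _ (hxh k), ← act_mul, inv_mul_cancel, act_one]
    -- so v ∈ ⟨h⟩
    have hv2 : act g⁻¹ v = 0 ∨ act g⁻¹ v = e 0 := by
      have hgi : ∀ x : U, sf x (act g⁻¹ v) = sf (act g x) v := by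
        intro x
        rw [← hom x (act g⁻¹ v), ← act_mul, mul_inv_cancel, act_one]
      apply eq_of_perp
      · rw [hgi, hg1]; exact hv
      · rw [hgi]; exact hfix 0
      · rw [hgi]; exact hfix 1
      · rw [hgi]; exact hfix 2
      · rw [hgi]; exact hfix 3
    have hv3 : v = 0 ∨ v = a + b := by
      have h5 : v = act g (act g⁻¹ v) := by rw [← act_mul, mul_inv_cancel, act_one]
      rcases hv2 with h6 | h6
      · left; rw [h5, h6]; exact Invol.act_zero g
      · right; rw [h5, h6, hg1]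
    have hpone : S.ps (hyt (y⁻¹ * y')) = 1 ∨ S.ps (hyt (y⁻¹ * y')) = tr (a + b) := by
      rcases hv3 with h6 | h6
      · rw [h6, line_zero, mul_one] at hpv; exact hpv
      · rw [h6, line_self, mul_one] at hpv; exact hpv
    rcases hpone with h6 | h6
    · rw [S.ps_eq_one] at h6
      exact Subtype.ext (d.inf_eq h6 (mem_dsub.1 (y⁻¹ * y').2).1)
    · exact absurd h6 (hno _ (y⁻¹ * y').2)
  obtain ⟨y, hy⟩ := surj_of_fibre (⊥ : Subgroup (dsub Q' t)) Finset.univ F (fun _ => Finset.mem_univ _)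
    hinj (by
      rw [Subgroup.card_bot, Finset.card_univ, Fintype.card_fun, Fintype.card_bool, Fintype.card_fin,
        mul_one]
      exact hcard) (c := ![true, false, true, true]) (Finset.mem_univ _)
  obtain ⟨w, hw, hps⟩ := d.ps_mem y.2 (hyt y)
  have hFk := hfixw y w hw hps
  -- `w ≡ g f_2` modulo `h`
  have hwf : act g⁻¹ (w + act g (f 2)) = 0 ∨ act g⁻¹ (w + act g (f 2)) = e 0 := by
    have hgi : ∀ x : U, sf x (act g⁻¹ (w + act g (f 2))) = sf (act g x) w + sf x (f 2) := by
      intro x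
      rw [← hom x (act g⁻¹ _), ← act_mul, mul_inv_cancel, act_one, sf_add, hom]
    have k0 : sf (act g (e 1)) w = 0 := (hFk 0).1 (by rw [hy]; rfl)
    have k1 : sf (act g (e 2)) w = 1 := by
      rcases zmod2_cases (sf (act g (e 2)) w) with h1 | h1
      · exfalso
        have := (hFk 1).2 h1
        rw [hy] at this
        exact absurd this (by decide)
      · exact h1
    have k2 : sf (act g (f 1)) w = 0 := (hFk 2).1 (by rw [hy]; rfl)
    have k3 : sf (act g (f 2)) w = 0 := (hFk 3).1 (by rw [hy]; rfl)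
    apply eq_of_perp
    · rw [hgi, hg1, hw, sf_e_f]; rfl
    · rw [hgi, k0, sf_e_f]; rfl
    · rw [hgi, k1, sf_e_f]; rfl
    · rw [hgi, k2, sf_f_f, add_zero]
    · rw [hgi, k3, sf_f_f, add_zero]
  set p0 := act g (f 2) with hp0
  have hhp0 : sf (a + b) p0 = 0 := by rw [← hg1, hp0, hom, sf_e_f]; rfl
  have hlw : line (a + b) w = line (a + b) p0 := by
    have h5 : w + p0 = act g (act g⁻¹ (w + p0)) := by rw [← act_mul, mul_inv_cancel, act_one]
    rcases hwf with h6 | h6
    · rw [h6, Invol.act_zero] at h5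
      rw [Invol.eq_of_add_eq_zero h5]
    · rw [h6, hg1] at h5
      have h7 : w = p0 + (a + b) := by
        rw [← h5, ← add_assoc, add_comm p0 w, add_assoc, Sp.add_self, add_zero]
      rw [h7]
      exact line_add (a + b) p0 hhp0
  rw [hlw] at hps
  -- conjugates by `d_p`, `p ∈ ⟨a, b⟩^⊥` with `(p0, p) = 1`
  have hrp : ∀ p, sf a p = 0 → sf b p = 0 → tr a * tr b * tr p = tr p * (tr a * tr b) := by
    intro x hx hx'
    have e1 : tr a * tr x = tr x * tr a := tr_comm hx
    have e2 : tr b * tr x = tr x * tr b := tr_comm hx'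
    rw [mul_assoc, e2, ← mul_assoc, e1, mul_assoc]
  have hth : ∀ u, sf (a + b) u = 0 → tr (a + b) * line (a + b) u = line (a + b) u * tr (a + b) := by
    intro u hu
    exact (line_comm_tr (sf_self _) (by rw [sf_comm]; exact hu)).symm
  have step : ∀ p, sf a p = 0 → sf b p = 0 → sf p0 p = 1 →
      ∃ y, ∃ hy : y ∈ dsub Q' t, S.ps (mem_dsub.1 hy).2 = line (a + b) p * tr (a + b) := by
    intro p hap hbp hpp
    have hhp : sf (a + b) p = 0 := by rw [sf_add', hap, hbp, add_zero]
    have hm := d.conj_D' (l := tr p) (hrp p hap hbp).symm y.2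
    have hpt := sg_comm σ (tr p)
    have hpit : (sg σ (tr p))⁻¹ * t = t * (sg σ (tr p))⁻¹ :=
      (show Commute (sg σ (tr p)) t from hpt).inv_left
    have h1 : sg σ (tr p) * (y : G) * t = t * (sg σ (tr p) * y) := by
      rw [mul_assoc, hyt y, ← mul_assoc, hpt, mul_assoc]
    have h2 : S.ps (mem_dsub.1 hm).2 = tr p * S.ps (hyt y) * (tr p)⁻¹ := by
      rw [S.ps_mul h1 hpit (mem_dsub.1 hm).2, S.ps_mul hpt (hyt y) h1, S.ps_inv hpt hpit,
        ps_sg d.hσ]
    have hmm := mul_mem y.2 hm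
    refine ⟨_, hmm, ?_⟩
    rw [S.ps_mul (hyt y) (mem_dsub.1 hm).2 (mem_dsub.1 hmm).2, h2]
    have e1 : act (tr p) (a + b) = a + b := by
      rw [act_tr]
      have : Sp.om (a + b) p = 0 := hhp
      rw [this, zero_smul, add_zero]
    have e2 : act (tr p) p0 = p0 + p := by
      rw [act_tr]
      have : Sp.om p0 p = 1 := hpp
      rw [this, one_smul]
    have e3 : tr p * line (a + b) p0 * (tr p)⁻¹ = line (a + b) (p0 + p) := by
      rw [line_conj, e1, e2]
    have e4 : tr p * tr (a + b) * (tr p)⁻¹ = tr (a + b) := by rw [conj_tr, e1]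
    have hq : sf (a + b) (p0 + p) = 0 := by rw [sf_add, hhp0, hhp, add_zero]
    have e5 : line (a + b) p0 * line (a + b) (p0 + p) = line (a + b) p * tr (a + b) := by
      rw [line_mul_line' hhp0 hq (by rw [sf_add, sf_self, hpp, zero_add]), ← add_assoc, Sp.add_self,
        zero_add]
    rcases hps with h3 | h3
    · rw [h3, e3, e5]
    · have e6 : tr p * (tr (a + b) * line (a + b) p0) * (tr p)⁻¹ =
          tr (a + b) * line (a + b) (p0 + p) := by
        calc tr p * (tr (a + b) * line (a + b) p0) * (tr p)⁻¹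
            = (tr p * tr (a + b) * (tr p)⁻¹) * (tr p * line (a + b) p0 * (tr p)⁻¹) := by group
          _ = _ := by rw [e4, e3]
      rw [h3, e6]
      calc tr (a + b) * line (a + b) p0 * (tr (a + b) * line (a + b) (p0 + p))
          = tr (a + b) * (line (a + b) p0 * tr (a + b)) * line (a + b) (p0 + p) := by group
        _ = (tr (a + b) * tr (a + b)) * (line (a + b) p0 * line (a + b) (p0 + p)) := by
            rw [← hth p0 hhp0]; group
        _ = _ := by rw [tr_sq, one_mul, e5]
  -- `p = g e_2` and `p = g (e_2 + e_1)`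
  have hage1 : act g (e 1) = a := hg2
  have hb1 : b = act g (e 0 + e 1) := by
    rw [act_add, hg1, hg2, add_comm a b, add_assoc, Sp.add_self, add_zero]
  have q1 : sf a (act g (e 2)) = 0 := by rw [← hage1, hom]; exact sf_e_e 1 2
  have q2 : sf b (act g (e 2)) = 0 := by
    rw [hb1, hom, sf_add', sf_e_e, sf_e_e, add_zero]
  have q3 : sf p0 (act g (e 2)) = 1 := by rw [hp0, hom, sf_f_e]; rfl
  have hba : sf b a = 0 := by rw [sf_comm]; exact hab
  obtain ⟨y1, hy1, hps1⟩ := step (act g (e 2)) q1 q2 q3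
  obtain ⟨y2, hy2, hps2⟩ := step (act g (e 2) + a) (by rw [sf_add, q1, sf_self, add_zero])
    (by rw [sf_add, q2, hba, add_zero]) (by
      have : sf p0 a = 0 := by rw [hp0, ← hage1, hom, sf_f_e]; rfl
      rw [sf_add, q3, this, add_zero])
  -- the product lies over `line h a`, and with `s` we get `d_h`
  have hmm := mul_mem (mul_mem hy1 hy2) d.s_mem
  apply hno _ hmm
  have m1 := mul_mem hy1 hy2
  rw [S.ps_mul (mem_dsub.1 m1).2 d.st (mem_dsub.1 hmm).2,
    S.ps_mul (mem_dsub.1 hy1).2 (mem_dsub.1 hy2).2 (mem_dsub.1 m1).2, hps1, hps2, d.ps_s]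
  have hhe2 : sf (a + b) (act g (e 2)) = 0 := by rw [sf_add', q1, q2, add_zero]
  have hhe2a : sf (a + b) (act g (e 2) + a) = 0 := by rw [sf_add, hhe2, hha, add_zero]
  have e7 : line (a + b) (act g (e 2)) * line (a + b) (act g (e 2) + a) = line (a + b) a := by
    have := line_mul_line (S := S) d.hs hhe2 hhe2a (by
      rw [sf_add, sf_self, sf_comm, q1, add_zero])
    rw [this, ← add_assoc, Sp.add_self, zero_add]
  have e8 : line (a + b) a = tr (a + b) * (tr a * tr b) := by
    have h9 : tr a * tr b = tr b * tr a := tr_comm hab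
    have h10 : a + b + a = b := by rw [add_comm a b, add_assoc, Sp.add_self, add_zero]
    unfold line
    rw [h10, mul_assoc]
  have e9 := hth (act g (e 2)) hhe2
  have e10 := hth (act g (e 2) + a) hhe2a
  have e11 : tr a * tr b * (tr a * tr b) = 1 := d.H.sq
  calc line (a + b) (act g (e 2)) * tr (a + b) * (line (a + b) (act g (e 2) + a) * tr (a + b)) *
        (tr a * tr b)
      = line (a + b) (act g (e 2)) * (tr (a + b) * line (a + b) (act g (e 2) + a)) * tr (a + b) *
        (tr a * tr b) := by group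
    _ = (line (a + b) (act g (e 2)) * line (a + b) (act g (e 2) + a)) * (tr (a + b) * tr (a + b)) *
        (tr a * tr b) := by rw [e10]; group
    _ = tr (a + b) * ((tr a * tr b) * (tr a * tr b)) := by rw [e7, tr_sq, e8]; group
    _ = tr (a + b) := by rw [e11, mul_one]

end Duo

/-- no fused involution lies over `c2`, if all fused involutions are good -/
theorem not_c2 {S : Sit G Q t} {σ : Sp6 →* centralizer ({t} : Set G)}
    (hσ : ∀ g, S.psi (σ g) = g) (hs : SpinHyp S.rho) (wc : WC Q t)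
    (hgood : ∀ z, z * t = t * z → IsConj t z → z ≠ t → Good σ z) {a b : U} (hl : IsLine a b) {z : G}
    (hz : z * t = t * z) (hc : IsConj t z) : S.ps hz ≠ tr a * tr b := by
  intro hps
  -- conjugate to `σ r` or `t σ r`
  have hBC : BC (tr a * tr b) (a + b) := Or.inr ⟨a, b, hl, rfl, rfl⟩
  have hzz : z * z = 1 := by
    obtain ⟨g, rfl⟩ := isConj_iff.1 hc
    calc g * t * g⁻¹ * (g * t * g⁻¹) = g * (t * t) * g⁻¹ := by group
      _ = 1 := by rw [tt S]; group
  obtain ⟨q, hq, hqz⟩ := coset S σ hσ hs hBC hz hzz hps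
  obtain ⟨s, hs1, hs2⟩ : ∃ s, IsConj t s ∧ (s = sg σ (tr a * tr b) ∨ s = t * sg σ (tr a * tr b)) := by
    rcases hqz with h1 | h1
    · exact ⟨_, hc.trans (isConj_iff.2 ⟨q, h1⟩).symm, Or.inl rfl⟩
    · exact ⟨_, hc.trans (isConj_iff.2 ⟨q, h1⟩).symm, Or.inr rfl⟩
  obtain ⟨g, hg⟩ := isConj_iff.1 hs1
  subst hg
  have d : Duo S (S.conj g) σ (tr a * tr b) (a + b) :=
    ⟨hσ, hs, wc, wc.conj g, hs1, hBC, hs2⟩
  obtain ⟨y, hy, hpy⟩ := d.c2_exists hl
  have hab := hl.2.2.2
  have hyt := (mem_dsub.1 hy).2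
  -- `y` commutes with `C(t) ∩ C(s)`
  have hcomm : ∀ x, x * t = t * x → x * (g * t * g⁻¹) = g * t * g⁻¹ * x → x * y = y * x := by
    intro x hxt hxs
    have hm : x * y * x⁻¹ ∈ dsub (Q.map (MulAut.conj g).toMonoidHom) t :=
      conj_mem_dsub (S.conj g).large hxs hxt hy
    have hxit : x⁻¹ * t = t * x⁻¹ := (show Commute x t from hxt).inv_left
    have h1 : x * y * t = t * (x * y) := by rw [mul_assoc, hyt, ← mul_assoc, hxt, mul_assoc]
    have h2 : S.ps (mem_dsub.1 hm).2 = S.ps hyt := by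
      rw [S.ps_mul h1 hxit (mem_dsub.1 hm).2, S.ps_mul hxt hyt h1, S.ps_inv hxt hxit, hpy, conj_tr]
      -- `ps x` fixes `a + b`
      have h3 : S.ps hxt * (tr a * tr b) = tr a * tr b * S.ps hxt := by
        have h4 : x * (g * t * g⁻¹) * t = t * (x * (g * t * g⁻¹)) := by
          rw [mul_assoc, d.st, ← mul_assoc, hxt, mul_assoc]
        have h5 : (g * t * g⁻¹) * x * t = t * ((g * t * g⁻¹) * x) := by rw [← hxs]; exact h4
        rw [← d.ps_s, ← S.ps_mul hxt d.st h4, ← S.ps_mul d.st hxt h5]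
        unfold Sit.ps
        congr 1
        exact Subtype.ext hxs
      have h6 : ∀ x : U, Sp.om x (act (tr a * tr b) x) = Sp.om x (a + b) := by
        intro x
        have hwu : Sp.om b a = 0 := by rw [Sp.om_symm]; exact hab
        rw [act_mul, act_tr, act_tr, Sp.om_add, Sp.om_add, Sp.om_self, zero_add, Invol.om_smul,
          Invol.om_smul, Seven.om_mul_self, Sp.om_add', Invol.om_smul', hwu, mul_zero, add_zero,
          Seven.om_mul_self, Sp.om_add]
        ring
      have h7 : act (S.ps hxt) (a + b) = a + b := by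
        apply Seven.eq_of_om
        intro v
        obtain ⟨v', rfl⟩ : ∃ v', v = act (S.ps hxt) v' :=
          ⟨act (S.ps hxt)⁻¹ v, by rw [← act_mul, mul_inv_cancel, act_one]⟩
        have e1 : act (tr a * tr b) (act (S.ps hxt) v') = act (S.ps hxt) (act (tr a * tr b) v') := by
          rw [← act_mul, ← h3, act_mul]
        calc Sp.om (act (S.ps hxt) v') (act (S.ps hxt) (a + b)) = Sp.om v' (a + b) := act_om _ _ _
          _ = Sp.om v' (act (tr a * tr b) v') := (h6 v').symm
          _ = Sp.om (act (S.ps hxt) v') (act (S.ps hxt) (act (tr a * tr b) v')) :=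
            (act_om _ _ _).symm
          _ = Sp.om (act (S.ps hxt) v') (act (tr a * tr b) (act (S.ps hxt) v')) := by rw [e1]
          _ = Sp.om (act (S.ps hxt) v') (a + b) := h6 _
      rw [h7]
    have h8 := d.eq_of_ps hm hy (mem_dsub.1 hm).2 hyt h2
    rw [mul_inv_eq_iff_eq_mul] at h8
    exact h8
  -- pull back by `g`
  obtain ⟨y', hy', hyy⟩ := (mem_dsub.1 hy).1
  have hyy' : g * y' * g⁻¹ = y := hyy
  set z' := g⁻¹ * t * g with hz'
  have hz't : z' * t = t * z' := by
    have h1 := d.st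
    calc g⁻¹ * t * g * t = g⁻¹ * (t * (g * t * g⁻¹)) * g := by group
      _ = g⁻¹ * ((g * t * g⁻¹) * t) * g := by rw [h1]
      _ = t * (g⁻¹ * t * g) := by group
  have hz'c : IsConj t z' := isConj_iff.2 ⟨g⁻¹, by rw [hz', inv_inv]⟩
  have hz'ne : z' ≠ t := by
    intro h1
    apply d.t_not_mem
    have h2 : t = g * t * g⁻¹ := by
      calc t = g * (g⁻¹ * t * g) * g⁻¹ := by group
        _ = g * t * g⁻¹ := by rw [← hz', h1]
    rw [h2]
    exact (S.conj g).large.z_mem
  have hfin := (hgood z' hz't hz'c hz'ne).elim hσ hs hy' (by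
    intro x hxt hxz
    have h1 : (g * x * g⁻¹) * t = t * (g * x * g⁻¹) := by
      calc (g * x * g⁻¹) * t = g * (x * (g⁻¹ * t * g)) * g⁻¹ := by group
        _ = g * ((g⁻¹ * t * g) * x) * g⁻¹ := by rw [← hz', hxz]
        _ = _ := by group
    have h2 : (g * x * g⁻¹) * (g * t * g⁻¹) = g * t * g⁻¹ * (g * x * g⁻¹) := by
      calc (g * x * g⁻¹) * (g * t * g⁻¹) = g * (x * t) * g⁻¹ := by group
        _ = g * (t * x) * g⁻¹ := by rw [hxt]
        _ = _ := by group
    have h3 := hcomm _ h1 h2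
    rw [← hyy'] at h3
    calc x * y' = g⁻¹ * ((g * x * g⁻¹) * (g * y' * g⁻¹)) * g := by group
      _ = g⁻¹ * ((g * y' * g⁻¹) * (g * x * g⁻¹)) * g := by rw [h3]
      _ = y' * x := by group)
  rcases hfin with h1 | h1
  · have h2 : y = 1 := by rw [← hyy', h1]; group
    have h3 : S.ps hyt = 1 := by rw [S.ps_eq_one, h2]; exact one_mem Q
    rw [hpy] at h3
    have h4 : a + b ≠ 0 := hBC.ne
    obtain ⟨v, hv⟩ := exists_n_ne hs h4
    apply hv
    rw [n_apply]
    have h5 : S.rho (tr (a + b)) v = v := by rw [h3, map_one]; rfl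
    have h6 : S.rho (ClassicalGeometry.SympBasic.transv (a + b) 1) v = v := h5
    rw [h6, addV]
  · have h2 : y = g * t * g⁻¹ := by rw [← hyy', h1]
    have h3 : S.ps hyt = tr a * tr b := by
      rw [← d.ps_s]
      unfold Sit.ps
      congr 1
      exact Subtype.ext h2
    rw [hpy] at h3
    -- `d_{a+b} = d_a d_b` is impossible
    have h4 : line a b = 1 := by
      unfold line
      rw [h3]; exact hBC.sq
    exact line_ne_one S hs hl h4

end Cfsg.Agent.Co2Type.CosetB
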