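import Cfsg.Agent.Co2Type.DuoInf

/-!
# A fused involution over `b1` or `c2`: the group `D' = C_{Q'}(t)` (R03, Co2 type, helper595)

`[D, D'] = 1`, `D'` embeds in `C_L(ker n_h)`.  For `r = d_h`: `s = σ d_h` and `D' = σ(R5)`.
-/

set_option autoImplicit false

namespace Cfsg.Agent.Co2Type.CosetB

open Cfsg Subgroup Cfsg.Agent.Co2Type.Quad Cfsg.Agent.Co2Type.Setup Cfsg.Agent.Co2Type.Spin
open Cfsg.Agent.Co2Type.LineMod Cfsg.Agent.Co2Type.Alpha Cfsg.Agent.Co2Type.R5
open Cfsg.Agent.Co2Type.Pair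
open Cfsg.Agent.SporRec.TwoSp6
open Cfsg.Agent.SporRec.TwoSp6.Sp (tr act act_om act_add act_mul act_one conj_tr tr_comm tr_sq act_tr)

theorem line_zero (h : U) : line h 0 = 1 := by
  unfold line
  rw [Sp.tr_zero, mul_one, add_zero, tr_sq]

theorem line_self (h : U) : line h h = 1 := by
  unfold line
  rw [Sp.add_self, Sp.tr_zero, mul_one, tr_sq]

/-- `line a b` depends on `b` only modulo `a` -/
theorem line_add (a b : U) (hab : sf a b = 0) : line a (b + a) = line a b := by
  apply Sp.act_ext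
  intro x
  have h2 : sf a (b + a) = 0 := by rw [sf_add, hab, sf_self, add_zero]
  rw [act_line h2, act_line hab, sf_add, add_smul, smul_add]
  calc x + (sf x b • a + sf x a • a + (sf x a • b + sf x a • a))
      = x + (sf x b • a + sf x a • b) + (sf x a • a + sf x a • a) := by abel
    _ = _ := by rw [Sp.add_self, add_zero]

/-- lines with a common point, general case -/
theorem line_mul_line' {a b c : U} (ab : sf a b = 0) (ac : sf a c = 0) (bc : sf b c = 1) :
    line a b * line a c = line a (b + c) * tr a := by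
  apply Sp.act_ext
  intro x
  have h2 : sf a (b + c) = 0 := by rw [sf_add, ab, ac, add_zero]
  have smulf : ∀ (k : ZMod 2) (y z : U), sf (k • y) z = k * sf y z := fun k y z =>
    Invol.om_smul' k y z
  have aa : sf a a = 0 := sf_self a
  have ca : sf c a = 0 := by rw [sf_comm]; exact ac
  have cb : sf c b = 1 := by rw [sf_comm]; exact bc
  rw [act_mul, act_mul, act_line ab, act_line ac, act_line h2, act_tr]
  have e1 : sf (x + (sf x c • a + sf x a • c)) b = sf x b + sf x a := by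
    rw [sf_add', sf_add', smulf, smulf, ab, cb, mul_zero, mul_one, zero_add]
  have e2 : sf (x + (sf x c • a + sf x a • c)) a = sf x a := by
    rw [sf_add', sf_add', smulf, smulf, aa, ca, mul_zero, mul_zero, add_zero, add_zero]
  have e3 : Sp.om x a = sf x a := rfl
  have e4 : sf (x + sf x a • a) (b + c) = sf x b + sf x c := by
    rw [sf_add', smulf, h2, mul_zero, add_zero, sf_add]
  have e5 : sf (x + sf x a • a) a = sf x a := by
    rw [sf_add', smulf, aa, mul_zero, add_zero]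
  rw [e1, e2, e3, e4, e5]
  simp only [add_smul, smul_add]
  abel

variable {G : Type*} [Group G] {Q Q' : Subgroup G} {t s : G}

namespace Duo

variable {S : Sit G Q t} {S' : Sit G Q' s} {σ : Sp6 →* centralizer ({t} : Set G)} {r : Sp6} {h : U}
variable (d : Duo S S' σ r h)

include d

/-- `[D, D'] = 1` -/
theorem comm_D {x y : G} (hx : x ∈ dsub Q s) (hy : y ∈ dsub Q' t) : x * y = y * x := by
  have h1 := Pair.mem_inf.1 (commutator_mem S.large S'.large hx hy)
  have h2 := d.inf_eq h1.1 h1.2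
  rw [mul_inv_eq_one, mul_inv_eq_iff_eq_mul] at h2
  exact h2

theorem ps_mem {y : G} (hy : y ∈ dsub Q' t) (hyt : y * t = t * y) :
    ∃ w, sf h w = 0 ∧ (S.ps hyt = line h w ∨ S.ps hyt = tr h * line h w) := by
  apply fix_ker d.hs d.H.ne
  intro v hv
  obtain ⟨x, rfl⟩ := S.large.pr_surjective v
  have hx : (x : G) ∈ dsub Q s := (d.mem_D x.2).2 hv
  have h1 := d.comm_D hx hy
  rw [S.rho_ps]
  congr 1
  apply Subtype.ext
  show y * x * y⁻¹ = x
  rw [← h1, mul_inv_cancel_right]

theorem eq_of_ps {y y' : G} (hy : y ∈ dsub Q' t) (hy' : y' ∈ dsub Q' t) (hyt : y * t = t * y)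
    (hyt' : y' * t = t * y') (he : S.ps hyt = S.ps hyt') : y = y' := by
  have h1 : y⁻¹ * t = t * y⁻¹ := (show Commute y t from hyt).inv_left
  have h2 : y⁻¹ * y' * t = t * (y⁻¹ * y') := by rw [mul_assoc, hyt', ← mul_assoc, h1, mul_assoc]
  have h3 : S.ps h2 = 1 := by
    rw [S.ps_mul h1 hyt' h2, S.ps_inv hyt h1, he, inv_mul_cancel]
  rw [S.ps_eq_one] at h3
  have h4 : y⁻¹ * y' ∈ Q' := mul_mem (inv_mem (mem_dsub.1 hy).1) (mem_dsub.1 hy').1
  exact (inv_mul_eq_one.1 (d.inf_eq h3 h4))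

/-- `σ l` normalises `D'` for `l` commuting with `r` -/
theorem conj_D' {l : Sp6} (hl : l * r = r * l) {y : G} (hy : y ∈ dsub Q' t) :
    sg σ l * y * (sg σ l)⁻¹ ∈ dsub Q' t := by
  apply conj_mem_dsub S'.large _ (sg_comm σ l) hy
  apply d.comm_s (sg_comm σ l)
  rw [← sg_mul, hl, sg_mul]

omit d in
theorem ps_sg (hσ : ∀ g, S.psi (σ g) = g) (l : Sp6) : S.ps (sg_comm σ l) = l := hσ l

/-- an element of `D'` over `l` is `σ l` or `t σ l` if a hyperbolic pair commutes with `r` and `l` -/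
theorem eq_sg {l : Sp6} {p p' : U} (hpp : sf p p' = 1) (c1 : r * tr p = tr p * r)
    (c2 : r * tr p' = tr p' * r) (l1 : l * tr p = tr p * l) (l2 : l * tr p' = tr p' * l) {y : G}
    (hy : y ∈ dsub Q' t) (hyt : y * t = t * y) (hps : S.ps hyt = l) :
    y = sg σ l ∨ y = t * sg σ l := by
  have hlt := sg_comm σ l
  have hlit : (sg σ l)⁻¹ * t = t * (sg σ l)⁻¹ := (show Commute (sg σ l) t from hlt).inv_left
  have hδt : y * (sg σ l)⁻¹ * t = t * (y * (sg σ l)⁻¹) := by
    rw [mul_assoc, hlit, ← mul_assoc, hyt, mul_assoc]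
  have hδQ : y * (sg σ l)⁻¹ ∈ Q := by
    rw [← S.ps_eq_one hδt, S.ps_mul hyt hlit hδt, S.ps_inv hlt hlit, hps, ps_sg d.hσ,
      mul_inv_cancel]
  have key : ∀ p : U, r * tr p = tr p * r → l * tr p = tr p * l →
      n S.rho p (S.large.pr ⟨_, hδQ⟩) = 0 := by
    intro p cr cl
    have hpt := sg_comm σ (tr p)
    have hpit : (sg σ (tr p))⁻¹ * t = t * (sg σ (tr p))⁻¹ :=
      (show Commute (sg σ (tr p)) t from hpt).inv_left
    have hm := d.conj_D' (l := tr p) cr.symm hy
    have hmt : sg σ (tr p) * y * (sg σ (tr p))⁻¹ * t = t * (sg σ (tr p) * y * (sg σ (tr p))⁻¹) :=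
      (mem_dsub.1 hm).2
    have h1 : sg σ (tr p) * y * t = t * (sg σ (tr p) * y) := by
      rw [mul_assoc, hyt, ← mul_assoc, hpt, mul_assoc]
    have h2 : sg σ (tr p) * y * (sg σ (tr p))⁻¹ = y := by
      apply d.eq_of_ps hm hy hmt hyt
      rw [S.ps_mul h1 hpit hmt, S.ps_mul hpt hyt h1, S.ps_inv hpt hpit, ps_sg d.hσ, hps, ← cl,
        mul_inv_cancel_right]
    have h3 : sg σ (tr p) * sg σ l = sg σ l * sg σ (tr p) := by rw [← sg_mul, ← cl, sg_mul]
    have h4 := pr_conj S σ (tr p) ⟨_, hδQ⟩ (conj_mem S hpt hδQ) d.hσ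
    have h5 : sg σ (tr p) * (y * (sg σ l)⁻¹) * (sg σ (tr p))⁻¹ = y * (sg σ l)⁻¹ := by
      have h6 : (sg σ l)⁻¹ * (sg σ (tr p))⁻¹ = (sg σ (tr p))⁻¹ * (sg σ l)⁻¹ := by
        rw [← mul_inv_rev, h3, mul_inv_rev]
      calc sg σ (tr p) * (y * (sg σ l)⁻¹) * (sg σ (tr p))⁻¹
          = sg σ (tr p) * y * ((sg σ l)⁻¹ * (sg σ (tr p))⁻¹) := by group
        _ = (sg σ (tr p) * y * (sg σ (tr p))⁻¹) * (sg σ l)⁻¹ := by rw [h6]; group
        _ = _ := by rw [h2]
    have h7 : S.rho (tr p) (S.large.pr ⟨_, hδQ⟩) = S.large.pr ⟨_, hδQ⟩ := by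
      rw [← h4]
      congr 1
      exact Subtype.ext h5
    rw [rho_tr] at h7
    exact (add_eq_left.1 h7)
  have h8 := n_anticomm_apply d.hs p p' (S.large.pr ⟨_, hδQ⟩)
  rw [key p c1 l1, key p' c2 l2, map_zero, map_zero, hpp, one_smul, zero_add] at h8
  rcases S.large.pr_eq_zero.1 h8.symm with h9 | h9
  · left
    simp only at h9
    exact mul_inv_eq_one.1 h9
  · right
    simp only at h9
    exact mul_inv_eq_iff_eq_mul.1 h9

theorem s_mem : s ∈ dsub Q' t := mem_dsub.2 ⟨S'.large.z_mem, d.st⟩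

end Duo

/-! ### the case `b1` -/

namespace Duo

variable {S : Sit G Q t} {S' : Sit G Q' s} {σ : Sp6 →* centralizer ({t} : Set G)} {h : U}
variable (d : Duo S S' σ (tr h) h)

include d

/-- some line element lies in `psi D'` -/
theorem b1_exists_line : ∃ w, IsLine h w ∧ ∃ y, ∃ hy : y ∈ dsub Q' t,
    S.ps (mem_dsub.1 hy).2 = line h w := by
  classical
  have hts : t * s = s * t := d.st.symm
  have hcard := card_cent_ge S' hts S.large.z_sq
  have hfin : Finite (dsub Q' t) := (Nat.card_pos_iff.1 (by omega)).2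
  -- an element different from 1 and s
  obtain ⟨y, hy1, hys⟩ : ∃ y : dsub Q' t, (y : G) ≠ 1 ∧ (y : G) ≠ s := by
    by_contra hno
    push Not at hno
    have hle : Nat.card (dsub Q' t) ≤ 2 := by
      let g : dsub Q' t → ({1, s} : Finset G) := fun y => ⟨y, by
        simp only [Finset.mem_insert, Finset.mem_singleton]
        by_cases hy : (y : G) = 1
        · exact Or.inl hy
        · exact Or.inr (hno y hy)⟩
      have hg : Function.Injective g := by
        intro a b hab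
        exact Subtype.ext (congrArg (fun z : ({1, s} : Finset G) => (z : G)) hab)
      refine (Nat.card_le_card_of_injective g hg).trans ?_
      rw [Nat.card_eq_fintype_card, Fintype.card_coe]
      exact Finset.card_le_two
    omega
  have hyt : (y : G) * t = t * y := (mem_dsub.1 y.2).2
  obtain ⟨w, hw, hl⟩ := d.ps_mem y.2 hyt
  have h1 : S.ps hyt ≠ 1 := by
    rw [Ne, S.ps_eq_one]
    intro hyQ
    exact hy1 (d.inf_eq hyQ (mem_dsub.1 y.2).1)
  have h2 : S.ps hyt ≠ tr h := by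
    intro he
    apply hys
    exact d.eq_of_ps y.2 d.s_mem hyt d.st (he.trans d.ps_s.symm)
  have hhne := d.H.ne
  have hline : IsLine h w := by
    refine ⟨hhne, ?_, ?_, hw⟩
    · rintro rfl
      rw [line_zero, mul_one] at hl
      rcases hl with h3 | h3
      · exact h1 h3
      · exact h2 h3
    · rintro rfl
      rw [line_self, mul_one] at hl
      rcases hl with h3 | h3
      · exact h1 h3
      · exact h2 h3
  refine ⟨w, hline, ?_⟩
  rcases hl with h3 | h3
  · exact ⟨y, y.2, h3⟩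
  · refine ⟨s * y, mul_mem d.s_mem y.2, ?_⟩
    have h4 : s * y * t = t * (s * y) := (mem_dsub.1 (mul_mem d.s_mem y.2)).2
    rw [S.ps_mul d.st hyt h4, d.ps_s, h3, ← mul_assoc, tr_sq, one_mul]

/-- all line elements through `h` lie in `psi D'` -/
theorem b1_line {w : U} (hw : IsLine h w) : ∃ y, ∃ hy : y ∈ dsub Q' t,
    S.ps (mem_dsub.1 hy).2 = line h w := by
  obtain ⟨w0, hw0, y, hy, hps⟩ := d.b1_exists_line
  obtain ⟨g, hg1, hg2⟩ := exists_act_line hw0 hw
  have hgr : g * tr h = tr h * g := by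
    have h1 := conj_tr g h
    rw [hg1, mul_inv_eq_iff_eq_mul] at h1
    exact h1
  have hm := d.conj_D' hgr hy
  refine ⟨_, hm, ?_⟩
  have hgt := sg_comm σ g
  have hgit : (sg σ g)⁻¹ * t = t * (sg σ g)⁻¹ := (show Commute (sg σ g) t from hgt).inv_left
  have hyt := (mem_dsub.1 hy).2
  have h1 : sg σ g * y * t = t * (sg σ g * y) := by
    rw [mul_assoc, hyt, ← mul_assoc, hgt, mul_assoc]
  rw [S.ps_mul h1 hgit (mem_dsub.1 hm).2, S.ps_mul hgt hyt h1, S.ps_inv hgt hgit, ps_sg d.hσ, hps,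
    line_conj, hg1, hg2]

/-- elements of `D'` over a line -/
theorem b1_eq_sg {w : U} (hw : IsLine h w) {y : G} (hy : y ∈ dsub Q' t)
    (hps : S.ps (mem_dsub.1 hy).2 = line h w) : y = sg σ (line h w) ∨ y = t * sg σ (line h w) := by
  obtain ⟨p, p', h1, h2, h3, h4, h5⟩ := LineMod.exists_hyp hw
  exact d.eq_sg h5 (tr_comm h1) (tr_comm h3) (line_comm_tr h1 h2) (line_comm_tr h3 h4) hy _ hps

/-- if `t σ(line h w)` is in `D'` for one line then for all -/
theorem b1_transport {w w' : U} (hw : IsLine h w) (hw' : IsLine h w')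
    (hm : t * sg σ (line h w) ∈ dsub Q' t) : t * sg σ (line h w') ∈ dsub Q' t := by
  obtain ⟨g, hg1, hg2⟩ := exists_act_line hw hw'
  have hgr : g * tr h = tr h * g := by
    have h1 := conj_tr g h
    rw [hg1, mul_inv_eq_iff_eq_mul] at h1
    exact h1
  have h1 := d.conj_D' hgr hm
  have h2 : sg σ g * (t * sg σ (line h w)) * (sg σ g)⁻¹ = t * sg σ (line h w') := by
    calc sg σ g * (t * sg σ (line h w)) * (sg σ g)⁻¹
        = (sg σ g * t) * (sg σ (line h w) * (sg σ g)⁻¹) := by group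
      _ = t * (sg σ g * sg σ (line h w) * (sg σ g)⁻¹) := by rw [sg_comm σ g]; group
      _ = _ := by rw [← sg_inv, ← sg_mul, ← sg_mul, line_conj, hg1, hg2]
  rwa [h2] at h1

theorem b1_line_mem {w : U} (hw : IsLine h w) : sg σ (line h w) ∈ dsub Q' t := by
  obtain ⟨y, hy, hps⟩ := d.b1_line hw
  rcases d.b1_eq_sg hw hy hps with h1 | h1
  · rw [← h1]; exact hy
  exfalso
  rw [h1] at hy
  -- three lines in a plane
  obtain ⟨g, hg⟩ := Sp.exists_act (u := e 0) (w := h) (by decide +kernel) d.H.ne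
  have l1 : IsLine h (act g (e 1)) := by
    have := isLine_act g isLine_e01
    rwa [hg] at this
  have l2 : IsLine h (act g (e 2)) := by
    have := isLine_act g isLine_e02
    rwa [hg] at this
  have l3 : IsLine h (act g (e 1) + act g (e 2)) := by
    have := isLine_act g isLine_e012
    rwa [hg, act_add] at this
  have m1 := d.b1_transport hw l1 hy
  have m2 := d.b1_transport hw l2 hy
  have m3 := d.b1_transport hw l3 hy
  have h12 : sf (act g (e 1)) (act g (e 2)) = 0 := (act_om g _ _).trans (sf_e_e 1 2)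
  have h3 : line h (act g (e 1)) * line h (act g (e 2)) = line h (act g (e 1) + act g (e 2)) :=
    line_mul_line (S := S) d.hs l1.2.2.2 l2.2.2.2 h12
  have m4 := mul_mem m1 m2
  have e4 : t * sg σ (line h (act g (e 1))) * (t * sg σ (line h (act g (e 2)))) =
      sg σ (line h (act g (e 1) + act g (e 2))) := by
    rw [← h3, sg_mul]
    calc t * sg σ (line h (act g (e 1))) * (t * sg σ (line h (act g (e 2))))
        = t * (sg σ (line h (act g (e 1))) * t) * sg σ (line h (act g (e 2))) := by group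
      _ = (t * t) * (sg σ (line h (act g (e 1))) * sg σ (line h (act g (e 2)))) := by
          rw [sg_comm]; group
      _ = _ := by rw [tt S, one_mul]
  rw [e4] at m4
  have m5 := mul_mem m3 (inv_mem m4)
  rw [mul_inv_cancel_right] at m5
  exact d.t_not_mem (mem_dsub.1 m5).1

/-- `σ d_h ∈ D'` -/
theorem b1_tr_mem : sg σ (tr h) ∈ dsub Q' t := by
  obtain ⟨g, hg⟩ := Sp.exists_act (u := e 0) (w := h) (by decide +kernel) d.H.ne
  have l1 : IsLine h (act g (e 1)) := by
    have := isLine_act g isLine_e01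
    rwa [hg] at this
  have i2 : IsLine (e 0) (f 1) := by
    refine ⟨?_, ?_, ?_, ?_⟩
    · decide +kernel
    · decide +kernel
    · decide +kernel
    · rw [sf_e_f]; rfl
  have i3 : IsLine (e 0) (e 1 + f 1) := by
    refine ⟨?_, ?_, ?_, ?_⟩
    · decide +kernel
    · decide +kernel
    · decide +kernel
    · rw [sf_add, sf_e_e, sf_e_f]; rfl
  have l2 : IsLine h (act g (f 1)) := by
    have := isLine_act g i2
    rwa [hg] at this
  have l3 : IsLine h (act g (e 1) + act g (f 1)) := by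
    have := isLine_act g i3
    rwa [hg, act_add] at this
  have h12 : sf (act g (e 1)) (act g (f 1)) = 1 := (act_om g _ _).trans (by
    show sf _ _ = 1
    rw [sf_e_f]; rfl)
  have h3 := line_mul_line' l1.2.2.2 l2.2.2.2 h12
  have h4 : tr h = (line h (act g (e 1) + act g (f 1)))⁻¹ *
      (line h (act g (e 1)) * line h (act g (f 1))) := by
    rw [h3, inv_mul_cancel_left]
  rw [h4, sg_mul, sg_mul, sg_inv]
  exact mul_mem (inv_mem (d.b1_line_mem l3)) (mul_mem (d.b1_line_mem l1) (d.b1_line_mem l2))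

/-- the fused class over the transvections is the class of `σ d_h` -/
theorem b1_eq : s = sg σ (tr h) := by
  apply d.eq_of_ps d.s_mem d.b1_tr_mem d.st (sg_comm σ _)
  rw [d.ps_s, ps_sg d.hσ]

/-- `σ(R5) ≤ D'` -/
theorem b1_sg_mem {w : U} (hw : sf h w = 0) : sg σ (line h w) ∈ dsub Q' t := by
  by_cases h0 : w = 0
  · rw [h0, line_zero, sg_one]; exact one_mem _
  by_cases h1 : w = h
  · rw [h1, line_self, sg_one]; exact one_mem _
  exact d.b1_line_mem ⟨d.H.ne, h0, h1, hw⟩

/-- `D' = σ(R5)` -/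
theorem b1_mem_iff {y : G} : y ∈ dsub Q' t ↔
    ∃ w, sf h w = 0 ∧ (y = sg σ (line h w) ∨ y = sg σ (tr h * line h w)) := by
  constructor
  · intro hy
    have hyt := (mem_dsub.1 hy).2
    obtain ⟨w, hw, hl⟩ := d.ps_mem hy hyt
    refine ⟨w, hw, ?_⟩
    rcases hl with h1 | h1
    · left
      apply d.eq_of_ps hy (d.b1_sg_mem hw) hyt (sg_comm σ _)
      rw [h1, ps_sg d.hσ]
    · right
      apply d.eq_of_ps hy ?_ hyt (sg_comm σ _)
      · rw [h1, ps_sg d.hσ]
      · rw [sg_mul]; exact mul_mem d.b1_tr_mem (d.b1_sg_mem hw)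
  · rintro ⟨w, hw, rfl | rfl⟩
    · exact d.b1_sg_mem hw
    · rw [sg_mul]; exact mul_mem d.b1_tr_mem (d.b1_sg_mem hw)

end Duo

/-- `t σ d_h` is not conjugate to `t` -/
theorem not_tb1 {S : Sit G Q t} {σ : Sp6 →* centralizer ({t} : Set G)}
    (hσ : ∀ g, S.psi (σ g) = g) (hs : SpinHyp S.rho) (wc : WC Q t) {h : U} (hh : h ≠ 0) :
    ¬ IsConj t (t * sg σ (tr h)) := by
  intro hc
  obtain ⟨g, hg⟩ := isConj_iff.1 hc
  have d : Duo S (S.conj g) σ (tr h) h := by
    refine ⟨hσ, hs, wc, wc.conj g, ?_, Or.inl ⟨hh, rfl⟩, Or.inr hg⟩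
    rw [hg]; exact hc
  have h1 := d.b1_eq
  rw [hg] at h1
  exact S.large.z_ne (mul_eq_right.1 h1)

end Cfsg.Agent.Co2Type.CosetB
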