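import Cfsg.Agent.Co2Type.CosetB
import Cfsg.Agent.Co2Type.CentCard

/-!
# A fused involution over `b1` or `c2`: `Q ∩ Q' = 1` (R03, Co2 type, letter B, helper595)

`Duo S S' σ r h`: `s ∈ {σ r, t σ r}` is conjugate to `t`, `Q' = O_2(C(s))`, `r` of type `b1` or `c2`.
-/

set_option autoImplicit false

namespace Cfsg.Agent.Co2Type.CosetB

open Cfsg Subgroup Cfsg.Agent.Co2Type.Quad Cfsg.Agent.Co2Type.Setup Cfsg.Agent.Co2Type.Spin
open Cfsg.Agent.Co2Type.LineMod Cfsg.Agent.Co2Type.Alpha Cfsg.Agent.Co2Type.R5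
open Cfsg.Agent.Co2Type.Pair
open Cfsg.Agent.SporRec.TwoSp6
open Cfsg.Agent.SporRec.TwoSp6.Sp (tr act act_om act_add act_mul act_one conj_tr tr_comm tr_sq act_tr)

variable {G : Type*} [Group G] {Q Q' : Subgroup G} {t s : G}

/-- the situation: a fused involution over `b1` or `c2` -/
structure Duo (S : Sit G Q t) (S' : Sit G Q' s) (σ : Sp6 →* centralizer ({t} : Set G)) (r : Sp6)
    (h : U) : Prop where
  hσ : ∀ g, S.psi (σ g) = g
  hs : SpinHyp S.rho
  wc : WC Q t
  wc' : WC Q' s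
  conj : IsConj t s
  H : BC r h
  sr : s = sg σ r ∨ s = t * sg σ r

namespace Duo

variable {S : Sit G Q t} {S' : Sit G Q' s} {σ : Sp6 →* centralizer ({t} : Set G)} {r : Sp6} {h : U}
variable (d : Duo S S' σ r h)

include d

theorem st : s * t = t * s := by
  have h1 : sg σ r * t = t * sg σ r := sg_comm σ r
  rcases d.sr with h2 | h2
  · rw [h2]; exact h1
  · rw [h2, mul_assoc, h1]

theorem ps_s : S.ps d.st = r := by
  have h1 : sg σ r * t = t * sg σ r := sg_comm σ r
  have h2 : S.ps h1 = r := d.hσ r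
  rcases d.sr with h3 | h3
  · subst h3; exact h2
  · subst h3
    rw [S.ps_mul (x := t) rfl h1, (S.ps_eq_one rfl).2 S.large.z_mem, one_mul, h2]

/-- elements centralising `σ r` and `t` centralise `s` -/
theorem comm_s {x : G} (hx : x * t = t * x) (hr : x * sg σ r = sg σ r * x) : x * s = s * x := by
  rcases d.sr with h2 | h2
  · rw [h2]; exact hr
  · rw [h2, ← mul_assoc, hx, mul_assoc, hr, mul_assoc]

theorem comm_r {x : G} (hx : x * t = t * x) (hxs : x * s = s * x) : x * sg σ r = sg σ r * x := by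
  rcases d.sr with h2 | h2
  · rw [← h2]; exact hxs
  · have h3 : sg σ r = t * s := by
      rw [h2, ← mul_assoc, tt S, one_mul]
    rw [h3, ← mul_assoc, hx, mul_assoc, hxs, mul_assoc]

/-- `C_Q(s)` is the preimage of `ker n_h` -/
theorem mem_D {x : G} (hx : x ∈ Q) : x ∈ dsub Q s ↔ n S.rho h (S.large.pr ⟨x, hx⟩) = 0 := by
  have hxt := comm_t S hx
  rw [mem_dsub]
  constructor
  · rintro ⟨-, hxs⟩
    have h1 := d.comm_r hxt hxs
    rw [← fix_iff d.hs d.H]
    have h2 := pr_conj S σ r ⟨x, hx⟩ (conj_mem S (sg_comm σ r) hx) d.hσ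
    rw [← h2]
    congr 1
    apply Subtype.ext
    show sg σ r * x * (sg σ r)⁻¹ = x
    rw [← h1, mul_inv_cancel_right]
  · intro hn
    exact ⟨hx, d.comm_s hxt (chi_BC S σ d.hσ d.hs d.H hx hn).symm⟩

theorem t_not_mem : t ∉ Q' := by
  refine not_mem_of_wc d.wc' d.conj.symm ?_
  intro he
  have h1 := d.ps_s
  have h2 : S.ps d.st = 1 := by
    rw [S.ps_eq_one]; rw [he]; exact S.large.z_mem
  rw [h2] at h1
  have h3 := (fix_iff d.hs d.H)
  obtain ⟨v, hv⟩ := exists_n_ne d.hs d.H.ne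
  apply hv
  rw [← h3, ← h1, map_one]
  rfl

/-- `J = pr (Q ∩ Q')` -/
def J (S : Sit G Q t) (Q' : Subgroup G) (v : S.large.V) : Prop :=
  ∃ x : Q, (x : G) ∈ Q' ∧ S.large.pr x = v

omit d in
theorem J_add {v w : S.large.V} (hv : J S Q' v) (hw : J S Q' w) : J S Q' (v + w) := by
  obtain ⟨x, hx, rfl⟩ := hv
  obtain ⟨y, hy, rfl⟩ := hw
  exact ⟨x * y, mul_mem hx hy, S.large.pr_mul x y⟩

theorem J_ker {v : S.large.V} (hv : J S Q' v) : n S.rho h v = 0 := by
  obtain ⟨x, hx, rfl⟩ := hv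
  exact (d.mem_D x.2).1 (mem_dsub.2 ⟨x.2, S'.large.comm_z x hx⟩)

/-- `J` is invariant under `n_p` for `p` with `d_p` commuting with `r` -/
theorem J_n {p : U} (hp : r * tr p = tr p * r) {v : S.large.V} (hv : J S Q' v) :
    J S Q' (n S.rho p v) := by
  have h1 : J S Q' (S.rho (tr p) v) := by
    obtain ⟨x, hx, rfl⟩ := hv
    have hpt : sg σ (tr p) * t = t * sg σ (tr p) := sg_comm σ _
    have hps : sg σ (tr p) * s = s * sg σ (tr p) := by
      apply d.comm_s hpt
      rw [← sg_mul, ← hp, sg_mul]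
    have h2 := pr_conj S σ (tr p) x (conj_mem S hpt x.2) d.hσ
    rw [← h2]
    exact ⟨_, S'.large.conj_mem _ hps x hx, rfl⟩
  have h2 := J_add hv h1
  rwa [rho_tr, ← add_assoc, addV, zero_add] at h2

/-- the key relation `β(v, w) = 1` -/
theorem beta {v w v0 : S.large.V} (hv : J S Q' v) (hw : J S Q' w) (hv0 : v ≠ 0) (hw0 : w ≠ 0)
    (hne : v ≠ w) (h0 : v = S.rho r v0 + v0) : S.large.b v0 w = 1 := by
  have hwker := d.J_ker hw
  obtain ⟨w0, hw1⟩ := exists_sub d.hs d.H hwker
  obtain ⟨x, hx, hxv⟩ := hv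
  obtain ⟨y, hy, hyw⟩ := hw
  obtain ⟨q, rfl⟩ := S.large.pr_surjective v0
  obtain ⟨p, rfl⟩ := S.large.pr_surjective w0
  -- `m q = s⁻¹ q s q⁻¹`
  have hst := d.st
  have hsit : s⁻¹ * t = t * s⁻¹ := (show Commute s t from hst).inv_left
  have hm : ∀ q : Q, s⁻¹ * q * s * (q : G)⁻¹ ∈ Q := by
    intro q
    have h1 := S.large.conj_mem s⁻¹ hsit q q.2
    rw [inv_inv] at h1
    exact mul_mem h1 (inv_mem q.2)
  have hpm : ∀ q : Q, S.large.pr ⟨_, hm q⟩ = S.rho r (S.large.pr q) + S.large.pr q := by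
    intro q
    have h1 : S.ps hsit = r := by
      rw [S.ps_inv d.st hsit, d.ps_s]
      exact inv_eq_of_mul_eq_one_left d.H.sq
    have h2 := S.rho_ps hsit q
    rw [h1] at h2
    have h3 : (⟨_, hm q⟩ : Q) = ⟨s⁻¹ * q * (s⁻¹)⁻¹, S.large.conj_mem s⁻¹ hsit q q.2⟩ * q⁻¹ := by
      apply Subtype.ext
      show s⁻¹ * q * s * (q : G)⁻¹ = s⁻¹ * q * (s⁻¹)⁻¹ * (q : G)⁻¹
      rw [inv_inv]
    rw [h3, S.large.pr_mul, ← h2, S.large.pr_inv, S.large.neg_eq]
  -- `m q` is never in `Q'` unless trivial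
  have hW : ∀ q z : Q, (z : G) ∈ Q' → S.large.pr z ≠ 0 →
      S.large.pr z = S.rho r (S.large.pr q) + S.large.pr q → s⁻¹ * q * s * (q : G)⁻¹ = z * t := by
    intro q z hz hz0 hzq
    have h1 : S.large.pr ⟨_, hm q⟩ = S.large.pr z := by rw [hpm, hzq]
    rcases S.large.pr_eq_pr.1 h1 with h2 | h2
    · exfalso
      simp only at h2
      have h3 : (z : G) ≠ 1 := by
        intro h4
        exact hz0 (S.large.pr_eq_zero.2 (Or.inl h4))
      apply not_isConj_mul d.wc' S'.large hz h3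
      rw [isConj_iff]
      refine ⟨q, ?_⟩
      rw [← h2]; group
    · exact h2
  have ex := hW q x hx (by rw [hxv]; exact hv0) (by rw [hxv]; exact h0)
  have ey := hW p y hy (by rw [hyw]; exact hw0) (by rw [hyw]; exact hw1)
  have exy := hW (q * p) (x * y) (mul_mem hx hy) (by
    rw [S.large.pr_mul, hxv, hyw]
    intro h4
    apply hne
    rw [← S.large.neg_eq w]
    exact eq_neg_of_add_eq_zero_left h4) (by
    rw [S.large.pr_mul, S.large.pr_mul, hxv, hyw, map_add]
    conv_lhs => rw [h0, hw1]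
    abel)
  rw [← hyw]
  rcases zmod2_cases (S.large.b (S.large.pr q) (S.large.pr y)) with hb | hb
  · exfalso
    rw [S.large.b_pr] at hb
    have hyt := comm_t S y.2
    have hxt := comm_t S x.2
    have hqt := comm_t S q.2
    have e1 : s⁻¹ * ((q * p : Q) : G) * s * ((q * p : Q) : G)⁻¹ =
        (s⁻¹ * q * s * (q : G)⁻¹) * ((q : G) * (s⁻¹ * p * s * (p : G)⁻¹) * (q : G)⁻¹) := by
      rw [Subgroup.coe_mul]; group
    rw [e1, ex, ey] at exy
    have e2 : (q : G) * (y * t) * (q : G)⁻¹ = y * t := by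
      calc (q : G) * (y * t) * (q : G)⁻¹ = (q * y) * (t * (q : G)⁻¹) := by group
        _ = (y * q) * (t * (q : G)⁻¹) := by rw [hb]
        _ = y * (q * t) * (q : G)⁻¹ := by group
        _ = y * (t * q) * (q : G)⁻¹ := by rw [hqt]
        _ = y * t := by group
    rw [e2] at exy
    have e3 : (x : G) * t * (y * t) = x * y := by
      calc (x : G) * t * (y * t) = x * (t * y) * t := by group
        _ = x * (y * t) * t := by rw [← hyt]
        _ = x * y * (t * t) := by group
        _ = x * y := by rw [tt S, mul_one]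
    rw [e3, Subgroup.coe_mul] at exy
    exact t_ne S (left_eq_mul.1 exy)
  · exact hb

/-- `dim J ≤ 2` -/
theorem dim2 {v w w' : S.large.V} (hv : J S Q' v) (hw : J S Q' w) (hw' : J S Q' w') (v0 : v ≠ 0)
    (w0 : w ≠ 0) (w0' : w' ≠ 0) (hww : w ≠ w') (vw : v ≠ w) (vw' : v ≠ w') (vww : v ≠ w + w') :
    False := by
  obtain ⟨x, hx⟩ := exists_sub d.hs d.H (d.J_ker hv)
  have h1 := d.beta hv hw v0 w0 vw hx
  have h2 := d.beta hv hw' v0 w0' vw' hx
  have h3 := d.beta hv (J_add hw hw') v0 (by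
    intro h4
    apply hww
    rw [← S.large.neg_eq w']
    exact eq_neg_of_add_eq_zero_left h4) vww hx
  rw [map_add, h1, h2] at h3
  exact absurd h3 (by decide)

/-- `n_x J = 0` for `x` orthogonal to a hyperbolic pair -/
theorem n_zero_aux {p p' x : U} (hpp : sf p p' = 1) (cp : r * tr p = tr p * r)
    (cp' : r * tr p' = tr p' * r) (cx : r * tr x = tr x * r) (hxp : sf x p = 0) (hxp' : sf x p' = 0)
    {j : S.large.V} (hj : J S Q' j) (hne : n S.rho p (n S.rho p' (n S.rho x j)) ≠ 0) : False := by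
  have hs := d.hs
  have c1 : ∀ v, n S.rho x (n S.rho p v) = n S.rho p (n S.rho x v) := fun v =>
    n_comm_apply hs hxp v
  have c2 : ∀ v, n S.rho x (n S.rho p' v) = n S.rho p' (n S.rho x v) := fun v =>
    n_comm_apply hs hxp' v
  set e1 := n S.rho p (n S.rho p' (n S.rho x j)) with he1
  set e2 := n S.rho p' (n S.rho x j) with he2
  set e3 := n S.rho p (n S.rho p' j) with he3
  have J1 : J S Q' e1 := d.J_n cp (d.J_n cp' (d.J_n cx hj))
  have J2 : J S Q' e2 := d.J_n cp' (d.J_n cx hj)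
  have J3 : J S Q' e3 := d.J_n cp (d.J_n cp' hj)
  have k1 : n S.rho p e1 = 0 := n_n_apply _ _
  have k3 : n S.rho p e3 = 0 := n_n_apply _ _
  have k2 : n S.rho p e2 = e1 := rfl
  have m3 : n S.rho x e3 = e1 := by rw [he3, c1, c2]
  have m1 : n S.rho x e1 = 0 := by rw [he1, c1, c2, n_n_apply, map_zero, map_zero]
  refine d.dim2 J2 J1 J3 ?_ hne ?_ ?_ ?_ ?_ ?_
  · intro h0; rw [h0, map_zero] at k2; exact hne k2.symm
  · intro h0; rw [h0, map_zero] at m3; exact hne m3.symm
  · intro h0; rw [← h0, m1] at m3; exact hne m3.symm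
  · intro h0; rw [h0, k1] at k2; exact hne k2.symm
  · intro h0; rw [h0, k3] at k2; exact hne k2.symm
  · intro h0; rw [h0, map_add, k1, k3, add_zero] at k2; exact hne k2.symm

theorem n_zero {p p' x : U} (hpp : sf p p' = 1) (cp : r * tr p = tr p * r)
    (cp' : r * tr p' = tr p' * r) (cx : r * tr x = tr x * r) (hxp : sf x p = 0) (hxp' : sf x p' = 0)
    {j : S.large.V} (hj : J S Q' j) : n S.rho x j = 0 := by
  by_contra hne
  have h1 := n_anticomm_apply d.hs p p' (n S.rho x j)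
  rw [hpp, one_smul] at h1
  have h2 : n S.rho p (n S.rho p' (n S.rho x j)) = 0 := by
    by_contra h3
    exact d.n_zero_aux hpp cp cp' cx hxp hxp' hj h3
  have h3 : n S.rho p' (n S.rho p (n S.rho x j)) = 0 := by
    by_contra h3
    exact d.n_zero_aux (by rw [sf_comm]; exact hpp) cp' cp cx hxp' hxp hj h3
  rw [h2, h3, zero_add] at h1
  exact hne h1.symm

/-- `J = 0` -/
theorem J_zero {j : S.large.V} (hj : J S Q' j) : j = 0 := by
  have hs := d.hs
  rcases d.H with ⟨H, hr⟩ | ⟨a, b, hl, hh, hr⟩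
  · obtain ⟨g, hg⟩ := Sp.exists_act (u := e 0) (w := h) (by decide +kernel) H
    have key : ∀ x : U, sf (e 0) x = 0 → r * tr (act g x) = tr (act g x) * r := by
      intro x hx
      rw [hr, ← hg]
      apply tr_comm
      exact (act_om g _ _).trans hx
    have hom : ∀ x y : U, sf (act g x) (act g y) = sf x y := act_om g
    have z1 : sf (e 0) (e 1) = 0 := sf_e_e 0 1
    have z2 : sf (e 0) (f 1) = 0 := by rw [sf_e_f]; rfl
    have z3 : sf (e 0) (e 2) = 0 := sf_e_e 0 2
    have z4 : sf (e 0) (f 2) = 0 := by rw [sf_e_f]; rfl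
    have z5 : sf (e 1) (f 1) = 1 := by rw [sf_e_f]; rfl
    have z6 : sf (e 2) (f 2) = 1 := by rw [sf_e_f]; rfl
    have n1 : n S.rho (act g (e 2)) j = 0 := by
      refine d.n_zero (p := act g (e 1)) (p' := act g (f 1)) ?_ (key _ z1) (key _ z2) (key _ z3) ?_ ?_ hj
      · rw [hom]; exact z5
      · rw [hom]; exact sf_e_e 2 1
      · rw [hom, sf_e_f]; rfl
    have n2 : n S.rho (act g (f 2)) j = 0 := by
      refine d.n_zero (p := act g (e 1)) (p' := act g (f 1)) ?_ (key _ z1) (key _ z2) (key _ z4) ?_ ?_ hj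
      · rw [hom]; exact z5
      · rw [hom, sf_f_e]; rfl
      · rw [hom]; exact sf_f_f 2 1
    have h1 := n_anticomm_apply hs (act g (e 2)) (act g (f 2)) j
    rw [n1, n2, map_zero, map_zero, hom, z6, one_smul, zero_add] at h1
    exact h1.symm
  · obtain ⟨p, p', h1, h2, h3, h4, h5⟩ := LineMod.exists_hyp hl
    have hab := hl.2.2.2
    have cc : ∀ x : U, sf a x = 0 → sf b x = 0 → r * tr x = tr x * r := by
      intro x hx hx'
      have e1 : tr a * tr x = tr x * tr a := tr_comm hx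
      have e2 : tr b * tr x = tr x * tr b := tr_comm hx'
      rw [hr, mul_assoc, e2, ← mul_assoc, e1, mul_assoc]
    have cp := cc p h1 h2
    have cp' := cc p' h3 h4
    have ca := cc a (sf_self a) (by rw [sf_comm]; exact hab)
    have cb := cc b hab (sf_self b)
    have na : ∀ j, J S Q' j → n S.rho a j = 0 := fun j hj => d.n_zero h5 cp cp' ca h1 h3 hj
    have nb : ∀ j, J S Q' j → n S.rho b j = 0 := fun j hj => d.n_zero h5 cp cp' cb h2 h4 hj
    -- the form vanishes on J
    have him : ∀ x, J S Q' x → ∃ y, x = n S.rho a (n S.rho b y) := by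
      intro x hx
      refine im_of_perp hs S.b_rho (fun v hv => S.large.b_nondeg hv) hl ?_ ?_
      · intro v
        rw [← b_n_left S.b_rho, na x hx, map_zero, LinearMap.zero_apply]
      · intro v
        rw [← b_n_left S.b_rho, nb x hx, map_zero, LinearMap.zero_apply]
    have hz : ∀ x y, J S Q' x → J S Q' y → x ≠ 0 → y ≠ 0 → x ≠ y → False := by
      intro x y hx hy hx0 hy0 hxy
      obtain ⟨x0, hx1⟩ := him x hx
      obtain ⟨y0, hy1⟩ := him y hy
      have h0 : x = S.rho r (n S.rho a x0) + n S.rho a x0 := by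
        rw [hr, map_mul, LinearEquiv.mul_apply, rho_tr, rho_tr]
        simp only [map_add, n_n_apply]
        rw [hx1, n_comm_apply hs (show sf b a = 0 by rw [sf_comm]; exact hab), n_n_apply]
        simp only [add_zero]
        rw [add_right_comm, addV, zero_add]
      have hb := d.beta hx hy hx0 hy0 hxy h0
      rw [hy1, b_n_left S.b_rho, n_n_apply, map_zero] at hb
      exact absurd hb (by decide)
    by_contra hj0
    have h6 := n_anticomm_apply hs p p' j
    rw [h5, one_smul] at h6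
    -- e = n_p n_p' j or n_p' n_p j is nonzero
    have aux : ∀ p p' : U, r * tr p = tr p * r → r * tr p' = tr p' * r →
        n S.rho p (n S.rho p' j) ≠ 0 → False := by
      intro p p' cp cp' hne
      refine hz (n S.rho p' j) (n S.rho p (n S.rho p' j)) (d.J_n cp' hj)
        (d.J_n cp (d.J_n cp' hj)) ?_ hne ?_
      · intro h0; rw [h0, map_zero] at hne; exact hne rfl
      · intro h0
        have h7 := congrArg (n S.rho p) h0
        rw [n_n_apply] at h7
        exact hne h7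
    have z1 : n S.rho p (n S.rho p' j) = 0 := by
      by_contra h7; exact aux p p' cp cp' h7
    have z2 : n S.rho p' (n S.rho p j) = 0 := by
      by_contra h7; exact aux p' p cp' cp h7
    rw [z1, z2, zero_add] at h6
    exact hj0 h6.symm

/-- `Q ∩ Q' = 1` -/
theorem inf_eq {x : G} (hx : x ∈ Q) (hx' : x ∈ Q') : x = 1 := by
  have h1 := d.J_zero (j := S.large.pr ⟨x, hx⟩) ⟨⟨x, hx⟩, hx', rfl⟩
  rcases S.large.pr_eq_zero.1 h1 with h2 | h2
  · exact h2
  · exfalso
    have h3 : x = t := h2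
    rw [h3] at hx'
    exact d.t_not_mem hx'

end Duo

end Cfsg.Agent.Co2Type.CosetB
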