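import Cfsg.Agent.Co2Type.ECertChk

/-!
# The group `T/E` acting on `E = F_2^10`: no large abelian subgroup (R03, helper867)

`cert`: `X` a set of commuting matrices of order at most `2` among the 256 matrices `ML`, `A` a set of fixed
vectors of `X`, `|A|` a power of `2` and `|X| * |A| = 1024`; then `X ⊆ {ID}`.
-/

set_option autoImplicit false

namespace Cfsg.Agent.Co2Type.ECert

open Cfsg.Agent.Co2Type.ECertData Cfsg.Agent.Co2Type.ECertChk
open Cfsg.Agent.Lib.PackMat (force force_eq allBelow allBelow_spec)

theorem ID_of_inv {M : ℕ} (hM : M ∈ ML) (h : ∀ a, a < 1024 → app M (app M a) = a) :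
    M = ID ∨ ∃ i < 71, Mi i = M := by
  have h1 := List.all_eq_true.1 inv_check M hM
  rw [invB_of h, Bool.not_true, Bool.false_or, Bool.or_eq_true] at h1
  rcases h1 with h1 | h1
  · exact Or.inl (Nat.eq_of_beq_eq_true h1)
  · right
    by_contra hcon
    push Not at hcon
    rw [allBelow_of, Bool.not_true] at h1
    · exact Bool.noConfusion h1
    · intro i hi
      cases hb : Nat.beq (Mi i) M with
      | false => rfl
      | true => exact absurd (Nat.eq_of_beq_eq_true hb) (hcon i hi)

theorem bit_Fi {i : ℕ} (hi : i < 71) {a : ℕ} (ha : a < 1024) (h : app (Mi i) a = a) : bit (Fi i) a = true := by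
  have h0 : allBelow (fun a => !(Nat.beq (appF (Mi i) a) a) || bit (Fi i) a) 1024 = true :=
    allBelow_spec fix_check i hi
  have h1 := allBelow_spec h0 a ha
  rw [appF_eq, h, Nat.beq_refl, Bool.not_true, Bool.false_or] at h1
  exact h1

theorem adj_of {i j : ℕ} (hi : i < 71) (hj : j < 71) (hij : i ≠ j)
    (h : ∀ a, a < 1024 → app (Mi i) (app (Mi j) a) = app (Mi j) (app (Mi i) a)) : adj i j = true := by
  have key : ∀ i j, i < 71 → j < i →
      (∀ a, a < 1024 → app (Mi i) (app (Mi j) a) = app (Mi j) (app (Mi i) a)) →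
      adj i j = true ∧ adj j i = true := by
    intro i j hi hj h
    have h0 : allBelow (fun j => !(comB (Mi i) (Mi j)) || (adj i j && adj j i)) i = true :=
      allBelow_spec adj_check i hi
    have h1 := allBelow_spec h0 j hj
    rw [comB_of h, Bool.not_true, Bool.false_or, Bool.and_eq_true] at h1
    exact h1
  rcases Nat.lt_or_gt_of_ne hij with h1 | h1
  · exact (key j i hj h1 fun a ha => (h a ha).symm).2
  · exact (key i j hi h1 h).1

/-! ### counting bits -/

theorem le_succ (n x : ℕ) : le (n + 1) x = bif Nat.beq x 0 then true else le n (x &&& (x - 1)) := rfl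

theorem clear_low : ∀ x : ℕ, x ≠ 0 → ∃ b, ∀ a, x.testBit a = true → a = b ∨ (x &&& (x - 1)).testBit a = true := by
  intro x
  induction x using Nat.strong_induction_on with
  | _ x ih =>
    intro hx
    rcases Nat.even_or_odd' x with ⟨y, rfl | rfl⟩
    · have hy : y ≠ 0 := by omega
      obtain ⟨b, hb⟩ := ih y (by omega) hy
      refine ⟨b + 1, fun a ha => ?_⟩
      rcases a with _ | a
      · rw [Nat.testBit_zero] at ha
        simp at ha
      · rw [Nat.testBit_succ, Nat.mul_div_cancel_left _ (by norm_num)] at ha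
        rcases hb a ha with h | h
        · left; rw [h]
        · right
          rw [Nat.testBit_and] at h ⊢
          rw [Nat.testBit_succ, Nat.testBit_succ, Nat.mul_div_cancel_left _ (by norm_num)]
          have : (2 * y - 1) / 2 = y - 1 := by omega
          rw [this]
          exact h
    · refine ⟨0, fun a ha => ?_⟩
      rcases a with _ | a
      · left; rfl
      · right
        rw [Nat.testBit_and, ha]
        rw [Nat.testBit_succ] at ha ⊢
        have h1 : (2 * y + 1) / 2 = y := by omega
        have h2 : (2 * y + 1 - 1) / 2 = y := by omega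
        rw [h1] at ha
        rw [h2, ha]
        rfl

theorem card_le_of_le {n : ℕ} : ∀ {x : ℕ}, le n x = true → ∀ {A : Finset ℕ}, (∀ a ∈ A, x.testBit a = true) →
    A.card ≤ n := by
  induction n with
  | zero =>
    intro x h A hA
    have hx : x = 0 := Nat.eq_of_beq_eq_true h
    rw [Nat.le_zero, Finset.card_eq_zero, Finset.eq_empty_iff_forall_notMem]
    intro a ha
    have := hA a ha
    rw [hx, Nat.zero_testBit] at this
    exact Bool.noConfusion this
  | succ n ih =>
    intro x h A hA
    by_cases hx : x = 0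
    · have : A = ∅ := by
        rw [Finset.eq_empty_iff_forall_notMem]
        intro a ha
        have := hA a ha
        rw [hx, Nat.zero_testBit] at this
        exact Bool.noConfusion this
      rw [this, Finset.card_empty]; exact Nat.zero_le _
    · obtain ⟨b, hb⟩ := clear_low x hx
      rw [le_succ] at h
      have hx' : Nat.beq x 0 = false := by
        cases hb : Nat.beq x 0 with
        | false => rfl
        | true => exact absurd (Nat.eq_of_beq_eq_true hb) hx
      rw [hx', cond_false] at h
      have h1 := ih h (A := A.erase b) (fun a ha => by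
        rw [Finset.mem_erase] at ha
        exact (hb a (hA a ha.2)).resolve_left ha.1)
      have h2 := Finset.pred_card_le_card_erase (s := A) (a := b)
      omega

theorem card_le_cnt (f : ℕ → Bool) : ∀ (n : ℕ) {Y : Finset ℕ}, (∀ y ∈ Y, y < n ∧ f y = true) →
    Y.card ≤ cnt f n := by
  intro n
  induction n with
  | zero =>
    intro Y hY
    have : Y = ∅ := by
      rw [Finset.eq_empty_iff_forall_notMem]
      intro a ha
      exact absurd (hY a ha).1 (Nat.not_lt_zero _)
    rw [this, Finset.card_empty]; exact Nat.zero_le _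
  | succ n ih =>
    intro Y hY
    have e : cnt f (n + 1) = bif f n then cnt f n + 1 else cnt f n := rfl
    have h1 := ih (Y := Y.erase n) (fun y hy => by
      rw [Finset.mem_erase] at hy
      have := hY y hy.2
      exact ⟨by omega, this.2⟩)
    by_cases hn : n ∈ Y
    · have h2 := (hY n hn).2
      have h3 := Finset.card_erase_of_mem hn
      rw [e, h2, cond_true]
      have : 0 < Y.card := Finset.card_pos.2 ⟨n, hn⟩
      omega
    · rw [Finset.erase_eq_of_notMem hn] at h1
      rw [e]
      cases f n
      · exact h1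
      · exact Nat.le_succ_of_le h1

/-! ### the combinatorial core -/

theorem card_pairs (Y : Finset ℕ) : ∀ P : List (ℕ × ℕ), (∀ p ∈ P, ¬ (p.1 ∈ Y ∧ p.2 ∈ Y)) →
    (Y.filter fun y => ∃ p ∈ P, y = p.1 ∨ y = p.2).card ≤ P.length := by
  intro P
  induction P with
  | nil => intro _; simp
  | cons p P ih =>
    intro h
    have h1 := ih fun q hq => h q (List.mem_cons_of_mem _ hq)
    have h2 : (Y.filter fun y => ∃ q ∈ p :: P, y = q.1 ∨ y = q.2) ⊆
        (Y.filter fun y => ∃ q ∈ P, y = q.1 ∨ y = q.2) ∪ (Y.filter fun y => y = p.1 ∨ y = p.2) := by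
      intro y hy
      rw [Finset.mem_filter] at hy
      rw [Finset.mem_union, Finset.mem_filter, Finset.mem_filter]
      obtain ⟨hyY, q, hq, hyq⟩ := hy
      rcases List.mem_cons.1 hq with rfl | hq
      · exact Or.inr ⟨hyY, hyq⟩
      · exact Or.inl ⟨hyY, q, hq, hyq⟩
    have h3 : (Y.filter fun y => y = p.1 ∨ y = p.2).card ≤ 1 := by
      rw [Finset.card_le_one]
      intro a ha b hb
      rw [Finset.mem_filter] at ha hb
      have h4 := h p List.mem_cons_self
      rcases ha with ⟨ha, rfl | rfl⟩ <;> rcases hb with ⟨hb, rfl | rfl⟩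
      · rfl
      · exact absurd ⟨ha, hb⟩ h4
      · exact absurd ⟨hb, ha⟩ h4
      · rfl
    have h4 := (Finset.card_le_card h2).trans (Finset.card_union_le _ _)
    rw [List.length_cons]
    omega

/-- the index set of a set of commuting involutions with common fixed points -/
structure Core (Y A : Finset ℕ) : Prop where
  lt : ∀ i ∈ Y, i < 71
  adj : ∀ i ∈ Y, ∀ j ∈ Y, i ≠ j → adj i j = true
  fix : ∀ i ∈ Y, ∀ a ∈ A, (Fi i).testBit a = true
  pow : ∃ p, A.card = 2 ^ p
  card : 1024 ≤ (Y.card + 1) * A.card

variable {Y A : Finset ℕ}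

theorem Core.card_Y (h : Core Y A) : Y.card ≤ 40 := by
  have h1 := card_pairs Y PP (by
    intro p hp ⟨h1, h2⟩
    have h3 := List.all_eq_true.1 PP_check p hp
    simp only [Bool.and_eq_true, Bool.not_eq_true'] at h3
    obtain ⟨⟨-, h4⟩, h5⟩ := h3
    rw [h.adj _ h1 _ h2 (fun e => by rw [e, Nat.beq_refl] at h5; exact Bool.noConfusion h5)] at h4
    exact Bool.noConfusion h4)
  have h2 : Y ⊆ (Y.filter fun y => ∃ p ∈ PP, y = p.1 ∨ y = p.2) ∪ RR.toFinset := by
    intro y hy
    have h3 := allBelow_spec PP_cover y (h.lt y hy)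
    rw [Finset.mem_union, Finset.mem_filter, List.mem_toFinset]
    simp only [Bool.or_eq_true, List.any_eq_true] at h3
    rcases h3 with ⟨r, hr, h4⟩ | ⟨p, hp, h4⟩
    · right
      rw [← Nat.eq_of_beq_eq_true h4]
      exact hr
    · left
      refine ⟨hy, p, hp, ?_⟩
      rcases h4 with h4 | h4
      · exact Or.inl (Nat.eq_of_beq_eq_true h4).symm
      · exact Or.inr (Nat.eq_of_beq_eq_true h4).symm
  have h3 := (Finset.card_le_card h2).trans (Finset.card_union_le _ _)
  have h4 : RR.toFinset.card ≤ RR.length := List.toFinset_card_le _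
  have h5 : RR.length = 9 := rfl
  have h6 : PP.length = 31 := rfl
  omega

theorem Core.pow_cases (h : Core Y A) {m : ℕ} (hm : A.card < 2 ^ m) : 2 * A.card ≤ 2 ^ m := by
  obtain ⟨p, hp⟩ := h.pow
  rw [hp] at hm ⊢
  have : p < m := (Nat.pow_lt_pow_iff_right (by norm_num)).1 hm
  calc 2 * 2 ^ p = 2 ^ (p + 1) := by rw [pow_succ]; ring
    _ ≤ 2 ^ m := Nat.pow_le_pow_right (by norm_num) this

theorem Core.good_false (h : Core Y A) {g : ℕ} (hg : good g = true) (hAg : ∀ a ∈ A, g.testBit a = true) :
    False := by
  unfold good at hg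
  rw [Bool.and_eq_true, Bool.or_eq_true] at hg
  obtain ⟨hg1, hg2⟩ := hg
  have h1 : A.card ≤ 32 := card_le_of_le hg1 hAg
  have h2 := h.card_Y
  have h3 := h.card
  by_cases h32 : A.card = 32
  · have hnot : ¬ le 16 g = true := by
      intro h4
      have := card_le_of_le h4 hAg
      omega
    have hfew : few g = true := hg2.resolve_left hnot
    set B : Finset ℕ := (Finset.range (g + 1)).filter (fun a => g.testBit a = true) with hB
    have hmB : ∀ a, a ∈ B ↔ g.testBit a = true := by
      intro a
      rw [hB, Finset.mem_filter, Finset.mem_range]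
      constructor
      · exact fun h => h.2
      · intro h4
        refine ⟨?_, h4⟩
        have h5 := Nat.ge_two_pow_of_testBit h4
        have h6 : a < 2 ^ a := Nat.lt_two_pow_self
        omega
    have hAB : A = B := by
      apply Finset.eq_of_subset_of_card_le
      · intro a ha
        exact (hmB a).2 (hAg a ha)
      · rw [h32]
        exact card_le_of_le hg1 fun a ha => (hmB a).1 ha
    have h4 : Y.card ≤ cnt (fun l => Nat.beq (Nat.land (Fi l) g) g) 71 := by
      apply card_le_cnt
      intro l hl
      refine ⟨h.lt l hl, ?_⟩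
      have h5 : Fi l &&& g = g := by
        apply Nat.eq_of_testBit_eq
        intro a
        rw [Nat.testBit_and]
        cases hga : g.testBit a with
        | false => rw [Bool.and_false]
        | true =>
          rw [Bool.and_true]
          apply h.fix l hl
          rw [hAB]
          exact (hmB a).2 hga
      show Nat.beq (Fi l &&& g) g = true
      rw [h5]
      exact Nat.beq_refl g
    have h5 : cnt (fun l => Nat.beq (Nat.land (Fi l) g) g) 71 ≤ 30 := Nat.le_of_ble_eq_true hfew
    rw [h32] at h3
    omega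
  · have h4 := h.pow_cases (m := 5) (by norm_num; omega)
    have h5 : A.card ≤ 16 := by omega
    have h6 : (Y.card + 1) * A.card ≤ 41 * 16 := Nat.mul_le_mul (by omega) h5
    omega

theorem Core.false (h : Core Y A) (hne : Y.Nonempty) : False := by
  obtain ⟨i, hi⟩ := hne
  have hi1 := h.lt i hi
  have hA1 : A.card ≤ 128 := card_le_of_le (allBelow_spec fix_le i hi1) (h.fix i hi)
  have hY1 : 7 ≤ Y.card := by
    by_contra hcon
    have h1 : (Y.card + 1) * A.card ≤ 7 * 128 := Nat.mul_le_mul (by omega) hA1
    have := h.card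
    omega
  -- a second element
  have key : ∀ i ∈ Y, ∀ j ∈ Y, j < i → False := by
    intro i hi j hj hji
    have hi1 := h.lt i hi
    have h0 : allBelow (fun j => !(ECertChk.adj i j) ||
        force (Nat.land (Fi i) (Fi j)) fun f => good f || (le 64 f &&
        Nat.ble (cnt (fun k => ECertChk.adj i k && ECertChk.adj j k && !(force (Nat.land f (Fi k)) good)) 71) 12))
        i = true := allBelow_spec pair_check i hi1
    have h1 := allBelow_spec h0 j hji
    rw [h.adj i hi j hj (by omega), Bool.not_true, Bool.false_or] at h1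
    rw [force_eq, Bool.or_eq_true, Bool.and_eq_true] at h1
    have hf : ∀ a ∈ A, (Nat.land (Fi i) (Fi j)).testBit a = true := by
      intro a ha
      show (Fi i &&& Fi j).testBit a = true
      rw [Nat.testBit_and, h.fix i hi a ha, h.fix j hj a ha]; rfl
    rcases h1 with h1 | ⟨h1, h2⟩
    · exact h.good_false h1 hf
    · have hA2 : A.card ≤ 64 := card_le_of_le h1 hf
      have hY2 : 15 ≤ Y.card := by
        by_contra hcon
        have h1 : (Y.card + 1) * A.card ≤ 15 * 64 := Nat.mul_le_mul (by omega) hA2
        have := h.card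
        omega
      have h3 := Nat.le_of_ble_eq_true h2
      by_contra hfalse
      have h4 : ((Y.erase i).erase j).card ≤ cnt (fun k => ECertChk.adj i k && ECertChk.adj j k &&
          !(force (Nat.land (Nat.land (Fi i) (Fi j)) (Fi k)) good)) 71 := by
        apply card_le_cnt
        intro k hk
        rw [Finset.mem_erase, Finset.mem_erase] at hk
        obtain ⟨hkj, hki, hk⟩ := hk
        refine ⟨h.lt k hk, ?_⟩
        rw [h.adj i hi k hk (Ne.symm hki), h.adj j hj k hk (Ne.symm hkj), force_eq]
        rw [Bool.and_self, Bool.true_and, Bool.not_eq_true']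
        cases hgood : good (Nat.land (Nat.land (Fi i) (Fi j)) (Fi k)) with
        | false => rfl
        | true =>
          exfalso
          apply h.good_false hgood
          intro a ha
          show (Nat.land (Fi i) (Fi j) &&& Fi k).testBit a = true
          rw [Nat.testBit_and, hf a ha, h.fix k hk a ha]; rfl
      have h5 := Finset.pred_card_le_card_erase (s := Y) (a := i)
      have h6 := Finset.pred_card_le_card_erase (s := Y.erase i) (a := j)
      omega
  obtain ⟨j, hj, hji⟩ : ∃ j ∈ Y, j ≠ i := by
    by_contra hcon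
    push Not at hcon
    have : Y.card ≤ 1 := Finset.card_le_one.2 fun a ha b hb => (hcon a ha).trans (hcon b hb).symm
    omega
  rcases Nat.lt_or_gt_of_ne hji with h1 | h1
  · exact key i hi j hj h1
  · exact key j hj i hi h1

/-- **Certificate.** -/
theorem cert (X A : Finset ℕ) (hX : ∀ M ∈ X, M ∈ ML)
    (hinv : ∀ M ∈ X, ∀ a, a < 1024 → app M (app M a) = a)
    (hcom : ∀ M ∈ X, ∀ N ∈ X, ∀ a, a < 1024 → app M (app N a) = app N (app M a))
    (hA : ∀ a ∈ A, a < 1024) (hfix : ∀ M ∈ X, ∀ a ∈ A, app M a = a)
    (hp : ∃ p, A.card = 2 ^ p) (hc : 1024 ≤ X.card * A.card) : ∀ M ∈ X, M = ID := by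
  classical
  by_contra hcon
  push Not at hcon
  obtain ⟨M0, hM0, hM0'⟩ := hcon
  set Y : Finset ℕ := (Finset.range 71).filter (fun i => Mi i ∈ X) with hY
  have hmY : ∀ i, i ∈ Y ↔ i < 71 ∧ Mi i ∈ X := by
    intro i
    rw [hY, Finset.mem_filter, Finset.mem_range]
  have hXY : X.card ≤ Y.card + 1 := by
    have h1 : X ⊆ insert ID (Y.image Mi) := by
      intro M hM
      rw [Finset.mem_insert, Finset.mem_image]
      rcases ID_of_inv (hX M hM) (hinv M hM) with h | ⟨i, hi, h⟩
      · exact Or.inl h
      · exact Or.inr ⟨i, (hmY i).2 ⟨hi, by rw [h]; exact hM⟩, h⟩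
    refine (Finset.card_le_card h1).trans ((Finset.card_insert_le _ _).trans ?_)
    exact Nat.succ_le_succ Finset.card_image_le
  have hcore : Core Y A :=
    { lt := fun i hi => ((hmY i).1 hi).1
      adj := fun i hi j hj hij => by
        obtain ⟨hi1, hi2⟩ := (hmY i).1 hi
        obtain ⟨hj1, hj2⟩ := (hmY j).1 hj
        exact adj_of hi1 hj1 hij (hcom _ hi2 _ hj2)
      fix := fun i hi a ha => by
        obtain ⟨hi1, hi2⟩ := (hmY i).1 hi
        rw [← bit_eq]
        exact bit_Fi hi1 (hA a ha) (hfix _ hi2 a ha)
      pow := hp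
      card := hc.trans (Nat.mul_le_mul_right _ hXY) }
  apply hcore.false
  rcases ID_of_inv (hX M0 hM0) (hinv M0 hM0) with h | ⟨i, hi, h⟩
  · exact absurd h hM0'
  · exact ⟨i, (hmY i).2 ⟨hi, by rw [h]; exact hM0⟩⟩

end Cfsg.Agent.Co2Type.ECert
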