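import Cfsg.Agent.Lib.PackMat
import Cfsg.Agent.Co2Type.ECertData

/-!
# Kernel checks for `ECert` (R03, helper867)
-/

set_option autoImplicit false

namespace Cfsg.Agent.Co2Type.ECertChk

open Cfsg.Agent.Co2Type.ECertData
open Cfsg.Agent.Lib.PackMat (force force_eq allBelow allBelow_spec)

/-! ### matrices on codes -/

/-- `M a`; column `k` of `M` in the bits `10k..10k+9` -/
def app (M a : ℕ) : ℕ :=
  cond (a.testBit 0) ((M >>> 0) &&& 1023) 0 ^^^
  (cond (a.testBit 1) ((M >>> 10) &&& 1023) 0 ^^^
  (cond (a.testBit 2) ((M >>> 20) &&& 1023) 0 ^^^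
  (cond (a.testBit 3) ((M >>> 30) &&& 1023) 0 ^^^
  (cond (a.testBit 4) ((M >>> 40) &&& 1023) 0 ^^^
  (cond (a.testBit 5) ((M >>> 50) &&& 1023) 0 ^^^
  (cond (a.testBit 6) ((M >>> 60) &&& 1023) 0 ^^^
  (cond (a.testBit 7) ((M >>> 70) &&& 1023) 0 ^^^
  (cond (a.testBit 8) ((M >>> 80) &&& 1023) 0 ^^^
  cond (a.testBit 9) ((M >>> 90) &&& 1023) 0))))))))

/-- kernel-fast version of `app` -/
noncomputable def appF (M a : ℕ) : ℕ := force M fun M => force a fun a =>
  Nat.xor (Nat.mul (Nat.land (Nat.shiftRight M 0) 1023) (Nat.land (Nat.shiftRight a 0) 1))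
  (Nat.xor (Nat.mul (Nat.land (Nat.shiftRight M 10) 1023) (Nat.land (Nat.shiftRight a 1) 1))
  (Nat.xor (Nat.mul (Nat.land (Nat.shiftRight M 20) 1023) (Nat.land (Nat.shiftRight a 2) 1))
  (Nat.xor (Nat.mul (Nat.land (Nat.shiftRight M 30) 1023) (Nat.land (Nat.shiftRight a 3) 1))
  (Nat.xor (Nat.mul (Nat.land (Nat.shiftRight M 40) 1023) (Nat.land (Nat.shiftRight a 4) 1))
  (Nat.xor (Nat.mul (Nat.land (Nat.shiftRight M 50) 1023) (Nat.land (Nat.shiftRight a 5) 1))
  (Nat.xor (Nat.mul (Nat.land (Nat.shiftRight M 60) 1023) (Nat.land (Nat.shiftRight a 6) 1))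
  (Nat.xor (Nat.mul (Nat.land (Nat.shiftRight M 70) 1023) (Nat.land (Nat.shiftRight a 7) 1))
  (Nat.xor (Nat.mul (Nat.land (Nat.shiftRight M 80) 1023) (Nat.land (Nat.shiftRight a 8) 1))
  (Nat.mul (Nat.land (Nat.shiftRight M 90) 1023) (Nat.land (Nat.shiftRight a 9) 1))))))))))

theorem mul_bit (m k c : ℕ) : c * ((m >>> k) &&& 1) = cond (m.testBit k) c 0 := by
  have h : (m >>> k) &&& 1 = (m.testBit k).toNat := by
    rw [Nat.and_one_is_mod, Nat.toNat_testBit, Nat.shiftRight_eq_div_pow]
  rw [h]
  cases m.testBit k <;> simp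

theorem appF_eq (M a : ℕ) : appF M a = app M a := by
  unfold app
  rw [← mul_bit a 0, ← mul_bit a 1, ← mul_bit a 2, ← mul_bit a 3, ← mul_bit a 4, ← mul_bit a 5, ← mul_bit a 6,
    ← mul_bit a 7, ← mul_bit a 8, ← mul_bit a 9]
  rfl

theorem allBelow_of {f : ℕ → Bool} {k : ℕ} (h : ∀ x, x < k → f x = true) : allBelow f k = true := by
  induction k with
  | zero => rfl
  | succ k ih =>
    show (bif f k then allBelow f k else false) = true
    rw [h k (Nat.lt_succ_self k), cond_true]
    exact ih fun x hx => h x (Nat.lt_succ_of_lt hx)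

/-- the matrices commute -/
noncomputable def comB (M N : ℕ) : Bool := force M fun M => force N fun N =>
  allBelow (fun k => force (Nat.shiftLeft 1 k) fun a =>
    Nat.beq (appF M (appF N a)) (appF N (appF M a))) 10

theorem pow_lt {k : ℕ} (hk : k < 10) : 1 <<< k < 1024 := by
  rw [Nat.one_shiftLeft]
  calc 2 ^ k < 2 ^ 10 := Nat.pow_lt_pow_right (by norm_num) hk
    _ = 1024 := by norm_num

theorem comB_of {M N : ℕ} (h : ∀ a, a < 1024 → app M (app N a) = app N (app M a)) : comB M N = true := by
  show allBelow (fun k => Nat.beq (appF M (appF N (1 <<< k))) (appF N (appF M (1 <<< k)))) 10 = true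
  apply allBelow_of
  intro k hk
  rw [appF_eq, appF_eq, appF_eq, appF_eq, h _ (pow_lt hk)]
  exact Nat.beq_refl _

/-- the square of the matrix is the identity -/
noncomputable def invB (M : ℕ) : Bool := force M fun M =>
  allBelow (fun k => force (Nat.shiftLeft 1 k) fun a => Nat.beq (appF M (appF M a)) a) 10

theorem invB_of {M : ℕ} (h : ∀ a, a < 1024 → app M (app M a) = a) : invB M = true := by
  show allBelow (fun k => Nat.beq (appF M (appF M (1 <<< k))) (1 <<< k)) 10 = true
  apply allBelow_of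
  intro k hk
  rw [appF_eq, appF_eq, h _ (pow_lt hk)]
  exact Nat.beq_refl _

/-! ### the tables -/

/-- the identity matrix -/
def ID : ℕ := 0x8010020040080100200400801

/-- the `i`-th involution -/
def Mi (i : ℕ) : ℕ := Nat.land (Nat.shiftRight MT (Nat.mul 100 i)) 0xfffffffffffffffffffffffff

/-- the fixed points of the `i`-th involution -/
def Fi (i : ℕ) : ℕ := Nat.land (Nat.shiftRight FT (Nat.mul 1024 i)) (Nat.sub (Nat.pow 2 1024) 1)

/-- the commuting graph -/
def adj (i j : ℕ) : Bool := Nat.beq (Nat.land (Nat.shiftRight AT (Nat.add (Nat.mul 71 i) j)) 1) 1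

/-- bit `a` of `x` -/
def bit (x a : ℕ) : Bool := Nat.beq (Nat.land (Nat.shiftRight x a) 1) 1

theorem bit_eq (x a : ℕ) : bit x a = x.testBit a := by
  have h : (x >>> a) &&& 1 = (x.testBit a).toNat := by
    rw [Nat.and_one_is_mod, Nat.toNat_testBit, Nat.shiftRight_eq_div_pow]
  show Nat.beq ((x >>> a) &&& 1) 1 = _
  rw [h]
  cases x.testBit a <;> rfl

theorem inv_check : (ML.all fun M => !(invB M) || Nat.beq M ID ||
    !(allBelow (fun i => !(Nat.beq (Mi i) M)) 71)) = true := by decide +kernel

theorem fix_check : allBelow (fun i => force (Mi i) fun M => force (Fi i) fun F =>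
    allBelow (fun a => !(Nat.beq (appF M a) a) || bit F a) 1024) 71 = true := by decide +kernel

theorem adj_check : allBelow (fun i => force (Mi i) fun M =>
    allBelow (fun j => !(comB M (Mi j)) || (adj i j && adj j i)) i) 71 = true := by decide +kernel

/-! ### counting -/

/-- at most `n` bits of `x` are set -/
noncomputable def le (n x : ℕ) : Bool :=
  Nat.rec (motive := fun _ => ℕ → Bool) (fun x => Nat.beq x 0)
    (fun _ ih x => bif Nat.beq x 0 then true else force (Nat.land x (Nat.sub x 1)) ih) n x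

/-- the number of `x < n` with `f x` -/
noncomputable def cnt (f : ℕ → Bool) (n : ℕ) : ℕ :=
  Nat.rec (motive := fun _ => ℕ) 0 (fun x ih => bif f x then Nat.succ ih else ih) n

/-- `g` is contained in at most 30 of the sets of fixed points -/
noncomputable def few (g : ℕ) : Bool :=
  Nat.ble (cnt (fun l => Nat.beq (Nat.land (Fi l) g) g) 71) 30

/-- `g` has at most 32 elements, and if it has more than 16 then it is contained in few sets -/
noncomputable def good (g : ℕ) : Bool := le 32 g && (le 16 g || few g)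

theorem fix_le : allBelow (fun i => le 128 (Fi i)) 71 = true := by decide +kernel

theorem pair_check : allBelow (fun i => force (Fi i) fun F => allBelow (fun j => !(adj i j) ||
    force (Nat.land F (Fi j)) fun f => good f || (le 64 f &&
      Nat.ble (cnt (fun k => adj i k && adj j k && !(force (Nat.land f (Fi k)) good)) 71) 12)) i) 71 = true := by
  decide +kernel

theorem PP_check : (PP.all fun p => Nat.blt p.1 71 && Nat.blt p.2 71 && !(adj p.1 p.2) &&
    !(Nat.beq p.1 p.2)) = true := by decide +kernel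

theorem PP_cover : allBelow (fun i => (RR.any fun r => Nat.beq r i) ||
    (PP.any fun p => Nat.beq p.1 i || Nat.beq p.2 i)) 71 = true := by decide +kernel

end Cfsg.Agent.Co2Type.ECertChk
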