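import Cfsg.Agent.Co2Type.ETab

/-!
# The Sylow 2-subgroup `T` of `2^{1+8}_+ : Sp6(2)` and its action on `E` (R03, letter B, helper871)

* `E`, `card_E`, `e_inj`;
* `T`, `card_T : Nat.card T = 2 ^ 18`;
* `exists_mat`: every `x ∈ T` acts on `E` by one of the 256 matrices of the list `ML`;
* `mem_E_of_comm`: `C_T(E) = E`; `center_T`: `Z(T) = {1, t}`.
-/

set_option autoImplicit false

namespace Cfsg.Agent.Co2Type.ETab

open Cfsg Cfsg.Agent.Co2Type.Setup Cfsg.Agent.Co2Type.Spin
open Cfsg.Agent.Co2Type.QModel Cfsg.Agent.Co2Type.Act Cfsg.Agent.Co2Type.Coord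
open Cfsg.Agent.Co2Type.Rels Cfsg.Agent.Co2Type.Abs Cfsg.Agent.Co2Type.FastQ
open Cfsg.Agent.ClassicalGeometry.SympBasic

/-! ### fast application -/

/-- `app` with accelerated operations only -/
def appT (M a : ℕ) : ℕ :=
  Nat.xor (Nat.xor (Nat.xor (Nat.xor (Nat.xor (Nat.xor (Nat.xor (Nat.xor (Nat.xor
    (Nat.mul (Nat.land a 1) (Nat.land M 1023))
    (Nat.mul (Nat.land (Nat.shiftRight a 1) 1) (Nat.land (Nat.shiftRight M 10) 1023)))
    (Nat.mul (Nat.land (Nat.shiftRight a 2) 1) (Nat.land (Nat.shiftRight M 20) 1023)))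
    (Nat.mul (Nat.land (Nat.shiftRight a 3) 1) (Nat.land (Nat.shiftRight M 30) 1023)))
    (Nat.mul (Nat.land (Nat.shiftRight a 4) 1) (Nat.land (Nat.shiftRight M 40) 1023)))
    (Nat.mul (Nat.land (Nat.shiftRight a 5) 1) (Nat.land (Nat.shiftRight M 50) 1023)))
    (Nat.mul (Nat.land (Nat.shiftRight a 6) 1) (Nat.land (Nat.shiftRight M 60) 1023)))
    (Nat.mul (Nat.land (Nat.shiftRight a 7) 1) (Nat.land (Nat.shiftRight M 70) 1023)))
    (Nat.mul (Nat.land (Nat.shiftRight a 8) 1) (Nat.land (Nat.shiftRight M 80) 1023)))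
    (Nat.mul (Nat.land (Nat.shiftRight a 9) 1) (Nat.land (Nat.shiftRight M 90) 1023))

theorem cond_testBit (a k x : ℕ) : cond (a.testBit k) x 0 = ((a >>> k) &&& 1) * x := by
  rw [Nat.and_one_is_mod, Nat.testBit_eq_decide_div_mod_eq, Nat.shiftRight_eq_div_pow]
  rcases Nat.mod_two_eq_zero_or_one (a / 2 ^ k) with h | h
  · rw [h]; simp
  · rw [h]; simp

theorem appT_eq (M a : ℕ) : appT M a = app M a := by
  unfold app
  simp only [cond_testBit, Nat.shiftRight_zero]
  rfl

/-! ### codes of `Q` -/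

theorem dec_inj {m n : ℕ} (hm : m < 512) (hn : n < 512) (h : dec m = dec n) : m = n := by
  have hv := congrArg QM.v h
  have ha := congrArg QM.a h
  have h01 : ∀ b c : Bool, (if b = true then (1 : ZMod 2) else 0) = (if c = true then 1 else 0) → b = c := by
    decide
  apply Nat.eq_of_testBit_eq
  intro i
  by_cases hi : i < 8
  · have := congrFun hv ⟨i, hi⟩
    exact h01 _ _ this
  · by_cases hi8 : i = 8
    · rw [hi8]; exact h01 _ _ ha
    · have h9 : 2 ^ 9 ≤ 2 ^ i := Nat.pow_le_pow_right (by norm_num) (by omega)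
      rw [Nat.testBit_eq_false_of_lt (by omega), Nat.testBit_eq_false_of_lt (by omega)]

theorem dcode_lt : ∀ a < 32, dcode a < 512 ∧ (dcode a = 0 → a = 0) ∧ rword a = [] := by decide +kernel

theorem lo_lt : ∀ k < 4, ∀ a < 1024, Nat.xor a (appT (A k) a) < 32 := by decide +kernel

theorem fix_X : ∀ a < 1024, appT (A 0) a = a ∧ appT (A 1) a = a ∧ appT (A 2) a = a ∧ appT (A 3) a = a → a < 2 := by
  decide +kernel

/-! ### one step of a chain of subgroups -/

section

variable {C : Type*} [Group C]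

/-- `H ∪ H g` -/
def ext (H : Subgroup C) (g : C) (hn : ∀ x ∈ H, g * x * g⁻¹ ∈ H) (hg : g * g ∈ H) : Subgroup C where
  carrier := {x | x ∈ H ∨ x * g ∈ H}
  one_mem' := Or.inl (one_mem _)
  mul_mem' := by
    have hn' : ∀ x ∈ H, g⁻¹ * x * g ∈ H := by
      intro x hx
      have h1 := mul_mem (mul_mem (inv_mem hg) (hn x hx)) hg
      have e : (g * g)⁻¹ * (g * x * g⁻¹) * (g * g) = g⁻¹ * x * g := by group
      rwa [e] at h1
    rintro x y (hx | hx) (hy | hy)
    · exact Or.inl (mul_mem hx hy)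
    · right
      show x * y * g ∈ H
      rw [mul_assoc]; exact mul_mem hx hy
    · right
      show x * y * g ∈ H
      have e : x * y * g = (x * g) * (g⁻¹ * y * g) := by group
      rw [e]; exact mul_mem hx (hn' y hy)
    · left
      have e : x * y = (x * g) * (g⁻¹ * (y * g) * g) * (g * g)⁻¹ := by group
      rw [e]; exact mul_mem (mul_mem hx (hn' _ hy)) (inv_mem hg)
  inv_mem' := by
    rintro x (hx | hx)
    · exact Or.inl (inv_mem hx)
    · right
      show x⁻¹ * g ∈ H
      have e : x⁻¹ * g = (g * (x * g)⁻¹ * g⁻¹) * (g * g) := by group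
      rw [e]; exact mul_mem (hn _ (inv_mem hx)) hg

theorem mem_sup {H : Subgroup C} {g : C} (hn : ∀ x ∈ H, g * x * g⁻¹ ∈ H) (hg : g * g ∈ H) {x : C}
    (hx : x ∈ H ⊔ Subgroup.zpowers g) : x ∈ H ∨ x * g ∈ H := by
  have h : H ⊔ Subgroup.zpowers g ≤ ext H g hn hg := by
    apply sup_le
    · exact fun y hy => Or.inl hy
    · rw [Subgroup.zpowers_le]; exact Or.inr hg
  exact h hx

theorem card_sup {H : Subgroup C} {g : C} (hn : ∀ x ∈ H, g * x * g⁻¹ ∈ H) (hg : g * g ∈ H) (hgH : g ∉ H) :
    Nat.card ↥(H ⊔ Subgroup.zpowers g) = 2 * Nat.card H := by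
  set K := H ⊔ Subgroup.zpowers g with hK
  have hHK : H ≤ K := le_sup_left
  have hgK : g ∈ K := (le_sup_right : Subgroup.zpowers g ≤ K) (Subgroup.mem_zpowers g)
  have h2 : (H.subgroupOf K).index = 2 := by
    rw [Subgroup.index_eq_two_iff]
    refine ⟨⟨g, hgK⟩, ?_⟩
    rintro ⟨b, hb⟩
    rw [Subgroup.mem_subgroupOf, Subgroup.mem_subgroupOf]
    rcases mem_sup hn hg hb with h | h
    · refine Or.inr ⟨h, fun h' => hgH ?_⟩
      have h3 : b * g ∈ H := h'
      have := mul_mem (inv_mem h) h3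
      rwa [inv_mul_cancel_left] at this
    · refine Or.inl ⟨h, fun h' => hgH ?_⟩
      have h3 : b ∈ H := h'
      have := mul_mem (inv_mem h3) h
      rwa [inv_mul_cancel_left] at this
  have h3 := (H.subgroupOf K).card_mul_index
  rw [h2, Nat.card_congr (Subgroup.subgroupOfEquivOfLe hHK).toEquiv] at h3
  rw [← h3, mul_comm]

end

/-! ### the list of the 256 matrices -/

/-- the matrices of `T`; the entry with index `i` is the product of the `A k`, `k` a bit of `i` -/
def ML : List ℕ := [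
  0x8010020040080100200400801, 0x815022244b088110200400801, 0x80d0724455090100240400801, 0x819052645f098110240400801,
  0x8490b20c480a0100200500801, 0x85909228430a8110200500801, 0x8450d2485c0b4100240500801, 0x8550f268560bc110240500801,
  0x8311c214500c0100200400c01, 0x8251f2305a0cc110200400c01, 0x8391a250450d0100240400c01, 0x82d192704e0dc110240400c01,
  0x87d1621c580e0100200500c01, 0x86d15238520ec110200500c01, 0x875112584c0f4100240500c01, 0x86512278470f8110240500c01,
  0xf810020040080180200600801, 0xf9d022244b088190200600801, 0xf910724455090190240600801, 0xf8d052645f098180240600801,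
  0xfe90b20c480a0180200700801, 0xff109228430a8190200700801, 0xffd0d2485c0b4190240700801, 0xfe50f268560bc180240700801,
  0xfd51c214500c0180200700c01, 0xfcd1f2305a0cc190200700c01, 0xfc51a250450d0190240700c01, 0xfdd192704e0dc180240700c01,
  0xfb91621c580e0180200600c01, 0xfa515238520ec190200600c01, 0xfad112584c0f4190240600c01, 0xfb112278470f8180240600c01,
  0x8008040040080180201702801, 0x814894084b088190201602801, 0x80c9141c55090190241702c01, 0x818994145f098180241602c01,
  0x8488342c480a0180201602801, 0x8588a424430a8190201702801, 0x844924345c0b4190241602c01, 0x8549a43c560bc180241702c01,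
  0x83085470500c0180201602c01, 0x8248c47c5a0cc190201702c01, 0x83894468450d0190241602801, 0x82c9c4644e0dc180241702801,
  0x87c87458580e0180201702c01, 0x86c8e454520ec190201602c01, 0x874964444c0f4190241702801, 0x8649e448470f8180241602801,
  0xf808040040080100201d02801, 0xf9c894084b088110201c02801, 0xf909141c55090100241c02c01, 0xf8c994145f098110241d02c01,
  0xfe88342c480a0100201c02801, 0xff08a424430a8110201d02801, 0xffc924345c0b4100241d02c01, 0xfe49a43c560bc110241c02c01,
  0xfd485470500c0100201d02c01, 0xfcc8c47c5a0cc110201c02c01, 0xfc494468450d0100241c02801, 0xfdc9c4644e0dc110241d02801,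
  0xfb887458580e0100201c02c01, 0xfa48e454520ec110201d02c01, 0xfac964444c0f4100241d02801, 0xfb09e448470f8110241c02801,
  0x9014030040080100201402801, 0x939493084b088110201502801, 0x9595231055090100241402c01, 0x9655a3185f098110241502c01,
  0x9694332c480a0100201502801, 0x9554a324430a8110201402801, 0x935513385c0b4100241502c01, 0x90d59330560bc110241402c01,
  0x9714c354500c0100201402c01, 0x94d453585a0cc110201502c01, 0x92d5f344450d0100241402801, 0x915573484e0dc110241502801,
  0x91d4e37c580e0100201502c01, 0x92547370520ec110201402c01, 0x9455d3684c0f4100241502801, 0x97955364470f8110241402801,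
  0xe814030040080180201e02801, 0xeb1493084b088190201f02801, 0xec55231055090190241f02c01, 0xef15a3185f098180241e02c01,
  0xec94332c480a0180201f02801, 0xefd4a324430a8190201e02801, 0xe8d513385c0b4190241e02c01, 0xebd59330560bc180241f02c01,
  0xe954c354500c0180201f02c01, 0xea5453585a0cc190201e02c01, 0xed15f344450d0190241e02801, 0xee5573484e0dc180241f02801,
  0xed94e37c580e0180201e02c01, 0xeed47370520ec190201f02c01, 0xe9d5d3684c0f4190241f02801, 0xead55364470f8180241e02801,
  0x900c050040080180200f00801, 0x938c25244b088190200f00801, 0x958c454855090190240e00801, 0x964c65685f098180240e00801,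
  0x968cb50c480a0180200e00801, 0x954c9528430a8190200e00801, 0x934ce5445c0b4190240f00801, 0x90ccc564560bc180240f00801,
  0x970d5530500c0180200e00c01, 0x94cd65145a0cc190200e00c01, 0x92cd157c450d0190240f00c01, 0x914d255c4e0dc180240f00c01,
  0x91cdf538580e0180200f00c01, 0x924dc51c520ec190200f00c01, 0x944da5744c0f4190240e00c01, 0x978d9554470f8180240e00c01,
  0xe80c050040080100200d00801, 0xeb0c25244b088110200d00801, 0xec4c454855090100240c00801, 0xef0c65685f098110240c00801,
  0xec8cb50c480a0100200c00801, 0xefcc9528430a8110200c00801, 0xe8cce5445c0b4100240d00801, 0xebccc564560bc110240d00801,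
  0xe94d5530500c0100200d00c01, 0xea4d65145a0cc110200d00c01, 0xed0d157c450d0100240c00c01, 0xee4d255c4e0dc110240c00c01,
  0xed8df538580e0100200c00c01, 0xeecdc51c520ec110200c00c01, 0xe9cda5744c0f4100240d00c01, 0xeacd9554470f8110240d00c01,
  0x203e080040080100200d04c01, 0x227e78144b088110200d04801, 0x247e480c55090100240c04c01, 0x267e38185f098110240c04801,
  0x20ffa848480a0100200c04c01, 0x22bfc858430a8110200c04801, 0x24bff8445c0b4100240d04c01, 0x26bf9854560bc110240d04801,
  0x217f5830500c0100200d04801, 0x233f38245a0cc110200d04c01, 0x253f1838450d0100240c04801, 0x273f782c4e0dc110240c04c01,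
  0x21fee87c580e0100200c04801, 0x23be986c520ec110200c04c01, 0x25beb8744c0f4100240d04801, 0x27bec864470f8110240d04c01,
  0x20200f8040080180200f06c01, 0x22605f9c4b088190200f06801, 0x24603f9055090190240e06801, 0x26606f8c5f098180240e06c01,
  0x20e12fe8480a0180200e06c01, 0x22a16ff0430a8190200e06801, 0x24a11ffc5c0b4190240f06801, 0x26a15fe4560bc180240f06c01,
  0x2160cfd4500c0180200e06801, 0x23209fcc5a0cc190200e06c01, 0x2520efc4450d0190240f06c01, 0x2720bfdc4e0dc180240f06801,
  0x21e1ffb8580e0180200f06801, 0x23a1bfa4520ec190200f06c01, 0x25a1dfac4c0f4190240e06c01, 0x27a19fb0470f8180240e06801,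
  0x403e080040080180201e04c01, 0x40be78144b088190201f04801, 0x41fe480c55090190241f04c01, 0x417e38185f098180241e04801,
  0x42ffa848480a0180201f04c01, 0x427fc858430a8190201e04801, 0x437ff8445c0b4190241e04c01, 0x43ff9854560bc180241f04801,
  0x473f5830500c0180201f04801, 0x47ff38245a0cc190201e04c01, 0x46bf1838450d0190241e04801, 0x467f782c4e0dc180241f04c01,
  0x45bee87c580e0180201e04801, 0x457e986c520ec190201f04c01, 0x447eb8744c0f4190241f04801, 0x44bec864470f8180241e04c01,
  0x40200f8040080100201406c01, 0x40a05f9c4b088110201506801, 0x41e03f9055090100241406801, 0x41606f8c5f098110241506c01,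
  0x42e12fe8480a0100201506c01, 0x42616ff0430a8110201406801, 0x43611ffc5c0b4100241506801, 0x43e15fe4560bc110241406c01,
  0x4720cfd4500c0100201406801, 0x47e09fcc5a0cc110201506c01, 0x46a0efc4450d0100241406c01, 0x4660bfdc4e0dc110241506801,
  0x45a1ffb8580e0100201506801, 0x4561bfa4520ec110201406c01, 0x4461dfac4c0f4100241506c01, 0x44a19fb0470f8110241406801,
  0x303a090040080100201d06c01, 0x30bac9384b088110201c06801, 0x313b195855090100241c06801, 0x31bbc9645f098110241d06c01,
  0x32fb2968480a0100201c06c01, 0x327bf954430a8110201d06801, 0x33ba39345c0b4100241d06801, 0x333af90c560bc110241c06c01,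
  0x357a5970500c0100201d06801, 0x35ba994c5a0cc110201c06c01, 0x347b492c450d0100241c06c01, 0x34bb99144e0dc110241d06801,
  0x37fb691c580e0100201c06801, 0x373bb924520ec110201d06c01, 0x36ba79444c0f4100241d06c01, 0x367ab978470f8110241c06801,
  0x30240e8040080180201704c01, 0x30a4eeb04b088190201604801, 0x31256ec455090190241704c01, 0x31a59ef05f098180241604801,
  0x32e5aec8480a0180201604c01, 0x32655efc430a8190201704801, 0x33a4de8c5c0b4190241604c01, 0x33243ebc560bc180241704801,
  0x3565ce94500c0180201604801, 0x35a53ea45a0cc190201704c01, 0x3464bed0450d0190241604801, 0x34a45ee44e0dc180241704c01,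
  0x37e47ed8580e0180201704801, 0x37249eec520ec190201604c01, 0x36a51e9c4c0f4190241704801, 0x3665eeac470f8180241604c01,
  0x503a090040080180200606c01, 0x527ac9384b088190200606801, 0x54bb195855090190240606801, 0x56bbc9645f098180240606c01,
  0x50fb2968480a0180200706c01, 0x52bbf954430a8190200706801, 0x547a39345c0b4190240706801, 0x567af90c560bc180240706c01,
  0x533a5970500c0180200706801, 0x517a994c5a0cc190200706c01, 0x57fb492c450d0190240706c01, 0x55fb99144e0dc180240706801,
  0x53bb691c580e0180200606801, 0x51fbb924520ec190200606c01, 0x577a79444c0f4190240606c01, 0x557ab978470f8180240606801,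
  0x50240e8040080100200404c01, 0x5264eeb04b088110200404801, 0x54a56ec455090100240404c01, 0x56a59ef05f098110240404801,
  0x50e5aec8480a0100200504c01, 0x52a55efc430a8110200504801, 0x5464de8c5c0b4100240504c01, 0x56643ebc560bc110240504801,
  0x5325ce94500c0100200404801, 0x51653ea45a0cc110200404c01, 0x57e4bed0450d0100240404801, 0x55e45ee44e0dc110240404c01,
  0x53a47ed8580e0100200504801, 0x51e49eec520ec110200504c01, 0x57651e9c4c0f4100240504801, 0x5565eeac470f8110240504c01]

/-- the entry with index `i` -/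
def ml (i : ℕ) : ℕ := ML.getD i 0

/-- check of the products: the matrix with index `i + 2 ^ k` is the product of that with index `i` and `A k` -/
def chkM (M M' N : ℕ) : Bool :=
  Nat.beq (col M' 0) (appT M (col N 0)) && Nat.beq (col M' 1) (appT M (col N 1)) &&
  Nat.beq (col M' 2) (appT M (col N 2)) && Nat.beq (col M' 3) (appT M (col N 3)) &&
  Nat.beq (col M' 4) (appT M (col N 4)) && Nat.beq (col M' 5) (appT M (col N 5)) &&
  Nat.beq (col M' 6) (appT M (col N 6)) && Nat.beq (col M' 7) (appT M (col N 7)) &&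
  Nat.beq (col M' 8) (appT M (col N 8)) && Nat.beq (col M' 9) (appT M (col N 9))

/-- check along two lists -/
def chkL (N : ℕ) : List ℕ → List ℕ → Bool
  | [], _ => true
  | _ :: _, [] => false
  | M :: l, M' :: l' => chkM M M' N && chkL N l l'

theorem chkL_all : chkL (A 0) (ML.take 1) (ML.drop 1) = true ∧ chkL (A 1) (ML.take 2) (ML.drop 2) = true ∧
    chkL (A 2) (ML.take 4) (ML.drop 4) = true ∧ chkL (A 3) (ML.take 8) (ML.drop 8) = true ∧
    chkL (A 4) (ML.take 16) (ML.drop 16) = true ∧ chkL (A 5) (ML.take 32) (ML.drop 32) = true ∧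
    chkL (A 6) (ML.take 64) (ML.drop 64) = true ∧ chkL (A 7) (ML.take 128) (ML.drop 128) = true := by
  decide +kernel

/-- two matrices differ on the code `128` or on the code `36` -/
def dif (M N : ℕ) : Bool :=
  !(Nat.beq (appT M 128) (appT N 128)) || !(Nat.beq (appT M 36) (appT N 36))

theorem dif_all : (ML.take 1).all (dif (A 0)) = true ∧ (ML.take 2).all (dif (A 1)) = true ∧
    (ML.take 4).all (dif (A 2)) = true ∧ (ML.take 8).all (dif (A 3)) = true ∧
    (ML.take 16).all (dif (A 4)) = true ∧ (ML.take 32).all (dif (A 5)) = true ∧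
    (ML.take 64).all (dif (A 6)) = true ∧ (ML.take 128).all (dif (A 7)) = true := by decide +kernel

/-! ### linear algebra -/

theorem ap_single (M n k : ℕ) (hk : k < n) : ap M n (2 ^ k) = col M k := by
  have h0 : ∀ m, m ≤ k → ap M m (2 ^ k) = 0 := by
    intro m
    induction m with
    | zero => intro _; rfl
    | succ m ih =>
      intro hm
      rw [ap, ih (by omega), Nat.testBit_two_pow]
      have : ¬ k = m := by omega
      simp [this]
  have h1 : ∀ m, k + 1 + m ≤ n → ap M (k + 1 + m) (2 ^ k) = col M k := by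
    intro m
    induction m with
    | zero =>
      intro _
      rw [Nat.add_zero, ap, h0 k le_rfl, Nat.testBit_two_pow]
      simp
    | succ m ih =>
      intro hm
      rw [← Nat.add_assoc, ap, ih (by omega), Nat.testBit_two_pow]
      have : ¬ k = k + 1 + m := by omega
      simp [this]
  have := h1 (n - (k + 1)) (by omega)
  rwa [show k + 1 + (n - (k + 1)) = n by omega] at this

theorem app_single (M : ℕ) {k : ℕ} (hk : k < 10) : app M (2 ^ k) = col M k := by
  rw [app_eq_ap]; exact ap_single M 10 k hk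

theorem app_zero (M : ℕ) : app M 0 = 0 := by
  have := app_xor M 0 0
  rw [Nat.xor_self, Nat.xor_self] at this
  exact this

theorem chkM_spec {M M' N : ℕ} (h : chkM M M' N = true) (a : ℕ) : app M' a = app M (app N a) := by
  have hc : ∀ k, k < 10 → col M' k = app M (col N k) := by
    simp only [chkM, Bool.and_eq_true, appT_eq] at h
    obtain ⟨⟨⟨⟨⟨⟨⟨⟨⟨h0, h1⟩, h2⟩, h3⟩, h4⟩, h5⟩, h6⟩, h7⟩, h8⟩, h9⟩ := h
    intro k hk
    interval_cases k
    · exact Nat.eq_of_beq_eq_true h0
    · exact Nat.eq_of_beq_eq_true h1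
    · exact Nat.eq_of_beq_eq_true h2
    · exact Nat.eq_of_beq_eq_true h3
    · exact Nat.eq_of_beq_eq_true h4
    · exact Nat.eq_of_beq_eq_true h5
    · exact Nat.eq_of_beq_eq_true h6
    · exact Nat.eq_of_beq_eq_true h7
    · exact Nat.eq_of_beq_eq_true h8
    · exact Nat.eq_of_beq_eq_true h9
  rw [app_eq_ap M', app_eq_ap N]
  have key : ∀ n, n ≤ 10 → ap M' n a = app M (ap N n a) := by
    intro n
    induction n with
    | zero => intro _; exact (app_zero M).symm
    | succ n ih =>
      intro hn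
      rw [ap, ap, app_xor, ih (by omega)]
      split_ifs
      · rw [hc n (by omega)]
      · rw [app_zero]
  exact key 10 le_rfl

theorem chkL_spec (N : ℕ) : ∀ l l' : List ℕ, chkL N l l' = true → ∀ M ∈ l, ∃ M' ∈ l',
    ∀ a, app M' a = app M (app N a)
  | [], _, _, M, hM => absurd hM List.not_mem_nil
  | _ :: _, [], h, _, _ => absurd h (by simp [chkL])
  | M0 :: l, M1 :: l', h, M, hM => by
    rw [chkL, Bool.and_eq_true] at h
    rcases List.mem_cons.1 hM with h1 | h1
    · subst h1
      exact ⟨M1, List.mem_cons_self, chkM_spec h.1⟩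
    · obtain ⟨M', h2, h3⟩ := chkL_spec N l l' h.2 M h1
      exact ⟨M', List.mem_cons_of_mem _ h2, h3⟩

/-- products with the next generator -/
theorem ml_step {k : ℕ} (hk : k < 8) {M : ℕ} (hM : M ∈ ML.take (2 ^ k)) :
    ∃ M' ∈ ML.take (2 ^ (k + 1)), ∀ a, app M' a = app M (app (A k) a) := by
  have hlen : ∀ k < 8, ∀ M' ∈ (ML.drop (2 ^ k)).take (2 ^ k), M' ∈ ML.take (2 ^ (k + 1)) := by
    intro k _ M' h
    have e : ML.take (2 ^ (k + 1)) = ML.take (2 ^ k) ++ (ML.drop (2 ^ k)).take (2 ^ k) := by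
      rw [pow_succ, mul_two, List.take_add]
    rw [e]
    exact List.mem_append_right _ h
  have key : ∀ (n : ℕ) (l l' : List ℕ) (N : ℕ), chkL N l l' = true → l.length ≤ n →
      chkL N l (l'.take n) = true := by
    intro n l
    induction l generalizing n with
    | nil => intro l' N _ _; rfl
    | cons M l ih =>
      intro l' N h hn
      cases l' with
      | nil => simp [chkL] at h
      | cons M' l' =>
        cases n with
        | zero => simp at hn
        | succ n =>
          rw [chkL, Bool.and_eq_true] at h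
          rw [List.take_succ_cons, chkL, Bool.and_eq_true]
          exact ⟨h.1, ih n l' N h.2 (by simpa using hn)⟩
  obtain ⟨h0, h1, h2, h3, h4, h5, h6, h7⟩ := chkL_all
  have fin : ∀ k < 8, chkL (A k) (ML.take (2 ^ k)) (ML.drop (2 ^ k)) = true →
      M ∈ ML.take (2 ^ k) → ∃ M' ∈ ML.take (2 ^ (k + 1)), ∀ a, app M' a = app M (app (A k) a) := by
    intro k hk h hM
    have h' := key (2 ^ k) _ _ _ h (by rw [List.length_take]; exact min_le_left _ _)
    obtain ⟨M', hM', h3⟩ := chkL_spec _ _ _ h' M hM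
    exact ⟨M', hlen k hk M' hM', h3⟩
  apply fin k hk _ hM
  interval_cases k
  · exact h0
  · exact h1
  · exact h2
  · exact h3
  · exact h4
  · exact h5
  · exact h6
  · exact h7

theorem ml_dif {k : ℕ} (hk : k < 8) {M : ℕ} (hM : M ∈ ML.take (2 ^ k)) :
    ∃ a < 1024, app (A k) a ≠ app M a := by
  have spec : ∀ (N : ℕ) (l : List ℕ), l.all (dif N) = true → M ∈ l → ∃ a < 1024, app N a ≠ app M a := by
    intro N l h hM
    have := List.all_eq_true.1 h M hM
    simp only [dif, Bool.or_eq_true, Bool.not_eq_true', appT_eq] at this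
    rcases this with h | h
    · exact ⟨128, by norm_num, fun he => by rw [he, Nat.beq_refl] at h; exact absurd h (by decide)⟩
    · exact ⟨36, by norm_num, fun he => by rw [he, Nat.beq_refl] at h; exact absurd h (by decide)⟩
  obtain ⟨h0, h1, h2, h3, h4, h5, h6, h7⟩ := dif_all
  interval_cases k
  · exact spec _ _ h0 hM
  · exact spec _ _ h1 hM
  · exact spec _ _ h2 hM
  · exact spec _ _ h3 hM
  · exact spec _ _ h4 hM
  · exact spec _ _ h5 hM
  · exact spec _ _ h6 hM
  · exact spec _ _ h7 hM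

/-! ### the groups `E` and `T` -/

theorem gt_rel : (SD.okw ([6] ++ [6]) && SD.okw [] && sameT ([6] ++ [6]) []) = true ∧
    (SD.okw ([3] ++ [3]) && SD.okw [] && sameT ([3] ++ [3]) []) = true ∧
    (SD.okw ([5] ++ [5]) && SD.okw [] && sameT ([5] ++ [5]) []) = true ∧
    (SD.okw ([2, 6, 3, 2] ++ [2, 6, 3, 2]) && SD.okw [] && sameT ([2, 6, 3, 2] ++ [2, 6, 3, 2]) []) = true ∧
    (SD.okw ([3] ++ [6]) && SD.okw ([6] ++ [3]) && sameT ([3] ++ [6]) ([6] ++ [3])) = true ∧
    (SD.okw ([5] ++ [6]) && SD.okw ([6] ++ [5]) && sameT ([5] ++ [6]) ([6] ++ [5])) = true ∧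
    (SD.okw ([5] ++ [3]) && SD.okw ([3] ++ [5]) && sameT ([5] ++ [3]) ([3] ++ [5])) = true ∧
    (SD.okw ([2, 6, 3, 2] ++ [6]) && SD.okw ([3] ++ [2, 6, 3, 2]) &&
      sameT ([2, 6, 3, 2] ++ [6]) ([3] ++ [2, 6, 3, 2])) = true ∧
    (SD.okw ([2, 6, 3, 2] ++ [3]) && SD.okw ([6] ++ [2, 6, 3, 2]) &&
      sameT ([2, 6, 3, 2] ++ [3]) ([6] ++ [2, 6, 3, 2])) = true ∧
    (SD.okw ([2, 6, 3, 2] ++ [5]) && SD.okw ([5] ++ [2, 6, 3, 2]) &&
      sameT ([2, 6, 3, 2] ++ [5]) ([5] ++ [2, 6, 3, 2])) = true := by decide +kernel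

namespace SD

variable {C : Type*} [Group C] {t : C} {ev : QM →* C} {D : ℕ → C} {psi : C →* Sp6} {sg : Sp6 →* C}

theorem e_lt_eq (S : SD t ev D psi sg) {a : ℕ} (ha : a < 1024) (h : e ev D a = 1) : a = 0 := by
  have h1 : ∀ k < 4, appT (A k) a = a := by
    intro k hk
    have h2 : e ev D (app (A k) a) = 1 := by
      rw [← S.conj_gt (by omega) a, h]; group
    have h3 : e ev D (a ^^^ app (A k) a) = 1 := by rw [S.e_xor, h, h2, mul_one]
    have h4 : a ^^^ app (A k) a < 32 := by
      have := lo_lt k hk a ha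
      rw [appT_eq] at this
      exact this
    obtain ⟨h5, h6, h7⟩ := dcode_lt _ h4
    rw [e_eq, h7] at h3
    have h8 : ev (dec (dcode (a ^^^ app (A k) a))) = ev (dec 0) := by
      rw [dec_zero, map_one]
      simpa [wd] using h3
    have h9 := h6 (dec_inj h5 (by norm_num) (S.P.ev_inj h8))
    rw [appT_eq]
    have h10 : (a ^^^ app (A k) a) ^^^ a = 0 ^^^ a := by rw [h9]
    rw [Nat.zero_xor, Nat.xor_comm a, Nat.xor_assoc, Nat.xor_self, Nat.xor_zero] at h10
    exact h10
  have h2 := fix_X a ha ⟨h1 0 (by norm_num), h1 1 (by norm_num), h1 2 (by norm_num), h1 3 (by norm_num)⟩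
  interval_cases a
  · rfl
  · rw [S.e_one] at h
    exact absurd h S.P.t_ne

theorem e_inj (S : SD t ev D psi sg) {a c : ℕ} (ha : a < 1024) (hc : c < 1024)
    (h : e ev D a = e ev D c) : a = c := by
  have h1 : e ev D (a ^^^ c) = 1 := by rw [S.e_xor, h, S.e_sq]
  have h2 : a ^^^ c < 1024 := by
    have : (1024 : ℕ) = 2 ^ 10 := by norm_num
    rw [this] at ha hc ⊢
    exact Nat.xor_lt_two_pow ha hc
  have h3 := S.e_lt_eq h2 h1
  have h4 : (a ^^^ c) ^^^ c = 0 ^^^ c := by rw [h3]
  rwa [Nat.xor_assoc, Nat.xor_self, Nat.xor_zero, Nat.zero_xor] at h4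

end SD

theorem xor_lt {a c : ℕ} (ha : a < 1024) (hc : c < 1024) : a ^^^ c < 1024 := by
  have : (1024 : ℕ) = 2 ^ 10 := by norm_num
  rw [this] at ha hc ⊢
  exact Nat.xor_lt_two_pow ha hc

/-- the elementary abelian subgroup `E` of order `2 ^ 10` -/
def E {C : Type*} [Group C] {t : C} {ev : QM →* C} {D : ℕ → C} {psi : C →* Sp6} {sg : Sp6 →* C}
    (S : SD t ev D psi sg) : Subgroup C where
  carrier := {x | ∃ a < 1024, x = e ev D a}
  one_mem' := ⟨0, by norm_num, SD.e_zero.symm⟩
  mul_mem' := by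
    rintro x y ⟨a, ha, rfl⟩ ⟨c, hc, rfl⟩
    exact ⟨a ^^^ c, xor_lt ha hc, (S.e_xor a c).symm⟩
  inv_mem' := by
    rintro x ⟨a, ha, rfl⟩
    exact ⟨a, ha, inv_eq_of_mul_eq_one_left (S.e_sq a)⟩

/-- the chain of subgroups from `E` to `T` -/
def TT {C : Type*} [Group C] {t : C} {ev : QM →* C} {D : ℕ → C} {psi : C →* Sp6} {sg : Sp6 →* C}
    (S : SD t ev D psi sg) : ℕ → Subgroup C
  | 0 => E S
  | k + 1 => TT S k ⊔ Subgroup.zpowers (gt ev D k)

/-- the Sylow 2-subgroup `T` of order `2 ^ 18` -/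
def T {C : Type*} [Group C] {t : C} {ev : QM →* C} {D : ℕ → C} {psi : C →* Sp6} {sg : Sp6 →* C}
    (S : SD t ev D psi sg) : Subgroup C := TT S 8

namespace SD

variable {C : Type*} [Group C] {t : C} {ev : QM →* C} {D : ℕ → C} {psi : C →* Sp6} {sg : Sp6 →* C}

theorem mem_E (S : SD t ev D psi sg) {x : C} : x ∈ E S ↔ ∃ a < 1024, x = e ev D a := Iff.rfl

theorem e_mem (S : SD t ev D psi sg) {a : ℕ} (ha : a < 1024) : e ev D a ∈ E S := ⟨a, ha, rfl⟩

theorem card_E (S : SD t ev D psi sg) : Nat.card (E S) = 1024 := by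
  have h : Function.Bijective (fun a : Fin 1024 => (⟨e ev D a, S.e_mem a.2⟩ : E S)) := by
    constructor
    · intro a c h
      exact Fin.ext (S.e_inj a.2 c.2 (congrArg Subtype.val h))
    · rintro ⟨x, a, ha, rfl⟩
      exact ⟨⟨a, ha⟩, rfl⟩
  rw [← Nat.card_congr (Equiv.ofBijective _ h), Nat.card_eq_fintype_card, Fintype.card_fin]

theorem TT_mono (S : SD t ev D psi sg) {k l : ℕ} (h : k ≤ l) : TT S k ≤ TT S l := by
  induction l, h using Nat.le_induction with
  | base => exact le_rfl
  | succ l _ ih => exact ih.trans le_sup_left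

theorem gt_mem (S : SD t ev D psi sg) {k l : ℕ} (h : k < l) : gt ev D k ∈ TT S l := by
  have h1 : gt ev D k ∈ TT S (k + 1) :=
    (le_sup_right : Subgroup.zpowers (gt ev D k) ≤ TT S k ⊔ Subgroup.zpowers (gt ev D k))
      (Subgroup.mem_zpowers _)
  exact S.TT_mono h h1

theorem E_le_TT (S : SD t ev D psi sg) (k : ℕ) : E S ≤ TT S k := S.TT_mono (Nat.zero_le k)

theorem ev_two_pow_mem (S : SD t ev D psi sg) (I : ℕ) (hI : I < 9) : ev (dec (2 ^ I)) ∈ TT S 4 := by
  have hE : ∀ k, k < 5 → ev (dec (dc k)) ∈ TT S 4 := by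
    intro k hk
    apply S.E_le_TT 4
    refine ⟨2 ^ k, ?_, ?_⟩
    · calc 2 ^ k ≤ 2 ^ 4 := Nat.pow_le_pow_right (by norm_num) (by omega)
        _ < 1024 := by norm_num
    · rw [e_single (by omega), bs_lo hk]
  interval_cases I
  · exact S.gt_mem (k := 0) (by norm_num)
  · exact hE 1 (by norm_num)
  · exact S.gt_mem (k := 1) (by norm_num)
  · exact hE 2 (by norm_num)
  · exact S.gt_mem (k := 2) (by norm_num)
  · exact hE 3 (by norm_num)
  · exact S.gt_mem (k := 3) (by norm_num)
  · exact hE 4 (by norm_num)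
  · exact hE 0 (by norm_num)

theorem ev_mem (S : SD t ev D psi sg) (x : QM) : ev x ∈ TT S 4 := by
  obtain ⟨m, -, rfl⟩ := ExistsRels.dec_surj x
  have h4 : ∀ (b : Bool) (I : ℕ), I < 9 → ev (if b = true then dec (2 ^ I) else 1) ∈ TT S 4 := by
    intro b I hI
    cases b
    · simp
    · exact S.ev_two_pow_mem I hI
  rw [dec_expand m]
  simp only [map_mul]
  exact mul_mem (mul_mem (mul_mem (mul_mem (mul_mem (mul_mem (mul_mem (mul_mem
    (h4 _ 0 (by norm_num)) (h4 _ 1 (by norm_num))) (h4 _ 2 (by norm_num))) (h4 _ 3 (by norm_num)))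
    (h4 _ 4 (by norm_num))) (h4 _ 5 (by norm_num))) (h4 _ 6 (by norm_num))) (h4 _ 7 (by norm_num)))
    (h4 _ 8 (by norm_num))

theorem gt_sq (S : SD t ev D psi sg) {k : ℕ} (hk : k < 8) : gt ev D k * gt ev D k = 1 := by
  obtain ⟨r0, r1, r2, r3, -⟩ := gt_rel
  have hX : ∀ n, qmul n n = 0 → ev (dec n) * ev (dec n) = 1 := by
    intro n hn
    rw [ev_mul, hn, dec_zero, map_one]
  have hW : ∀ w, (okw (w ++ w) && okw [] && sameT (w ++ w) []) = true → wd D w * wd D w = 1 := by
    intro w hw
    rw [← wd_append]; exact S.same _ [] hw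
  interval_cases k
  · exact hX 1 (by decide)
  · exact hX 4 (by decide)
  · exact hX 16 (by decide)
  · exact hX 64 (by decide)
  · exact hW _ r0
  · exact hW _ r1
  · exact hW _ r2
  · exact hW _ r3

theorem gt_conj_gt (S : SD t ev D psi sg) {k l : ℕ} (hk : k < 8) (hl : l < k) :
    gt ev D k * gt ev D l * (gt ev D k)⁻¹ ∈ TT S k := by
  obtain ⟨-, -, -, -, r4, r5, r6, r7, r8, r9⟩ := gt_rel
  -- words acting on `Q`
  have hQ : ∀ w, okw w = true → ∀ m, m < 512 → 4 ≤ k →
      wd D w * ev (dec m) * (wd D w)⁻¹ ∈ TT S k := by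
    intro w hw m hm h4
    rw [S.conj_wd w hw hm]
    exact S.TT_mono h4 (S.ev_mem _)
  have hc : ∀ w w' w'', (okw (w ++ w') && okw (w'' ++ w) && sameT (w ++ w') (w'' ++ w)) = true →
      wd D w * wd D w' * (wd D w)⁻¹ = wd D w'' := by
    intro w w' w'' h
    rw [mul_inv_eq_iff_eq_mul, ← wd_append, ← wd_append]
    exact S.same _ _ h
  have hXX : ∀ n m, qmul n n = 0 → qmul (qmul n m) n = m →
      ev (dec n) * ev (dec m) * (ev (dec n))⁻¹ = ev (dec m) := by
    intro n m h1 h2
    rw [ev_inv h1, ev_mul, ev_mul, h2]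
  have hev : ∀ m, m < 512 → ∀ k', k = k' → k < 4 ∨ 4 ≤ k := fun m _ k' _ => by omega
  interval_cases k
  · omega
  · interval_cases l
    show ev (dec 4) * ev (dec 1) * (ev (dec 4))⁻¹ ∈ _
    rw [hXX 4 1 (by decide) (by decide)]
    exact S.gt_mem (k := 0) (by norm_num)
  · interval_cases l
    · show ev (dec 16) * ev (dec 1) * (ev (dec 16))⁻¹ ∈ _
      rw [hXX 16 1 (by decide) (by decide)]
      exact S.gt_mem (k := 0) (by norm_num)
    · show ev (dec 16) * ev (dec 4) * (ev (dec 16))⁻¹ ∈ _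
      rw [hXX 16 4 (by decide) (by decide)]
      exact S.gt_mem (k := 1) (by norm_num)
  · interval_cases l
    · show ev (dec 64) * ev (dec 1) * (ev (dec 64))⁻¹ ∈ _
      rw [hXX 64 1 (by decide) (by decide)]
      exact S.gt_mem (k := 0) (by norm_num)
    · show ev (dec 64) * ev (dec 4) * (ev (dec 64))⁻¹ ∈ _
      rw [hXX 64 4 (by decide) (by decide)]
      exact S.gt_mem (k := 1) (by norm_num)
    · show ev (dec 64) * ev (dec 16) * (ev (dec 64))⁻¹ ∈ _
      rw [hXX 64 16 (by decide) (by decide)]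
      exact S.gt_mem (k := 2) (by norm_num)
  · interval_cases l
    · exact hQ [6] (by decide) 1 (by norm_num) (by norm_num)
    · exact hQ [6] (by decide) 4 (by norm_num) (by norm_num)
    · exact hQ [6] (by decide) 16 (by norm_num) (by norm_num)
    · exact hQ [6] (by decide) 64 (by norm_num) (by norm_num)
  · interval_cases l
    · exact hQ [3] (by decide) 1 (by norm_num) (by norm_num)
    · exact hQ [3] (by decide) 4 (by norm_num) (by norm_num)
    · exact hQ [3] (by decide) 16 (by norm_num) (by norm_num)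
    · exact hQ [3] (by decide) 64 (by norm_num) (by norm_num)
    · show wd D [3] * wd D [6] * (wd D [3])⁻¹ ∈ _
      rw [hc _ _ _ r4]
      exact S.gt_mem (k := 4) (by norm_num)
  · interval_cases l
    · exact hQ [5] (by decide) 1 (by norm_num) (by norm_num)
    · exact hQ [5] (by decide) 4 (by norm_num) (by norm_num)
    · exact hQ [5] (by decide) 16 (by norm_num) (by norm_num)
    · exact hQ [5] (by decide) 64 (by norm_num) (by norm_num)
    · show wd D [5] * wd D [6] * (wd D [5])⁻¹ ∈ _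
      rw [hc _ _ _ r5]
      exact S.gt_mem (k := 4) (by norm_num)
    · show wd D [5] * wd D [3] * (wd D [5])⁻¹ ∈ _
      rw [hc _ _ _ r6]
      exact S.gt_mem (k := 5) (by norm_num)
  · interval_cases l
    · exact hQ [2, 6, 3, 2] (by decide) 1 (by norm_num) (by norm_num)
    · exact hQ [2, 6, 3, 2] (by decide) 4 (by norm_num) (by norm_num)
    · exact hQ [2, 6, 3, 2] (by decide) 16 (by norm_num) (by norm_num)
    · exact hQ [2, 6, 3, 2] (by decide) 64 (by norm_num) (by norm_num)
    · show wd D [2, 6, 3, 2] * wd D [6] * (wd D [2, 6, 3, 2])⁻¹ ∈ _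
      rw [hc _ _ _ r7]
      exact S.gt_mem (k := 5) (by norm_num)
    · show wd D [2, 6, 3, 2] * wd D [3] * (wd D [2, 6, 3, 2])⁻¹ ∈ _
      rw [hc _ _ _ r8]
      exact S.gt_mem (k := 4) (by norm_num)
    · show wd D [2, 6, 3, 2] * wd D [5] * (wd D [2, 6, 3, 2])⁻¹ ∈ _
      rw [hc _ _ _ r9]
      exact S.gt_mem (k := 6) (by norm_num)

theorem gt_conj (S : SD t ev D psi sg) {k : ℕ} (hk : k < 8) :
    ∀ x ∈ TT S k, gt ev D k * x * (gt ev D k)⁻¹ ∈ TT S k := by
  have key : ∀ l, l ≤ k → TT S l ≤ (TT S k).comap (MulAut.conj (gt ev D k)).toMonoidHom := by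
    intro l
    induction l with
    | zero =>
      intro _ x hx
      obtain ⟨a, ha, rfl⟩ := hx
      show gt ev D k * e ev D a * (gt ev D k)⁻¹ ∈ TT S k
      rw [S.conj_gt hk]
      exact S.E_le_TT k (S.e_mem (app_lt _ _))
    | succ l ih =>
      intro hl
      apply sup_le (ih (by omega))
      rw [Subgroup.zpowers_le]
      exact S.gt_conj_gt hk hl
  intro x hx
  exact key k le_rfl hx

theorem mem_succ (S : SD t ev D psi sg) {k : ℕ} (hk : k < 8) {x : C} (hx : x ∈ TT S (k + 1)) :
    x ∈ TT S k ∨ x * gt ev D k ∈ TT S k :=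
  mem_sup (S.gt_conj hk) (by rw [S.gt_sq hk]; exact one_mem _) hx

/-- the action of elements of the chain -/
theorem exists_mat_TT (S : SD t ev D psi sg) (k : ℕ) (hk : k ≤ 8) :
    ∀ x ∈ TT S k, ∃ M ∈ ML.take (2 ^ k), ∀ a, x * e ev D a * x⁻¹ = e ev D (app M a) := by
  induction k with
  | zero =>
    rintro x ⟨c, hc, rfl⟩
    refine ⟨0x8010020040080100200400801, by decide +kernel, ?_⟩
    intro a
    have h1 : ∀ k < 10, col 0x8010020040080100200400801 k = 2 ^ k := by decide +kernel
    rw [S.e_comm, mul_inv_cancel_right, app_eq_ap]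
    have key : ∀ n, n ≤ 10 → pe (bs ev D) n a = e ev D (ap 0x8010020040080100200400801 n a) := by
      intro n
      induction n with
      | zero => intro _; exact e_zero.symm
      | succ n ih =>
        intro hn
        rw [pe, ap, S.e_xor, ← ih (by omega)]
        split_ifs
        · rw [h1 n (by omega), e_single (by omega)]
        · rw [e_zero]
    exact key 10 le_rfl
  | succ k ih =>
    intro x hx
    rcases S.mem_succ (by omega) hx with h | h
    · obtain ⟨M, hM, h1⟩ := ih (by omega) x h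
      refine ⟨M, ?_, h1⟩
      have e : ML.take (2 ^ (k + 1)) = ML.take (2 ^ k) ++ (ML.drop (2 ^ k)).take (2 ^ k) := by
        rw [pow_succ, mul_two, List.take_add]
      rw [e]
      exact List.mem_append_left _ hM
    · obtain ⟨M, hM, h1⟩ := ih (by omega) _ h
      obtain ⟨M', hM', h2⟩ := ml_step (by omega) hM
      refine ⟨M', hM', ?_⟩
      intro a
      have hg := S.gt_sq (k := k) (by omega)
      have hx : x = x * gt ev D k * gt ev D k := by rw [mul_assoc, hg, mul_one]
      have h3 : x * e ev D a * x⁻¹ =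
          (x * gt ev D k) * (gt ev D k * e ev D a * (gt ev D k)⁻¹) * (x * gt ev D k)⁻¹ := by
        conv_lhs => rw [hx]
        group
      rw [h3, S.conj_gt (by omega), h1, h2]

/-- the generator `gt k` is not in `TT k`, and elements of `TT (k+1)` not in `TT k` act non-trivially -/
theorem mem_of_comm (S : SD t ev D psi sg) {k : ℕ} (hk : k < 8) {x : C} (hx : x ∈ TT S (k + 1))
    (hc : ∀ a < 1024, x * e ev D a = e ev D a * x) : x ∈ TT S k := by
  rcases S.mem_succ hk hx with h | h
  · exact h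
  exfalso
  obtain ⟨M, hM, h1⟩ := S.exists_mat_TT k (by omega) _ h
  obtain ⟨a, ha, h2⟩ := ml_dif hk hM
  apply h2
  have h3 := h1 a
  have h4 : x * gt ev D k * e ev D a * (x * gt ev D k)⁻¹ = e ev D (app (A k) a) := by
    have h5 := S.conj_gt hk a
    have h6 : x * (gt ev D k * e ev D a * (gt ev D k)⁻¹) = (gt ev D k * e ev D a * (gt ev D k)⁻¹) * x := by
      rw [h5]; exact hc _ (app_lt _ _)
    calc x * gt ev D k * e ev D a * (x * gt ev D k)⁻¹
        = x * (gt ev D k * e ev D a * (gt ev D k)⁻¹) * x⁻¹ := by group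
      _ = _ := by rw [h6, mul_inv_cancel_right, h5]
  rw [h4] at h3
  exact S.e_inj (app_lt _ _) (app_lt _ _) h3

theorem gt_not_mem (S : SD t ev D psi sg) {k : ℕ} (hk : k < 8) : gt ev D k ∉ TT S k := by
  intro h
  obtain ⟨M, hM, h1⟩ := S.exists_mat_TT k (by omega) _ h
  obtain ⟨a, ha, h2⟩ := ml_dif hk hM
  apply h2
  have h3 := h1 a
  rw [S.conj_gt hk] at h3
  exact S.e_inj (app_lt _ _) (app_lt _ _) h3

theorem card_TT (S : SD t ev D psi sg) (k : ℕ) (hk : k ≤ 8) : Nat.card (TT S k) = 2 ^ (10 + k) := by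
  induction k with
  | zero => exact S.card_E
  | succ k ih =>
    have h := card_sup (S.gt_conj (k := k) (by omega)) (by rw [S.gt_sq (by omega)]; exact one_mem _)
      (S.gt_not_mem (k := k) (by omega))
    show Nat.card ↥(TT S k ⊔ Subgroup.zpowers (gt ev D k)) = _
    rw [h, ih (by omega), ← Nat.add_assoc, pow_succ]
    ring

/-- **the order of `T`** -/
theorem card_T (S : SD t ev D psi sg) : Nat.card (T S) = 2 ^ 18 := S.card_TT 8 le_rfl

theorem E_le_T (S : SD t ev D psi sg) : E S ≤ T S := S.E_le_TT 8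

theorem ev_mem_T (S : SD t ev D psi sg) (x : QM) : ev x ∈ T S := S.TT_mono (by norm_num) (S.ev_mem x)

/-- **action of `T` on `E`** -/
theorem exists_mat (S : SD t ev D psi sg) {x : C} (hx : x ∈ T S) :
    ∃ M ∈ ML, ∀ a, x * e ev D a * x⁻¹ = e ev D (app M a) := by
  obtain ⟨M, hM, h⟩ := S.exists_mat_TT 8 le_rfl x hx
  exact ⟨M, List.mem_of_mem_take hM, h⟩

/-- **`C_T(E) = E`** -/
theorem mem_E_of_comm (S : SD t ev D psi sg) {x : C} (hx : x ∈ T S)
    (hc : ∀ a < 1024, x * e ev D a = e ev D a * x) : x ∈ E S := by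
  have key : ∀ k, k ≤ 8 → x ∈ TT S k → x ∈ E S := by
    intro k
    induction k with
    | zero => intro _ h; exact h
    | succ k ih => intro hk h; exact ih (by omega) (S.mem_of_comm (by omega) h hc)
  exact key 8 le_rfl hx

theorem mem_T_t (S : SD t ev D psi sg) : t ∈ T S := by
  have h := S.ev_mem_T (dec 256)
  rwa [S.R.ev_z] at h

end SD

theorem fix_T : ∀ a < 1024, appT (A 0) a = a ∧ appT (A 1) a = a ∧ appT (A 2) a = a ∧ appT (A 3) a = a → a < 2 :=
  fix_X

namespace SD

variable {C : Type*} [Group C] {t : C} {ev : QM →* C} {D : ℕ → C} {psi : C →* Sp6} {sg : Sp6 →* C}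

/-- **`Z(T) = {1, t}`** -/
theorem center_T (S : SD t ev D psi sg) {x : C} (hx : x ∈ T S) (hc : ∀ y ∈ T S, x * y = y * x) :
    x = 1 ∨ x = t := by
  obtain ⟨a, ha, rfl⟩ := S.mem_E_of_comm hx fun a ha => hc _ (S.E_le_T (S.e_mem ha))
  have h1 : ∀ k < 4, appT (A k) a = a := by
    intro k hk
    have h2 := S.conj_gt (k := k) (by omega) a
    have h3 := hc (gt ev D k) (S.gt_mem (by omega))
    rw [← h3, mul_inv_cancel_right] at h2
    rw [appT_eq]
    exact (S.e_inj ha (app_lt _ _) h2).symm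
  have h2 := fix_X a ha ⟨h1 0 (by norm_num), h1 1 (by norm_num), h1 2 (by norm_num), h1 3 (by norm_num)⟩
  interval_cases a
  · left; exact e_zero
  · right; exact S.e_one

end SD

end Cfsg.Agent.Co2Type.ETab
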