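import Cfsg.Agent.Co2Type.EUnique
import Cfsg.Agent.Co2Type.ETab2

/-!
# `N_G(E)` controls the fusion in `E` (R03, helper867)

For `S : SD (tc t) ev D psi sg` on `C = centralizer {t}` (`G` finite, `t ≠ 1`):
* `SD_unique` : an elementary abelian subgroup of order `1024` of `T S` is `E S`;
* `exists_sylow` : `T S` is a Sylow 2-subgroup of `G`;
* `control` : `IsConj (e a) (e b)` in `G` gives `n` normalising `E` and a permutation-like map on the codes.
-/

set_option autoImplicit false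

namespace Cfsg.Agent.Co2Type.EControl

open Cfsg Subgroup Cfsg.Agent.Co2Type.QModel Cfsg.Agent.Co2Type.Abs Cfsg.Agent.Co2Type.ETab
open Cfsg.Agent.Co2Type.EUnique
open Cfsg.Agent.Co2Type.Setup
open Cfsg.Agent.Co2Type.ExistsRels (tc)

theorem ML_eq : ETab.ML = ECertData.ML := by decide +kernel

section

variable {C : Type*} [Group C] {t : C} {ev : QM →* C} {D : ℕ → C} {psi : C →* Sp6} {sg : Sp6 →* C}

theorem td (S : SD t ev D psi sg) : TD (E S) (T S) (e ev D) :=
  { le := S.E_le_T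
    mem_E := fun _ => Iff.rfl
    inj := fun _ _ ha hb h => S.e_inj ha hb h
    act := fun x hx => by
      obtain ⟨M, hM, h⟩ := S.exists_mat hx
      exact ⟨M, ML_eq ▸ hM, fun a _ => h a⟩
    ker := fun x hx h => S.mem_E_of_comm hx fun a ha => h _ (S.e_mem ha) }

theorem E_comm (S : SD t ev D psi sg) : ∀ x ∈ E S, ∀ y ∈ E S, x * y = y * x := by
  rintro x ⟨a, -, rfl⟩ y ⟨b, -, rfl⟩
  exact S.e_comm a b

theorem E_sq (S : SD t ev D psi sg) : ∀ x ∈ E S, x * x = 1 := by
  rintro x ⟨a, -, rfl⟩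
  exact S.e_sq a

/-- `E` is the unique elementary abelian subgroup of order `1024` of `T` -/
theorem unique [Finite C] (S : SD t ev D psi sg) {B : Subgroup C} (hB : B ≤ T S) (hc : Nat.card B = 1024)
    (h1 : ∀ x ∈ B, ∀ y ∈ B, x * y = y * x) (h2 : ∀ x ∈ B, x * x = 1) : B = E S :=
  (td S).unique hB hc h1 h2

end

section

variable {G : Type*} [Group G] [Finite G] {t : G} {ev : QM →* centralizer ({t} : Set G)}
  {D : ℕ → centralizer ({t} : Set G)} {psi : centralizer ({t} : Set G) →* Sp6}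
  {sg : Sp6 →* centralizer ({t} : Set G)}

theorem exists_sylow (S : SD (tc t) ev D psi sg) (ht1 : t ≠ 1)
    (hC : Nat.card (centralizer ({t} : Set G)) = 743178240) :
    ∃ P : Sylow 2 G, (P : Subgroup G) = (T S).map (centralizer ({t} : Set G)).subtype := by
  apply EUnique.exists_sylow ht1 S.card_T hC S.mem_T_t
  intro x hx h
  rcases S.center_T hx h with h1 | h1
  · left; rw [h1]; rfl
  · right; rw [h1]; rfl

/-- **`N_G(E)` controls the fusion in `E`.** There is `n ∈ N_G(E)`, acting on the codes by the linear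
bijection `f`, with `f a = b`. -/
theorem control (S : SD (tc t) ev D psi sg) (ht1 : t ≠ 1)
    (hC : Nat.card (centralizer ({t} : Set G)) = 743178240) {a b : ℕ} (ha : a < 1024) (hb : b < 1024)
    (hab : IsConj ((e ev D a : centralizer ({t} : Set G)) : G) (e ev D b : centralizer ({t} : Set G))) :
    ∃ (n : G) (f : ℕ → ℕ), (∀ c, c < 1024 → f c < 1024 ∧
        n * ((e ev D c : centralizer ({t} : Set G)) : G) * n⁻¹ = (e ev D (f c) : centralizer ({t} : Set G))) ∧
      (∀ c d, c < 1024 → d < 1024 → f (c ^^^ d) = f c ^^^ f d) ∧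
      (∀ c d, c < 1024 → d < 1024 → f c = f d → c = d) ∧
      (∀ d, d < 1024 → ∃ c, c < 1024 ∧ f c = d) ∧ f a = b := by
  classical
  obtain ⟨P, hP⟩ := exists_sylow S ht1 hC
  obtain ⟨n, hn, hnab⟩ := fusion_aux (td S) (E_comm S) (E_sq S) hP (S.e_mem ha) (S.e_mem hb) hab
  have h1 : ∀ c, c < 1024 → ∃ d, d < 1024 ∧
      n * ((e ev D c : centralizer ({t} : Set G)) : G) * n⁻¹ = (e ev D d : centralizer ({t} : Set G)) := by
    intro c hc
    obtain ⟨_, ⟨d, hd, rfl⟩, h⟩ := (hn _).1 ⟨_, S.e_mem hc, rfl⟩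
    exact ⟨d, hd, h.symm⟩
  choose! f hf1 hf2 using h1
  have hinj : ∀ c d, c < 1024 → d < 1024 →
      ((e ev D c : centralizer ({t} : Set G)) : G) = (e ev D d : centralizer ({t} : Set G)) → c = d :=
    fun c d hc hd h => S.e_inj hc hd (Subtype.ext h)
  have hxor : ∀ c d, ((e ev D (c ^^^ d) : centralizer ({t} : Set G)) : G) =
      (e ev D c : centralizer ({t} : Set G)) * (e ev D d : centralizer ({t} : Set G)) := by
    intro c d
    rw [S.e_xor]; rfl
  refine ⟨n, f, fun c hc => ⟨hf1 c hc, hf2 c hc⟩, ?_, ?_, ?_, ?_⟩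
  · intro c d hc hd
    apply hinj _ _ (hf1 _ (xor_lt hc hd)) (xor_lt (hf1 c hc) (hf1 d hd))
    rw [hxor, ← hf2 _ (xor_lt hc hd), ← hf2 c hc, ← hf2 d hd, hxor]
    group
  · intro c d hc hd h
    apply hinj _ _ hc hd
    have h1 := hf2 c hc
    rw [h, ← hf2 d hd] at h1
    exact mul_left_cancel (mul_right_cancel h1)
  · intro d hd
    obtain ⟨_, ⟨c, hc, rfl⟩, h⟩ : n⁻¹ * ((e ev D d : centralizer ({t} : Set G)) : G) * n ∈
        (E S).map (centralizer ({t} : Set G)).subtype := by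
      rw [hn]
      have e1 : n * (n⁻¹ * ((e ev D d : centralizer ({t} : Set G)) : G) * n) * n⁻¹ =
          (e ev D d : centralizer ({t} : Set G)) := by group
      rw [e1]
      exact ⟨_, S.e_mem hd, rfl⟩
    refine ⟨c, hc, ?_⟩
    apply hinj _ _ (hf1 c hc) hd
    rw [← hf2 c hc]
    have h' : ((e ev D c : centralizer ({t} : Set G)) : G) =
        n⁻¹ * ((e ev D d : centralizer ({t} : Set G)) : G) * n := h
    rw [h']; group
  · apply hinj _ _ (hf1 a ha) hb
    rw [← hf2 a ha, hnab]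

end

end Cfsg.Agent.Co2Type.EControl
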