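import Cfsg.Agent.Co2Type.InvClass

/-!
# Involutions over a given type (R03, helper902)
-/

set_option autoImplicit false

namespace Cfsg.Agent.Co2Type.InvClass2

open Cfsg Cfsg.Agent.Co2Type.Setup Cfsg.Agent.Co2Type.Spin
open Cfsg.Agent.Co2Type.QModel Cfsg.Agent.Co2Type.Act Cfsg.Agent.Co2Type.Coord
open Cfsg.Agent.Co2Type.Rels Cfsg.Agent.Co2Type.InvData Cfsg.Agent.Co2Type.Abs
open Cfsg.Agent.Co2Type.Abs.Pre Cfsg.Agent.Co2Type.ExistsRels Cfsg.Agent.Co2Type.InvClass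
open Cfsg.Agent.ClassicalGeometry.SympBasic
open Cfsg.Agent.SporRec.TwoSp6.Sp (tr act conj_tr act_add exists_act exists_pair om)
open Cfsg.Agent.SporRec.TwoSp6.Invol (Ind Orth exists_triple classify)

variable {C : Type*} [Group C] {t : C} {ev : QM →* C} {psi : C →* Sp6} {D : ℕ → C} {eps : Bool}

/-- an involution whose image is conjugate to the `k`-th word -/
theorem over_rp (R : Rels eps t ev D) (P : Pre t ev psi)
    (hpsi : ∀ j, j < 7 → psi (D j) = transv (uv j) 1) {x : C} (hx : x * x = 1) {k : ℕ} (hk : k < 4)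
    {g0 : Sp6} (hg0 : g0 * psi x * g0⁻¹ = psi (wd D (rw' k))) :
    (k < 2 → eps = false) ∧ ∃ g : C, Eqv t (g * x * g⁻¹) (rp ev D k 0) ∨
      (k = 2 ∧ Eqv t (g * x * g⁻¹) (rp ev D k 1)) := by
  obtain ⟨g, rfl⟩ := P.psi_surj g0
  have h3 : psi (g * x * g⁻¹ * (wd D (rw' k))⁻¹) = 1 := by
    rw [map_mul, map_mul, map_mul, map_inv, map_inv, hg0, mul_inv_cancel]
  rw [P.psi_ker] at h3
  obtain ⟨q, hq⟩ := h3
  obtain ⟨m, hm, rfl⟩ := dec_surj q
  have h4 : g * x * g⁻¹ = rp ev D k m := by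
    rw [rp, hq, inv_mul_cancel_right]
  obtain ⟨h5, h6⟩ := split_code m hm
  have h7 : Eqv t (g * x * g⁻¹) (rp ev D k (m &&& 255)) := by
    rw [h4]
    rcases h6 with h6 | h6
    · rw [← h6]; exact eqv_refl _
    · conv_lhs => rw [h6]
      exact eqv_rp P k _
  have h8 : rp ev D k (m &&& 255) * rp ev D k (m &&& 255) = 1 := by
    rw [← Eqv.sq P h7]
    calc g * x * g⁻¹ * (g * x * g⁻¹) = g * (x * x) * g⁻¹ := by group
      _ = 1 := by rw [hx]; group
  obtain ⟨h9, y, h10⟩ := reduce_rp R P hpsi k _ hk h5 h8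
  refine ⟨h9, y * g, ?_⟩
  have e : y * g * x * (y * g)⁻¹ = y * (g * x * g⁻¹) * y⁻¹ := by group
  rw [e]
  have h11 : Eqv t (y * (g * x * g⁻¹) * y⁻¹) (y * rp ev D k (m &&& 255) * y⁻¹) :=
    Eqv.mul' P (Eqv.mul' P (eqv_refl _) h7) (eqv_refl _)
  rcases h10 with h10 | ⟨h10, h12⟩
  · left; exact Eqv.trans' P h11 h10
  · right; exact ⟨h10, Eqv.trans' P h11 h12⟩

/-- exact conjugacy if the representative is conjugate to itself times `t` -/
theorem conj_exact (P : Pre t ev psi) {x r h g : C} (hr : h * r * h⁻¹ = r * t)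
    (hx : Eqv t (g * x * g⁻¹) r) : ∃ k : C, k * x * k⁻¹ = r := by
  rcases hx with hx | hx
  · exact ⟨g, hx⟩
  · refine ⟨h * g, ?_⟩
    calc h * g * x * (h * g)⁻¹ = h * (g * x * g⁻¹) * h⁻¹ := by group
      _ = h * r * (t * h⁻¹) := by rw [hx]; group
      _ = (h * r * h⁻¹) * t := by rw [← P.cent]; group
      _ = r := by rw [hr, mul_assoc, P.t_sq, mul_one]

/-- one class of involutions over `b3` -/
theorem delta_unique (R : Rels eps t ev D) (P : Pre t ev psi)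
    (hpsi : ∀ j, j < 7 → psi (D j) = transv (uv j) 1) {x : C} (hx : x * x = 1) {u w s : U}
    (hi : Ind u w s) (ho : Orth u w s) (hxu : psi x = tr u * tr w * tr s) :
    ∃ g : C, g * x * g⁻¹ = bth D := by
  have htr : ∀ j, j < 7 → psi (D j) = tr (uv j) := hpsi
  obtain ⟨g, hg, hg', hg''⟩ := exists_triple hi ho (show Ind (uv 0) (uv 5) (uv 6) by decide +kernel)
    (show Orth (uv 0) (uv 5) (uv 6) from ⟨by decide +kernel, by decide +kernel, by decide +kernel⟩)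
  have hg0 : g * psi x * g⁻¹ = psi (wd D (rw' 3)) := by
    have e : g * (tr u * tr w * tr s) * g⁻¹ =
      (g * tr u * g⁻¹) * (g * tr w * g⁻¹) * (g * tr s * g⁻¹) := by group
    rw [hxu, e, conj_tr, conj_tr, conj_tr, hg, hg', hg'', wd_three, bth, map_mul, map_mul,
      htr 0 (by norm_num), htr 5 (by norm_num), htr 6 (by norm_num)]
  obtain ⟨-, y, h | ⟨h, -⟩⟩ := over_rp R P hpsi hx (by norm_num) hg0
  · rw [rp_zero, wd_three] at h
    exact conj_exact P (delta_conj R P hpsi) h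
  · exact absurd h (by norm_num)

/-- two involutions over `b3` are conjugate -/
theorem delta_isConj (R : Rels eps t ev D) (P : Pre t ev psi)
    (hpsi : ∀ j, j < 7 → psi (D j) = transv (uv j) 1) {x y : C} (hx : x * x = 1) (hy : y * y = 1)
    {u w s u' w' s' : U} (hi : Ind u w s) (ho : Orth u w s) (hxu : psi x = tr u * tr w * tr s)
    (hi' : Ind u' w' s') (ho' : Orth u' w' s') (hyu : psi y = tr u' * tr w' * tr s') :
    IsConj x y := by
  obtain ⟨g, hg⟩ := delta_unique R P hpsi hx hi ho hxu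
  obtain ⟨h, hh⟩ := delta_unique R P hpsi hy hi' ho' hyu
  rw [isConj_iff]
  refine ⟨h⁻¹ * g, ?_⟩
  calc h⁻¹ * g * x * (h⁻¹ * g)⁻¹ = h⁻¹ * (g * x * g⁻¹) * h := by group
    _ = h⁻¹ * (h * y * h⁻¹) * h := by rw [hg, hh]
    _ = y := by group

/-- involutions over a line: `alpha` or `alpha3` -/
theorem line_cases (R : Rels eps t ev D) (P : Pre t ev psi)
    (hpsi : ∀ j, j < 7 → psi (D j) = transv (uv j) 1) {x : C} (hx : x * x = 1) {u w : U}
    (hu : u ≠ 0) (hw : w ≠ 0) (hne : w ≠ u) (ho : om u w = 0)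
    (hxu : psi x = tr u * tr w * tr (u + w)) :
    (∃ g : C, g * x * g⁻¹ = lin D) ∨ (∃ g : C, g * x * g⁻¹ = lin D * t) ∨
    (∃ g : C, g * x * g⁻¹ = ev (dec 1) * lin D) := by
  have htr : ∀ j, j < 7 → psi (D j) = tr (uv j) := hpsi
  obtain ⟨g, hg, hg'⟩ := exists_pair hu hw hne ho (show uv 3 ≠ 0 by decide +kernel)
      (show uv 5 ≠ 0 by decide +kernel) (show uv 5 ≠ uv 3 by decide +kernel) (by decide +kernel)
  have hg0 : g * psi x * g⁻¹ = psi (wd D (rw' 2)) := by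
    have e : g * (tr u * tr w * tr (u + w)) * g⁻¹ =
      (g * tr u * g⁻¹) * (g * tr w * g⁻¹) * (g * tr (u + w) * g⁻¹) := by group
    have e2 : uv 3 + uv 5 = uv 6 := by decide +kernel
    rw [hxu, e, conj_tr, conj_tr, conj_tr, act_add, hg, hg', e2, wd_two, lin, map_mul, map_mul,
      htr 3 (by norm_num), htr 5 (by norm_num), htr 6 (by norm_num)]
  obtain ⟨-, y, h | ⟨-, h⟩⟩ := over_rp R P hpsi hx (by norm_num) hg0
  · rw [rp_zero, wd_two] at h
    rcases h with h | h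
    · exact Or.inl ⟨y, h⟩
    · exact Or.inr (Or.inl ⟨y, h⟩)
  · right; right
    rw [rp, wd_two] at h
    exact conj_exact P (alpha3_conj R P hpsi) h

/-- involutions over a transvection (only in the split extension) -/
theorem transv_cases (R : Rels eps t ev D) (P : Pre t ev psi)
    (hpsi : ∀ j, j < 7 → psi (D j) = transv (uv j) 1) {x : C} (hx : x * x = 1) {u : U}
    (hu : u ≠ 0) (hxu : psi x = tr u) :
    eps = false ∧ ((∃ g : C, g * x * g⁻¹ = D 0) ∨ (∃ g : C, g * x * g⁻¹ = D 0 * t)) := by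
  have htr : ∀ j, j < 7 → psi (D j) = tr (uv j) := hpsi
  obtain ⟨g, hg⟩ := exists_act hu (show uv 0 ≠ 0 by decide +kernel)
  have e0 : wd D (rw' 0) = D 0 := mul_one _
  have hg0 : g * psi x * g⁻¹ = psi (wd D (rw' 0)) := by
    rw [hxu, conj_tr, hg, e0, htr 0 (by norm_num)]
  obtain ⟨h1, y, h | ⟨h, -⟩⟩ := over_rp R P hpsi hx (by norm_num) hg0
  · rw [rp_zero, e0] at h
    refine ⟨h1 (by norm_num), ?_⟩
    rcases h with h | h
    · exact Or.inl ⟨y, h⟩
    · exact Or.inr ⟨y, h⟩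
  · exact absurd h (by norm_num)

/-- involutions over `c2` (only in the split extension) -/
theorem ctwo_cases (R : Rels eps t ev D) (P : Pre t ev psi)
    (hpsi : ∀ j, j < 7 → psi (D j) = transv (uv j) 1) {x : C} (hx : x * x = 1) {u w : U}
    (hu : u ≠ 0) (hw : w ≠ 0) (hne : w ≠ u) (ho : om u w = 0) (hxu : psi x = tr u * tr w) :
    eps = false ∧ ((∃ g : C, g * x * g⁻¹ = D 0 * D 3) ∨ (∃ g : C, g * x * g⁻¹ = D 0 * D 3 * t)) := by
  have htr : ∀ j, j < 7 → psi (D j) = tr (uv j) := hpsi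
  obtain ⟨g, hg, hg'⟩ := exists_pair hu hw hne ho (show uv 0 ≠ 0 by decide +kernel)
      (show uv 3 ≠ 0 by decide +kernel) (show uv 3 ≠ uv 0 by decide +kernel) (by decide +kernel)
  have e0 : wd D (rw' 1) = D 0 * D 3 := by
    show D 0 * (D 3 * 1) = _
    rw [mul_one]
  have hg0 : g * psi x * g⁻¹ = psi (wd D (rw' 1)) := by
    have e : g * (tr u * tr w) * g⁻¹ = (g * tr u * g⁻¹) * (g * tr w * g⁻¹) := by group
    rw [hxu, e, conj_tr, conj_tr, hg, hg', e0, map_mul, htr 0 (by norm_num), htr 3 (by norm_num)]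
  obtain ⟨h1, y, h | ⟨h, -⟩⟩ := over_rp R P hpsi hx (by norm_num) hg0
  · rw [rp_zero, e0] at h
    refine ⟨h1 (by norm_num), ?_⟩
    rcases h with h | h
    · exact Or.inl ⟨y, h⟩
    · exact Or.inr ⟨y, h⟩
  · exact absurd h (by norm_num)

/-- complete list of the involutions outside `Q` -/
theorem inv_list (R : Rels eps t ev D) (P : Pre t ev psi)
    (hpsi : ∀ j, j < 7 → psi (D j) = transv (uv j) 1) {x : C} (hx : x * x = 1)
    (hxQ : x ∉ ev.range) :
    (eps = false ∧ ((∃ g : C, g * x * g⁻¹ = D 0) ∨ (∃ g : C, g * x * g⁻¹ = D 0 * t) ∨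
      (∃ g : C, g * x * g⁻¹ = D 0 * D 3) ∨ (∃ g : C, g * x * g⁻¹ = D 0 * D 3 * t))) ∨
    (∃ g : C, g * x * g⁻¹ = lin D) ∨ (∃ g : C, g * x * g⁻¹ = lin D * t) ∨
    (∃ g : C, g * x * g⁻¹ = ev (dec 1) * lin D) ∨ (∃ g : C, g * x * g⁻¹ = bth D) := by
  have h1 : psi x * psi x = 1 := by rw [← map_mul, hx, map_one]
  have h2 : psi x ≠ 1 := fun h => hxQ ((P.psi_ker x).1 h)
  rcases classify h1 h2 with ⟨u, hu, h⟩ | ⟨u, w, hu, hw, hne, ho, h⟩ | ⟨u, w, hu, hw, hne, ho, h⟩ |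
    ⟨u, w, s, hi, ho, h⟩
  · obtain ⟨h3, h4⟩ := transv_cases R P hpsi hx hu h
    left
    rcases h4 with h4 | h4
    · exact ⟨h3, Or.inl h4⟩
    · exact ⟨h3, Or.inr (Or.inl h4)⟩
  · obtain ⟨h3, h4⟩ := ctwo_cases R P hpsi hx hu hw hne ho h
    left
    rcases h4 with h4 | h4
    · exact ⟨h3, Or.inr (Or.inr (Or.inl h4))⟩
    · exact ⟨h3, Or.inr (Or.inr (Or.inr h4))⟩
  · rcases line_cases R P hpsi hx hu hw hne ho h with h4 | h4 | h4
    · exact Or.inr (Or.inl h4)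
    · exact Or.inr (Or.inr (Or.inl h4))
    · exact Or.inr (Or.inr (Or.inr (Or.inl h4)))
  · exact Or.inr (Or.inr (Or.inr (Or.inr (delta_unique R P hpsi hx hi ho h))))

end Cfsg.Agent.Co2Type.InvClass2
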