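import Cfsg.Agent.Co2Type.RedGroup3
import Cfsg.Agent.Co2Type.Setup
import Cfsg.Agent.Co2Type.Dichotomy
import Cfsg.Agent.S0215
import Cfsg.Agent.S1180

/-!
# The representation of `Sp6(2)` on `Q/⟨t⟩` is the spin representation (R03, A1 + A2; helper587)

`spin_of_sit`: in the situation of S1675 (`Sit G Q t`, `O(G) = 1`, `Z(G) = 1`) the spin relation holds.
-/

set_option autoImplicit false

namespace Cfsg.Agent.Co2Type.RedMain

open Cfsg.Agent.Co2Type.Quad Cfsg.Agent.Co2Type.Setup Cfsg.Agent.Co2Type.Dichotomy
  Cfsg.Agent.Co2Type.RedGroup Cfsg.Agent.Co2Type.RedGroup2 Cfsg.Agent.Co2Type.RedGroup3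
  Cfsg.Agent.Co2Type.RedLin

variable {G : Type*} [Group G] {Q : Subgroup G} {t : G}

/-- the representation -/
noncomputable def rep (S : Sit G Q t) : Rep S.large.V where
  ρ := S.rho
  q := S.large.q
  b := S.large.b
  q_add := S.large.q_add'
  nondeg := fun _ hx => S.large.b_nondeg hx
  q_inv := S.q_rho
  inj := S.rho_injective
  card := by rw [S.card_V]; norm_num

theorem card_W : Nat.card SympT.W = 64 := by
  rw [Nat.card_eq_fintype_card]
  simp [SympT.W]

/-- all the nonsingular vectors of `v^⊥` other than `v` occur -/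
theorem exists_u {V : Type*} [AddCommGroup V] [Module (ZMod 2) V] [Finite V] (R : Rep V) {v : V}
    (hR : R.Red v) (a : V) (ha : R.q a = 1) (hav : R.b a v = 0) (hne : a ≠ v) :
    ∃ u, ∀ x, R.ρ (SympT.T u) x = x + R.b x a • a + R.b x v • v := by
  classical
  have hQF : QF R.q R.b := ⟨R.q_add, R.nondeg⟩
  have hroot := hR.root
  choose! F h1 h2 h3 using hroot
  let S1 : Type _ := {a : V // R.q a = 1 ∧ R.b a v = 0}
  let F' : SympT.W → S1 := fun u => if h : u = 0 then ⟨v, hR.q_v, R.b_self v⟩ else
    ⟨F u, h1 u h, h2 u h⟩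
  have hinj : Function.Injective F' := by
    intro u w huw
    have h4 := congrArg (fun s : S1 => (s : V)) huw
    by_cases hu : u = 0 <;> by_cases hw : w = 0
    · rw [hu, hw]
    · exfalso
      simp only [F', dif_pos hu, dif_neg hw] at h4
      apply SympT.T_ne_one hw
      apply R.inj
      rw [map_one]
      ext x
      rw [h3 w hw, ← h4, add_assoc, v_add_self, add_zero]
      rfl
    · exfalso
      simp only [F', dif_neg hu, dif_pos hw] at h4
      apply SympT.T_ne_one hu
      apply R.inj
      rw [map_one]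
      ext x
      rw [h3 u hu, h4, add_assoc, v_add_self, add_zero]
      rfl
    · simp only [F', dif_neg hu, dif_neg hw] at h4
      apply SympT.T_inj
      apply R.inj
      ext x
      rw [h3 u hu, h3 w hw, h4]
  -- cardinality of S1
  have hcard : 2 * Nat.card S1 ≤ 128 := by
    have hle : Nat.card (S1 × ZMod 2) ≤
        Nat.card (R.b.orthogonal (Submodule.span (ZMod 2) {v})) := by
      refine Nat.card_le_card_of_injective (fun s : S1 × ZMod 2 =>
        (⟨(s.1 : V) + s.2 • v, ?_⟩ : R.b.orthogonal (Submodule.span (ZMod 2) {v}))) ?_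
      · rw [LinearMap.BilinForm.mem_orthogonal_iff]
        intro w hw
        obtain ⟨c, rfl⟩ := Submodule.mem_span_singleton.1 hw
        show R.b (c • v) ((s.1 : V) + s.2 • v) = 0
        rw [map_smul, LinearMap.smul_apply, map_add, map_smul, R.b_self, R.b_comm v, s.1.2.2]
        simp
      · rintro ⟨s, β⟩ ⟨s', β'⟩ hss
        have h5 : (s : V) + β • v = s' + β' • v :=
          congrArg (fun y : R.b.orthogonal (Submodule.span (ZMod 2) {v}) => (y : V)) hss
        have h6 : ∀ s : S1, R.q ((s : V) + v) = 0 := by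
          intro s
          rw [R.q_add, s.2.1, s.2.2, hR.q_v]; decide
        rcases zm β with rfl | rfl <;> rcases zm β' with rfl | rfl
        · rw [zero_smul, add_zero, add_zero] at h5
          rw [Subtype.ext h5]
        · exfalso
          rw [zero_smul, add_zero, one_smul] at h5
          have h7 := h6 s'
          rw [← h5, s.2.1] at h7
          exact absurd h7 (by decide)
        · exfalso
          rw [zero_smul, add_zero, one_smul] at h5
          have h7 := h6 s
          rw [h5, s'.2.1] at h7
          exact absurd h7 (by decide)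
        · rw [one_smul] at h5
          rw [Subtype.ext (add_right_cancel h5)]
    have hfin : Module.Finite (ZMod 2) V := Module.Finite.of_finite
    have hV : Module.finrank (ZMod 2) V = 8 := by
      have h := Module.natCard_eq_pow_finrank (K := ZMod 2) (V := V)
      rw [R.card, Nat.card_zmod] at h
      have h' : 2 ^ 8 = 2 ^ Module.finrank (ZMod 2) V := by rw [← h]; norm_num
      exact (Nat.pow_right_injective le_rfl h').symm
    have h4 := Module.natCard_eq_pow_finrank (K := ZMod 2)
      (V := R.b.orthogonal (Submodule.span (ZMod 2) {v}))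
    rw [LinearMap.BilinForm.finrank_orthogonal hQF.nondeg, hV,
      finrank_span_singleton (R.ne_zero_of_q hR.q_v), Nat.card_zmod] at h4
    rw [h4, Nat.card_prod, Nat.card_zmod] at hle
    norm_num at hle
    omega
  have hS1 : Finite S1 := Subtype.finite
  have hsurj : Function.Surjective F' := by
    have := Fintype.ofFinite S1
    have h4 : Nat.card S1 ≤ Nat.card SympT.W := by rw [card_W]; omega
    have h5 : Function.Bijective F' := by
      rw [Fintype.bijective_iff_injective_and_card]
      refine ⟨hinj, ?_⟩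
      rw [← Nat.card_eq_fintype_card, ← Nat.card_eq_fintype_card]
      exact le_antisymm (Nat.card_le_card_of_injective _ hinj) h4
    exact h5.2
  obtain ⟨u, hu⟩ := hsurj ⟨a, ha, hav⟩
  have hu' := congrArg (fun s : S1 => (s : V)) hu
  by_cases hu0 : u = 0
  · simp only [F', dif_pos hu0] at hu'
    exact absurd hu'.symm hne
  · simp only [F', dif_neg hu0] at hu'
    exact ⟨u, by rw [← hu']; exact h3 u hu0⟩

/-- from the reducible alternative to `Wd` and `Tr` -/
theorem exists_wd (S : Sit G Q t) {v : S.large.V} (hR : (rep S).Red v) :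
    ∃ x, ∃ w : Wd Q t x, Tr w := by
  have hfin := S.finite_Q
  obtain ⟨x, hx⟩ := S.large.pr_surjective v
  have hact : ∀ c : Subgroup.centralizer ({t} : Set G), S.large.act c v = v := by
    intro c
    rw [← S.rho_psi]
    exact hR.fix _
  have w : Wd Q t x := by
    refine ⟨S.large, S.card, x.2, ?_, ?_⟩
    · rw [← S.large.q_eq_one, hx]; exact hR.q_v
    · intro c hc
      have h1 := hact ⟨c, Subgroup.mem_centralizer_singleton_iff.2 hc⟩
      rw [← hx, S.large.act_pr, S.large.pr_eq_pr] at h1
      exact h1
  refine ⟨x, w, ?_⟩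
  intro h h0 hq hb
  have hv : v0 w = v := hx
  rw [hv] at hb ⊢
  have hq1 : (rep S).q (h + v) = 1 := by
    rw [(rep S).q_add, hR.q_v, show (rep S).q h = 0 from hq, show (rep S).b h v = 0 from hb]
    decide
  have hb1 : (rep S).b (h + v) v = 0 := by
    rw [map_add, LinearMap.add_apply, (rep S).b_self, show (rep S).b h v = 0 from hb]
    decide
  have hne : h + v ≠ v := fun hc => h0 (by simpa using hc)
  obtain ⟨u, hu⟩ := exists_u (rep S) hR (h + v) hq1 hb1 hne
  obtain ⟨c, hc⟩ := S.psi_surj (SympT.T u)
  have hcc : (c : G) * t = t * c := Subgroup.mem_centralizer_singleton_iff.1 c.2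
  refine ⟨c, hcc, ?_⟩
  intro y
  have h1 : A w.large (c : G) hcc y = S.rho (SympT.T u) y := by
    rw [← hc, S.rho_psi]; rfl
  rw [h1]
  exact hu y

/-- **the reducible alternative is impossible** -/
theorem red_false [Finite G] (hO : Cfsg.oddCore G = ⊥) (hZ : Subgroup.center G = ⊥)
    (S : Sit G Q t) {v : S.large.V} (hR : (rep S).Red v) : False := by
  obtain ⟨x, w, T⟩ := exists_wd S hR
  have htt : t * t = 1 := S.large.z_sq
  have hord : orderOf t = 2 := orderOf_eq_prime (by rw [pow_two]; exact htt) S.large.z_ne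
  have hiso : Cfsg.IsIsolatedInvolution t :=
    ⟨hord, fun g hg => eq_of_commute w T g hg.eq.symm⟩
  have : Fact (Nat.Prime 2) := ⟨Nat.prime_two⟩
  have hp : IsPGroup 2 (Subgroup.zpowers t) := by
    rw [IsPGroup.iff_card]
    exact ⟨1, by rw [Nat.card_zpowers, hord, pow_one]⟩
  obtain ⟨P, hP⟩ := hp.exists_le_sylow
  have htP : t ∈ P := hP (Subgroup.mem_zpowers t)
  obtain ⟨N, hN, hodd, hcomm⟩ := Cfsg.Agent.S0215.result P t hord htP (fun g hg =>
    Cfsg.Agent.S1180.eq_of_conj_mem_isPGroup t hiso P P.isPGroup' htP g hg)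
  have hNbot : N = ⊥ := by
    have h1 : N ≤ Cfsg.oddCore G := by
      apply le_sSup
      exact ⟨hN, Nat.coprime_two_right.mpr hodd⟩
    rw [hO] at h1
    exact le_bot_iff.1 h1
  have hcen : t ∈ Subgroup.center G := by
    rw [Subgroup.mem_center_iff]
    intro g
    have h1 := hcomm g
    rw [hNbot, Subgroup.mem_bot, mul_inv_eq_one, mul_inv_eq_iff_eq_mul] at h1
    exact h1.symm
  rw [hZ, Subgroup.mem_bot] at hcen
  exact S.large.z_ne hcen

/-- **piece A1 + A2**: the spin relation -/
theorem spin_of_sit [Finite G] (hO : Cfsg.oddCore G = ⊥) (hZ : Subgroup.center G = ⊥)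
    (S : Sit G Q t) : ∀ u w : SympT.W, SympT.om u w = 1 → ∀ v : S.large.V,
      S.rho (SympT.T u) v + S.rho (SympT.T w) v + S.rho (SympT.T (u + w)) v = 0 := by
  have hfin := S.finite_Q
  rcases (rep S).dichotomy with h | ⟨v, h⟩
  · exact h
  · exact (red_false hO hZ S h).elim

end Cfsg.Agent.Co2Type.RedMain
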