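import Cfsg.Agent.Co2Type.TwistDead
import Cfsg.Agent.Co2Type.RedMain
import Cfsg.Agent.Co2Type.CCode
import Cfsg.Agent.Co2Type.Section

/-!
# Piece A of S1675: the structure of `C_G(t)` (R03, helper902)
-/

set_option autoImplicit false

namespace Cfsg.Agent.Co2Type.PieceA

open Cfsg Cfsg.Agent.Co2Type.Quad Cfsg.Agent.Co2Type.Setup Cfsg.Agent.Co2Type.Spin
open Cfsg.Agent.Co2Type.QModel Cfsg.Agent.Co2Type.Act Cfsg.Agent.Co2Type.Coord
open Cfsg.Agent.Co2Type.Rels Cfsg.Agent.Co2Type.Abs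
open Cfsg.Agent.Co2Type.Abs.Pre Cfsg.Agent.Co2Type.ExistsRels
open Cfsg.Agent.ClassicalGeometry.SympBasic

section

variable {C : Type*} [Group C] {t : C} {ev : QM →* C} {psi : C →* Sp6}

theorem card_of_pre (P : Pre t ev psi) : Nat.card C = 743178240 := by
  have h1 : Nat.card C = Nat.card (C ⧸ psi.ker) * Nat.card psi.ker :=
    Subgroup.card_eq_card_quotient_mul_card_subgroup _
  have h2 : Nat.card (C ⧸ psi.ker) = 1451520 := by
    rw [Nat.card_congr (QuotientGroup.quotientKerEquivOfSurjective psi P.psi_surj).toEquiv, card_sp6]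
  have h3 : psi.ker = ev.range := by
    ext x
    rw [MonoidHom.mem_ker, P.psi_ker]
  have h4 : Nat.card psi.ker = 512 := by
    rw [h3, ← Unique.card_QM]
    exact (Nat.card_congr (MonoidHom.ofInjective P.ev_inj).toEquiv).symm
  rw [h1, h2, h4]

theorem cen_of_pre (P : Pre t ev psi) (c : C) (hc : ∀ x, c * ev x = ev x * c) : c ∈ ev.range := by
  rcases P.self c (fun I => by rw [hc]; group) with h | h
  · rw [h]; exact one_mem _
  · rw [h, ← P.ev_z]; exact ⟨_, rfl⟩

end

variable {G : Type*} [Group G]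

/-- everything that we know about `C_G(t)` -/
structure A (Q : Subgroup G) (t : G) where
  S : Sit G Q t
  hs : SpinHyp S.rho
  ev : QM →* Subgroup.centralizer ({t} : Set G)
  D : ℕ → Subgroup.centralizer ({t} : Set G)
  R : Rels false (tc t) ev D
  hpsi : ∀ j, j < 7 → S.psi (D j) = transv (uv j) 1
  P : Pre (tc t) ev S.psi
  hQ : ∀ x : QM, (ev x : G) ∈ Q
  hQ' : ∀ x ∈ Q, ∃ y : QM, (ev y : G) = x
  wc : Pair.WC Q t

namespace A

variable {Q : Subgroup G} {t : G}

theorem card (a : A Q t) : Nat.card (Subgroup.centralizer ({t} : Set G)) = 743178240 :=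
  card_of_pre a.P

theorem data (a : A Q t) : CCode.Data a.R := ⟨a.card, cen_of_pre a.P⟩

theorem exists_section (a : A Q t) :
    ∃ sigma : Sp6 →* Subgroup.centralizer ({t} : Set G), (∀ x, a.S.psi (sigma x) = x) ∧
      (∀ j, j < 7 → sigma (transv (uv j) 1) = a.D j) ∧
      sigma.range = Subgroup.closure {g | ∃ j, j < 7 ∧ g = a.D j} :=
  Section.exists_section a.R a.S.psi a.hpsi

theorem t_sq (a : A Q t) : t * t = 1 := a.S.large.z_sq

theorem t_ne (a : A Q t) : t ≠ 1 := a.S.large.z_ne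

end A

/-- piece A -/
theorem exists_A [Finite G] (hO : Cfsg.oddCore G = ⊥) (hZ : Subgroup.center G = ⊥) (t : G)
    (ht : orderOf t = 2)
    (hcon : Cfsg.IsPConstrained 2 (Subgroup.centralizer ({t} : Set G)))
    (hQ : Cfsg.IsExtraspecial 2 (Cfsg.pCore 2 (Subgroup.centralizer ({t} : Set G))))
    (hcard : Nat.card (Cfsg.pCore 2 (Subgroup.centralizer ({t} : Set G))) = 2 ^ 9)
    (e : (Subgroup.centralizer ({t} : Set G)) ⧸ Cfsg.pCore 2 (Subgroup.centralizer ({t} : Set G)) ≃*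
      Matrix.symplecticGroup (Fin 3) (ZMod 2)) :
    ∃ Q : Subgroup G, Nonempty (A Q t) := by
  obtain ⟨S⟩ := exists_sit t ht hcon hQ hcard e
  have hfin := S.finite_Q
  have hs : SpinHyp S.rho := RedMain.spin_of_sit hO hZ S
  obtain ⟨eps, ev, D, R, hpsi, h1, h2, P⟩ := exists_rels S hs
  have heps := TwistDead.eps_false hO hZ S hs R hpsi P
  subst heps
  exact ⟨_, ⟨⟨S, hs, ev, D, R, hpsi, P, h1, h2, WeakB1.wc S hs⟩⟩⟩

end Cfsg.Agent.Co2Type.PieceA
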