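import Cfsg.Agent.Co2Type.ETab2
import Cfsg.Agent.Co2Type.PieceA
import Cfsg.Agent.Co2Type.Delta
import Cfsg.Agent.Co2Type.InvClass2

/-!
# Fusion in `E` (R03, letter B, helper871)

The set `Ω` of the codes of the elements of `E` conjugate to `t`, and the link between the classes of
involutions of `C` outside `Q` and codes.
-/

set_option autoImplicit false

namespace Cfsg.Agent.Co2Type.EFus

open Cfsg Cfsg.Agent.Co2Type.Setup Cfsg.Agent.Co2Type.Spin
open Cfsg.Agent.Co2Type.QModel Cfsg.Agent.Co2Type.Act Cfsg.Agent.Co2Type.Coord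
open Cfsg.Agent.Co2Type.Rels Cfsg.Agent.Co2Type.Abs Cfsg.Agent.Co2Type.FastQ Cfsg.Agent.Co2Type.ETab
open Cfsg.Agent.Co2Type.InvData Cfsg.Agent.Co2Type.InvClass Cfsg.Agent.Co2Type.ExistsRels
open Cfsg.Agent.ClassicalGeometry.SympBasic

/-! ### counting functions -/

/-- number of ways to write `w` as a sum of two elements of `Om` -/
def c2 (Om : ℕ → Bool) (w : ℕ) : ℕ :=
  ((Finset.range 1024).filter fun x => Om x = true ∧ Om (w ^^^ x) = true).card

/-- number of ways to write `w` as a sum of three elements of `Om` -/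
def c3 (Om : ℕ → Bool) (w : ℕ) : ℕ :=
  (((Finset.range 1024) ×ˢ (Finset.range 1024)).filter fun p =>
    Om p.1 = true ∧ Om p.2 = true ∧ Om (w ^^^ p.1 ^^^ p.2) = true).card

/-- an additive bijection of the codes preserving `Om` -/
structure Sym (Om : ℕ → Bool) (σ : ℕ → ℕ) : Prop where
  lt : ∀ a < 1024, σ a < 1024
  inj : ∀ a < 1024, ∀ c < 1024, σ a = σ c → a = c
  add : ∀ a < 1024, ∀ c < 1024, σ (a ^^^ c) = σ a ^^^ σ c
  om : ∀ a < 1024, Om (σ a) = Om a

namespace Sym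

variable {Om : ℕ → Bool} {σ : ℕ → ℕ}

theorem surj (h : Sym Om σ) {y : ℕ} (hy : y < 1024) : ∃ a < 1024, σ a = y := by
  have h1 := Finset.surjOn_of_injOn_of_card_le (s := Finset.range 1024) (t := Finset.range 1024) σ
    (fun a ha => Finset.mem_coe.2 (Finset.mem_range.2 (h.lt a (Finset.mem_range.1 (Finset.mem_coe.1 ha)))))
    (fun a ha c hc hac => h.inj a (Finset.mem_range.1 (Finset.mem_coe.1 ha)) c
      (Finset.mem_range.1 (Finset.mem_coe.1 hc)) hac) le_rfl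
  obtain ⟨a, ha, h2⟩ := h1 (Finset.mem_coe.2 (Finset.mem_range.2 hy))
  exact ⟨a, Finset.mem_range.1 (Finset.mem_coe.1 ha), h2⟩

theorem c2_eq (h : Sym Om σ) {w : ℕ} (hw : w < 1024) : c2 Om (σ w) = c2 Om w := by
  symm
  unfold c2
  refine Finset.card_bij (fun x _ => σ x) ?_ ?_ ?_
  · intro x hx
    rw [Finset.mem_filter, Finset.mem_range] at hx ⊢
    obtain ⟨h1, h2, h3⟩ := hx
    refine ⟨h.lt x h1, by rw [h.om x h1]; exact h2, ?_⟩
    rw [← h.add w hw x h1, h.om _ (xor_lt hw h1)]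
    exact h3
  · intro x hx y hy hxy
    rw [Finset.mem_filter, Finset.mem_range] at hx hy
    exact h.inj x hx.1 y hy.1 hxy
  · intro y hy
    rw [Finset.mem_filter, Finset.mem_range] at hy
    obtain ⟨h1, h2, h3⟩ := hy
    obtain ⟨x, hx, rfl⟩ := h.surj h1
    refine ⟨x, ?_, rfl⟩
    rw [Finset.mem_filter, Finset.mem_range]
    refine ⟨hx, by rw [← h.om x hx]; exact h2, ?_⟩
    rw [← h.om _ (xor_lt hw hx), h.add w hw x hx]
    exact h3

set_option linter.constructorNameAsVariable false in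
theorem c3_eq (h : Sym Om σ) {w : ℕ} (hw : w < 1024) : c3 Om (σ w) = c3 Om w := by
  symm
  unfold c3
  refine Finset.card_bij (fun p _ => (σ p.1, σ p.2)) ?_ ?_ ?_
  · rintro ⟨x, y⟩ hx
    rw [Finset.mem_filter, Finset.mem_product, Finset.mem_range, Finset.mem_range] at hx ⊢
    obtain ⟨⟨h1, h1'⟩, h2, h2', h3⟩ := hx
    have e : σ w ^^^ σ x ^^^ σ y = σ (w ^^^ x ^^^ y) := by
      rw [h.add _ (xor_lt hw h1) _ h1', h.add w hw x h1]
    refine ⟨⟨h.lt x h1, h.lt y h1'⟩, by rw [h.om x h1]; exact h2, by rw [h.om y h1']; exact h2', ?_⟩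
    show Om (σ w ^^^ σ x ^^^ σ y) = true
    rw [e, h.om _ (xor_lt (xor_lt hw h1) h1')]
    exact h3
  · rintro ⟨x, x'⟩ hx ⟨y, y'⟩ hy hxy
    rw [Finset.mem_filter, Finset.mem_product, Finset.mem_range, Finset.mem_range] at hx hy
    have h1 := h.inj x hx.1.1 y hy.1.1 (congrArg Prod.fst hxy)
    have h2 := h.inj x' hx.1.2 y' hy.1.2 (congrArg Prod.snd hxy)
    rw [h1, h2]
  · rintro ⟨y, y'⟩ hy
    rw [Finset.mem_filter, Finset.mem_product, Finset.mem_range, Finset.mem_range] at hy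
    obtain ⟨⟨h1, h1'⟩, h2, h2', h3⟩ := hy
    obtain ⟨x, hx, rfl⟩ := h.surj (show y < 1024 from h1)
    obtain ⟨x', hx', rfl⟩ := h.surj (show y' < 1024 from h1')
    refine ⟨(x, x'), ?_, rfl⟩
    rw [Finset.mem_filter, Finset.mem_product, Finset.mem_range, Finset.mem_range]
    have e : σ w ^^^ σ x ^^^ σ x' = σ (w ^^^ x ^^^ x') := by
      rw [h.add _ (xor_lt hw hx) _ hx', h.add w hw x hx]
    refine ⟨⟨hx, hx'⟩, by rw [← h.om x hx]; exact h2, by rw [← h.om x' hx']; exact h2', ?_⟩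
    show Om (w ^^^ x ^^^ x') = true
    rw [← h.om _ (xor_lt (xor_lt hw hx) hx'), ← e]
    exact h3

end Sym

/-! ### representatives in `E` -/

section reps

variable {C : Type*} [Group C] {t : C} {ev : QM →* C} {D : ℕ → C} {psi : C →* Sp6} {sg : Sp6 →* C}

theorem e_32 : e ev D 32 = D 0 := by
  rw [show (32 : ℕ) = 2 ^ 5 by norm_num, SD.e_single (by norm_num), show (5 : ℕ) = 0 + 5 by norm_num,
    SD.bs_hi]
  simp [rwd, wd]

theorem e_33 (S : SD t ev D psi sg) : e ev D 33 = D 0 * t := by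
  rw [show (33 : ℕ) = 32 ^^^ 1 by decide, S.e_xor, e_32, S.e_one]

/-- conjugating words -/
def w1 : List ℕ := [1, 2, 6, 3, 4, 5, 2, 3, 4, 1]
def w2 : List ℕ := [1, 2, 3, 0, 1, 2]
def w3 : List ℕ := [1, 2, 6, 0, 1, 2]

theorem w1_chk : (SD.okw (w1 ++ [0, 3]) && SD.okw (rword 64 ++ w1) && sameT (w1 ++ [0, 3]) (rword 64 ++ w1)) = true := by
  decide +kernel
theorem w2_chk : (SD.okw (w2 ++ [3, 5, 6]) && SD.okw (rword 96 ++ w2) &&
    sameT (w2 ++ [3, 5, 6]) (rword 96 ++ w2)) = true := by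
  decide +kernel
theorem w3_chk : (SD.okw (w3 ++ [3, 5, 6]) && SD.okw (rword 98 ++ w3) &&
    sameT (w3 ++ [3, 5, 6]) (rword 98 ++ w3)) = true := by
  decide +kernel

theorem conj_64 (S : SD t ev D psi sg) : wd D w1 * (D 0 * D 3) * (wd D w1)⁻¹ = e ev D 64 := by
  have e1 : D 0 * D 3 = wd D [0, 3] := by simp [wd]
  have h0 : dcode 64 = 0 := by decide
  rw [e1, ← wd_append, S.same _ _ w1_chk, wd_append, mul_inv_cancel_right, SD.e_eq, h0, dec_zero, map_one,
    one_mul]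

theorem conj_96 (S : SD t ev D psi sg) : wd D w2 * lin D * (wd D w2)⁻¹ = e ev D 96 := by
  have e1 : lin D = wd D [3, 5, 6] := by simp [wd, lin, mul_assoc]
  have h0 : dcode 96 = 0 := by decide
  rw [e1, ← wd_append, S.same _ _ w2_chk, wd_append, mul_inv_cancel_right, SD.e_eq, h0, dec_zero, map_one,
    one_mul]

theorem conj_98 (S : SD t ev D psi sg) :
    wd D w3 * (ev (dec 1) * lin D) * (wd D w3)⁻¹ = e ev D 98 := by
  have e1 : lin D = wd D [3, 5, 6] := by simp [wd, lin, mul_assoc]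
  have h0 : dcode 98 = 2 := by decide
  have h1 := S.conj_wd w3 (by decide +kernel) (show 1 < 512 by norm_num)
  have h2 : autwT w3 1 = 2 := by decide +kernel
  rw [h2] at h1
  have h3 : wd D w3 * wd D [3, 5, 6] * (wd D w3)⁻¹ = wd D (rword 98) := by
    rw [← wd_append, S.same _ _ w3_chk, wd_append, mul_inv_cancel_right]
  rw [e1, SD.e_eq, h0, ← h1, ← h3]
  group

theorem conj_65 (S : SD t ev D psi sg) : wd D w1 * (D 0 * D 3 * t) * (wd D w1)⁻¹ = e ev D 65 := by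
  rw [show (65 : ℕ) = 64 ^^^ 1 by decide, S.e_xor, ← conj_64 S, S.e_one]
  have := S.P.cent (wd D w1)⁻¹
  calc wd D w1 * (D 0 * D 3 * t) * (wd D w1)⁻¹ = wd D w1 * (D 0 * D 3) * (t * (wd D w1)⁻¹) := by group
    _ = _ := by rw [← this]; group

theorem conj_97 (S : SD t ev D psi sg) : wd D w2 * (lin D * t) * (wd D w2)⁻¹ = e ev D 97 := by
  rw [show (97 : ℕ) = 96 ^^^ 1 by decide, S.e_xor, ← conj_96 S, S.e_one]
  have := S.P.cent (wd D w2)⁻¹
  calc wd D w2 * (lin D * t) * (wd D w2)⁻¹ = wd D w2 * lin D * (t * (wd D w2)⁻¹) := by group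
    _ = _ := by rw [← this]; group

/-- every involution of `C` outside `Q` is conjugate to one of seven elements of `E`, or to `bth D` -/
theorem inv_codes (S : SD t ev D psi sg) {x : C} (hx : x * x = 1) (hxQ : x ∉ ev.range) :
    (∃ k : ℕ, (k = 32 ∨ k = 33 ∨ k = 64 ∨ k = 65 ∨ k = 96 ∨ k = 97 ∨ k = 98) ∧ IsConj x (e ev D k)) ∨
      IsConj x (bth D) := by
  have key : ∀ {g y z w : C}, g * x * g⁻¹ = y → w * y * w⁻¹ = z → IsConj x z := by
    intro g y z w h1 h2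
    exact (isConj_iff.2 ⟨g, h1⟩).trans (isConj_iff.2 ⟨w, h2⟩)
  rcases InvClass2.inv_list S.R S.P S.psi_D hx hxQ with ⟨-, h⟩ | h
  · rcases h with ⟨g, h⟩ | ⟨g, h⟩ | ⟨g, h⟩ | ⟨g, h⟩
    · exact Or.inl ⟨32, by simp, isConj_iff.2 ⟨g, by rw [h, e_32]⟩⟩
    · exact Or.inl ⟨33, by simp, isConj_iff.2 ⟨g, by rw [h, e_33 S]⟩⟩
    · exact Or.inl ⟨64, by simp, key h (conj_64 S)⟩
    · exact Or.inl ⟨65, by simp, key h (conj_65 S)⟩
  · rcases h with ⟨g, h⟩ | ⟨g, h⟩ | ⟨g, h⟩ | ⟨g, h⟩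
    · exact Or.inl ⟨96, by simp, key h (conj_96 S)⟩
    · exact Or.inl ⟨97, by simp, key h (conj_97 S)⟩
    · exact Or.inl ⟨98, by simp, key h (conj_98 S)⟩
    · exact Or.inr (isConj_iff.2 ⟨g, h⟩)

end reps

/-! ### the set `Ω` -/

section omega

variable {G : Type*} [Group G] {t : G} {ev : QM →* Subgroup.centralizer ({t} : Set G)}
  {D : ℕ → Subgroup.centralizer ({t} : Set G)} {psi : Subgroup.centralizer ({t} : Set G) →* Sp6}
  {sg : Sp6 →* Subgroup.centralizer ({t} : Set G)}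

open Classical in
/-- the codes of the elements of `E` conjugate to `t` -/
noncomputable def Om (ev : QM →* Subgroup.centralizer ({t} : Set G))
    (D : ℕ → Subgroup.centralizer ({t} : Set G)) (a : ℕ) : Bool := decide (IsConj t (↑(ETab.e ev D a) : G))

open Classical in
theorem Om_iff {a : ℕ} : Om ev D a = true ↔ IsConj t (↑(ETab.e ev D a) : G) := by
  unfold Om
  exact decide_eq_true_iff

theorem isConj_coe {x y : Subgroup.centralizer ({t} : Set G)} (h : IsConj x y) : IsConj (x : G) (y : G) := by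
  obtain ⟨g, hg⟩ := isConj_iff.1 h
  exact isConj_iff.2 ⟨g, by rw [← hg]; rfl⟩

theorem Om_eq {a c : ℕ} (h : IsConj (↑(ETab.e ev D a) : G) (↑(ETab.e ev D c) : G)) : Om ev D a = Om ev D c := by
  rw [Bool.eq_iff_iff, Om_iff, Om_iff]
  exact ⟨fun h1 => h1.trans h, fun h1 => h1.trans h.symm⟩

theorem Om_A (S : SD (tc t) ev D psi sg) {k : ℕ} (hk : k < 8) (a : ℕ) :
    Om ev D (app (A k) a) = Om ev D a := by
  symm
  apply Om_eq
  exact isConj_coe (isConj_iff.2 ⟨gt ev D k, S.conj_gt hk a⟩)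

theorem Om_A2 (S : SD (tc t) ev D psi sg) (a : ℕ) : Om ev D (app A2 a) = Om ev D a := by
  symm
  apply Om_eq
  exact isConj_coe (isConj_iff.2 ⟨_, S.conj_D2 a⟩)

theorem Om_A4 (S : SD (tc t) ev D psi sg) (a : ℕ) : Om ev D (app A4 a) = Om ev D a := by
  symm
  apply Om_eq
  exact isConj_coe (isConj_iff.2 ⟨_, S.conj_D4 a⟩)

theorem Om_one (S : SD (tc t) ev D psi sg) : Om ev D 1 = true := by
  rw [Om_iff, S.e_one]
  exact IsConj.refl _

theorem Om_zero (ht : t ≠ 1) : Om ev D 0 = false := by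
  rw [← Bool.not_eq_true, Om_iff, SD.e_zero]
  intro h
  obtain ⟨g, hg⟩ := isConj_iff.1 h
  apply ht
  have : t = g⁻¹ * (g * t * g⁻¹) * g := by group
  rw [this, hg]
  show g⁻¹ * (1 : G) * g = 1
  group

theorem Om_two (S : SD (tc t) ev D psi sg) {Q : Subgroup G} (hQ : ∀ x : QM, (ev x : G) ∈ Q)
    (hwc : Pair.WC Q t) : Om ev D 2 = false := by
  rw [← Bool.not_eq_true, Om_iff]
  intro h
  have h1 : e ev D 2 = ev (dec 2) := by
    rw [show (2 : ℕ) = 2 ^ 1 by norm_num, SD.e_single (by norm_num), SD.bs_lo (by norm_num)]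
    rfl
  rw [h1] at h
  have h2 := hwc.eq_of_mem (hQ _) h
  have h3 : ev (dec 2) = ev (dec 256) := by
    have h4 : ev (dec 256) = tc t := S.R.ev_z
    rw [h4]
    exact Subtype.ext h2
  exact absurd (ETab.dec_inj (by norm_num) (by norm_num) (S.P.ev_inj h3)) (by norm_num)

/-- an element normalising `E` gives a symmetry of the set of codes -/
theorem sym_of (S : SD (tc t) ev D psi sg) {g : G}
    (hg : ∀ c < 1024, ∃ c' < 1024, g * (↑(ETab.e ev D c) : G) * g⁻¹ = ETab.e ev D c') :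
    ∃ σ : ℕ → ℕ, Sym (Om ev D) σ ∧ ∀ c < 1024, g * (↑(ETab.e ev D c) : G) * g⁻¹ = ETab.e ev D (σ c) := by
  choose! σ h1 h2 using hg
  have hinj : ∀ a < 1024, ∀ c < 1024, (↑(ETab.e ev D a) : G) = ETab.e ev D c → a = c := by
    intro a ha c hc h
    exact S.e_inj ha hc (Subtype.ext h)
  refine ⟨σ, ⟨h1, ?_, ?_, ?_⟩, h2⟩
  · intro a ha c hc h
    apply hinj a ha c hc
    have h3 := h2 a ha
    rw [h, ← h2 c hc] at h3
    exact mul_left_cancel (mul_right_cancel h3)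
  · intro a ha c hc
    apply hinj _ (h1 _ (xor_lt ha hc)) _ (xor_lt (h1 a ha) (h1 c hc))
    rw [← h2 _ (xor_lt ha hc), S.e_xor, S.e_xor]
    show g * ((↑(ETab.e ev D a) : G) * (↑(ETab.e ev D c) : G)) * g⁻¹ = (↑(ETab.e ev D (σ a)) : G) * (↑(ETab.e ev D (σ c)) : G)
    rw [← h2 a ha, ← h2 c hc]
    group
  · intro a ha
    symm
    apply Om_eq
    exact isConj_iff.2 ⟨g, h2 a ha⟩

/-- the counts are constant on `Ω` if fusion in `E` is controlled by the normaliser -/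
theorem counts (S : SD (tc t) ev D psi sg)
    (hN : ∀ a < 1024, IsConj t (↑(ETab.e ev D a) : G) → ∃ g : G, g * t * g⁻¹ = ETab.e ev D a ∧
      ∀ c < 1024, ∃ c' < 1024, g * (↑(ETab.e ev D c) : G) * g⁻¹ = ETab.e ev D c') :
    (∀ w < 1024, Om ev D w = true → c2 (Om ev D) w = c2 (Om ev D) 1) ∧
      ∀ w < 1024, Om ev D w = true → c3 (Om ev D) w = c3 (Om ev D) 1 := by
  have key : ∀ w < 1024, Om ev D w = true → ∃ σ, Sym (Om ev D) σ ∧ σ 1 = w := by
    intro w hw h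
    obtain ⟨g, h1, h2⟩ := hN w hw (Om_iff.1 h)
    obtain ⟨σ, h3, h4⟩ := sym_of S h2
    refine ⟨σ, h3, ?_⟩
    have h5 := h4 1 (by norm_num)
    rw [S.e_one] at h5
    have h6 : (↑(ETab.e ev D w) : G) = e ev D (σ 1) := by rw [← h1, ← h5]; rfl
    exact (S.e_inj hw (h3.lt 1 (by norm_num)) (Subtype.ext h6)).symm
  constructor
  · intro w hw h
    obtain ⟨σ, h1, h2⟩ := key w hw h
    rw [← h2]
    exact h1.c2_eq (by norm_num)
  · intro w hw h
    obtain ⟨σ, h1, h2⟩ := key w hw h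
    rw [← h2]
    exact h1.c3_eq (by norm_num)

end omega

end Cfsg.Agent.Co2Type.EFus
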