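import Cfsg.Agent.Co2Type.ETab

/-!
# Orbits on the codes of `E = 2^10` and the numerical determination of `t^G ∩ E` (R03, letter B, helper587)

`orb a` = number of the orbit of the code `a < 1024` under the ten matrices `A 0, …, A 7, A2, A4`; representatives
`rep`. An invariant set `Om` of codes containing `1`, not `0`, not `2`, for which the numbers `c2 Om w`, `c3 Om w`
(`w ∈ Om`) do not depend on `w`, is `{1}` or the union of the orbits of `1`, `32`, `97`.
-/

set_option autoImplicit false
set_option maxRecDepth 100000

namespace Cfsg.Agent.Co2Type.EOmega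

open Cfsg.Agent.Co2Type.ETab

/-! ### tables -/

def OT : ℕ := 0x5665655656565656656556565665566599999999879987999999999999789987566556566565655656655656565656659999879999789999879999999999998756566556655665656556565656565665998799999999997899879999999999879999999999789978999999999978998756656556656565656565565656655665656565656556655665655656655656657899997899999999999999997899998799999978879999998799999999999987566565655656655656655656565656657899999999998799998799999999998765656556655656566556565656565665998787999999999999999999789999875656565665566556656556566556566556656556655665566565656556566565999999999999999999997878999978879999879999998799999999789999998756655656655656566565566556565665998799998799999999997899999999875656655656566556656565565656566599999999999999998787999999997887566565566556655656565656565665659999999999999999999999997878788756656556655665566565565665656565789999999978999999997899999999876565655665656556656565565656566599999978999999789999997899999987566565656556656565655665565656654334344334433443343443434343434322222222222222222222222222222210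

def DT : ℕ := 0x4455444444444455445555444444443344453455445444554544554455445533555555555555555555555555555555446655556656554566555666555565664466666666666666666666666666666655766666775677676667666677667677557667777766666666677777776566665566776666776666666677776666666655777777777777777777777777777777667777777767877877777888787776776666456655556555665556556665556644665555665555555555555555666666444455345544554455454455445444553355444455444444444444444455555533433333443433234433444433334444224433334444443333443344334433332277776666667766776677776666666655777766676777566677776666777666556666555666665555565655556666544455666655556655665555555566665544454455554444555545454444555543334455554444554455444444445555443344344444344444443333323334333322443344333344444433443333334433224344444455544555334432334433332244444444443344334444333344333322333334332222334444332222324321113333333333223322333322223322221122232222233312112333111121321000222222223311331122331111332222003333332222222211332222112211110032232343234312543434213221321000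

def NT : ℕ := 0x7777777777777777771199770011447774997788777777778877977774777777664477777766771177006677777777777477778888777777776677777177677799999922999999339999994499999999979999999999979966999999999969996655675555555555775567555555555555555555555555335555555555555555555588888855555588555588555555555555558888668788887867885555555599996722997799999966999999236799999999999999992299999933999933996666777777787766667777777766667711777777116677770077667700776677777777779901779977999977007877770077777777777777777711777700117777777777777777777777777777777777777777777777777777777777777777779999999999999999999999999999999999999999999999999999999999999999666666886666886688666666662066666666116666661166666666666666666655558888888855555533555535555555553355555533555555555555113355556666666666666666666666666666666666666666666666666666666666666666999999999399939999929999999999999999999922992299333399993333229988551711884413110855050088443fff112233332211333355550022663322ff665533335533333322222222111100ff88557799884477998855559988443fff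

def RT : ℕ := 0x1886118041100210800200400

def MT : ℕ := 0x3405028603000000160080428020104020000001000000a008041008000000400000c010080c06008040000000300402030180201000000000000000201000000000000000000008040000000000002c040200000000000000000080000000000000000000002000000000000000000003c03018603000000180000018000600040000000c000106030002000000000300800c00010060900c0200000003008000480c01018000000000000003008000000000000000000040600000000000030030180000000000000000000002000000000000000000010000000000000000003c030186030000001800000180c0008000000000c020006000180010000000300004c02000120300406000000030000401824030080000000000000010180000000000000000000c0200000000000030030180000000000000000000400000000000000000000000080000000000000004806030482403018000000030000401824030080000000c0200012030040600000009006090c0a0000003c0001240480c5018000000f0080018030080000000000000000600406000000000000000000000003c1e00000000000000000000008000000000000000000040000000000000480603048240301800000003008000480c010180000000c00010060900c02000000090120314060000003c020024018243028000000f00004180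10180000000000000000600c02000000000000000000000003c1e000000000000000000010000000000000000000000002000000000000000000b45a0000000000000000000b41e0000000000000000000f16800000000001682d0780000000000000005a03c5a000000000000000000000000000000003c000100000000000000000f00800000000000000f0780000000000000000000002000000000000000000010000000000000000b45a00000000000000000003c5a0000000000000000002d07800000000001680f1680000000000000005a0b41e000000000000000000000000000000003c020000000000000000000f00004000000000000f078000000000000000000040000000000000000000000008000000840c06000000000000000006006030000000000000000180180c00000000000000000000001e0f0000000000000000000783c0000000000000000000000008040000000000000000000201000000000000000000000000700201000000000000000001000000000000000000000040000b400000000000000000000000001e0000000000000000000f0000000000000000000000000001e0000000000000000000f0000000000000000000000000000080000000000000000000400000000000000000000000000780000000000000000000000000040000000000000000000200b4000000000000000000000003c000000000000000000000007800000000000000000000003c00000000000000000000000780000000000000000000000010000000000000000000000002000000000000000000000000780000000000000000000000008000000000000000000000001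

def els : ℕ → List ℕ
  | 0 => [0]
  | 1 => [1]
  | 2 => [2, 3, 4, 5, 6, 7, 8, 9, 10, 11, 12, 13, 14, 15, 16, 17, 18, 19, 20, 21, 22, 23, 24, 25, 26, 27, 28, 29, 30, 31]
  | 3 => [32, 34, 36, 38, 40, 42, 45, 47, 48, 51, 52, 55, 56, 59, 61, 62]
  | 4 => [33, 35, 37, 39, 41, 43, 44, 46, 49, 50, 53, 54, 57, 58, 60, 63]
  | 5 => [64, 67, 69, 71, 72, 75, 76, 78, 80, 82, 85, 86, 88, 90, 92, 95, 128, 131, 133, 135, 137, 138, 140, 142, 145, 146, 148, 150, 153, 154, 156, 158, 192, 194, 196, 198, 201, 203, 204, 206, 209, 210, 213, 214, 217, 218, 220, 223, 256, 258, 261, 263, 265, 267, 269, 271, 273, 274, 277, 278, 281, 282, 284, 287, 320, 323, 325, 327, 329, 330, 332, 334, 337, 338, 341, 343, 345, 346, 349, 351, 384, 387, 389, 391, 392, 395, 396, 398, 401, 403, 405, 406, 409, 411, 412, 415, 480, 482, 485, 487, 488, 490, 492, 494, 497, 498, 501, 502, 505, 506, 508, 511, 512, 515, 517, 518, 521, 523, 524, 526, 529, 530, 533, 534, 537, 539, 541, 543, 576, 579, 581, 583, 585, 587, 589, 590, 593, 595, 597, 598, 601, 602, 604, 606, 640, 643, 645, 647, 649, 651, 652, 655, 657,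 658, 661, 663, 664, 666, 668, 671, 736, 739, 741, 742, 745, 747, 748, 750, 753, 754, 757, 758, 760, 762, 764, 766, 768, 771, 772, 775, 777, 779, 780, 782, 784, 786, 788, 790, 793, 794, 796, 799, 864, 867, 869, 871, 873, 875, 877, 878, 880, 882, 885, 886, 889, 890, 893, 895, 928, 931, 933, 935, 937, 939, 940, 943, 945, 946, 948, 950, 953, 955, 956, 959, 992, 995, 996, 999, 1001, 1003, 1004, 1006, 1009, 1011, 1013, 1015, 1017, 1018, 1020, 1023]
  | 6 => [65, 66, 68, 70, 73, 74, 77, 79, 81, 83, 84, 87, 89, 91, 93, 94, 129, 130, 132, 134, 136, 139, 141, 143, 144, 147, 149, 151, 152, 155, 157, 159, 193, 195, 197, 199, 200, 202, 205, 207, 208, 211, 212, 215, 216, 219, 221, 222, 257, 259, 260, 262, 264, 266, 268, 270, 272, 275, 276, 279, 280, 283, 285, 286, 321, 322, 324, 326, 328, 331, 333, 335, 336, 339, 340, 342, 344, 347, 348, 350, 385, 386, 388, 390, 393, 394, 397, 399, 400, 402, 404, 407, 408, 410, 413, 414, 481, 483, 484, 486, 489, 491, 493, 495, 496, 499, 500, 503, 504, 507, 509, 510, 513, 514, 516, 519, 520, 522, 525, 527, 528, 531, 532, 535, 536, 538, 540, 542,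 577, 578, 580, 582, 584, 586, 588, 591, 592, 594, 596, 599, 600, 603, 605, 607, 641, 642, 644, 646, 648, 650, 653, 654, 656, 659, 660, 662, 665, 667, 669, 670, 737, 738, 740, 743, 744, 746, 749, 751, 752, 755, 756, 759, 761, 763, 765, 767, 769, 770, 773, 774, 776, 778, 781, 783, 785, 787, 789, 791, 792, 795, 797, 798, 865, 866, 868, 870, 872, 874, 876, 879, 881, 883, 884, 887, 888, 891, 892, 894, 929, 930, 932, 934, 936, 938, 941, 942, 944, 947, 949, 951, 952, 954, 957, 958, 993, 994, 997, 998, 1000, 1002, 1005, 1007, 1008, 1010, 1012, 1014, 1016, 1019, 1021, 1022]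
  | 7 => [96, 105, 113, 121, 160, 171, 181, 191, 224, 227, 229, 231, 288, 291, 300, 302, 352, 363, 374, 380, 416, 425, 434, 442, 448, 451, 457, 459, 544, 551, 570, 572, 608, 620, 626, 639, 672, 686, 694, 697, 704, 711, 729, 735, 800, 805, 817, 821, 832, 844, 849, 860, 896, 910, 917, 922, 960, 965, 978, 982]
  | 8 => [97, 104, 112, 120, 161, 170, 180, 190, 225, 226, 228, 230, 289, 290, 301, 303, 353, 362, 375, 381, 417, 424, 435, 443, 449, 450, 456, 458, 545, 550, 571, 573, 609, 621, 627, 638, 673, 687, 695, 696, 705, 710, 728, 734, 801, 804, 816, 820, 833, 845, 848, 861, 897, 911, 916, 923, 961, 964, 979, 983]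
  | 9 => [98, 99, 100, 101, 102, 103, 106, 107, 108, 109, 110, 111, 114, 115, 116, 117, 118, 119, 122, 123, 124, 125, 126, 127, 162, 163, 164, 165, 166, 167, 168, 169, 172, 173, 174, 175, 176, 177, 178, 179, 182, 183, 184, 185, 186, 187, 188, 189, 232, 233, 234, 235, 236, 237, 238, 239, 240, 241, 242, 243, 244, 245, 246, 247, 248, 249, 250, 251, 252, 253, 254, 255, 292, 293, 294, 295, 296, 297, 298, 299, 304, 305, 306, 307, 308, 309, 310, 311, 312, 313, 314, 315, 316, 317, 318, 319, 354, 355, 356, 357, 358, 359, 360, 361, 364, 365, 366, 367, 368, 369, 370, 371, 372, 373, 376, 377, 378, 379, 382, 383, 418, 419, 420, 421, 422, 423, 426, 427, 428, 429, 430, 431, 432, 433, 436, 437, 438, 439, 440, 441, 444, 445, 446, 447, 452, 453, 454, 455, 460, 461, 462, 463, 464, 465, 466, 467, 468, 469, 470, 471, 472, 473, 474, 475, 476, 477, 478, 479, 546, 547, 548, 549, 552, 553, 554, 555, 556, 557, 558, 559, 560, 561, 562, 563, 564, 565, 566, 567, 568, 569, 574, 575, 610, 611, 612, 613, 614, 615, 616, 617, 618, 619, 622, 623, 624, 625, 628, 629, 630, 631, 632, 633, 634, 635,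 636, 637, 674, 675, 676, 677, 678, 679, 680, 681, 682, 683, 684, 685, 688, 689, 690, 691, 692, 693, 698, 699, 700, 701, 702, 703, 706, 707, 708, 709, 712, 713, 714, 715, 716, 717, 718, 719, 720, 721, 722, 723, 724, 725, 726, 727, 730, 731, 732, 733, 802, 803, 806, 807, 808, 809, 810, 811, 812, 813, 814, 815, 818, 819, 822, 823, 824, 825, 826, 827, 828, 829, 830, 831, 834, 835, 836, 837, 838, 839, 840, 841, 842, 843, 846, 847, 850, 851, 852, 853, 854, 855, 856, 857, 858, 859, 862, 863, 898, 899, 900, 901, 902, 903, 904, 905, 906, 907, 908, 909, 912, 913, 914, 915, 918, 919, 920, 921, 924, 925, 926, 927, 962, 963, 966, 967, 968, 969, 970, 971, 972, 973, 974, 975, 976, 977, 980, 981, 984, 985, 986, 987, 988, 989, 990, 991]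
  | _ => []

/-- number of the orbit of a code -/
def orb (a : ℕ) : ℕ := Nat.land (Nat.shiftRight OT (Nat.mul 4 a)) 15

/-- depth in the orbit tree -/
def dep (a : ℕ) : ℕ := Nat.land (Nat.shiftRight DT (Nat.mul 4 a)) 15

/-- matrix leading to the parent -/
def nx (a : ℕ) : ℕ := Nat.land (Nat.shiftRight NT (Nat.mul 4 a)) 15

/-- orbit representatives `0, 1, 2, 32, 33, 64, 65, 96, 97, 98` -/
def rep (i : ℕ) : ℕ := Nat.land (Nat.shiftRight RT (Nat.mul 10 i)) 1023

/-- `mt k i j` = number of `x` in orbit `i` with `rep k ^^^ x` in orbit `j` -/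
def mt (k i j : ℕ) : ℕ :=
  Nat.land (Nat.shiftRight MT (Nat.mul 9 (Nat.add (Nat.add (Nat.mul 100 k) (Nat.mul 10 i)) j))) 511

/-- one column of the fast application -/
def cf (M a k : ℕ) : ℕ :=
  Nat.mul (Nat.land (Nat.shiftRight a k) 1) (Nat.land (Nat.shiftRight M (Nat.mul 10 k)) 1023)

/-- fast application of a matrix -/
def appF (M a : ℕ) : ℕ :=
  Nat.xor (Nat.xor (Nat.xor (Nat.xor (Nat.xor (Nat.xor (Nat.xor (Nat.xor (Nat.xor (cf M a 0) (cf M a 1))
    (cf M a 2)) (cf M a 3)) (cf M a 4)) (cf M a 5)) (cf M a 6)) (cf M a 7)) (cf M a 8)) (cf M a 9)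

theorem bit_eq (a k x : ℕ) :
    cond (a.testBit k) x 0 = Nat.mul (Nat.land (Nat.shiftRight a k) 1) x := by
  change _ = ((a >>> k) &&& 1) * x
  rw [Nat.and_one_is_mod, Nat.shiftRight_eq_div_pow, Nat.testBit_eq_decide_div_mod_eq]
  rcases Nat.mod_two_eq_zero_or_one (a / 2 ^ k) with h | h <;> simp [h]

theorem app_eq (M a : ℕ) : app M a = appF M a := by
  unfold app
  simp only [bit_eq]
  rfl

/-- the ten matrices -/
def mats (k : ℕ) : ℕ :=
  match k with
  | 8 => A2
  | 9 => A4
  | k => A k

def chk1 (a : ℕ) : Bool :=
  Nat.beq a (rep (orb a)) ||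
    (Nat.beq (orb (appF (mats (nx a)) a)) (orb a) && Nat.blt (dep (appF (mats (nx a)) a)) (dep a) &&
      Nat.blt (nx a) 10)

def chkR (p : ℕ → Bool) (n : ℕ) : Bool := Nat.rec true (fun m b => b && p m) n

theorem chkR_spec (p : ℕ → Bool) : ∀ n, chkR p n = true → ∀ m < n, p m = true := by
  intro n
  induction n with
  | zero => intro _ m hm; omega
  | succ n ih =>
    intro h m hm
    have h' : (chkR p n && p n) = true := h
    rw [Bool.and_eq_true] at h'
    rcases Nat.lt_succ_iff_lt_or_eq.1 hm with h1 | h1
    · exact ih h'.1 m h1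
    · rw [h1]; exact h'.2

theorem chk1_all : chkR chk1 1024 = true := by decide +kernel

theorem chkInv_all : ∀ k < 10, chkR (fun a => Nat.beq (appF (mats k) (appF (mats k) a)) a) 1024 = true := by
  decide +kernel

theorem orb_lt_all : chkR (fun a => Nat.blt (orb a) 10) 1024 = true := by decide +kernel

theorem orb_lt {a : ℕ} (ha : a < 1024) : orb a < 10 := by
  have := chkR_spec _ _ orb_lt_all a ha
  simpa [Nat.blt_eq] using this

theorem rep_lt_all : ∀ i < 10, rep i < 1024 ∧ orb (rep i) = i := by decide +kernel

theorem app_app {k : ℕ} (hk : k < 10) {a : ℕ} (ha : a < 1024) : app (mats k) (app (mats k) a) = a := by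
  have := chkR_spec _ _ (chkInv_all k hk) a ha
  rw [app_eq, app_eq]
  exact Nat.eq_of_beq_eq_true this

/-- a property invariant under the ten matrices is constant on orbits -/
theorem orb_spec_mats (P : ℕ → Prop) (hP : ∀ k < 10, ∀ a < 1024, P (app (mats k) a) ↔ P a) :
    ∀ a < 1024, P a ↔ P (rep (orb a)) := by
  have key : ∀ n a, a < 1024 → dep a ≤ n → (P a ↔ P (rep (orb a))) := by
    intro n
    induction n with
    | zero =>
      intro a ha hn
      have h := chkR_spec _ _ chk1_all a ha
      unfold chk1 at h
      rw [Bool.or_eq_true, Bool.and_eq_true, Bool.and_eq_true] at h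
      rcases h with h | ⟨⟨-, h⟩, -⟩
      · rw [← Nat.eq_of_beq_eq_true h]
      · rw [Nat.blt_eq] at h
        omega
    | succ n ih =>
      intro a ha hn
      have h := chkR_spec _ _ chk1_all a ha
      unfold chk1 at h
      rw [Bool.or_eq_true, Bool.and_eq_true, Bool.and_eq_true] at h
      rcases h with h | ⟨⟨h1, h2⟩, h3⟩
      · rw [← Nat.eq_of_beq_eq_true h]
      · rw [Nat.blt_eq, ← app_eq] at h2
        rw [Nat.blt_eq] at h3
        have h4 := Nat.eq_of_beq_eq_true h1
        rw [← app_eq] at h4
        rw [← hP (nx a) h3 a ha, ih _ (app_lt _ _) (by omega), h4]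
  intro a ha
  exact key _ a ha le_rfl

theorem orb_spec (P : ℕ → Prop) (hA : ∀ k < 8, ∀ a < 1024, P (app (A k) a) ↔ P a)
    (hA2 : ∀ a < 1024, P (app A2 a) ↔ P a) (hA4 : ∀ a < 1024, P (app A4 a) ↔ P a) :
    ∀ a < 1024, P a ↔ P (rep (orb a)) := by
  apply orb_spec_mats
  intro k hk a ha
  rcases lt_or_ge k 8 with h | h
  · have : mats k = A k := by
      interval_cases k <;> rfl
    rw [this]
    exact hA k h a ha
  · have : k = 8 ∨ k = 9 := by omega
    rcases this with rfl | rfl
    · exact hA2 a ha
    · exact hA4 a ha

/-! ### the counting functions -/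

/-- number of `x ∈ Om` with `w + x ∈ Om` -/
def c2 (Om : ℕ → Bool) (w : ℕ) : ℕ :=
  ((Finset.range 1024).filter fun x => Om x = true ∧ Om (w ^^^ x) = true).card

/-- number of `(x, y) ∈ Om × Om` with `w + x + y ∈ Om` -/
def c3 (Om : ℕ → Bool) (w : ℕ) : ℕ :=
  (((Finset.range 1024) ×ˢ (Finset.range 1024)).filter fun p =>
    Om p.1 = true ∧ Om p.2 = true ∧ Om (w ^^^ p.1 ^^^ p.2) = true).card

/-- a Boolean as a number -/
def bn (b : Bool) : ℕ := cond b 1 0

theorem if_and (p q : Bool) : (if p = true ∧ q = true then 1 else 0) = bn p * bn q := by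
  cases p <;> cases q <;> rfl

theorem c2_eq (Om : ℕ → Bool) (w : ℕ) :
    c2 Om w = ∑ x ∈ Finset.range 1024, bn (Om x) * bn (Om (w ^^^ x)) := by
  unfold c2
  rw [Finset.card_filter]
  apply Finset.sum_congr rfl
  intro x _
  exact if_and _ _

theorem c3_eq (Om : ℕ → Bool) (w : ℕ) :
    c3 Om w = ∑ x ∈ Finset.range 1024, bn (Om x) * c2 Om (w ^^^ x) := by
  unfold c3
  rw [Finset.card_filter, Finset.sum_product]
  apply Finset.sum_congr rfl
  intro x _
  rw [c2_eq]
  change ∑ y ∈ Finset.range 1024, (if Om x = true ∧ Om y = true ∧ Om (w ^^^ x ^^^ y) = true then 1 else 0) = _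
  cases h : Om x
  · rw [Finset.sum_eq_zero fun y _ => if_neg fun h' => Bool.false_ne_true h'.1]
    exact (Nat.zero_mul _).symm
  · change _ = 1 * _
    rw [one_mul]
    apply Finset.sum_congr rfl
    intro y _
    rw [← if_and]
    simp only [true_and]

theorem sum_range_eq (f : ℕ → ℕ) (n : ℕ) :
    ∑ x ∈ Finset.range n, f x = ((List.range n).map f).sum := by
  induction n with
  | zero => simp
  | succ n ih => rw [Finset.sum_range_succ, List.range_succ, List.map_append, List.sum_append, ih]; simp

theorem sum_part (F : ℕ → ℕ → ℕ) (l : List ℕ) (hl : ∀ x ∈ l, orb x < 10) :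
    (l.map fun x => F (orb x) x).sum =
      ∑ i ∈ Finset.range 10, ((l.filter fun x => Nat.beq (orb x) i).map (F i)).sum := by
  induction l with
  | nil => simp
  | cons x l ih =>
    have h1 : ∀ i, (((x :: l).filter fun y => Nat.beq (orb y) i).map (F i)).sum =
        (if i = orb x then F i x else 0) + ((l.filter fun y => Nat.beq (orb y) i).map (F i)).sum := by
      intro i
      rw [List.filter_cons]
      by_cases h : i = orb x
      · have : Nat.beq (orb x) i = true := by rw [h]; exact Nat.beq_refl _
        rw [if_pos this, if_pos h, List.map_cons, List.sum_cons]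
      · have : ¬ Nat.beq (orb x) i = true := by
          intro h'
          exact h (Nat.eq_of_beq_eq_true h').symm
        rw [if_neg this, if_neg h, zero_add]
    rw [Finset.sum_congr rfl (fun i _ => h1 i), Finset.sum_add_distrib, List.map_cons, List.sum_cons,
      ih (fun y hy => hl y (List.mem_cons_of_mem _ hy)), Finset.sum_ite_eq',
      if_pos (Finset.mem_range.2 (hl x List.mem_cons_self))]

theorem els_all : ∀ i < 10, (List.range 1024).filter (fun x => Nat.beq (orb x) i) = els i := by
  decide +kernel

theorem sum_range_part (F : ℕ → ℕ → ℕ) :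
    ∑ x ∈ Finset.range 1024, F (orb x) x = ∑ i ∈ Finset.range 10, ((els i).map (F i)).sum := by
  rw [sum_range_eq, sum_part F _ (fun x hx => orb_lt (List.mem_range.1 hx))]
  apply Finset.sum_congr rfl
  intro i hi
  rw [els_all i (Finset.mem_range.1 hi)]

theorem sum_h (h f : ℕ → ℕ) (l : List ℕ) (hh : ∀ x ∈ l, h x < 10) :
    (l.map fun x => f (h x)).sum =
      ∑ j ∈ Finset.range 10, l.countP (fun x => Nat.beq (h x) j) * f j := by
  induction l with
  | nil => simp
  | cons x l ih =>
    have h1 : ∀ j, (x :: l).countP (fun y => Nat.beq (h y) j) * f j =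
        (if j = h x then f j else 0) + l.countP (fun y => Nat.beq (h y) j) * f j := by
      intro j
      rw [List.countP_cons]
      by_cases hj : j = h x
      · have : Nat.beq (h x) j = true := by rw [hj]; exact Nat.beq_refl _
        rw [if_pos this, if_pos hj]; ring
      · have : ¬ Nat.beq (h x) j = true := by
          intro h'
          exact hj (Nat.eq_of_beq_eq_true h').symm
        rw [if_neg this, if_neg hj]; ring
    rw [Finset.sum_congr rfl (fun i _ => h1 i), Finset.sum_add_distrib, List.map_cons, List.sum_cons,
      ih (fun y hy => hh y (List.mem_cons_of_mem _ hy)), Finset.sum_ite_eq',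
      if_pos (Finset.mem_range.2 (hh x List.mem_cons_self))]

theorem mt_all : ∀ k < 10, ∀ i < 10, ∀ j < 10,
    (els i).countP (fun x => Nat.beq (orb (Nat.xor (rep k) x)) j) = mt k i j := by
  decide +kernel

theorem mem_els {i : ℕ} (hi : i < 10) {x : ℕ} (hx : x ∈ els i) : x < 1024 := by
  rw [← els_all i hi, List.mem_filter, List.mem_range] at hx
  exact hx.1

theorem xor_lt {a b : ℕ} (ha : a < 1024) (hb : b < 1024) : a ^^^ b < 1024 := by
  rw [show (1024 : ℕ) = 2 ^ 10 by norm_num] at *
  exact Nat.xor_lt_two_pow ha hb

theorem sum_mul (c : ℕ) (F : ℕ → ℕ) (l : List ℕ) : (l.map fun x => c * F x).sum = c * (l.map F).sum := by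
  induction l with
  | nil => simp
  | cons x l ih => rw [List.map_cons, List.sum_cons, ih, List.map_cons, List.sum_cons, Nat.mul_add]

/-- the fundamental formula -/
theorem sum_formula (g f : ℕ → ℕ) (hf : ∀ x < 1024, f x = f (rep (orb x)))
    (hg : ∀ x < 1024, g x = g (rep (orb x))) {k : ℕ} (hk : k < 10) :
    ∑ x ∈ Finset.range 1024, g x * f (rep k ^^^ x) =
      ∑ i ∈ Finset.range 10, g (rep i) * ∑ j ∈ Finset.range 10, mt k i j * f (rep j) := by
  have hr := (rep_lt_all k hk).1
  obtain ⟨h, hh⟩ : ∃ h : ℕ → ℕ, ∀ x, h x = orb (Nat.xor (rep k) x) := ⟨_, fun _ => rfl⟩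
  obtain ⟨F, hF⟩ : ∃ F : ℕ → ℕ → ℕ, ∀ i x, F i x = g (rep i) * f (rep (h x)) := ⟨_, fun _ _ => rfl⟩
  have h1 : ∑ x ∈ Finset.range 1024, g x * f (rep k ^^^ x) =
      ∑ x ∈ Finset.range 1024, F (orb x) x := by
    apply Finset.sum_congr rfl
    intro x hx
    have hx' := Finset.mem_range.1 hx
    have e1 : f (rep k ^^^ x) = f (rep (h x)) := by
      rw [hf _ (xor_lt hr hx'), hh]
      rfl
    rw [hF, ← hg x hx', e1]
  rw [h1, sum_range_part F]
  apply Finset.sum_congr rfl
  intro i hi
  have hi' := Finset.mem_range.1 hi
  have e2 : (els i).map (F i) = (els i).map fun x => g (rep i) * f (rep (h x)) := by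
    apply List.map_congr_left
    intro x _
    exact hF i x
  have e3 := sum_h h (fun j => f (rep j)) (els i)
    (fun x hx => by rw [hh]; exact orb_lt (xor_lt hr (mem_els hi' hx)))
  have e6 : ∑ j ∈ Finset.range 10, (els i).countP (fun x => Nat.beq (h x) j) * f (rep j) =
      ∑ j ∈ Finset.range 10, mt k i j * f (rep j) := by
    refine Finset.sum_congr rfl fun j hj => ?_
    have e4 := mt_all k hk i hi' j (Finset.mem_range.1 hj)
    have e5 : (els i).countP (fun x => Nat.beq (h x) j) =
        (els i).countP (fun x => Nat.beq (orb (Nat.xor (rep k) x)) j) := by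
      apply List.countP_congr
      intro x _
      rw [hh]
    rw [e5, e4]
  rw [e2, sum_mul (g (rep i)) (fun x => f (rep (h x))) (els i), e3, e6]


/-! ### the finite check -/

def wt (B i : ℕ) : ℕ := Nat.land (Nat.shiftRight B i) 1

def sum10 (f : ℕ → ℕ) : ℕ :=
  Nat.add (Nat.add (Nat.add (Nat.add (Nat.add (Nat.add (Nat.add (Nat.add (Nat.add (f 0) (f 1)) (f 2)) (f 3))
    (f 4)) (f 5)) (f 6)) (f 7)) (f 8)) (f 9)

theorem sum10_eq (f : ℕ → ℕ) : ∑ i ∈ Finset.range 10, f i = sum10 f := by
  simp only [Finset.sum_range_succ, Finset.sum_range_zero, zero_add]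
  rfl

def N2 (B k : ℕ) : ℕ := sum10 fun i => Nat.mul (wt B i) (sum10 fun j => Nat.mul (mt k i j) (wt B j))

def N3 (B k : ℕ) : ℕ := sum10 fun i => Nat.mul (wt B i) (sum10 fun j => Nat.mul (mt k i j) (N2 B j))

def ok (f : ℕ → ℕ) (B : ℕ) : Bool :=
  chkR (fun k => Nat.beq (wt B k) 0 || Nat.beq (f k) (f 1)) 10

def chkB (B : ℕ) : Bool :=
  cond (Nat.beq (Nat.land B 7) 2)
    (cond (ok (N2 B) B) (cond (ok (N3 B) B) (Nat.beq B 2 || Nat.beq B 266) true) true) true

theorem chkB_all : chkR chkB 1024 = true := by decide +kernel

theorem ok_of (f : ℕ → ℕ) (B : ℕ) (h : ∀ k < 10, wt B k = 0 ∨ f k = f 1) : ok f B = true := by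
  have : ∀ n ≤ 10, chkR (fun k => Nat.beq (wt B k) 0 || Nat.beq (f k) (f 1)) n = true := by
    intro n
    induction n with
    | zero => intro _; rfl
    | succ n ih =>
      intro hn
      change (chkR (fun k => Nat.beq (wt B k) 0 || Nat.beq (f k) (f 1)) n &&
        (Nat.beq (wt B n) 0 || Nat.beq (f n) (f 1))) = true
      rw [ih (by omega), Bool.true_and, Bool.or_eq_true]
      rcases h n (by omega) with h | h
      · left; rw [h]; rfl
      · right; rw [h]; exact Nat.beq_refl _
  exact this 10 le_rfl

theorem chkB_imp {B : ℕ} (hB : B < 1024) (h7 : Nat.land B 7 = 2)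
    (h2 : ∀ k < 10, wt B k = 0 ∨ N2 B k = N2 B 1) (h3 : ∀ k < 10, wt B k = 0 ∨ N3 B k = N3 B 1) :
    B = 2 ∨ B = 266 := by
  have h := chkR_spec _ _ chkB_all B hB
  unfold chkB at h
  rw [h7, ok_of _ _ h2, ok_of _ _ h3] at h
  simp only [cond_true, show Nat.beq 2 2 = true from rfl, Bool.or_eq_true] at h
  rcases h with h | h
  · left; exact Nat.eq_of_beq_eq_true h
  · right; exact Nat.eq_of_beq_eq_true h

/-! ### the theorem -/

section

variable (Om : ℕ → Bool)

/-- the mask of an invariant set -/
def mask : ℕ := Nat.ofBits fun i : Fin 10 => Om (rep i)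

theorem mask_lt : mask Om < 1024 := by
  have := Nat.ofBits_lt_two_pow fun i : Fin 10 => Om (rep i)
  exact this

theorem testBit_mask {i : ℕ} (hi : i < 10) : (mask Om).testBit i = Om (rep i) := by
  unfold mask
  rw [Nat.testBit_ofBits_lt _ _ hi]

theorem wt_mask {i : ℕ} (hi : i < 10) : wt (mask Om) i = bn (Om (rep i)) := by
  have h := bit_eq (mask Om) i 1
  rw [testBit_mask Om hi] at h
  unfold wt bn
  rw [h]
  exact (Nat.mul_one _).symm

variable {Om}

theorem inv_c2 {M : ℕ} (hM : ∀ a < 1024, app M (app M a) = a) (hO : ∀ a < 1024, Om (app M a) = Om a)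
    (w : ℕ) (hw : w < 1024) : c2 Om (app M w) = c2 Om w := by
  unfold c2
  apply Finset.card_nbij' (app M) (app M)
  · intro x hx
    simp only [Finset.coe_filter, Finset.mem_range, Set.mem_ofPred_eq] at hx ⊢
    refine ⟨app_lt _ _, ?_, ?_⟩
    · rw [hO x hx.1]; exact hx.2.1
    · have h1 := hO (app M w ^^^ x) (xor_lt (app_lt _ _) hx.1)
      rw [app_xor, hM w hw] at h1
      rw [h1]; exact hx.2.2
  · intro x hx
    simp only [Finset.coe_filter, Finset.mem_range, Set.mem_ofPred_eq] at hx ⊢
    refine ⟨app_lt _ _, ?_, ?_⟩
    · rw [hO x hx.1]; exact hx.2.1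
    · rw [← app_xor, hO _ (xor_lt hw hx.1)]; exact hx.2.2
  · intro x hx
    simp only [Finset.coe_filter, Finset.mem_range, Set.mem_ofPred_eq] at hx
    exact hM x hx.1
  · intro x hx
    simp only [Finset.coe_filter, Finset.mem_range, Set.mem_ofPred_eq] at hx
    exact hM x hx.1

theorem omega_mats (h0 : Om 0 = false) (h1 : Om 1 = true) (h2 : Om 2 = false)
    (hA : ∀ k < 10, ∀ a < 1024, Om (app (mats k) a) = Om a)
    (hc2 : ∀ w < 1024, Om w = true → c2 Om w = c2 Om 1)
    (hc3 : ∀ w < 1024, Om w = true → c3 Om w = c3 Om 1) :
    (∀ a < 1024, Om a = true ↔ a = 1) ∨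
      (∀ a < 1024, Om a = true ↔ (orb a = orb 1 ∨ orb a = orb 32 ∨ orb a = orb 97)) := by
  have hOm : ∀ a < 1024, Om a = Om (rep (orb a)) := by
    intro a ha
    have := orb_spec_mats (fun x => Om x = true) (fun k hk a ha => by rw [hA k hk a ha]) a ha
    exact Bool.eq_iff_iff.2 this
  have hc2o : ∀ a < 1024, c2 Om a = c2 Om (rep (orb a)) := by
    intro a ha
    have := orb_spec_mats (fun x => c2 Om x = c2 Om a)
      (fun k hk b hb => by rw [inv_c2 (fun x hx => app_app hk hx) (hA k hk) b hb]) a ha
    exact (this.1 rfl).symm
  have hN2 : ∀ k < 10, c2 Om (rep k) = N2 (mask Om) k := by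
    intro k hk
    rw [c2_eq, sum_formula (fun x => bn (Om x)) (fun x => bn (Om x))
      (fun x hx => by rw [hOm x hx]) (fun x hx => by rw [hOm x hx]) hk, sum10_eq]
    unfold N2
    rw [← sum10_eq, ← sum10_eq]
    apply Finset.sum_congr rfl
    intro i hi
    rw [wt_mask Om (Finset.mem_range.1 hi), ← sum10_eq]
    refine congrArg (fun y => bn (Om (rep i)) * y) ?_
    apply Finset.sum_congr rfl
    intro j hj
    rw [wt_mask Om (Finset.mem_range.1 hj)]
    rfl
  have hN3 : ∀ k < 10, c3 Om (rep k) = N3 (mask Om) k := by
    intro k hk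
    rw [c3_eq, sum_formula (fun x => bn (Om x)) (c2 Om) hc2o (fun x hx => by rw [hOm x hx]) hk]
    unfold N3
    rw [← sum10_eq]
    apply Finset.sum_congr rfl
    intro i hi
    rw [wt_mask Om (Finset.mem_range.1 hi), ← sum10_eq]
    refine congrArg (fun y => bn (Om (rep i)) * y) ?_
    apply Finset.sum_congr rfl
    intro j hj
    rw [hN2 j (Finset.mem_range.1 hj)]
    rfl
  have hr0 : rep 0 = 0 := by decide +kernel
  have hr1 : rep 1 = 1 := by decide +kernel
  have hr2 : rep 2 = 2 := by decide +kernel
  have h7 : Nat.land (mask Om) 7 = 2 := by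
    change mask Om &&& 7 = 2
    apply Nat.eq_of_testBit_eq
    intro i
    rw [Nat.testBit_and]
    rcases lt_or_ge i 3 with hi | hi
    · rw [testBit_mask Om (by omega)]
      interval_cases i
      · rw [hr0, h0]; rfl
      · rw [hr1, h1]; rfl
      · rw [hr2, h2]; rfl
    · rw [show (7 : ℕ).testBit i = false by
        apply Nat.testBit_lt_two_pow
        calc (7 : ℕ) < 2 ^ 3 := by norm_num
          _ ≤ 2 ^ i := Nat.pow_le_pow_right (by norm_num) hi,
        show (2 : ℕ).testBit i = false by
        apply Nat.testBit_lt_two_pow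
        calc (2 : ℕ) < 2 ^ 3 := by norm_num
          _ ≤ 2 ^ i := Nat.pow_le_pow_right (by norm_num) hi, Bool.and_false]
  have hk : ∀ (f : ℕ → ℕ) (N : ℕ → ℕ), (∀ k < 10, f (rep k) = N k) →
      (∀ w < 1024, Om w = true → f w = f 1) → ∀ k < 10, wt (mask Om) k = 0 ∨ N k = N 1 := by
    intro f N hf hc k hk
    rw [wt_mask Om hk]
    cases hO : Om (rep k)
    · left; rfl
    · right
      rw [← hf k hk, ← hf 1 (by norm_num), hr1]
      exact hc _ (rep_lt_all k hk).1 hO
  have hB := chkB_imp (mask_lt Om) h7 (hk _ _ hN2 hc2) (hk _ _ hN3 hc3)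
  have hOB : ∀ a < 1024, Om a = (mask Om).testBit (orb a) := by
    intro a ha
    rw [testBit_mask Om (orb_lt ha)]
    exact hOm a ha
  rcases hB with hB | hB
  · left
    intro a ha
    rw [hOB a ha, hB]
    have key : ∀ b < 1024, ((2 : ℕ).testBit (orb b) = true ↔ b = 1) := by decide +kernel
    exact key a ha
  · right
    intro a ha
    rw [hOB a ha, hB]
    have key : ∀ i < 10, ((266 : ℕ).testBit i = true ↔ (i = orb 1 ∨ i = orb 32 ∨ i = orb 97)) := by
      decide +kernel
    exact key _ (orb_lt ha)

end

/-- **The numerical determination of the fused part of `E`.** -/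
theorem omega_cases (Om : ℕ → Bool) (h0 : Om 0 = false) (h1 : Om 1 = true) (h2 : Om 2 = false)
    (hA : ∀ k < 8, ∀ a < 1024, Om (app (A k) a) = Om a)
    (hA2 : ∀ a < 1024, Om (app A2 a) = Om a) (hA4 : ∀ a < 1024, Om (app A4 a) = Om a)
    (hc2 : ∀ w < 1024, Om w = true → c2 Om w = c2 Om 1)
    (hc3 : ∀ w < 1024, Om w = true → c3 Om w = c3 Om 1) :
    (∀ a < 1024, Om a = true ↔ a = 1) ∨
      (∀ a < 1024, Om a = true ↔ (orb a = orb 1 ∨ orb a = orb 32 ∨ orb a = orb 97)) := by
  apply omega_mats h0 h1 h2 _ hc2 hc3
  intro k hk a ha
  rcases lt_or_ge k 8 with h | h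
  · have : mats k = A k := by
      interval_cases k <;> rfl
    rw [this]
    exact hA k h a ha
  · have : k = 8 ∨ k = 9 := by omega
    rcases this with rfl | rfl
    · exact hA2 a ha
    · exact hA4 a ha

end Cfsg.Agent.Co2Type.EOmega
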