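import Cfsg.Agent.Co2Type.Section
import Cfsg.Agent.Co2Type.FastQ

/-!
# The elementary abelian subgroup of order `2^10` of `2^{1+8}_+ : Sp6(2)` (R03, letter B, helper871)

Codes `a < 1024` for the elements of `E`, packed `10 × 10` matrices over `F₂` (`app`), action on `E` of the
generators of a Sylow 2-subgroup `T` and of the letters `2, …, 6`.
-/

set_option autoImplicit false

namespace Cfsg.Agent.Co2Type.ETab

open Cfsg Cfsg.Agent.Co2Type.Setup Cfsg.Agent.Co2Type.Spin
open Cfsg.Agent.Co2Type.QModel Cfsg.Agent.Co2Type.Act Cfsg.Agent.Co2Type.Coord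
open Cfsg.Agent.Co2Type.Rels Cfsg.Agent.Co2Type.Abs Cfsg.Agent.Co2Type.FastQ
open Cfsg.Agent.ClassicalGeometry.SympBasic

/-! ### packed matrices -/

/-- column `k` of a packed matrix -/
def col (M k : ℕ) : ℕ := (M >>> (10 * k)) &&& 1023

/-- application of a packed matrix to a code (unrolled, for the kernel) -/
def app (M a : ℕ) : ℕ :=
  (((((((((cond (a.testBit 0) (M &&& 1023) 0 ^^^
    cond (a.testBit 1) ((M >>> 10) &&& 1023) 0) ^^^
    cond (a.testBit 2) ((M >>> 20) &&& 1023) 0) ^^^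
    cond (a.testBit 3) ((M >>> 30) &&& 1023) 0) ^^^
    cond (a.testBit 4) ((M >>> 40) &&& 1023) 0) ^^^
    cond (a.testBit 5) ((M >>> 50) &&& 1023) 0) ^^^
    cond (a.testBit 6) ((M >>> 60) &&& 1023) 0) ^^^
    cond (a.testBit 7) ((M >>> 70) &&& 1023) 0) ^^^
    cond (a.testBit 8) ((M >>> 80) &&& 1023) 0) ^^^
    cond (a.testBit 9) ((M >>> 90) &&& 1023) 0)

/-- application of a packed matrix, recursive form -/
def ap (M : ℕ) : ℕ → ℕ → ℕ
  | 0, _ => 0
  | n + 1, a => ap M n a ^^^ (if a.testBit n = true then col M n else 0)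

theorem cond_eq (b : Bool) (x : ℕ) : cond b x 0 = if b = true then x else 0 := by
  cases b <;> rfl

theorem app_eq_ap (M a : ℕ) : app M a = ap M 10 a := by
  simp only [app, ap, cond_eq, col, Nat.zero_xor, Nat.mul_zero, Nat.shiftRight_zero]

theorem col_lt (M k : ℕ) : col M k < 1024 := by
  unfold col
  exact lt_of_le_of_lt Nat.and_le_right (by norm_num)

theorem ap_lt (M n a : ℕ) : ap M n a < 1024 := by
  induction n with
  | zero => exact Nat.zero_lt_succ _
  | succ n ih =>
    rw [ap]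
    have h : (1024 : ℕ) = 2 ^ 10 := by norm_num
    rw [h]
    apply Nat.xor_lt_two_pow
    · rw [← h]; exact ih
    · split_ifs
      · rw [← h]; exact col_lt _ _
      · norm_num

theorem app_lt (M a : ℕ) : app M a < 1024 := by rw [app_eq_ap]; exact ap_lt _ _ _

theorem ap_xor (M n a c : ℕ) : ap M n (a ^^^ c) = ap M n a ^^^ ap M n c := by
  induction n with
  | zero => simp [ap]
  | succ n ih =>
    rw [ap, ap, ap, ih, Nat.testBit_xor]
    generalize ap M n a = x
    generalize ap M n c = y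
    generalize col M n = z
    cases a.testBit n <;> cases c.testBit n <;> simp [Nat.xor_comm, Nat.xor_left_comm]

theorem app_xor (M a c : ℕ) : app M (a ^^^ c) = app M a ^^^ app M c := by
  rw [app_eq_ap, app_eq_ap, app_eq_ap, ap_xor]

/-! ### products of commuting involutions -/

section

variable {C : Type*} [Group C]

/-- product of the `b k`, `k < n` a bit of `a` -/
def pe (b : ℕ → C) : ℕ → ℕ → C
  | 0, _ => 1
  | n + 1, a => pe b n a * (if a.testBit n = true then b n else 1)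

theorem pe_comm (b : ℕ → C) (n : ℕ) (x : C) (h : ∀ k, k < n → b k * x = x * b k) (a : ℕ) :
    pe b n a * x = x * pe b n a := by
  induction n with
  | zero => simp [pe]
  | succ n ih =>
    rw [pe, mul_assoc]
    have h1 : (if a.testBit n = true then b n else 1) * x =
        x * (if a.testBit n = true then b n else 1) := by
      split_ifs
      · exact h n (Nat.lt_succ_self n)
      · simp
    rw [h1, ← mul_assoc, ih (fun k hk => h k (Nat.lt_succ_of_lt hk)), mul_assoc]

theorem pe_xor (b : ℕ → C) (n : ℕ) (h2 : ∀ k, k < n → b k * b k = 1)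
    (hc : ∀ k l, k < n → l < n → b k * b l = b l * b k) (a c : ℕ) :
    pe b n (a ^^^ c) = pe b n a * pe b n c := by
  induction n with
  | zero => simp [pe]
  | succ n ih =>
    rw [pe, pe, pe, ih (fun k hk => h2 k (Nat.lt_succ_of_lt hk))
      (fun k l hk hl => hc k l (Nat.lt_succ_of_lt hk) (Nat.lt_succ_of_lt hl)), Nat.testBit_xor]
    have h1 : pe b n c * b n = b n * pe b n c :=
      pe_comm b n (b n) (fun k hk => hc k n (Nat.lt_succ_of_lt hk) (Nat.lt_succ_self n)) c
    have h3 := h2 n (Nat.lt_succ_self n)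
    cases ha : a.testBit n <;> cases hb : c.testBit n
    · simp
    · simp [mul_assoc]
    · simp only [Bool.bne_false, if_true, Bool.false_eq_true, if_false, mul_one]
      rw [mul_assoc, mul_assoc, h1]
    · simp only [bne_self_eq_false, Bool.false_eq_true, if_false, mul_one, if_true]
      calc pe b n a * pe b n c = pe b n a * (pe b n c * (b n * b n)) := by rw [h3, mul_one]
        _ = pe b n a * (pe b n c * b n) * b n := by group
        _ = pe b n a * (b n * pe b n c) * b n := by rw [h1]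
        _ = _ := by group

theorem pe_single (b : ℕ → C) (n k : ℕ) (hk : k < n) : pe b n (2 ^ k) = b k := by
  have h0 : ∀ m, m ≤ k → pe b m (2 ^ k) = 1 := by
    intro m
    induction m with
    | zero => intro _; rfl
    | succ m ih =>
      intro hm
      rw [pe, ih (by omega), Nat.testBit_two_pow]
      have : ¬ k = m := by omega
      simp [this]
  have h1 : ∀ m, k + 1 + m ≤ n → pe b (k + 1 + m) (2 ^ k) = b k := by
    intro m
    induction m with
    | zero =>
      intro _
      rw [Nat.add_zero, pe, h0 k le_rfl, Nat.testBit_two_pow]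
      simp
    | succ m ih =>
      intro hm
      rw [← Nat.add_assoc, pe, ih (by omega), Nat.testBit_two_pow]
      have : ¬ k = k + 1 + m := by omega
      simp [this]
  have := h1 (n - (k + 1)) (by omega)
  rwa [show k + 1 + (n - (k + 1)) = n by omega] at this

/-- an element acting on the basis acts on all products -/
theorem pe_conj (b : ℕ → C) (N : ℕ) (e : ℕ → C) (he : ∀ a c, e (a ^^^ c) = e a * e c) (h0 : e 0 = 1)
    (g : C) (M : ℕ) (hg : ∀ k, k < N → g * b k * g⁻¹ = e (col M k)) (a : ℕ) :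
    g * pe b N a * g⁻¹ = e (ap M N a) := by
  have key : ∀ n, n ≤ N → g * pe b n a * g⁻¹ = e (ap M n a) := by
    intro n
    induction n with
    | zero => intro _; simp [pe, ap, h0]
    | succ n ih =>
      intro hn
      rw [pe, ap, he, ← ih (by omega)]
      split_ifs
      · rw [← hg n (by omega)]; group
      · rw [h0]; group
  exact key N le_rfl

end

/-! ### the split situation -/

/-- `C = Q : L`, with all the data -/
structure SD {C : Type*} [Group C] (t : C) (ev : QM →* C) (D : ℕ → C) (psi : C →* Sp6)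
    (sg : Sp6 →* C) : Prop where
  R : Rels false t ev D
  P : Pre t ev psi
  psi_D : ∀ j, j < 7 → psi (D j) = transv (uv j) 1
  sec : ∀ x, psi (sg x) = x
  sec_D : ∀ j, j < 7 → sg (transv (uv j) 1) = D j

theorem exists_sd {C : Type*} [Group C] {t : C} {ev : QM →* C} {D : ℕ → C} {psi : C →* Sp6}
    (R : Rels false t ev D) (P : Pre t ev psi) (hpsi : ∀ j, j < 7 → psi (D j) = transv (uv j) 1) :
    ∃ sg : Sp6 →* C, SD t ev D psi sg := by
  obtain ⟨sg, h1, h2, -⟩ := Section.exists_section R psi hpsi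
  exact ⟨sg, R, P, hpsi, h1, h2⟩

namespace SD

variable {C : Type*} [Group C] {t : C} {ev : QM →* C} {D : ℕ → C} {psi : C →* Sp6} {sg : Sp6 →* C}

theorem fam (S : SD t ev D psi sg) : Abs.Pre.Fam S.P D := ⟨S.psi_D, S.R.conj⟩

theorem wd_mem (S : SD t ev D psi sg) (w : List ℕ) (hw : ∀ j ∈ w, j < 7) : wd D w ∈ sg.range := by
  induction w with
  | nil => exact one_mem _
  | cons j w ih =>
    rw [wd]
    exact mul_mem ⟨_, S.sec_D j (hw j List.mem_cons_self)⟩
      (ih fun k hk => hw k (List.mem_cons_of_mem _ hk))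

theorem eq_one (S : SD t ev D psi sg) {x : C} (hx : x ∈ sg.range) (h : psi x = 1) : x = 1 := by
  obtain ⟨y, rfl⟩ := hx
  rw [S.sec] at h
  rw [h, map_one]

/-- all letters of a word are `< 7` -/
def okw (w : List ℕ) : Bool := w.all fun j => Nat.blt j 7

theorem okw_iff {w : List ℕ} (h : okw w = true) : ∀ j ∈ w, j < 7 := by
  intro j hj
  have := (List.all_eq_true.1 h) j hj
  rwa [Nat.blt_eq] at this

/-- words with the same action are equal -/
theorem same (S : SD t ev D psi sg) (w w' : List ℕ) (h : (okw w && okw w' && sameT w w') = true) :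
    wd D w = wd D w' := by
  simp only [Bool.and_eq_true] at h
  obtain ⟨⟨h1, h2⟩, h3⟩ := h
  have hw := okw_iff h1
  have hw' := okw_iff h2
  rw [sameT_eq hw hw'] at h3
  rcases S.fam.same w w' hw hw' h3 with h | h
  · exact h
  · exfalso
    have h4 : (wd D w')⁻¹ * wd D w = t := by rw [h]; group
    have h5 : t ∈ sg.range := by
      rw [← h4]; exact mul_mem (inv_mem (S.wd_mem w' hw')) (S.wd_mem w hw)
    exact S.P.t_ne (S.eq_one h5 S.P.psi_t)

theorem conj_wd (S : SD t ev D psi sg) (w : List ℕ) (hw : okw w = true) {m : ℕ} (hm : m < 512) :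
    wd D w * ev (dec m) * (wd D w)⁻¹ = ev (dec (autwT w m)) := by
  rw [autwT_eq (okw_iff hw) hm]
  exact Act.conj_wd ev D S.R.conj (fun j _ => S.P.conj_z (D j)) w (okw_iff hw) m

theorem D_sq (S : SD t ev D psi sg) (j : ℕ) (hj : j < 7) : D j * D j = 1 := S.R.sq j hj

theorem D_inv (S : SD t ev D psi sg) (j : ℕ) (hj : j < 7) : (D j)⁻¹ = D j :=
  inv_eq_of_mul_eq_one_left (S.D_sq j hj)

theorem ev_mul (n m : ℕ) : ev (dec n) * ev (dec m) = ev (dec (qmul n m)) := by
  rw [dec_qmul, map_mul]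

theorem ev_inv {n : ℕ} (hn : qmul n n = 0) : (ev (dec n))⁻¹ = ev (dec n) := by
  apply inv_eq_of_mul_eq_one_left
  rw [ev_mul, hn, dec_zero, map_one]

/-- conjugation of a word by an involution of `Q` -/
theorem conj_ev_wd (S : SD t ev D psi sg) {n : ℕ} (hn : qmul n n = 0) (hn' : n < 512) (w : List ℕ)
    (hw : okw w = true) :
    ev (dec n) * wd D w * (ev (dec n))⁻¹ = ev (dec (qmul n (autwT w n))) * wd D w := by
  rw [← ev_mul, ← S.conj_wd w hw hn', ev_inv hn]
  group

end SD

/-! ### the basis of `E` -/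

/-- codes of the basis of `D = C_Q(D₀)` -/
def dc : ℕ → ℕ
  | 0 => 256
  | 1 => 2
  | 2 => 8
  | 3 => 32
  | 4 => 128
  | _ => 0

/-- words of the basis of `R₅ = O₂(C_L(D₀))` -/
def rwd : ℕ → List ℕ
  | 0 => [0]
  | 1 => [5, 1, 2, 6, 3, 2, 1, 0, 1, 2, 3, 6, 2, 1]
  | 2 => [4, 5, 1, 2, 6, 3, 2, 1, 0, 1, 2, 3, 6, 2, 1, 4]
  | 3 => [3, 4, 5, 1, 2, 6, 3, 2, 1, 0, 1, 2, 3, 6, 2, 1, 4, 3]
  | 4 => [2, 3, 4, 5, 1, 2, 6, 3, 2, 1, 0, 1, 2, 3, 6, 2, 1, 4, 3, 2]
  | _ => []

/-- the basis of `E` -/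
def bs {C : Type*} [Group C] (ev : QM →* C) (D : ℕ → C) (k : ℕ) : C :=
  if k < 5 then ev (dec (dc k)) else wd D (rwd (k - 5))

/-- the element of `E` with code `a` -/
def e {C : Type*} [Group C] (ev : QM →* C) (D : ℕ → C) (a : ℕ) : C := pe (bs ev D) 10 a

/-- code in `Q` of the `D`-part -/
def dcode (a : ℕ) : ℕ :=
  (((cond (a.testBit 0) 256 0 ^^^ cond (a.testBit 1) 2 0) ^^^ cond (a.testBit 2) 8 0) ^^^
    cond (a.testBit 3) 32 0) ^^^ cond (a.testBit 4) 128 0

/-- word of the `R₅`-part -/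
def rword (a : ℕ) : List ℕ :=
  cond (a.testBit 5) (rwd 0) [] ++ (cond (a.testBit 6) (rwd 1) [] ++
    (cond (a.testBit 7) (rwd 2) [] ++ (cond (a.testBit 8) (rwd 3) [] ++ cond (a.testBit 9) (rwd 4) [])))

theorem rwd_ok : ∀ k < 5, SD.okw (rwd k) = true := by decide +kernel

theorem rwd_comm : ∀ k < 5, ∀ l < 5,
    (SD.okw (rwd k ++ rwd l) && SD.okw (rwd l ++ rwd k) && sameT (rwd k ++ rwd l) (rwd l ++ rwd k)) = true := by
  decide +kernel

theorem rwd_sq : ∀ k < 5, (SD.okw (rwd k ++ rwd k) && SD.okw [] && sameT (rwd k ++ rwd k) []) = true := by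
  decide +kernel

theorem dc_sq : ∀ k < 5, qmul (dc k) (dc k) = 0 := by decide +kernel
theorem dc_comm : ∀ k < 5, ∀ l < 5, qmul (dc k) (dc l) = qmul (dc l) (dc k) := by decide +kernel
theorem dc_lt : ∀ k < 5, dc k < 512 := by decide +kernel
theorem rwd_dc : ∀ k < 5, ∀ l < 5, autwT (rwd k) (dc l) = dc l := by decide +kernel

namespace SD

variable {C : Type*} [Group C] {t : C} {ev : QM →* C} {D : ℕ → C} {psi : C →* Sp6} {sg : Sp6 →* C}

theorem bs_lo {k : ℕ} (hk : k < 5) : bs ev D k = ev (dec (dc k)) := by rw [bs, if_pos hk]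

theorem bs_hi (k : ℕ) : bs ev D (k + 5) = wd D (rwd k) := by
  rw [bs, if_neg (by omega), Nat.add_sub_cancel]

theorem bs_sq (S : SD t ev D psi sg) (k : ℕ) (hk : k < 10) : bs ev D k * bs ev D k = 1 := by
  by_cases h : k < 5
  · rw [bs_lo h, ev_mul, dc_sq k h, dec_zero, map_one]
  · obtain ⟨l, rfl⟩ : ∃ l, k = l + 5 := ⟨k - 5, by omega⟩
    rw [bs_hi, ← wd_append]
    exact S.same _ [] (rwd_sq l (by omega))

theorem bs_comm (S : SD t ev D psi sg) (k l : ℕ) (hk : k < 10) (hl : l < 10) :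
    bs ev D k * bs ev D l = bs ev D l * bs ev D k := by
  have key : ∀ k l, k < 5 → l < 5 → bs ev D (k + 5) * bs ev D l = bs ev D l * bs ev D (k + 5) := by
    intro k l hk hl
    have h := S.conj_wd (rwd k) (rwd_ok k hk) (dc_lt l hl)
    rw [rwd_dc k hk l hl, mul_inv_eq_iff_eq_mul] at h
    rw [bs_lo hl, bs_hi, h]
  by_cases h : k < 5
  · by_cases h' : l < 5
    · rw [bs_lo h, bs_lo h', ev_mul, ev_mul, dc_comm k h l h']
    · obtain ⟨l, rfl⟩ : ∃ l', l = l' + 5 := ⟨l - 5, by omega⟩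
      exact (key l k (by omega) h).symm
  · obtain ⟨k, rfl⟩ : ∃ k', k = k' + 5 := ⟨k - 5, by omega⟩
    by_cases h' : l < 5
    · exact key k l (by omega) h'
    · obtain ⟨l, rfl⟩ : ∃ l', l = l' + 5 := ⟨l - 5, by omega⟩
      rw [bs_hi, bs_hi, ← wd_append, ← wd_append]
      exact S.same _ _ (rwd_comm k (by omega) l (by omega))

theorem e_xor (S : SD t ev D psi sg) (a c : ℕ) : e ev D (a ^^^ c) = e ev D a * e ev D c :=
  pe_xor _ 10 S.bs_sq S.bs_comm a c

theorem e_zero : e ev D 0 = 1 := by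
  unfold e
  simp [pe]

theorem e_sq (S : SD t ev D psi sg) (a : ℕ) : e ev D a * e ev D a = 1 := by
  rw [← S.e_xor, Nat.xor_self, e_zero]

theorem e_comm (S : SD t ev D psi sg) (a c : ℕ) : e ev D a * e ev D c = e ev D c * e ev D a := by
  rw [← S.e_xor, ← S.e_xor, Nat.xor_comm]

theorem e_single {k : ℕ} (hk : k < 10) : e ev D (2 ^ k) = bs ev D k := pe_single _ _ _ hk

theorem if_ev (b : Bool) (m : ℕ) : (if b = true then ev (dec m) else 1) = ev (dec (cond b m 0)) := by
  cases b
  · simp [dec_zero]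
  · rfl

theorem if_wd (b : Bool) (w : List ℕ) : (if b = true then wd D w else 1) = wd D (cond b w []) := by
  cases b <;> rfl

/-- the element with code `a` as a product of its parts -/
theorem e_eq (a : ℕ) : e ev D a = ev (dec (dcode a)) * wd D (rword a) := by
  have hx : ∀ m n k : ℕ, cond (a.testBit k) m 0 = m ∨ cond (a.testBit k) m 0 = 0 := by
    intro m n k
    cases a.testBit k <;> simp
  have hD : ev (dec (dcode a)) = ev (dec (cond (a.testBit 0) 256 0)) * ev (dec (cond (a.testBit 1) 2 0)) *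
      ev (dec (cond (a.testBit 2) 8 0)) * ev (dec (cond (a.testBit 3) 32 0)) *
      ev (dec (cond (a.testBit 4) 128 0)) := by
    rw [ev_mul, ev_mul, ev_mul, ev_mul]
    congr 2
    unfold dcode
    cases a.testBit 0 <;> cases a.testBit 1 <;> cases a.testBit 2 <;> cases a.testBit 3 <;>
      cases a.testBit 4 <;> decide
  rw [hD]
  unfold e rword
  rw [wd_append, wd_append, wd_append, wd_append]
  simp only [pe, bs_lo (show 0 < 5 by norm_num), bs_lo (show 1 < 5 by norm_num),
    bs_lo (show 2 < 5 by norm_num), bs_lo (show 3 < 5 by norm_num), bs_lo (show 4 < 5 by norm_num),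
    bs_hi 0, bs_hi 1, bs_hi 2, bs_hi 3, bs_hi 4, dc, if_ev, if_wd, one_mul, mul_assoc]

/-- an element acting on the basis acts on `E` -/
theorem e_conj (S : SD t ev D psi sg) (g : C) (M : ℕ)
    (hg : ∀ k, k < 10 → g * bs ev D k * g⁻¹ = e ev D (col M k)) (a : ℕ) :
    g * e ev D a * g⁻¹ = e ev D (app M a) := by
  rw [app_eq_ap]
  exact pe_conj (bs ev D) 10 (e ev D) S.e_xor e_zero g M hg a

/-- check for the action of an involution of `Q` -/
def ChkX (n M : ℕ) : Prop := qmul n n = 0 ∧ n < 512 ∧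
  (∀ k < 5, rword (col M k) = [] ∧ dcode (col M k) = qmul (qmul n (dc k)) n) ∧
  ∀ k < 5, rword (col M (k + 5)) = rwd k ∧ dcode (col M (k + 5)) = qmul n (autwT (rwd k) n)

instance (n M : ℕ) : Decidable (ChkX n M) := by unfold ChkX; infer_instance

theorem conj_X (S : SD t ev D psi sg) {n M : ℕ} (h : ChkX n M) (a : ℕ) :
    ev (dec n) * e ev D a * (ev (dec n))⁻¹ = e ev D (app M a) := by
  obtain ⟨h1, h2, h3, h4⟩ := h
  apply S.e_conj
  intro k hk
  by_cases h : k < 5
  · obtain ⟨h5, h6⟩ := h3 k h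
    rw [bs_lo h, ev_inv h1, ev_mul, ev_mul, e_eq, h5, h6]
    simp [wd]
  · obtain ⟨k, rfl⟩ : ∃ k', k = k' + 5 := ⟨k - 5, by omega⟩
    obtain ⟨h5, h6⟩ := h4 k (by omega)
    rw [bs_hi, S.conj_ev_wd h1 h2 _ (rwd_ok k (by omega)), e_eq, h5, h6]

/-- check for the action of a word -/
def ChkW (w : List ℕ) (M : ℕ) : Prop := okw w = true ∧
  (∀ k < 5, rword (col M k) = [] ∧ dcode (col M k) = autwT w (dc k)) ∧
  ∀ k < 5, dcode (col M (k + 5)) = 0 ∧
    (okw (w ++ rwd k) && okw (rword (col M (k + 5)) ++ w) &&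
      sameT (w ++ rwd k) (rword (col M (k + 5)) ++ w)) = true

instance (w : List ℕ) (M : ℕ) : Decidable (ChkW w M) := by unfold ChkW; infer_instance

theorem conj_W (S : SD t ev D psi sg) {w : List ℕ} {M : ℕ} (h : ChkW w M) (a : ℕ) :
    wd D w * e ev D a * (wd D w)⁻¹ = e ev D (app M a) := by
  obtain ⟨h1, h3, h4⟩ := h
  apply S.e_conj
  intro k hk
  by_cases h : k < 5
  · obtain ⟨h5, h6⟩ := h3 k h
    rw [bs_lo h, S.conj_wd w h1 (dc_lt k h), e_eq, h5, h6]
    simp [wd]
  · obtain ⟨k, rfl⟩ : ∃ k', k = k' + 5 := ⟨k - 5, by omega⟩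
    obtain ⟨h5, h6⟩ := h4 k (by omega)
    rw [bs_hi, e_eq, h5, dec_zero, map_one, one_mul, mul_inv_eq_iff_eq_mul, ← wd_append, ← wd_append]
    exact S.same _ _ h6

end SD

/-! ### the generators of `T` and their matrices -/

/-- matrices of the generators of `T` -/
def A : ℕ → ℕ
  | 0 => 0x815022244b088110200400801
  | 1 => 0x80d0724455090100240400801
  | 2 => 0x8490b20c480a0100200500801
  | 3 => 0x8311c214500c0100200400c01
  | 4 => 0xf810020040080180200600801
  | 5 => 0x8008040040080180201702801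
  | 6 => 0x9014030040080100201402801
  | 7 => 0x203e080040080100200d04c01
  | _ => 0

/-- matrices of the letters `2, 4` -/
def A2 : ℕ := 0x4020020040080100600401801
def A4 : ℕ := 0x8010010080080140280400801

/-- the generators of `T` modulo `E` -/
def gt {C : Type*} [Group C] (ev : QM →* C) (D : ℕ → C) : ℕ → C
  | 0 => ev (dec 1)
  | 1 => ev (dec 4)
  | 2 => ev (dec 16)
  | 3 => ev (dec 64)
  | 4 => wd D [6]
  | 5 => wd D [3]
  | 6 => wd D [5]
  | 7 => wd D [2, 6, 3, 2]
  | _ => 1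

theorem chk_A0 : SD.ChkX 1 (A 0) := by decide +kernel
theorem chk_A1 : SD.ChkX 4 (A 1) := by decide +kernel
theorem chk_A2 : SD.ChkX 16 (A 2) := by decide +kernel
theorem chk_A3 : SD.ChkX 64 (A 3) := by decide +kernel
theorem chk_A4 : SD.ChkW [6] (A 4) := by decide +kernel
theorem chk_A5 : SD.ChkW [3] (A 5) := by decide +kernel
theorem chk_A6 : SD.ChkW [5] (A 6) := by decide +kernel
theorem chk_A7 : SD.ChkW [2, 6, 3, 2] (A 7) := by decide +kernel
theorem chk_L2 : SD.ChkW [2] A2 := by decide +kernel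
theorem chk_L4 : SD.ChkW [4] A4 := by decide +kernel

namespace SD

variable {C : Type*} [Group C] {t : C} {ev : QM →* C} {D : ℕ → C} {psi : C →* Sp6} {sg : Sp6 →* C}

theorem conj_gt (S : SD t ev D psi sg) {k : ℕ} (hk : k < 8) (a : ℕ) :
    gt ev D k * e ev D a * (gt ev D k)⁻¹ = e ev D (app (A k) a) := by
  interval_cases k
  · exact S.conj_X chk_A0 a
  · exact S.conj_X chk_A1 a
  · exact S.conj_X chk_A2 a
  · exact S.conj_X chk_A3 a
  · exact S.conj_W chk_A4 a
  · exact S.conj_W chk_A5 a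
  · exact S.conj_W chk_A6 a
  · exact S.conj_W chk_A7 a

theorem wd_one (j : ℕ) : wd D [j] = D j := by simp [wd]

theorem conj_D2 (S : SD t ev D psi sg) (a : ℕ) :
    D 2 * e ev D a * (D 2)⁻¹ = e ev D (app A2 a) := by
  have := S.conj_W chk_L2 a
  rwa [wd_one] at this

theorem conj_D4 (S : SD t ev D psi sg) (a : ℕ) :
    D 4 * e ev D a * (D 4)⁻¹ = e ev D (app A4 a) := by
  have := S.conj_W chk_L4 a
  rwa [wd_one] at this

theorem e_one (S : SD t ev D psi sg) : e ev D 1 = t := by
  rw [show (1 : ℕ) = 2 ^ 0 by norm_num, e_single (by norm_num), bs_lo (by norm_num)]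
  exact S.R.ev_z

end SD

end Cfsg.Agent.Co2Type.ETab
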