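import Cfsg.Agent.Co2Type.ECert
import Cfsg.Agent.Co2Type.ETab

/-!
# `E` is the unique elementary abelian subgroup of order `2^10` of `T` (R03, helper867)

* `TD E T e` : what is needed about `E ≤ T ≤ C` (from `ETab2`);
* `TD.unique` : an elementary abelian subgroup of order `1024` of `T` is `E`;
* `sylow_of_center`, `control` : general lemmas;
* `fusion` : two elements of `E` conjugate in `G` are conjugate in `N_G(E)`.
-/

set_option autoImplicit false

namespace Cfsg.Agent.Co2Type.EUnique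

open Subgroup
open Cfsg.Agent.Co2Type.ECertData (ML)
open Cfsg.Agent.Co2Type.ETab (app app_lt)

theorem app_eq (M a : ℕ) : ECertChk.app M a = app M a := by
  unfold ECertChk.app app
  simp only [Nat.xor_assoc, Nat.shiftRight_zero]

/-! ### uniqueness in `T` -/

/-- what is needed about `E ≤ T ≤ C` -/
structure TD {C : Type*} [Group C] (E T : Subgroup C) (e : ℕ → C) : Prop where
  le : E ≤ T
  mem_E : ∀ x, x ∈ E ↔ ∃ a, a < 1024 ∧ x = e a
  inj : ∀ a b, a < 1024 → b < 1024 → e a = e b → a = b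
  act : ∀ x ∈ T, ∃ M ∈ ML, ∀ a, a < 1024 → x * e a * x⁻¹ = e (app M a)
  ker : ∀ x ∈ T, (∀ y ∈ E, x * y = y * x) → x ∈ E

variable {C : Type*} [Group C] {E T : Subgroup C} {e : ℕ → C}

theorem TD.mem (h : TD E T e) {a : ℕ} (ha : a < 1024) : e a ∈ E := (h.mem_E _).2 ⟨a, ha, rfl⟩

theorem TD.card_E (h : TD E T e) : Nat.card E = 1024 := by
  have e1 : Fin 1024 ≃ E := Equiv.ofBijective (fun a => ⟨e a, h.mem a.2⟩) ⟨by
    intro a b hab
    have : e a = e b := congrArg Subtype.val hab
    exact Fin.ext (h.inj _ _ a.2 b.2 this), by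
    rintro ⟨x, hx⟩
    obtain ⟨a, ha, rfl⟩ := (h.mem_E x).1 hx
    exact ⟨⟨a, ha⟩, rfl⟩⟩
  rw [← Nat.card_congr e1, Nat.card_eq_fintype_card, Fintype.card_fin]

/-- **Uniqueness.** -/
theorem TD.unique [Finite C] (h : TD E T e) {B : Subgroup C} (hBT : B ≤ T) (hB : Nat.card B = 1024)
    (hcomm : ∀ x ∈ B, ∀ y ∈ B, x * y = y * x) (hsq : ∀ x ∈ B, x * x = 1) : B = E := by
  classical
  set N : Subgroup B := E.subgroupOf B with hN
  have hact : ∀ b : B, ∃ M ∈ ML, ∀ a, a < 1024 → (b : C) * e a * (b : C)⁻¹ = e (app M a) :=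
    fun b => h.act b (hBT b.2)
  choose M hM hMa using hact
  have hfin : Finite (B ⧸ N) := inferInstance
  have : Fintype (B ⧸ N) := Fintype.ofFinite _
  set f : B ⧸ N → ℕ := fun q => M q.out with hf
  have hfinj : Function.Injective f := by
    intro q q' hqq
    have h1 : ∀ a, a < 1024 → ((q.out : B) : C) * e a * ((q.out : B) : C)⁻¹ =
        ((q'.out : B) : C) * e a * ((q'.out : B) : C)⁻¹ := by
      intro a ha
      rw [hMa _ a ha, hMa _ a ha]
      have : M q.out = M q'.out := hqq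
      rw [this]
    have h2 : ((q.out : B) : C)⁻¹ * ((q'.out : B) : C) ∈ E := by
      apply h.ker _ (T.mul_mem (T.inv_mem (hBT (q.out : B).2)) (hBT (q'.out : B).2))
      intro y hy
      obtain ⟨a, ha, rfl⟩ := (h.mem_E y).1 hy
      have h3 := h1 a ha
      calc ((q.out : B) : C)⁻¹ * ((q'.out : B) : C) * e a
          = ((q.out : B) : C)⁻¹ * (((q'.out : B) : C) * e a * ((q'.out : B) : C)⁻¹) * ((q'.out : B) : C) := by
            group
        _ = ((q.out : B) : C)⁻¹ * (((q.out : B) : C) * e a * ((q.out : B) : C)⁻¹) * ((q'.out : B) : C) := by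
            rw [h3]
        _ = _ := by group
    have h3 : (q.out : B)⁻¹ * (q'.out : B) ∈ N := mem_subgroupOf.2 h2
    rw [← q.out_eq', ← q'.out_eq']
    exact QuotientGroup.eq.2 h3
  set X : Finset ℕ := Finset.univ.image f with hX
  have hXcard : X.card = Nat.card (B ⧸ N) := by
    rw [hX, Finset.card_image_of_injective _ hfinj, Nat.card_eq_fintype_card, Finset.card_univ]
  set A : Finset ℕ := (Finset.range 1024).filter (fun a => e a ∈ B) with hA
  have hmA : ∀ a, a ∈ A ↔ a < 1024 ∧ e a ∈ B := by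
    intro a
    rw [hA, Finset.mem_filter, Finset.mem_range]
  have hAcard : A.card = Nat.card N := by
    have e1 : A ≃ N := Equiv.ofBijective
      (fun a => ⟨⟨e a, ((hmA a).1 a.2).2⟩, by
        rw [hN, mem_subgroupOf]
        exact h.mem ((hmA a).1 a.2).1⟩) ⟨by
        intro a b hab
        have h1 : e a = e b := congrArg (fun x : N => ((x : B) : C)) hab
        exact Subtype.ext (h.inj _ _ ((hmA a).1 a.2).1 ((hmA b).1 b.2).1 h1), by
        rintro ⟨⟨x, hxB⟩, hxN⟩
        rw [hN, mem_subgroupOf] at hxN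
        obtain ⟨a, ha, hxa⟩ := (h.mem_E x).1 hxN
        refine ⟨⟨a, (hmA a).2 ⟨ha, hxa ▸ hxB⟩⟩, ?_⟩
        apply Subtype.ext
        apply Subtype.ext
        exact hxa.symm⟩
    rw [← Nat.card_congr e1, Nat.card_eq_fintype_card, Fintype.card_coe]
  have hprod : X.card * A.card = 1024 := by
    rw [hXcard, hAcard, ← hB]
    exact (card_eq_card_quotient_mul_card_subgroup N).symm
  have hinj' : ∀ {a b : ℕ}, a < 1024 → b < 1024 → e a = e b → a = b := fun {a b} => h.inj a b
  have hcert := ECert.cert X A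
    (by
      intro m hm
      obtain ⟨q, -, rfl⟩ := Finset.mem_image.1 hm
      exact hM _)
    (by
      intro m hm a ha
      obtain ⟨q, -, rfl⟩ := Finset.mem_image.1 hm
      rw [app_eq, app_eq]
      apply hinj' (app_lt _ _) ha
      show e (app (M q.out) (app (M q.out) a)) = e a
      rw [← hMa _ _ (app_lt _ _), ← hMa _ _ ha]
      have h1 := hsq _ (q.out : B).2
      calc ((q.out : B) : C) * (((q.out : B) : C) * e a * ((q.out : B) : C)⁻¹) * ((q.out : B) : C)⁻¹
          = (((q.out : B) : C) * ((q.out : B) : C)) * e a * (((q.out : B) : C) * ((q.out : B) : C))⁻¹ := by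
            group
        _ = e a := by rw [h1]; group)
    (by
      intro m hm n hn a ha
      obtain ⟨q, -, rfl⟩ := Finset.mem_image.1 hm
      obtain ⟨q', -, rfl⟩ := Finset.mem_image.1 hn
      rw [app_eq, app_eq, app_eq, app_eq]
      apply hinj' (app_lt _ _) (app_lt _ _)
      show e (app (M q.out) (app (M q'.out) a)) = e (app (M q'.out) (app (M q.out) a))
      rw [← hMa _ _ (app_lt _ _), ← hMa _ _ ha, ← hMa _ _ (app_lt _ _), ← hMa _ _ ha]
      have h1 := hcomm _ (q.out : B).2 _ (q'.out : B).2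
      calc ((q.out : B) : C) * (((q'.out : B) : C) * e a * ((q'.out : B) : C)⁻¹) * ((q.out : B) : C)⁻¹
          = (((q.out : B) : C) * ((q'.out : B) : C)) * e a * (((q.out : B) : C) * ((q'.out : B) : C))⁻¹ := by
            group
        _ = _ := by rw [h1]; group)
    (fun a ha => ((hmA a).1 ha).1)
    (by
      intro m hm a ha
      obtain ⟨q, -, rfl⟩ := Finset.mem_image.1 hm
      obtain ⟨ha1, ha2⟩ := (hmA a).1 ha
      rw [app_eq]
      apply hinj' (app_lt _ _) ha1
      show e (app (M q.out) a) = e a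
      rw [← hMa _ _ ha1, hcomm _ (q.out : B).2 _ ha2, mul_inv_cancel_right])
    (by
      rw [hAcard]
      have h1 : Nat.card N ∣ 2 ^ 10 := by
        have : Nat.card N ∣ Nat.card B := Subgroup.card_subgroup_dvd_card N
        rw [hB] at this
        exact this
      obtain ⟨p, -, hp⟩ := (Nat.dvd_prime_pow Nat.prime_two).1 h1
      exact ⟨p, hp⟩)
    (le_of_eq hprod.symm)
  have hX1 : X.card ≤ 1 := Finset.card_le_one.2 fun a ha b hb => (hcert a ha).trans (hcert b hb).symm
  have hA1 : 1024 ≤ A.card := by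
    by_contra hcon
    have : X.card * A.card ≤ 1 * A.card := Nat.mul_le_mul_right _ hX1
    omega
  have hA2 : A = Finset.range 1024 := by
    apply Finset.eq_of_subset_of_card_le (Finset.filter_subset _ _)
    rw [Finset.card_range]
    exact hA1
  have hEB : E ≤ B := by
    intro x hx
    obtain ⟨a, ha, rfl⟩ := (h.mem_E x).1 hx
    have : a ∈ A := by rw [hA2, Finset.mem_range]; exact ha
    exact ((hmA a).1 this).2
  exact (eq_of_le_of_card_ge hEB (by rw [hB, h.card_E])).symm

/-! ### general lemmas -/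

section general

variable {G : Type*} [Group G] [Finite G]

omit [Finite G] in
theorem conj_mem_iff [Finite G] {H : Subgroup G} {x : G} (h : ∀ y ∈ H, x * y * x⁻¹ ∈ H) (z : G) :
    z ∈ H ↔ x * z * x⁻¹ ∈ H := by
  refine ⟨h z, fun hz => ?_⟩
  have h1 : ∀ n : ℕ, ∀ y ∈ H, x ^ n * y * (x ^ n)⁻¹ ∈ H := by
    intro n
    induction n with
    | zero => intro y hy; simpa using hy
    | succ n ih =>
      intro y hy
      have := h _ (ih y hy)
      have e : x ^ (n + 1) * y * (x ^ (n + 1))⁻¹ = x * (x ^ n * y * (x ^ n)⁻¹) * x⁻¹ := by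
        rw [pow_succ']; group
      rw [e]; exact this
  have h2 := h1 (orderOf x - 1) _ hz
  have h3 : x ^ (orderOf x - 1) = x⁻¹ := by
    have h4 : x ^ (orderOf x - 1) * x = 1 := by
      rw [← pow_succ, Nat.sub_add_cancel (orderOf_pos x), pow_orderOf_eq_one]
    exact eq_inv_of_mul_eq_one_left h4
  rw [h3] at h2
  have e : x⁻¹ * (x * z * x⁻¹) * x⁻¹⁻¹ = z := by group
  rwa [e] at h2

/-- a `2`-group `T` with centre `⟨t⟩`, maximal in `C(t)`, is a Sylow subgroup -/
theorem sylow_of_center {t : G} {T : Subgroup G} (hT : IsPGroup 2 T) (htT : t ∈ T)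
    (ht1 : t ≠ 1) (htc : ∀ x ∈ T, x * t = t * x)
    (hZ : ∀ x ∈ T, (∀ y ∈ T, x * y = y * x) → x = 1 ∨ x = t)
    (hmax : ∀ S : Subgroup G, IsPGroup 2 S → (∀ x ∈ S, x * t = t * x) → T ≤ S → S = T) :
    ∃ P : Sylow 2 G, (P : Subgroup G) = T := by
  have : Fact (Nat.Prime 2) := ⟨Nat.prime_two⟩
  obtain ⟨P, hP⟩ := hT.exists_le_sylow
  refine ⟨P, ?_⟩
  have hnil : Group.IsNilpotent P := P.isPGroup'.isNilpotent
  have hnc := Group.normalizerCondition_of_isNilpotent (G := P)
  have hself : normalizer ((T.subgroupOf P : Subgroup P) : Set P) = T.subgroupOf P := by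
    set N : Subgroup G := (normalizer ((T.subgroupOf P : Subgroup P) : Set P)).map (P : Subgroup G).subtype
      with hN
    have hN1 : T ≤ N := by
      intro x hx
      exact ⟨⟨x, hP hx⟩, le_normalizer (mem_subgroupOf.2 hx), rfl⟩
    have hN2 : IsPGroup 2 N := (P.isPGroup'.to_subgroup _).map _
    have hN3 : ∀ x ∈ N, x * t = t * x := by
      rintro _ ⟨n, hn, rfl⟩
      have hconj : ∀ y ∈ T, (n : G) * y * (n : G)⁻¹ ∈ T := by
        intro y hy
        have h1 : (⟨y, hP hy⟩ : P) ∈ T.subgroupOf P := mem_subgroupOf.2 hy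
        have h2 := (mem_normalizer_iff.1 hn _).1 h1
        exact mem_subgroupOf.1 h2
      have h1 : (n : G) * t * (n : G)⁻¹ = 1 ∨ (n : G) * t * (n : G)⁻¹ = t := by
        apply hZ _ (hconj t htT)
        intro y hy
        have h2 : (n : G)⁻¹ * y * (n : G) ∈ T := by
          rw [conj_mem_iff hconj]
          have e : (n : G) * ((n : G)⁻¹ * y * (n : G)) * (n : G)⁻¹ = y := by group
          rw [e]; exact hy
        have h3 := htc _ h2
        calc (n : G) * t * (n : G)⁻¹ * y = (n : G) * (t * ((n : G)⁻¹ * y * (n : G))) * (n : G)⁻¹ := by group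
          _ = (n : G) * (((n : G)⁻¹ * y * (n : G)) * t) * (n : G)⁻¹ := by rw [h3]
          _ = _ := by group
      rcases h1 with h1 | h1
      · exfalso
        apply ht1
        calc t = (n : G)⁻¹ * ((n : G) * t * (n : G)⁻¹) * (n : G) := by group
          _ = 1 := by rw [h1]; group
      · exact mul_inv_eq_iff_eq_mul.1 h1
    have hN4 := hmax N hN2 hN3 hN1
    apply le_antisymm _ le_normalizer
    intro n hn
    have : (n : G) ∈ N := ⟨n, hn, rfl⟩
    rw [hN4] at this
    exact mem_subgroupOf.2 this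
  have htop := (normalizerCondition_iff_only_full_group_self_normalizing.1 hnc) _ hself
  apply le_antisymm _ hP
  intro x hx
  have : (⟨x, hx⟩ : P) ∈ T.subgroupOf P := by rw [htop]; exact mem_top _
  exact mem_subgroupOf.1 this

/-- an abelian subgroup which is its only conjugate in a Sylow subgroup controls its fusion -/
theorem control {P : Sylow 2 G} {E : Subgroup G} (hEP : E ≤ P) (hcomm : ∀ x ∈ E, ∀ y ∈ E, x * y = y * x)
    (huniq : ∀ g : G, (∀ x ∈ E, g * x * g⁻¹ ∈ P) → ∀ x ∈ E, g * x * g⁻¹ ∈ E) {x y : G} (hx : x ∈ E)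
    (hy : y ∈ E) (hc : IsConj x y) : ∃ n : G, (∀ z, z ∈ E ↔ n * z * n⁻¹ ∈ E) ∧ n * x * n⁻¹ = y := by
  have : Fact (Nat.Prime 2) := ⟨Nat.prime_two⟩
  obtain ⟨g, hg⟩ := isConj_iff.1 hc
  set K : Subgroup G := centralizer ({y} : Set G) with hK
  have hmK : ∀ z, z ∈ K ↔ z * y = y * z := fun z => mem_centralizer_singleton_iff
  have hpE : IsPGroup 2 E := P.isPGroup'.to_le hEP
  set E2 : Subgroup G := E.map (MulAut.conj g).toMonoidHom with hE2
  have hmE2 : ∀ z ∈ E, g * z * g⁻¹ ∈ E2 := fun z hz => ⟨z, hz, rfl⟩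
  have hpE2 : IsPGroup 2 E2 := hpE.map _
  have hEK : E ≤ K := fun z hz => (hmK z).2 (hcomm z hz y hy)
  have hE2K : E2 ≤ K := by
    rintro _ ⟨z, hz, rfl⟩
    refine (hmK _).2 ?_
    show g * z * g⁻¹ * y = y * (g * z * g⁻¹)
    rw [← hg]
    calc g * z * g⁻¹ * (g * x * g⁻¹) = g * (z * x) * g⁻¹ := by group
      _ = g * (x * z) * g⁻¹ := by rw [hcomm z hz x hx]
      _ = _ := by group
  obtain ⟨S1, hS1⟩ := (hpE.comap_of_injective K.subtype K.subtype_injective).exists_le_sylow
  obtain ⟨S2, hS2⟩ := (hpE2.comap_of_injective K.subtype K.subtype_injective).exists_le_sylow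
  obtain ⟨k, hk⟩ := MulAction.exists_smul_eq K S2 S1
  have hS3 : IsPGroup 2 ((S1 : Subgroup K).map K.subtype) := S1.isPGroup'.map _
  obtain ⟨P', hP'⟩ := hS3.exists_le_sylow
  obtain ⟨h, hh⟩ := MulAction.exists_smul_eq G P' P
  have hcP : ∀ z ∈ P', h * z * h⁻¹ ∈ P := by
    intro z hz
    rw [← hh]
    exact ⟨z, hz, rfl⟩
  have h1 : ∀ z ∈ E, h * z * h⁻¹ ∈ P := by
    intro z hz
    apply hcP
    apply hP'
    exact ⟨⟨z, hEK hz⟩, hS1 hz, rfl⟩
  have h2 : ∀ z ∈ E, (h * (k : G) * g) * z * (h * (k : G) * g)⁻¹ ∈ P := by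
    intro z hz
    have e : (h * (k : G) * g) * z * (h * (k : G) * g)⁻¹ = h * ((k : G) * (g * z * g⁻¹) * (k : G)⁻¹) * h⁻¹ := by
      group
    rw [e]
    apply hcP
    apply hP'
    have h3 : (⟨g * z * g⁻¹, hE2K (hmE2 z hz)⟩ : K) ∈ S2 := hS2 (hmE2 z hz)
    refine ⟨k * ⟨g * z * g⁻¹, hE2K (hmE2 z hz)⟩ * k⁻¹, ?_, rfl⟩
    rw [← hk]
    exact ⟨_, h3, rfl⟩
  have h3 := huniq h h1
  have h4 := huniq _ h2
  refine ⟨(k : G) * g, fun z => ?_, ?_⟩
  · apply conj_mem_iff
    intro z hz
    rw [conj_mem_iff h3]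
    have := h4 z hz
    have e : (h * (k : G) * g) * z * (h * (k : G) * g)⁻¹ =
        h * (((k : G) * g) * z * ((k : G) * g)⁻¹) * h⁻¹ := by group
    rwa [e] at this
  · have h5 : (k : G) * y = y * k := (hmK _).1 k.2
    calc ((k : G) * g) * x * ((k : G) * g)⁻¹ = (k : G) * (g * x * g⁻¹) * (k : G)⁻¹ := by group
      _ = y := by rw [hg, h5, mul_inv_cancel_right]

end general

/-! ### the situation in `G` -/

section fusion

variable {G : Type*} [Group G] [Finite G] {t : G} {E T : Subgroup (centralizer ({t} : Set G))}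
  {e : ℕ → centralizer ({t} : Set G)}

omit [Finite G] in
theorem isPGroup_map (hT : Nat.card T = 2 ^ 18) : IsPGroup 2 (T.map (centralizer ({t} : Set G)).subtype) := by
  apply IsPGroup.map
  exact IsPGroup.of_card hT

/-- `T` is a Sylow `2`-subgroup of `G` -/
theorem exists_sylow (ht1 : t ≠ 1) (hT : Nat.card T = 2 ^ 18)
    (hC : Nat.card (centralizer ({t} : Set G)) = 743178240)
    (htT : (⟨t, mem_centralizer_singleton_iff.2 rfl⟩ : centralizer ({t} : Set G)) ∈ T)
    (hZ : ∀ x ∈ T, (∀ y ∈ T, x * y = y * x) → (x : G) = 1 ∨ (x : G) = t) :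
    ∃ P : Sylow 2 G, (P : Subgroup G) = T.map (centralizer ({t} : Set G)).subtype := by
  have : Fact (Nat.Prime 2) := ⟨Nat.prime_two⟩
  apply sylow_of_center (t := t) (isPGroup_map hT)
  · exact ⟨_, htT, rfl⟩
  · exact ht1
  · rintro _ ⟨x, -, rfl⟩
    exact mem_centralizer_singleton_iff.1 x.2
  · rintro _ ⟨x, hx, rfl⟩ h
    apply hZ x hx
    intro y hy
    exact Subtype.ext (h y ⟨y, hy, rfl⟩)
  · intro S hS hSt hTS
    have hSC : S ≤ centralizer ({t} : Set G) := fun x hx => mem_centralizer_singleton_iff.2 (hSt x hx)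
    obtain ⟨k, hk⟩ := IsPGroup.iff_card.1 hS
    have h1 : Nat.card S ∣ Nat.card (centralizer ({t} : Set G)) := Subgroup.card_dvd_of_le hSC
    have h2 : k ≤ 18 := by
      by_contra hcon
      have h3 : 2 ^ 19 ∣ 743178240 := by
        rw [← hC]
        refine dvd_trans ?_ h1
        rw [hk]
        exact Nat.pow_dvd_pow 2 (by omega)
      revert h3
      norm_num
    have h3 : Nat.card (T.map (centralizer ({t} : Set G)).subtype) = 2 ^ 18 := by
      rw [← hT]
      exact (Nat.card_congr (T.equivMapOfInjective _ (subtype_injective _)).toEquiv).symm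
    apply (eq_of_le_of_card_ge hTS _).symm
    rw [hk, h3]
    exact Nat.pow_le_pow_right (by norm_num) h2

/-- `N_G(E)` controls the fusion in `E`, general form -/
theorem fusion_aux {C : Subgroup G} {E T : Subgroup C} {e : ℕ → C} (h : TD E T e)
    (hcomm : ∀ x ∈ E, ∀ y ∈ E, x * y = y * x) (hsq : ∀ x ∈ E, x * x = 1)
    {P : Sylow 2 G} (hP : (P : Subgroup G) = T.map C.subtype)
    {x y : C} (hx : x ∈ E) (hy : y ∈ E) (hc : IsConj (x : G) (y : G)) :
    ∃ n : G, (∀ z : G, z ∈ E.map C.subtype ↔ n * z * n⁻¹ ∈ E.map C.subtype) ∧ n * (x : G) * n⁻¹ = y := by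
  apply control (P := P) (E := E.map C.subtype)
  · rw [hP]; exact map_mono h.le
  · rintro _ ⟨a, ha, rfl⟩ _ ⟨b, hb, rfl⟩
    exact congrArg Subtype.val (hcomm a ha b hb)
  · intro g hg
    replace hg : ∀ x ∈ E.map C.subtype, g * x * g⁻¹ ∈ T.map C.subtype := by
      intro x hx
      rw [← hP]
      exact hg x hx
    set B' : Subgroup G := (E.map C.subtype).map (MulAut.conj g).toMonoidHom with hB'
    have hB'T : B' ≤ T.map C.subtype := by
      rintro _ ⟨z, hz, rfl⟩
      exact hg z hz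
    set B : Subgroup C := B'.comap C.subtype with hB
    have hBmap : B.map C.subtype = B' := by
      apply map_comap_eq_self
      rw [range_subtype]
      exact hB'T.trans (map_subtype_le T)
    have hBT : B ≤ T := by
      intro z hz
      obtain ⟨w, hw, hwz⟩ := hB'T (mem_comap.1 hz)
      have : w = z := Subtype.ext hwz
      rw [← this]; exact hw
    have hBcard : Nat.card B = 1024 := by
      rw [← h.card_E]
      have e1 : Nat.card B = Nat.card (B.map C.subtype) :=
        Nat.card_congr (B.equivMapOfInjective _ (subtype_injective _)).toEquiv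
      have e2 : Nat.card (E.map C.subtype) = Nat.card B' :=
        Nat.card_congr ((E.map C.subtype).equivMapOfInjective _ (MulAut.conj g).injective).toEquiv
      have e3 : Nat.card E = Nat.card (E.map C.subtype) :=
        Nat.card_congr (E.equivMapOfInjective _ (subtype_injective _)).toEquiv
      rw [e1, hBmap, ← e2, ← e3]
    have hBE : B = E := by
      apply h.unique hBT hBcard
      · intro a ha b hb
        obtain ⟨_, ⟨a', ha', rfl⟩, haa⟩ := mem_comap.1 ha
        obtain ⟨_, ⟨b', hb', rfl⟩, hbb⟩ := mem_comap.1 hb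
        apply Subtype.ext
        have haa' : g * (a' : G) * g⁻¹ = (a : G) := haa
        have hbb' : g * (b' : G) * g⁻¹ = (b : G) := hbb
        show (a : G) * b = b * a
        have h1 : (a' : G) * b' = b' * a' := congrArg Subtype.val (hcomm a' ha' b' hb')
        rw [← haa', ← hbb']
        calc g * (a' : G) * g⁻¹ * (g * (b' : G) * g⁻¹) = g * ((a' : G) * b') * g⁻¹ := by group
          _ = g * ((b' : G) * a') * g⁻¹ := by rw [h1]
          _ = _ := by group
      · intro a ha
        obtain ⟨_, ⟨a', ha', rfl⟩, haa⟩ := mem_comap.1 ha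
        apply Subtype.ext
        have haa' : g * (a' : G) * g⁻¹ = (a : G) := haa
        show (a : G) * a = 1
        have h1 : (a' : G) * a' = 1 := congrArg Subtype.val (hsq a' ha')
        rw [← haa']
        calc g * (a' : G) * g⁻¹ * (g * (a' : G) * g⁻¹) = g * ((a' : G) * a') * g⁻¹ := by group
          _ = 1 := by rw [h1]; group
    intro z hz
    have h1 : g * z * g⁻¹ ∈ B' := ⟨z, hz, rfl⟩
    rw [← hBmap, hBE] at h1
    exact h1
  · exact ⟨x, hx, rfl⟩
  · exact ⟨y, hy, rfl⟩
  · exact hc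

/-- **`N_G(E)` controls the fusion in `E`.** -/
theorem fusion (h : TD E T e) (hcomm : ∀ x ∈ E, ∀ y ∈ E, x * y = y * x) (hsq : ∀ x ∈ E, x * x = 1)
    (ht1 : t ≠ 1) (hT : Nat.card T = 2 ^ 18)
    (hC : Nat.card (centralizer ({t} : Set G)) = 743178240)
    (htT : (⟨t, mem_centralizer_singleton_iff.2 rfl⟩ : centralizer ({t} : Set G)) ∈ T)
    (hZ : ∀ x ∈ T, (∀ y ∈ T, x * y = y * x) → (x : G) = 1 ∨ (x : G) = t)
    {x y : centralizer ({t} : Set G)} (hx : x ∈ E) (hy : y ∈ E) (hc : IsConj (x : G) (y : G)) :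
    ∃ n : G, (∀ z : G, z ∈ E.map (centralizer ({t} : Set G)).subtype ↔
      n * z * n⁻¹ ∈ E.map (centralizer ({t} : Set G)).subtype) ∧ n * (x : G) * n⁻¹ = y := by
  obtain ⟨P, hP⟩ := exists_sylow ht1 hT hC htT hZ
  exact fusion_aux h hcomm hsq hP hx hy hc

end fusion

end Cfsg.Agent.Co2Type.EUnique
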