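import Cfsg.Agent.Co2Type.TupleOut
import Cfsg.Agent.Co2Type.CommFin

/-!
# Letter C of `Co₂` complete: all relations (P2) from Letter B and a swap (R03, helper757)
-/

set_option autoImplicit false

namespace Cfsg.Agent.Co2Type.ExistsH

open Cfsg.Agent.Co2Type.QModel Cfsg.Agent.Co2Type.Act Cfsg.Agent.Co2Type.Rels Cfsg.Agent.Co2Type.CCode
open Cfsg.Agent.Co2Type.CommChk Cfsg.Agent.Co2Type.CommOut Cfsg.Agent.Co2Type.FList

variable {G : Type*} [Group G] {t : G} {tc : Subgroup.centralizer ({t} : Set G)}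
  {ev : QM →* Subgroup.centralizer ({t} : Set G)} {D : ℕ → Subgroup.centralizer ({t} : Set G)}
  {R : Rels false tc ev D}

/-- **Piece C**: from the fusion statement and a swap of `t` and `D 0`, the involution `h` with all relations -/
theorem exists_h (A : Data R) (htc : (tc : G) = t)
    (fus : ∀ y : Subgroup.centralizer ({t} : Set G), IsConj t (y : G) ↔ InF tc D y) {x : G}
    (hx : x * t * x⁻¹ = D 0) (hx' : x * (D 0 : G) * x⁻¹ = t) :
    ∃ h : G, IsConj t h ∧ h * h = 1 ∧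
      h * wg ev D w_a = wg ev D w_a * h ∧ h * wg ev D w_b = wg ev D w_b * h ∧
      h * wg ev D w_c = wg ev D w_c * h ∧ h * wg ev D w_d = wg ev D w_d * h ∧
      h * wg ev D w_e = wg ev D w_e * h ∧ h * wg ev D w_f = wg ev D w_f * h ∧
      (h * t) ^ 3 = 1 ∧ (wg ev D w_g * h) ^ 4 = 1 ∧
      (wg ev D w_g * h * t) ^ 3 = wg ev D w_b * wg ev D w_e := by
  have g1 : x⁻¹ * t * x = D 0 := by
    calc x⁻¹ * t * x = x⁻¹ * (x * (D 0 : G) * x⁻¹) * x := by rw [hx']
      _ = D 0 := by group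
  have g2 : x⁻¹ * (D 0 : G) * x = t := by
    calc x⁻¹ * (D 0 : G) * x = x⁻¹ * (x * t * x⁻¹) * x := by rw [hx]
      _ = t := by group
  obtain ⟨x', h1, h2, h3, h4, h5, h6, h7⟩ := TupleOut.exists_x (R := R) A htc (fun y hy => (fus y).1 hy)
    ((fus (D 0)).2 (Or.inr (Or.inl (IsConj.refl _))))
    ((fus (tc * D 3 * D 5 * D 6)).2 (Or.inr (Or.inr (IsConj.refl _))))
    (x0 := x) g1 g2
  exact relations A (CommFin.bdata A fus) htc h1 h2 h3 h4 h5 h6 h7

end Cfsg.Agent.Co2Type.ExistsH
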