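import Cfsg.Agent.Co2Type.TCard
import Cfsg.Agent.Co2Type.Facts

/-!
Finite facts in the Sylow 2-subgroup `T` of `Spor.Co2` (special elements `z, y, v, z1, z2, u, p` of `E`),
modulo the class theorem: an involution of trace `-8, 8, 0` is conjugate to `z, y, v`.
-/

set_option autoImplicit false

namespace Cfsg.Agent.Co2Type.FactsD

open Cfsg Cfsg.Agent.SporadicA.GolayBase Cfsg.Agent.SporadicA.GolayPerm
open Cfsg.Agent.SporadicStructure.M24El
open Cfsg.Agent.Co2Type.Mono Cfsg.Agent.Co2Type.TData Cfsg.Agent.Co2Type.TGroup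
open Cfsg.Agent.Co2Type.Facts

/-- The element of `E` with mask `m`. -/
noncomputable def ge (m : ℕ) : Spor.Co2 := mo2 m idP

theorem ge_mem {m : ℕ} (h : inE m = true) : ge m ∈ E := mo2_mem_E h

theorem ge_mem_T {m : ℕ} (h : inE m = true) : ge m ∈ T := E_le_T (ge_mem h)

theorem ge_mul {m n : ℕ} (hm : inE m = true) (hn : inE n = true) : ge m * ge n = ge (m ^^^ n) :=
  E_mul hm hn

theorem ge_zero : ge 0 = 1 := mo2_one

theorem ge_sq {m : ℕ} (hm : inE m = true) : ge m * ge m = 1 := by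
  rw [ge_mul hm hm, Nat.xor_self, ge_zero]

/-- Commuting with an element of `E`. -/
theorem comm_iff {m n P : ℕ} (hm : inE m = true) (hn : inE n = true) (hP : P ∈ L22) :
    ge n * mo2 m P = mo2 m P * ge n ↔ pimg P n = n := by
  unfold ge
  rw [mo2_conj_E hm hn (okP_of_mem hP) (lt_of_mem hP),
    mo2_mul_left hn hm (okP_of_mem hP), mo2_mul_left (inE_pimg (okP_of_mem hP) hn) hm (okP_of_mem hP)]
  constructor
  · intro h
    have h1 := (mo2_injT (inE_xor hn hm) (inE_xor (inE_pimg (okP_of_mem hP) hn) hm) hP hP h).1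
    exact (Nat.xor_left_inj.1 h1).symm
  · intro h
    rw [h]

theorem mem_cent_ge {n : ℕ} (hn : inE n = true) {g : Spor.Co2} :
    g ∈ cent T (ge n) ↔ ∃ m P, inE m = true ∧ P ∈ L22 ∧ pimg P n = n ∧ g = mo2 m P := by
  rw [mem_cent]
  constructor
  · rintro ⟨⟨m, P, hm, hP, rfl⟩, h⟩
    exact ⟨m, P, hm, hP, (comm_iff hm hn hP).1 h, rfl⟩
  · rintro ⟨m, P, hm, hP, h, rfl⟩
    exact ⟨mo2_mem_T hm hP, (comm_iff hm hn hP).2 h⟩

theorem mem_cent2_ge {n k : ℕ} (hn : inE n = true) (hk : inE k = true) {g : Spor.Co2} :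
    g ∈ cent2 T (ge n) (ge k) ↔
      ∃ m P, inE m = true ∧ P ∈ L22 ∧ pimg P n = n ∧ pimg P k = k ∧ g = mo2 m P := by
  rw [mem_cent2]
  constructor
  · rintro ⟨⟨m, P, hm, hP, rfl⟩, h, h'⟩
    exact ⟨m, P, hm, hP, (comm_iff hm hn hP).1 h, (comm_iff hm hk hP).1 h', rfl⟩
  · rintro ⟨m, P, hm, hP, h, h', rfl⟩
    exact ⟨mo2_mem_T hm hP, (comm_iff hm hn hP).2 h, (comm_iff hm hk hP).2 h'⟩

/-- Involutions of `T`. -/
theorem sq_eq_one_iff {m P : ℕ} (hm : inE m = true) (hP : P ∈ L22) :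
    mo2 m P * mo2 m P = 1 ↔ pimg P m = m ∧ pcomp P P = idP := by
  rw [mo2_mul hm hm (okP_of_mem hP) (okP_of_mem hP), ← mo2_one]
  constructor
  · intro h
    have h1 := mo2_injT (inE_xor hm (inE_pimg (okP_of_mem hP) hm)) inE_zero (pcomp_mem hP hP) idP_mem h
    exact ⟨(Nat.xor_eq_zero_iff.1 h1.1).symm, h1.2⟩
  · rintro ⟨h1, h2⟩
    rw [h1, h2, Nat.xor_self]

/-- Right multiplication with a commuting element of `E`. -/
theorem mul_ge {m n P : ℕ} (hm : inE m = true) (hn : inE n = true) (hP : P ∈ L22)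
    (h : pimg P n = n) : mo2 m P * ge n = mo2 (m ^^^ n) P := by
  rw [← (comm_iff hm hn hP).2 h]
  unfold ge
  rw [mo2_mul_left hn hm (okP_of_mem hP), Nat.xor_comm]

theorem tr_mo2' {m P : ℕ} (hm : inE m = true) (hP : P ∈ L22) : tr (mo2 m P) = trN m P :=
  tr_mo2 hm (okP_of_mem hP)

/-! ### Traces by Boolean functions -/

/-- Trace `-8`. -/
def tA (m P : ℕ) : Bool := Nat.beq (popcount (fixm P) + 8) (2 * popcount (Nat.land (fixm P) m))

/-- Trace `8`. -/
def tB (m P : ℕ) : Bool := Nat.beq (popcount (fixm P)) (2 * popcount (Nat.land (fixm P) m) + 8)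

/-- Trace `0`. -/
def tC (m P : ℕ) : Bool := Nat.beq (popcount (fixm P)) (2 * popcount (Nat.land (fixm P) m))

theorem tA_iff {m P : ℕ} : tA m P = true ↔ trN m P = -8 := by
  unfold tA trN
  rw [Nat.beq_eq, show Nat.land (fixm P) m = fixm P &&& m from rfl]
  omega

theorem tB_iff {m P : ℕ} : tB m P = true ↔ trN m P = 8 := by
  unfold tB trN
  rw [Nat.beq_eq, show Nat.land (fixm P) m = fixm P &&& m from rfl]
  omega

theorem tC_iff {m P : ℕ} : tC m P = true ↔ trN m P = 0 := by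
  unfold tC trN
  rw [Nat.beq_eq, show Nat.land (fixm P) m = fixm P &&& m from rfl]
  omega

/-- `f m` for all `m` in `E` fixed by `P`, for all `P` in `L22` with `P P = 1` and `g P`. -/
def allInv (g : ℕ → Bool) (f : ℕ → ℕ → Bool) : Bool :=
  L22.all fun P => cond (g P && Nat.beq (pcomp P P) idP)
    (allSp2 (B10.map fun b => (b, pimg P b)) (fun m m' => cond (Nat.beq m m') (f P m) true) 0 0) true

theorem allInv_spec {g : ℕ → Bool} {f : ℕ → ℕ → Bool} (h : allInv g f = true) {m P : ℕ}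
    (hm : inE m = true) (hP : P ∈ L22) (hg : g P = true) (hx : mo2 m P * mo2 m P = 1) :
    f P m = true := by
  have h1 := (sq_eq_one_iff hm hP).1 hx
  have h2 := List.all_eq_true.1 h P hP
  rw [hg, h1.2, Nat.beq_refl, Bool.and_true, cond_true] at h2
  have h3 := allSp2_pimg (isPerm_of_mem hP) h2 (sp_B10 hm)
  rw [h1.1, Nat.beq_refl, cond_true] at h3
  exact h3

/-! ### `only_v`, `only_yp` -/

theorem chkV : allInv (fun P => Nat.beq (pimg P mv) mv) (fun P m =>
    cond (tA m P && tA (Nat.xor m mv) P) (Nat.beq P idP && (Nat.beq m mz1 || Nat.beq m mz2)) true)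
      = true := by decide +kernel

theorem chkYP : allInv (fun P => Nat.beq (pimg P my) my && Nat.beq (pimg P mp) mp) (fun P m =>
    cond ((tA m P && tB (Nat.xor m my) P) && (tA (Nat.xor m mp) P && tA (Nat.xor m (Nat.xor my mp)) P))
      (Nat.beq P idP && Nat.beq m mz) true) = true := by decide +kernel

theorem chkU : allInv (fun P => Nat.beq (pimg P my) my) (fun P m =>
    cond (tA m P && tB (Nat.xor m my) P)
      ((Nat.beq (pimg P (Nat.xor mu (Nat.xor m my))) (Nat.xor mu (Nat.xor m my)) &&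
          tC (Nat.xor mu (Nat.xor m my)) P) ||
        (Nat.beq P idP && (Nat.beq (Nat.xor mu (Nat.xor m my)) mp ||
          (Nat.beq (Nat.xor mu (Nat.xor m my)) mp1 || Nat.beq (Nat.xor mu (Nat.xor m my)) mp2)))) true)
      = true := by decide +kernel

theorem chkComm : (L22.all fun P => cond (Nat.beq (pimg P my) my)
    (Nat.beq (pimg P mu) mu || Nat.beq (pimg P mu) (Nat.xor mu my)) true) = true := by decide +kernel

theorem iz : inE mz = true := by decide +kernel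
theorem iy : inE my = true := by decide +kernel
theorem iv : inE mv = true := by decide +kernel
theorem iz1 : inE mz1 = true := by decide +kernel
theorem iz2 : inE mz2 = true := by decide +kernel
theorem iu : inE mu = true := by decide +kernel
theorem ip : inE mp = true := by decide +kernel
theorem ip1 : inE mp1 = true := by decide +kernel
theorem ip2 : inE mp2 = true := by decide +kernel
theorem ia : inE ma = true := by decide +kernel
theorem ib : inE mb = true := by decide +kernel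
theorem ic : inE mc = true := by decide +kernel
theorem id' : inE md = true := by decide +kernel

theorem chkCenter : (L22.all fun P => Nat.beq (pimg P mz) mz) = true := by decide +kernel

theorem chkFaith : (L22.all fun P => cond (B10.all fun n => Nat.beq (pimg P n) n) (Nat.beq P idP) true)
    = true := by decide +kernel

theorem chkB10 : (B10.all fun n => inE n) = true := by decide +kernel

theorem chkTg : (tg.all fun g => memL g L22) = true := by decide +kernel

/-- The masks fixed by the generators of `T22`. -/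
theorem chkFix : allSp2 (B10.map fun b => (b, b)) (fun m _ =>
    cond (tg.all fun g => Nat.beq (pimg g m) m) (Nat.beq m 0 || Nat.beq m mz) true) 0 0 = true := by
  decide +kernel

/-! ### cardinalities -/

theorem card_cent {n : ℕ} (hn : inE n = true) :
    Nat.card (cent T (ge n)) = 1024 * (L22.filter fun P => Nat.beq (pimg P n) n).length := by
  rw [← TCard.ncard_filter, ← SetLike.coe_sort_coe, Nat.card_coe_set_eq]
  congr 1
  ext g
  constructor
  · intro hg
    obtain ⟨m, P, hm, hP, h, rfl⟩ := (mem_cent_ge hn).1 hg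
    exact ⟨m, P, hm, hP, Nat.beq_eq.mpr h, rfl⟩
  · rintro ⟨m, P, hm, hP, h, rfl⟩
    exact (mem_cent_ge hn).2 ⟨m, P, hm, hP, Nat.eq_of_beq_eq_true h, rfl⟩

theorem card_cent2 {n k : ℕ} (hn : inE n = true) (hk : inE k = true) :
    Nat.card (cent2 T (ge n) (ge k)) =
      1024 * (L22.filter fun P => Nat.beq (pimg P n) n && Nat.beq (pimg P k) k).length := by
  rw [← TCard.ncard_filter, ← SetLike.coe_sort_coe, Nat.card_coe_set_eq]
  congr 1
  ext g
  constructor
  · intro hg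
    obtain ⟨m, P, hm, hP, h, h', rfl⟩ := (mem_cent2_ge hn hk).1 hg
    exact ⟨m, P, hm, hP, by rw [h, h', Nat.beq_refl, Nat.beq_refl]; rfl, rfl⟩
  · rintro ⟨m, P, hm, hP, h, rfl⟩
    rw [Bool.and_eq_true] at h
    exact (mem_cent2_ge hn hk).2
      ⟨m, P, hm, hP, Nat.eq_of_beq_eq_true h.1, Nat.eq_of_beq_eq_true h.2, rfl⟩

theorem lenV : (L22.filter fun P => Nat.beq (pimg P mv) mv).length = 32 := by decide +kernel

theorem lenY : (L22.filter fun P => Nat.beq (pimg P my) my).length = 128 := by decide +kernel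

theorem lenYP : (L22.filter fun P => Nat.beq (pimg P my) my && Nat.beq (pimg P mp) mp).length = 64 := by
  decide +kernel

theorem cardv : Nat.card (cent T (ge mv)) = 2 ^ 15 := by
  rw [card_cent iv, lenV]
  norm_num

theorem cardy : Nat.card (cent T (ge my)) = 2 ^ 17 := by
  rw [card_cent iy, lenY]
  norm_num

theorem cardyp : Nat.card (cent2 T (ge my) (ge mp)) = 2 ^ 16 := by
  rw [card_cent2 iy ip, lenYP]
  norm_num

/-! ### `T` and `E` -/

theorem E_comm : ∀ e ∈ E, ∀ f ∈ E, e * f = f * e := by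
  rintro _ ⟨m, hm, rfl⟩ _ ⟨n, hn, rfl⟩
  rw [E_mul hm hn, E_mul hn hm, Nat.xor_comm]

theorem E_sq : ∀ e ∈ E, e * e = 1 := by
  rintro _ ⟨m, hm, rfl⟩
  exact ge_sq hm

theorem E_normal : ∀ t ∈ T, ∀ e ∈ E, t * e * t⁻¹ ∈ E := by
  rintro _ ⟨m, P, hm, hP, rfl⟩ _ ⟨n, hn, rfl⟩
  rw [mo2_conj_E hm hn (okP_of_mem hP) (lt_of_mem hP), mul_assoc, mul_inv_cancel, mul_one]
  exact mo2_mem_E (inE_pimg (okP_of_mem hP) hn)

theorem z_comm : ∀ t ∈ T, t * ge mz = ge mz * t := by
  rintro _ ⟨m, P, hm, hP, rfl⟩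
  exact ((comm_iff hm iz hP).2
    (Nat.eq_of_beq_eq_true (List.all_eq_true.1 chkCenter P hP))).symm

theorem center_T : ∀ t ∈ T, (∀ s ∈ T, s * t = t * s) → t = 1 ∨ t = ge mz := by
  rintro _ ⟨m, P, hm, hP, rfl⟩ h
  have h1 : P = idP := by
    have h2 := List.all_eq_true.1 chkFaith P hP
    have h3 : (B10.all fun n => Nat.beq (pimg P n) n) = true := by
      rw [List.all_eq_true]
      intro n hn
      have hn' : inE n = true := List.all_eq_true.1 chkB10 n hn
      exact Nat.beq_eq.mpr ((comm_iff hm hn' hP).1 (h _ (ge_mem_T hn')))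
    rw [h3, cond_true] at h2
    exact Nat.eq_of_beq_eq_true h2
  subst h1
  have h4 : (tg.all fun g => Nat.beq (pimg g m) m) = true := by
    rw [List.all_eq_true]
    intro g hg
    have hg' : g ∈ L22 := memL_iff.1 (List.all_eq_true.1 chkTg g hg)
    exact Nat.beq_eq.mpr ((comm_iff inE_zero hm hg').1 (h _ (mo2_mem_T inE_zero hg')).symm)
  have h5 := allSp2_spec (g := fun a => a) (fun _ _ => rfl) chkFix m (sp_B10 hm)
  rw [Nat.zero_xor, h4, cond_true, Bool.or_eq_true] at h5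
  rcases h5 with h5 | h5
  · left
    rw [Nat.eq_of_beq_eq_true h5]
    exact mo2_one
  · right
    rw [Nat.eq_of_beq_eq_true h5]
    rfl

/-! ### the class theorem as a hypothesis -/

/-- Involutions are recognised by their trace. -/
structure Cls : Prop where
  A : ∀ x : Spor.Co2, x * x = 1 → tr x = -8 → IsConj (ge mz) x
  B : ∀ x : Spor.Co2, x * x = 1 → tr x = 8 → IsConj (ge my) x
  C : ∀ x : Spor.Co2, x * x = 1 → tr x = 0 → IsConj (ge mv) x

theorem sq_of_isConj {a x : Spor.Co2} (ha : a * a = 1) (h : IsConj a x) : x * x = 1 := by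
  obtain ⟨c, rfl⟩ := isConj_iff.1 h
  have : c * a * c⁻¹ * (c * a * c⁻¹) = c * (a * a) * c⁻¹ := by group
  rw [this, ha, mul_one, mul_inv_cancel]

theorem tr_ge {m : ℕ} (hm : inE m = true) : tr (ge m) = trN m idP := tr_mo2 hm okP_idP

theorem tr_z : tr (ge mz) = -8 := by rw [tr_ge iz]; exact tA_iff.1 (by decide +kernel)
theorem tr_y : tr (ge my) = 8 := by rw [tr_ge iy]; exact tB_iff.1 (by decide +kernel)
theorem tr_v : tr (ge mv) = 0 := by rw [tr_ge iv]; exact tC_iff.1 (by decide +kernel)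

theorem trA {x : Spor.Co2} (h : IsConj (ge mz) x) : x * x = 1 ∧ tr x = -8 :=
  ⟨sq_of_isConj (ge_sq iz) h, by rw [← tr_of_isConj h, tr_z]⟩

theorem trB {x : Spor.Co2} (h : IsConj (ge my) x) : x * x = 1 ∧ tr x = 8 :=
  ⟨sq_of_isConj (ge_sq iy) h, by rw [← tr_of_isConj h, tr_y]⟩

variable (K : Cls)

include K

theorem Cls.geA {m : ℕ} (hm : inE m = true) (h : tA m idP = true) : IsConj (ge mz) (ge m) :=
  K.A _ (ge_sq hm) (by rw [tr_ge hm]; exact tA_iff.1 h)

theorem Cls.geB {m : ℕ} (hm : inE m = true) (h : tB m idP = true) : IsConj (ge my) (ge m) :=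
  K.B _ (ge_sq hm) (by rw [tr_ge hm]; exact tB_iff.1 h)

theorem Cls.z1A : IsConj (ge mz) (ge mz1) := K.geA iz1 (by decide +kernel)
theorem Cls.z2A : IsConj (ge mz) (ge mz2) := K.geA iz2 (by decide +kernel)
theorem Cls.pB : IsConj (ge my) (ge mp) := K.geB ip (by decide +kernel)
theorem Cls.uA : IsConj (ge mz) (ge mu) := K.geA iu (by decide +kernel)
theorem Cls.aA : IsConj (ge mz) (ge ma) := K.geA ia (by decide +kernel)
theorem Cls.bA : IsConj (ge mz) (ge mb) := K.geA ib (by decide +kernel)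
theorem Cls.cA : IsConj (ge mz) (ge mc) := K.geA ic (by decide +kernel)
theorem Cls.dA : IsConj (ge mz) (ge md) := K.geA id' (by decide +kernel)

theorem Cls.abcdA : IsConj (ge mz) (ge ma * ge mb * ge mc * ge md) := by
  rw [ge_mul ia ib, ge_mul (inE_xor ia ib) ic, ge_mul (inE_xor (inE_xor ia ib) ic) id']
  exact K.geA (inE_xor (inE_xor (inE_xor ia ib) ic) id') (by decide +kernel)

theorem Cls.zy : IsConj (ge my) (ge mz * ge my) := by
  rw [ge_mul iz iy]
  exact K.geB (inE_xor iz iy) (by decide +kernel)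

theorem Cls.zp : IsConj (ge mz) (ge mz * ge mp) := by
  rw [ge_mul iz ip]
  exact K.geA (inE_xor iz ip) (by decide +kernel)

theorem Cls.zyp : IsConj (ge mz) (ge mz * (ge my * ge mp)) := by
  rw [ge_mul iy ip, ge_mul iz (inE_xor iy ip)]
  exact K.geA (inE_xor iz (inE_xor iy ip)) (by decide +kernel)

theorem Cls.ypB : IsConj (ge my) (ge my * ge mp) := by
  rw [ge_mul iy ip]
  exact K.geB (inE_xor iy ip) (by decide +kernel)

theorem Cls.uyA : IsConj (ge mz) (ge mu * ge my) := by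
  rw [ge_mul iu iy]
  exact K.geA (inE_xor iu iy) (by decide +kernel)

omit K

theorem v_eq : ge mv = ge mz1 * ge mz2 := by
  rw [ge_mul iz1 iz2]
  congr 1

theorem p_ne : ge mp ≠ 1 := by
  rw [← ge_zero]
  intro h
  have h1 := (mo2_injT ip inE_zero idP_mem idP_mem h).1
  exact absurd h1 (by decide)

theorem only_v : ∀ x ∈ cent T (ge mv), IsConj (ge mz) x → IsConj (ge mz) (x * ge mv) →
    x = ge mz1 ∨ x = ge mz2 := by
  intro x hx h1 h2
  obtain ⟨m, P, hm, hP, h, rfl⟩ := (mem_cent_ge iv).1 hx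
  obtain ⟨h3, h4⟩ := trA h1
  have h5 := (trA h2).2
  rw [mul_ge hm iv hP h] at h5
  have h6 := allInv_spec chkV hm hP (Nat.beq_eq.mpr h) h3
  rw [tr_mo2' hm hP] at h4
  rw [tr_mo2' (inE_xor hm iv) hP] at h5
  have h7 : tA m P = true := tA_iff.2 h4
  have h8 : tA (Nat.xor m mv) P = true := tA_iff.2 h5
  rw [h7, h8, Bool.and_true, cond_true, Bool.and_eq_true, Bool.or_eq_true] at h6
  rw [Nat.eq_of_beq_eq_true h6.1]
  rcases h6.2 with h9 | h9
  · left; rw [Nat.eq_of_beq_eq_true h9]; rfl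
  · right; rw [Nat.eq_of_beq_eq_true h9]; rfl

theorem only_yp : ∀ x ∈ cent2 T (ge my) (ge mp), IsConj (ge mz) x → IsConj (ge my) (x * ge my) →
    IsConj (ge mz) (x * ge mp) → IsConj (ge mz) (x * (ge my * ge mp)) → x = ge mz := by
  intro x hx h1 h2 h3 h4
  obtain ⟨m, P, hm, hP, h, h', rfl⟩ := (mem_cent2_ge iy ip).1 hx
  obtain ⟨h5, h6⟩ := trA h1
  have h7 := (trB h2).2
  have h8 := (trA h3).2
  have h9 := (trA h4).2
  have h10 : pimg P (my ^^^ mp) = my ^^^ mp := by rw [pimg_xor (isPerm_of_mem hP), h, h']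
  rw [mul_ge hm iy hP h, tr_mo2' (inE_xor hm iy) hP] at h7
  rw [mul_ge hm ip hP h', tr_mo2' (inE_xor hm ip) hP] at h8
  rw [ge_mul iy ip, mul_ge hm (inE_xor iy ip) hP h10, tr_mo2' (inE_xor hm (inE_xor iy ip)) hP] at h9
  rw [tr_mo2' hm hP] at h6
  have h11 := allInv_spec chkYP hm hP (by rw [h, h', Nat.beq_refl, Nat.beq_refl]; rfl) h5
  have e1 : tA m P = true := tA_iff.2 h6
  have e2 : tB (Nat.xor m my) P = true := tB_iff.2 h7
  have e3 : tA (Nat.xor m mp) P = true := tA_iff.2 h8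
  have e4 : tA (Nat.xor m (Nat.xor my mp)) P = true := tA_iff.2 h9
  rw [e1, e2, e3, e4, Bool.and_true, Bool.and_true, cond_true, Bool.and_eq_true] at h11
  rw [Nat.eq_of_beq_eq_true h11.1, Nat.eq_of_beq_eq_true h11.2]
  rfl

theorem u_comm : ∀ t ∈ cent T (ge my), t * ge mu * t⁻¹ = ge mu ∨ t * ge mu * t⁻¹ = ge mu * ge my := by
  intro x hx
  obtain ⟨m, P, hm, hP, h, rfl⟩ := (mem_cent_ge iy).1 hx
  have h1 := List.all_eq_true.1 chkComm P hP
  rw [h, Nat.beq_refl, cond_true, Bool.or_eq_true] at h1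
  have h2 : mo2 m P * ge mu * (mo2 m P)⁻¹ = ge (pimg P mu) := by
    unfold ge
    rw [mo2_conj_E hm iu (okP_of_mem hP) (lt_of_mem hP), mul_assoc, mul_inv_cancel, mul_one]
  rw [h2]
  rcases h1 with h1 | h1
  · left; rw [Nat.eq_of_beq_eq_true h1]
  · right; rw [Nat.eq_of_beq_eq_true h1, ge_mul iu iy]; rfl

theorem hp_ok : (okP hp1 && Nat.blt hp1 (2 ^ 120) && Nat.beq (pimg hp1 my) my &&
    Nat.beq (pimg hp1 mp1) mp && okP hp2 && Nat.blt hp2 (2 ^ 120) && Nat.beq (pimg hp2 my) my &&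
    Nat.beq (pimg hp2 mp2) mp) = true := by decide +kernel

theorem conj_ge {m n P : ℕ} (hP : okP P = true) (hlt : P < 2 ^ 120) (hm : inE m = true)
    (h : pimg P m = n) : mo2 0 P * ge m * (mo2 0 P)⁻¹ = ge n := by
  unfold ge
  rw [mo2_conj_E inE_zero hm hP hlt, mul_assoc, mul_inv_cancel, mul_one, h]

theorem exists_h {m : ℕ} (h : m = mp ∨ m = mp1 ∨ m = mp2) :
    ∃ k : Spor.Co2, k * ge my * k⁻¹ = ge my ∧ k * ge m * k⁻¹ = ge mp := by
  have h0 := hp_ok
  simp only [Bool.and_eq_true] at h0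
  obtain ⟨⟨⟨⟨⟨⟨⟨a1, a2⟩, a3⟩, a4⟩, a5⟩, a6⟩, a7⟩, a8⟩ := h0
  rcases h with rfl | rfl | rfl
  · exact ⟨1, by simp, by simp⟩
  · exact ⟨mo2 0 hp1, conj_ge a1 (Nat.blt_eq.mp a2) iy (Nat.eq_of_beq_eq_true a3),
      conj_ge a1 (Nat.blt_eq.mp a2) ip1 (Nat.eq_of_beq_eq_true a4)⟩
  · exact ⟨mo2 0 hp2, conj_ge a5 (Nat.blt_eq.mp a6) iy (Nat.eq_of_beq_eq_true a7),
      conj_ge a5 (Nat.blt_eq.mp a6) ip2 (Nat.eq_of_beq_eq_true a8)⟩

theorem Cls.uxy (K : Cls) : ∀ x ∈ cent T (ge my), IsConj (ge mz) x → IsConj (ge my) (x * ge my) →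
    IsConj (ge mv) (ge mu * (x * ge my)) ∨
      ∃ h : Spor.Co2, h * ge my * h⁻¹ = ge my ∧ h * (ge mu * (x * ge my)) * h⁻¹ = ge mp := by
  intro x hx h1 h2
  obtain ⟨m, P, hm, hP, h, rfl⟩ := (mem_cent_ge iy).1 hx
  obtain ⟨h3, h4⟩ := trA h1
  have h5 := (trB h2).2
  rw [mul_ge hm iy hP h] at h5 ⊢
  have hw : inE (mu ^^^ (m ^^^ my)) = true := inE_xor iu (inE_xor hm iy)
  have h6 : ge mu * mo2 (m ^^^ my) P = mo2 (mu ^^^ (m ^^^ my)) P := by
    unfold ge
    rw [mo2_mul_left iu (inE_xor hm iy) (okP_of_mem hP)]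
  rw [h6]
  rw [tr_mo2' hm hP] at h4
  rw [tr_mo2' (inE_xor hm iy) hP] at h5
  have h7 := allInv_spec chkU hm hP (Nat.beq_eq.mpr h) h3
  have e1 : tA m P = true := tA_iff.2 h4
  have e2 : tB (Nat.xor m my) P = true := tB_iff.2 h5
  rw [e1, e2, Bool.and_true, cond_true, Bool.or_eq_true, Bool.and_eq_true, Bool.and_eq_true,
    Bool.or_eq_true, Bool.or_eq_true] at h7
  rcases h7 with ⟨h8, h9⟩ | ⟨h8, h9⟩
  · left
    apply K.C
    · exact (sq_eq_one_iff hw hP).2 ⟨Nat.eq_of_beq_eq_true h8, ((sq_eq_one_iff hm hP).1 h3).2⟩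
    · rw [tr_mo2' hw hP]
      exact tC_iff.1 h9
  · right
    rw [Nat.eq_of_beq_eq_true h8]
    apply exists_h
    rcases h9 with h9 | h9 | h9
    · exact Or.inl (Nat.eq_of_beq_eq_true h9)
    · exact Or.inr (Or.inl (Nat.eq_of_beq_eq_true h9))
    · exact Or.inr (Or.inr (Nat.eq_of_beq_eq_true h9))

end Cfsg.Agent.Co2Type.FactsD
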