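import Cfsg.Agent.Co2Type.FusionB3
import Cfsg.Agent.Co2Type.DuoC

/-!
# The fusion of `t` in groups of type `Co2` (R03; helper143): everything but `alpha3`
-/

set_option autoImplicit false

namespace Cfsg.Agent.Co2Type.FusionB4

open Cfsg Cfsg.Agent.Co2Type.Quad Cfsg.Agent.Co2Type.Setup Cfsg.Agent.Co2Type.Spin
open Cfsg.Agent.Co2Type.QModel Cfsg.Agent.Co2Type.Act Cfsg.Agent.Co2Type.Coord
open Cfsg.Agent.Co2Type.Rels Cfsg.Agent.Co2Type.Abs Cfsg.Agent.Co2Type.ExistsRels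
open Cfsg.Agent.Co2Type.InvClass Cfsg.Agent.Co2Type.LineMod Cfsg.Agent.Co2Type.Alpha
open Cfsg.Agent.ClassicalGeometry.SympBasic
open Cfsg.Agent.SporRec.TwoSp6.Sp (tr act)

variable {G : Type*} [Group G] {Q : Subgroup G} {t : G}

/-- the fusion of `t`, given the exclusion of `alpha3` -/
theorem fusion_of [Finite G] (hO : Cfsg.oddCore G = ⊥) (hZ : Subgroup.center G = ⊥)
    (S : Sit G Q t) (hs : SpinHyp S.rho) {ev : QM →* Subgroup.centralizer ({t} : Set G)}
    {D : ℕ → Subgroup.centralizer ({t} : Set G)} (R : Rels false (tc t) ev D)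
    (hD : ∀ j, j < 7 → S.psi (D j) = transv (uv j) 1) (P : Pre (tc t) ev S.psi)
    (ha3 : ¬ IsConj t ((ev (dec 1) * lin D : Subgroup.centralizer ({t} : Set G)) : G)) :
    ∀ x : Subgroup.centralizer ({t} : Set G), IsConj t (x : G) ↔ (x : G) = t ∨
      IsConj (D 0) x ∨ IsConj (tc t * (D 3 * D 5 * D 6)) x := by
  have hwc := WeakB1.wc S hs
  obtain ⟨σ, hσ, hσD, -⟩ := Section.exists_section R S.psi hD
  have hgood := FusionB3.good S hs hwc R hD P hσD ha3
  have hl : IsLine (e 0) (f 1 + e 2) := by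
    refine ⟨?_, ?_, ?_, ?_⟩ <;> decide +kernel
  have hcm : ∀ c : Subgroup.centralizer ({t} : Set G), (c : G) * t = t * c := fun c =>
    Subgroup.mem_centralizer_singleton_iff.1 c.2
  have h1 : ∀ y : Subgroup.centralizer ({t} : Set G), S.psi y = tr (e 0) * tr (f 1 + e 2) →
      ¬ IsConj t (y : G) := by
    intro y hy hc
    exact CosetB.not_c2 hσ hs hwc hgood hl (hcm y) hc hy
  have hp : S.psi (D 0 * D 3) = tr (e 0) * tr (f 1 + e 2) := by
    rw [map_mul, hD 0 (by norm_num), hD 3 (by norm_num)]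
    rfl
  have hp' : S.psi (D 0 * D 3 * tc t) = tr (e 0) * tr (f 1 + e 2) := by
    have h2 : S.psi (tc t) = 1 := (S.psi_ker _).2 S.large.z_mem
    rw [map_mul, hp, h2, mul_one]
  exact FusionB3.fusion_of hO hZ S hs R hD P (h1 (D 0 * D 3) hp) (h1 (D 0 * D 3 * tc t) hp') ha3

end Cfsg.Agent.Co2Type.FusionB4
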