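import Cfsg.Agent.Co2Type.PieceA
import Cfsg.Agent.Co2Type.FusionB4
import Cfsg.Agent.Co2Type.Alpha3T

/-!
# Piece B of S1675: the fusion of `t` in `C_G(t)` (R03; helper143, helper951)
-/

set_option autoImplicit false

namespace Cfsg.Agent.Co2Type.FusionB

open Cfsg Cfsg.Agent.Co2Type.Quad Cfsg.Agent.Co2Type.Setup Cfsg.Agent.Co2Type.Spin
open Cfsg.Agent.Co2Type.QModel Cfsg.Agent.Co2Type.Act Cfsg.Agent.Co2Type.Coord
open Cfsg.Agent.Co2Type.Rels Cfsg.Agent.Co2Type.Abs Cfsg.Agent.Co2Type.ExistsRels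

variable {G : Type*} [Group G] {Q : Subgroup G} {t : G}

/-- piece B -/
theorem fusion [Finite G] (hO : Cfsg.oddCore G = ⊥) (hZ : Subgroup.center G = ⊥)
    (a : PieceA.A Q t) :
    ∀ x : Subgroup.centralizer ({t} : Set G), IsConj t (x : G) ↔ (x : G) = t ∨
      IsConj (a.D 0) x ∨ IsConj (tc t * (a.D 3 * a.D 5 * a.D 6)) x :=
  FusionB4.fusion_of hO hZ a.S a.hs a.R a.hpsi a.P (Alpha3T.not_ev1_lin a.S a.hs a.wc a.R a.hpsi a.P)

end Cfsg.Agent.Co2Type.FusionB
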