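import Cfsg.Agent.Co2Type.Swap
import Cfsg.Agent.Co2Type.Ctx

/-!
# Only transvections fused: impossible (R03, helper143)

If the conjugates of `t` in `C(t)` are `t` and one class of involutions over transvections (with
`Q ∩ Q' = 1`), we get a contradiction.
-/

set_option autoImplicit false

namespace Cfsg.Agent.Co2Type.OnlyB1

open Cfsg Cfsg.Agent.Co2Type.Quad Cfsg.Agent.Co2Type.Setup Cfsg.Agent.Co2Type.Spin
open Cfsg.Agent.Co2Type.LineMod Cfsg.Agent.Co2Type.Code Cfsg.Agent.Co2Type.Pair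
open Cfsg.Agent.SporRec.TwoSp6.Sp (tr act act_mul act_one conj_tr)

theorem line_ne {a b : U} (h : IsLine a b) : line a b ≠ 1 := by
  intro h1
  obtain ⟨g, hg1, hg2⟩ := exists_act_line isLine_e01 h
  have h2 : line (e 0) (e 1) = 1 := by
    have h3 := line_conj g (e 0) (e 1)
    rw [hg1, hg2, h1] at h3
    calc line (e 0) (e 1) = g⁻¹ * (g * line (e 0) (e 1) * g⁻¹) * g := by group
      _ = 1 := by rw [h3]; group
  have h4 := Swap.act_line (sf_e_e 0 1) (f 0)
  rw [h2, act_one] at h4
  have h5 : f 0 ≠ f 0 + sf (f 0) (e 0) • e 1 + sf (f 0) (e 1) • e 0 := by decide +kernel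
  exact h5 h4

section

variable {V : Type*} [AddCommGroup V] [Module (ZMod 2) V]
variable {rho : Sp6 →* (V ≃ₗ[ZMod 2] V)}

/-- `n_u` kills the image of `n_h` only if `u = 0` or `u = h` -/
theorem eq_of_kill (hs : SpinHyp rho) (hcard : Nat.card V = 2 ^ 8) (hinj : Function.Injective rho)
    {h u : U} (hh : h ≠ 0) (hk : ∀ v, n rho u (n rho h v) = 0) : u = 0 ∨ u = h := by
  by_contra hno
  push Not at hno
  have hnt : Nontrivial V := by
    have hf : Finite V := Nat.finite_of_card_ne_zero (by rw [hcard]; norm_num)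
    exact Finite.one_lt_card_iff_nontrivial.1 (by rw [hcard]; norm_num)
  rcases zmod2_cases (sf u h) with h0 | h1
  · have hl : IsLine h u := ⟨hh, hno.1, hno.2, by rw [sf_comm, h0]⟩
    apply line_ne hl
    apply hinj
    rw [map_one]
    apply LinearEquiv.ext
    intro v
    rw [rho_line hs hcard hl.2.2.2, n_comm_apply hs hl.2.2.2, hk, add_zero]
    rfl
  · have key : ∀ x : V, n rho h (n rho u x) = x := by
      intro x
      have h2 := n_anticomm_apply hs u h x
      rw [hk, h1, one_smul] at h2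
      have h3 : x + x = 0 := ZModModule.add_self x
      calc n rho h (n rho u x) = n rho h (n rho u x) + (x + x) := by rw [h3, add_zero]
        _ = (n rho h (n rho u x) + x) + x := by rw [add_assoc]
        _ = x := by rw [← h2, zero_add]
    obtain ⟨x, hx⟩ := exists_ne (0 : V)
    apply hx
    have h3 : n rho h x = 0 := by
      rw [← key x, n_n_apply]
    have h4 : ∀ y : V, n rho h y = 0 := by
      intro y
      rw [← key y, n_n_apply]
    rw [← key x]
    exact h4 _

end

variable {G : Type*} [Group G] {Q : Subgroup G} {t : G}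

/-- the contradiction -/
theorem not_only (S : Sit G Q t) (P : Ctx S) {a : G} (hat : a * t = t * a)
    (hpa : S.ps hat = tr (e 0)) (hc : IsConj t a)
    (hfus : ∀ x, x * t = t * x → IsConj t x → x = t ∨ ∃ c, c * t = t * c ∧ c * x * c⁻¹ = a)
    (hI : ∀ g : G, g * t * g⁻¹ = a → Q ⊓ Q.map (MulAut.conj g).toMonoidHom = ⊥) : False := by
  have hs := P.hs
  have htt := S.large.z_sq
  have hinv : t⁻¹ = t := S.large.z_inv
  have hne : a ≠ t := by
    intro h
    subst h
    have h1 : S.ps hat = 1 := (S.ps_eq_one hat).2 S.large.z_mem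
    rw [hpa] at h1
    have h2 : act (tr (e 0)) (f 0) ≠ f 0 := by
      rw [SporRec.TwoSp6.Sp.act_tr]
      decide +kernel
    rw [h1, act_one] at h2
    exact h2 rfl
  -- the swap
  obtain ⟨x, hxt, hxa⟩ : ∃ x : G, x * t * x⁻¹ = a ∧ x * a * x⁻¹ = t := by
    obtain ⟨g, hga⟩ := isConj_iff.1 hc.symm
    have hcomm : (g * t * g⁻¹) * t = t * (g * t * g⁻¹) := by
      have : (g * t * g⁻¹) * (g * a * g⁻¹) = (g * a * g⁻¹) * (g * t * g⁻¹) := by
        calc (g * t * g⁻¹) * (g * a * g⁻¹) = g * (t * a) * g⁻¹ := by group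
          _ = g * (a * t) * g⁻¹ := by rw [hat]
          _ = _ := by group
      rwa [hga] at this
    rcases hfus _ hcomm (isConj_iff.2 ⟨g, rfl⟩) with h | ⟨c, hc1, hc2⟩
    · exfalso
      apply hne
      have : g * t * g⁻¹ = g * a * g⁻¹ := h.trans hga.symm
      have h2 : t = a := by simpa using this
      exact h2.symm
    · refine ⟨c * g, ?_, ?_⟩
      · calc c * g * t * (c * g)⁻¹ = c * (g * t * g⁻¹) * c⁻¹ := by group
          _ = a := hc2
      · calc c * g * a * (c * g)⁻¹ = c * (g * a * g⁻¹) * c⁻¹ := by group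
          _ = c * t * c⁻¹ := by rw [hga]
          _ = t := by rw [hc1, mul_inv_cancel_right]
  have haa : a * a = 1 := by
    rw [← hxt]
    calc x * t * x⁻¹ * (x * t * x⁻¹) = x * (t * t) * x⁻¹ := by group
      _ = 1 := by rw [htt]; group
  have hainv : a⁻¹ = a := inv_eq_of_mul_eq_one_left haa
  have hI' := hI x hxt
  have hL' : Large (Q.map (MulAut.conj x).toMonoidHom) a := by
    have := S.large.conj x
    rwa [hxt] at this
  set Q' := Q.map (MulAut.conj x).toMonoidHom with hQ'
  have hmemQ' : ∀ y ∈ Q, x * y * x⁻¹ ∈ Q' := fun y hy => ⟨y, hy, rfl⟩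
  -- the elements `d`
  have hd : ∀ v : S.large.V, ∃ q ∈ Q, ∃ hdQ : a * (q * a * q⁻¹) ∈ Q,
      S.large.pr ⟨a * (q * a * q⁻¹), hdQ⟩ = n S.rho (e 0) v ∧
      (a * (q * a * q⁻¹)) * a = a * (a * (q * a * q⁻¹)) := by
    intro v
    obtain ⟨⟨q, hq⟩, rfl⟩ := S.large.pr_surjective v
    have h1 : a * q * a⁻¹ ∈ Q := S.large.conj_mem a hat q hq
    have he : a * (q * a * q⁻¹) = (a * q * a⁻¹) * q⁻¹ := by
      rw [hainv]; group
    have hdQ : a * (q * a * q⁻¹) ∈ Q := by rw [he]; exact mul_mem h1 (inv_mem hq)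
    have hpr : S.large.pr ⟨a * (q * a * q⁻¹), hdQ⟩ = n S.rho (e 0) (S.large.pr ⟨q, hq⟩) := by
      have h2 : (⟨a * (q * a * q⁻¹), hdQ⟩ : Q) = ⟨a * q * a⁻¹, h1⟩ * (⟨q, hq⟩ : Q)⁻¹ :=
        Subtype.ext he
      rw [h2, S.large.pr_mul, S.large.pr_inv, S.large.neg_eq, n_apply, add_comm]
      congr 1
      have h3 := S.rho_ps hat ⟨q, hq⟩
      rw [hpa] at h3
      exact h3.symm
    refine ⟨q, hq, hdQ, hpr, ?_⟩
    -- `d` is an involution inverted by `a`
    have hdd : (a * (q * a * q⁻¹)) * (a * (q * a * q⁻¹)) = 1 := by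
      have h4 : S.large.q (S.large.pr ⟨a * (q * a * q⁻¹), hdQ⟩) = 0 := by
        rw [hpr]
        exact q_n hs S.b_rho S.large.b_self S.large.q_add' S.q_rho _ _
      exact S.large.q_eq_zero.1 h4
    have h5 : a * (a * (q * a * q⁻¹)) * a = (a * (q * a * q⁻¹))⁻¹ := by
      rw [mul_inv_rev, mul_inv_rev, mul_inv_rev, hainv, inv_inv]
      calc a * (a * (q * a * q⁻¹)) * a = (a * a) * (q * a * q⁻¹) * a := by group
        _ = q * (a * q⁻¹) * a := by rw [haa]; group
    have h6 : (a * (q * a * q⁻¹))⁻¹ = a * (q * a * q⁻¹) := inv_eq_of_mul_eq_one_left hdd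
    rw [h6] at h5
    calc (a * (q * a * q⁻¹)) * a = a * (a * (a * (q * a * q⁻¹)) * a) := by
          rw [← mul_assoc a (a * (a * (q * a * q⁻¹))) a, ← mul_assoc a a, haa, one_mul]
      _ = _ := by rw [h5]
  choose q hq hdQ hpr hda using hd
  set d : S.large.V → G := fun v => a * (q v * a * (q v)⁻¹) with hdd
  have hmd : ∀ v, d v ∈ dsub Q a := fun v => mem_dsub.2 ⟨hdQ v, hda v⟩
  -- the transported elements
  set y : S.large.V → G := fun v => x * d v * x⁻¹ with hy
  have hyt : ∀ v, y v * t = t * y v := by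
    intro v
    calc x * d v * x⁻¹ * t = x * d v * x⁻¹ * (x * a * x⁻¹) := by rw [hxa]
      _ = x * (d v * a) * x⁻¹ := by group
      _ = x * (a * d v) * x⁻¹ := by rw [show d v * a = a * d v from hda v]
      _ = (x * a * x⁻¹) * (x * d v * x⁻¹) := by group
      _ = t * (x * d v * x⁻¹) := by rw [hxa]
  have hyQ' : ∀ v, y v ∈ Q' := fun v => hmemQ' _ (hdQ v)
  have hyd : ∀ v, y v ∈ dsub Q' t := fun v => mem_dsub.2 ⟨hyQ' v, hyt v⟩
  -- they centralise the `d v'`
  have hcomm : ∀ v w, d w * y v = y v * d w := by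
    intro v w
    have h1 := commutator_mem S.large hL' (hmd w) (hyd v)
    rw [hI', Subgroup.mem_bot] at h1
    have h2 : d w * y v * (d w)⁻¹ = y v := by
      calc d w * y v * (d w)⁻¹ = (d w * y v * (d w)⁻¹ * (y v)⁻¹) * y v := by group
        _ = y v := by rw [h1, one_mul]
    exact mul_inv_eq_iff_eq_mul.1 h2
  -- `psi` of `y v`
  have hps : ∀ v, y v = 1 ∨ S.ps (hyt v) = tr (e 0) := by
    intro v
    -- `w = t y`
    have hw : x * (q v * a * (q v)⁻¹) * x⁻¹ = t * y v := by
      calc x * (q v * a * (q v)⁻¹) * x⁻¹ = (x * a⁻¹ * x⁻¹) * (x * (a * (q v * a * (q v)⁻¹)) * x⁻¹) := by group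
        _ = t * y v := by rw [hainv, hxa]
    have hwt : (t * y v) * t = t * (t * y v) := by rw [mul_assoc, hyt v]
    have hcw : IsConj t (t * y v) := by
      rw [← hw]
      refine hc.trans (isConj_iff.2 ⟨x * q v, ?_⟩)
      group
    rcases hfus _ hwt hcw with h | ⟨c, hc1, hc2⟩
    · left
      exact mul_eq_left.1 h
    · -- transvection
      have hcinv : c⁻¹ * t = t * c⁻¹ := by
        have : Commute c t := hc1
        exact this.inv_left.eq
      have e1 : t * y v = c⁻¹ * a * c := by rw [← hc2]; group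
      have htt' : t * t = t * t := rfl
      obtain ⟨u, hu⟩ : ∃ u, S.ps (hyt v) = tr u := by
        refine ⟨act (S.ps hcinv) (e 0), ?_⟩
        have h1 : S.ps hwt = S.ps (x := t) rfl * S.ps (hyt v) := S.ps_mul _ _ _
        have h2 : S.ps (x := t) rfl = 1 := (S.ps_eq_one _).2 S.large.z_mem
        rw [h2, one_mul] at h1
        rw [← h1, ← conj_tr]
        have h3 : (S.ps hcinv)⁻¹ = S.ps hc1 := by
          rw [← S.ps_inv hcinv (by rw [inv_inv]; exact hc1)]
          unfold Sit.ps
          congr 1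
          apply Subtype.ext
          exact inv_inv c
        rw [h3, ← hpa]
        unfold Sit.ps
        rw [← map_mul, ← map_mul]
        congr 1
        apply Subtype.ext
        exact e1
      -- it kills the image of `n_{e 0}`
      have hk : ∀ w, n S.rho u (n S.rho (e 0) w) = 0 := by
        intro w
        have h1 := S.rho_ps (hyt v) ⟨d w, hdQ w⟩
        have h2 : (⟨y v * d w * (y v)⁻¹, S.large.conj_mem (y v) (hyt v) _ (hdQ w)⟩ : Q) =
            ⟨d w, hdQ w⟩ := Subtype.ext (by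
          show y v * d w * (y v)⁻¹ = d w
          rw [← hcomm v w, mul_inv_cancel_right])
        have h3 : S.large.pr ⟨d w, hdQ w⟩ = n S.rho (e 0) w := hpr w
        rw [hu] at h1
        have h4 : S.rho (tr u) (S.large.pr ⟨d w, hdQ w⟩) = S.large.pr ⟨d w, hdQ w⟩ := by
          rw [h1]
          exact congrArg S.large.pr h2
        rw [h3] at h4
        rw [n_apply]
        have h5 : S.rho (ClassicalGeometry.SympBasic.transv u 1) (n S.rho (e 0) w) = n S.rho (e 0) w := h4
        rw [h5, S.large.add_self]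
      rcases eq_of_kill hs S.card_V S.rho_injective (h := e 0) (by decide +kernel) hk with h | h
      · left
        rw [h, SporRec.TwoSp6.Sp.tr_zero] at hu
        have h1 := (S.ps_eq_one (hyt v)).1 hu
        have h2 : y v ∈ Q ⊓ Q' := Subgroup.mem_inf.2 ⟨h1, hyQ' v⟩
        rwa [hI', Subgroup.mem_bot] at h2
      · right
        rw [hu, h]
  -- two values
  have hval : ∀ v, n S.rho (e 0) v ≠ 0 → S.ps (hyt v) = tr (e 0) := by
    intro v hv
    rcases hps v with h | h
    · exfalso
      apply hv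
      have h1 : d v = 1 := by
        have h2 : x * d v * x⁻¹ = 1 := h
        have h3 : d v = x⁻¹ * (x * d v * x⁻¹) * x := by group
        rw [h3, h2]; group
      rw [← hpr v, S.large.pr_eq_zero]
      exact Or.inl h1
    · exact h
  have heq : ∀ v w, n S.rho (e 0) v ≠ 0 → n S.rho (e 0) w ≠ 0 →
      n S.rho (e 0) v = n S.rho (e 0) w := by
    intro v w hv hw
    have h1 := hval v hv
    have h2 := hval w hw
    have hiv : (y w)⁻¹ * t = t * (y w)⁻¹ := by
      have : Commute (y w) t := hyt w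
      exact this.inv_left.eq
    have hvw : y v * (y w)⁻¹ * t = t * (y v * (y w)⁻¹) := by
      rw [mul_assoc, hiv, ← mul_assoc, hyt v, mul_assoc]
    have h3 : S.ps hvw = 1 := by
      rw [S.ps_mul (hyt v) hiv hvw, S.ps_inv (hyt w) hiv, h1, h2, mul_inv_cancel]
    have h4 := (S.ps_eq_one hvw).1 h3
    have h5 : y v * (y w)⁻¹ ∈ Q ⊓ Q' :=
      Subgroup.mem_inf.2 ⟨h4, mul_mem (hyQ' v) (inv_mem (hyQ' w))⟩
    rw [hI', Subgroup.mem_bot, mul_inv_eq_one] at h5
    have h6 : d v = d w := by
      have h7 : x * d v * x⁻¹ = x * d w * x⁻¹ := h5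
      simpa using h7
    rw [← hpr v, ← hpr w]
    exact congrArg S.large.pr (Subtype.ext h6)
  have b0 : n S.rho (e 0) (P.B 0) = P.B 1 := by
    have := P.hE 0 0
    simpa using this
  have b2 : n S.rho (e 0) (P.B 2) = P.B 3 := by
    have := P.hE 0 2
    simpa using this
  have h1 := heq (P.B 0) (P.B 2) (by rw [b0]; exact P.B.ne_zero 1) (by rw [b2]; exact P.B.ne_zero 3)
  rw [b0, b2] at h1
  have := P.B.injective h1
  exact absurd this (by decide)

end Cfsg.Agent.Co2Type.OnlyB1
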