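import Cfsg.Agent.Co2Type.TwistDead
import Cfsg.Agent.Co2Type.Alpha
import Cfsg.Agent.Co2Type.Delta
import Cfsg.Agent.Co2Type.Section
import Cfsg.Agent.Co2Type.OnlyB1

/-!
# The fusion of `t` in groups of type `Co2` (R03, secondary route; helper143)
-/

set_option autoImplicit false

namespace Cfsg.Agent.Co2Type.FusionB2

open Cfsg Cfsg.Agent.Co2Type.Quad Cfsg.Agent.Co2Type.Setup Cfsg.Agent.Co2Type.Spin
open Cfsg.Agent.Co2Type.QModel Cfsg.Agent.Co2Type.Act Cfsg.Agent.Co2Type.Coord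
open Cfsg.Agent.Co2Type.Rels Cfsg.Agent.Co2Type.Abs Cfsg.Agent.Co2Type.ExistsRels
open Cfsg.Agent.Co2Type.InvClass Cfsg.Agent.Co2Type.InvClass2 Cfsg.Agent.Co2Type.LineMod Cfsg.Agent.Co2Type.Alpha
open Cfsg.Agent.ClassicalGeometry.SympBasic
open Cfsg.Agent.SporRec.TwoSp6.Sp (tr act)
open Cfsg.Agent.SporRec.TwoSp6.Invol (Ind Orth)

variable {G : Type*} [Group G] {Q : Subgroup G} {t : G}

theorem ev_mem (S : Sit G Q t) {ev : QM →* Subgroup.centralizer ({t} : Set G)}
    (P : Pre (tc t) ev S.psi) (c : Subgroup.centralizer ({t} : Set G)) : c ∈ ev.range ↔ (c : G) ∈ Q := by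
  rw [← P.psi_ker, S.psi_ker]

/-- elements of `C` conjugate in `C` are conjugate in `G` -/
theorem isConj_of {x y g : Subgroup.centralizer ({t} : Set G)} (h : g * x * g⁻¹ = y) :
    IsConj (x : G) (y : G) :=
  isConj_iff.2 ⟨g, congrArg Subtype.val h⟩

/-- the representative of `b3` -/
theorem psi_bth (S : Sit G Q t) {D : ℕ → Subgroup.centralizer ({t} : Set G)}
    (hD : ∀ j, j < 7 → S.psi (D j) = transv (uv j) 1) :
    S.psi (bth D) = tr (e 0) * tr (e 2) * tr (f 1) := by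
  rw [bth, map_mul, map_mul, hD 0 (by norm_num), hD 5 (by norm_num), hD 6 (by norm_num)]
  rfl

/-- `t` is not conjugate to the representative of `b3` -/
theorem not_bth (S : Sit G Q t) (hs : SpinHyp S.rho) (hwc : Pair.WC Q t)
    {D : ℕ → Subgroup.centralizer ({t} : Set G)}
    (hD : ∀ j, j < 7 → S.psi (D j) = transv (uv j) 1) : ¬ IsConj t ((bth D :) : G) := by
  intro hc
  obtain ⟨g, hg⟩ := isConj_iff.1 hc
  have hcomm : ((bth D :) : G) * t = t * ((bth D :) : G) :=
    Subgroup.mem_centralizer_singleton_iff.1 (bth D).2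
  have hg' : g * t * g⁻¹ * t = t * (g * t * g⁻¹) := by rw [hg]; exact hcomm
  apply Delta.not_delta S hs hwc hg' (a := e 0) (b := e 2) (c := f 1) (by decide +kernel)
    ⟨by decide +kernel, by decide +kernel, by decide +kernel⟩
  rw [← psi_bth S hD]
  congr 1
  exact Subtype.ext hg

/-- the fusion of `t`, given the exclusions of the classes `t b1`, `c2`, `t c2`, `alpha3` -/
theorem fusion_of [Finite G] (hO : Cfsg.oddCore G = ⊥) (hZ : Subgroup.center G = ⊥)
    (S : Sit G Q t) (hs : SpinHyp S.rho) {ev : QM →* Subgroup.centralizer ({t} : Set G)}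
    {D : ℕ → Subgroup.centralizer ({t} : Set G)} (R : Rels false (tc t) ev D)
    (hD : ∀ j, j < 7 → S.psi (D j) = transv (uv j) 1) (P : Pre (tc t) ev S.psi)
    (htb1 : ¬ IsConj t ((D 0 : G) * t)) (hc2 : ¬ IsConj t ((D 0 : G) * D 3))
    (htc2 : ¬ IsConj t ((D 0 : G) * D 3 * t))
    (ha3 : ¬ IsConj t ((ev (dec 1) * lin D : Subgroup.centralizer ({t} : Set G)) : G))
    (hI : ∀ g : G, g * t * g⁻¹ = (D 0 : G) → Q ⊓ Q.map (MulAut.conj g).toMonoidHom = ⊥) :
    ∀ x : Subgroup.centralizer ({t} : Set G), IsConj t (x : G) ↔ (x : G) = t ∨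
      IsConj (D 0) x ∨ IsConj (tc t * (D 3 * D 5 * D 6)) x := by
  have htt := S.large.z_sq
  have hwc := WeakB1.wc S hs
  obtain ⟨Pc⟩ := Code.exists_ctx S hs
  obtain ⟨σ, hσ, hσD, -⟩ := Section.exists_section R S.psi hD
  have hbth := not_bth S hs hwc hD
  have hcm : ∀ c : Subgroup.centralizer ({t} : Set G), (c : G) * t = t * c := fun c =>
    Subgroup.mem_centralizer_singleton_iff.1 c.2
  -- the line element
  have hlin : ((lin D :) : G) = sg σ (line (f 1 + e 2) (e 2)) := by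
    rw [Swap.line_al]
    unfold sg
    rw [map_mul, map_mul]
    have h3 : σ (tr (f 1 + e 2)) = D 3 := hσD 3 (by norm_num)
    have h5 : σ (tr (e 2)) = D 5 := hσD 5 (by norm_num)
    have h6 : σ (tr (f 1)) = D 6 := hσD 6 (by norm_num)
    rw [h3, h5, h6]
    rfl
  have hl1 : IsConj t ((lin D :) : G) → IsConj t (sg σ (line (e 0) (e 1))) := by
    intro h
    rw [hlin] at h
    exact isConj_sg σ Swap.isLine_al isLine_e01 h
  have hl2 : IsConj t (t * ((lin D :) : G)) → IsConj t (t * sg σ (line (e 0) (e 1))) := by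
    intro h
    rw [hlin] at h
    exact isConj_t_sg σ Swap.isLine_al isLine_e01 h
  -- classes of elements of `F`
  have hcase : ∀ x : Subgroup.centralizer ({t} : Set G), IsConj t (x : G) → (x : G) ≠ t →
      (∃ g : Subgroup.centralizer ({t} : Set G), g * x * g⁻¹ = D 0) ∨
      (∃ g : Subgroup.centralizer ({t} : Set G), g * x * g⁻¹ = lin D) ∨
      (∃ g : Subgroup.centralizer ({t} : Set G), g * x * g⁻¹ = tc t * lin D) := by
    intro x hc hne
    have hxx : x * x = 1 := by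
      apply Subtype.ext
      obtain ⟨g, hg⟩ := isConj_iff.1 hc
      show (x : G) * x = 1
      rw [← hg]
      calc g * t * g⁻¹ * (g * t * g⁻¹) = g * (t * t) * g⁻¹ := by group
        _ = 1 := by rw [htt]; group
    have hxQ : x ∉ ev.range := by
      rw [ev_mem S P]
      intro h
      exact hne (hwc.eq_of_mem h hc)
    have hno : ∀ {y g : Subgroup.centralizer ({t} : Set G)}, g * x * g⁻¹ = y → IsConj t (y : G) :=
      fun h => hc.trans (isConj_of h)
    rcases inv_list R P hD hxx hxQ with ⟨-, ⟨g, h⟩ | ⟨g, h⟩ | ⟨g, h⟩ | ⟨g, h⟩⟩ | ⟨g, h⟩ | ⟨g, h⟩ | ⟨g, h⟩ | ⟨g, h⟩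
    · exact Or.inl ⟨g, h⟩
    · exact absurd (hno h) htb1
    · exact absurd (hno h) hc2
    · exact absurd (hno h) htc2
    · exact Or.inr (Or.inl ⟨g, h⟩)
    · right; right
      refine ⟨g, ?_⟩
      rw [h]
      exact Subtype.ext (hcm _)
    · exact absurd (hno h) ha3
    · exact absurd (hno h) hbth
  -- conjugates of `t` times `t`
  have hconjt : ∀ {x y : G}, x * t = t * x → (∃ c : G, c * t = t * c ∧ c * x * c⁻¹ = y) →
      ∃ c : G, c * t = t * c ∧ c * (t * x) * c⁻¹ = t * y := by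
    rintro x y hx ⟨c, hc1, hc2⟩
    refine ⟨c, hc1, ?_⟩
    calc c * (t * x) * c⁻¹ = (c * t) * x * c⁻¹ := by group
      _ = t * (c * x * c⁻¹) := by rw [hc1]; group
      _ = t * y := by rw [hc2]
  -- the line class itself is not fused
  have hA2 : ¬ IsConj t ((lin D :) : G) := by
    intro hc
    have h0 := hl1 hc
    refine not_sline S σ hs ?_ h0
    intro x hx hcx hctx
    by_cases hxt : x = t
    · rw [hxt, htt] at hctx
      obtain ⟨g, hg⟩ := isConj_iff.1 hctx
      have : t = 1 := by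
        have h1 : t = g⁻¹ * (g * t * g⁻¹) * g := by group
        rw [h1, hg]; group
      exact S.large.z_ne this
    · have hxm : x ∈ Subgroup.centralizer ({t} : Set G) := Subgroup.mem_centralizer_singleton_iff.2 hx
      rcases hcase ⟨x, hxm⟩ hcx hxt with ⟨g, h⟩ | ⟨g, h⟩ | ⟨g, h⟩
      · apply htb1
        obtain ⟨c, hc1, hc2⟩ := hconjt hx ⟨g, hcm g, congrArg Subtype.val h⟩
        rw [hcm]
        exact hctx.trans (isConj_iff.2 ⟨c, hc2⟩)
      · obtain ⟨c, hc1, hc2⟩ := hconjt hx ⟨g, hcm g, congrArg Subtype.val h⟩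
        exact not_both S σ hσ hs hwc (hl2 (hctx.trans (isConj_iff.2 ⟨c, hc2⟩))) h0
      · have h1 : IsConj t (t * ((lin D :) : G)) := hcx.trans (isConj_of h)
        exact not_both S σ hσ hs hwc (hl2 h1) h0
  have hcase' : ∀ x : Subgroup.centralizer ({t} : Set G), IsConj t (x : G) → (x : G) ≠ t →
      (∃ g : Subgroup.centralizer ({t} : Set G), g * x * g⁻¹ = D 0) ∨
      (∃ g : Subgroup.centralizer ({t} : Set G), g * x * g⁻¹ = tc t * lin D) := by
    intro x hc hne
    rcases hcase x hc hne with h | ⟨g, h⟩ | h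
    · exact Or.inl h
    · exact absurd (hc.trans (isConj_of h)) hA2
    · exact Or.inr h
  -- there is a fused element
  obtain ⟨g0, hg0, hg1⟩ := ZUse.exists_fused hO hZ htt S.large.z_ne
  have hx0 : g0 * t * g0⁻¹ ∈ Subgroup.centralizer ({t} : Set G) :=
    Subgroup.mem_centralizer_singleton_iff.2 hg1
  have hcx0 : IsConj t (g0 * t * g0⁻¹) := isConj_iff.2 ⟨g0, rfl⟩
  -- transvections are fused
  have hA1 : IsConj t (D 0 : G) := by
    by_contra hno
    have honly : ∀ x : Subgroup.centralizer ({t} : Set G), IsConj t (x : G) → (x : G) ≠ t →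
        ∃ g : Subgroup.centralizer ({t} : Set G), g * x * g⁻¹ = tc t * lin D := by
      intro x hc hne
      rcases hcase' x hc hne with ⟨g, h⟩ | h
      · exact absurd (hc.trans (isConj_of h)) hno
      · exact h
    have h1 : IsConj t (t * ((lin D :) : G)) := by
      obtain ⟨g, h⟩ := honly ⟨_, hx0⟩ hcx0 hg0
      exact hcx0.trans (isConj_of h)
    refine Alpha.not_only S σ hσ hs hwc ?_ (hl2 h1)
    intro x hx hcx
    by_cases hxt : x = t
    · exact Or.inl hxt
    right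
    have hxm : x ∈ Subgroup.centralizer ({t} : Set G) := Subgroup.mem_centralizer_singleton_iff.2 hx
    obtain ⟨g, h⟩ := honly ⟨x, hxm⟩ hcx hxt
    have h' : (g : G) * x * (g : G)⁻¹ = t * ((lin D :) : G) := congrArg Subtype.val h
    obtain ⟨κ, hκ⟩ : ∃ κ, κ = S.psi g⁻¹ := ⟨_, rfl⟩
    refine ⟨act κ (f 1 + e 2), act κ (e 2), (g⁻¹ * (σ κ)⁻¹ : Subgroup.centralizer ({t} : Set G)),
      isLine_act κ Swap.isLine_al, ?_, ?_⟩
    · rw [← S.psi_ker, map_mul, map_inv, map_inv, hσ, hκ, map_inv, inv_inv, inv_mul_cancel]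
    · rw [← line_conj, sg_mul, sg_mul, sg_inv, ← hlin]
      have h2 : x = (g : G)⁻¹ * (t * ((lin D :) : G)) * g := by rw [← h']; group
      have h3 : sg σ κ * t = t * sg σ κ := sg_comm σ κ
      have h4 : ((g⁻¹ * (σ κ)⁻¹ : Subgroup.centralizer ({t} : Set G)) : G) = (g : G)⁻¹ * (sg σ κ)⁻¹ := rfl
      rw [h4, h2]
      have h5 : (sg σ κ)⁻¹ * (t * (sg σ κ * ((lin D :) : G) * (sg σ κ)⁻¹)) = t * ((lin D :) : G) * (sg σ κ)⁻¹ := by
        calc (sg σ κ)⁻¹ * (t * (sg σ κ * ((lin D :) : G) * (sg σ κ)⁻¹))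
            = (sg σ κ)⁻¹ * (t * sg σ κ) * ((lin D :) : G) * (sg σ κ)⁻¹ := by group
          _ = (sg σ κ)⁻¹ * (sg σ κ * t) * ((lin D :) : G) * (sg σ κ)⁻¹ := by rw [h3]
          _ = _ := by group
      calc (g : G)⁻¹ * (t * ((lin D :) : G)) * g
          = (g : G)⁻¹ * (t * ((lin D :) : G) * (sg σ κ)⁻¹) * ((g : G)⁻¹ * (sg σ κ)⁻¹)⁻¹ := by group
        _ = (g : G)⁻¹ * ((sg σ κ)⁻¹ * (t * (sg σ κ * ((lin D :) : G) * (sg σ κ)⁻¹))) *
            ((g : G)⁻¹ * (sg σ κ)⁻¹)⁻¹ := by rw [h5]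
        _ = _ := by group
  -- the class of `t * line` is fused
  have hA3 : IsConj t (t * ((lin D :) : G)) := by
    by_contra hno
    have hpa : S.ps (hcm (D 0)) = tr (e 0) := hD 0 (by norm_num)
    refine OnlyB1.not_only S Pc (hcm (D 0)) hpa hA1 ?_ hI
    intro x hx hcx
    by_cases hxt : x = t
    · exact Or.inl hxt
    right
    have hxm : x ∈ Subgroup.centralizer ({t} : Set G) := Subgroup.mem_centralizer_singleton_iff.2 hx
    rcases hcase' ⟨x, hxm⟩ hcx hxt with ⟨g, h⟩ | ⟨g, h⟩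
    · exact ⟨g, hcm g, congrArg Subtype.val h⟩
    · exact absurd (hcx.trans (isConj_of h)) hno
  intro x
  constructor
  · intro hc
    by_cases hxt : (x : G) = t
    · exact Or.inl hxt
    right
    rcases hcase' x hc hxt with ⟨g, h⟩ | ⟨g, h⟩
    · exact Or.inl (isConj_iff.2 ⟨g, h⟩).symm
    · exact Or.inr (isConj_iff.2 ⟨g, h⟩).symm
  · rintro (h | h | h)
    · rw [h]
    · obtain ⟨g, hg⟩ := isConj_iff.1 h
      exact hA1.trans (isConj_of hg)
    · obtain ⟨g, hg⟩ := isConj_iff.1 h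
      exact hA3.trans (isConj_of hg)

end Cfsg.Agent.Co2Type.FusionB2
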