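import Cfsg.Agent.Co2Type.FusionB2
import Cfsg.Agent.Co2Type.DuoD

/-!
# The fusion of `t` in groups of type `Co2` (R03; helper143): transvections

`htb1` and `hI` of `FusionB2.fusion_of` from helper595's `Duo`.
-/

set_option autoImplicit false

namespace Cfsg.Agent.Co2Type.FusionB3

open Cfsg Cfsg.Agent.Co2Type.Quad Cfsg.Agent.Co2Type.Setup Cfsg.Agent.Co2Type.Spin
open Cfsg.Agent.Co2Type.QModel Cfsg.Agent.Co2Type.Act Cfsg.Agent.Co2Type.Coord
open Cfsg.Agent.Co2Type.Rels Cfsg.Agent.Co2Type.Abs Cfsg.Agent.Co2Type.ExistsRels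
open Cfsg.Agent.Co2Type.InvClass Cfsg.Agent.Co2Type.LineMod Cfsg.Agent.Co2Type.Alpha
open Cfsg.Agent.ClassicalGeometry.SympBasic
open Cfsg.Agent.SporRec.TwoSp6.Sp (tr act)

variable {G : Type*} [Group G] {Q : Subgroup G} {t : G}

/-- `t · b1` is not fused -/
theorem not_tb1 (S : Sit G Q t) (hs : SpinHyp S.rho) (hwc : Pair.WC Q t)
    {ev : QM →* Subgroup.centralizer ({t} : Set G)}
    {D : ℕ → Subgroup.centralizer ({t} : Set G)} (R : Rels false (tc t) ev D)
    (hD : ∀ j, j < 7 → S.psi (D j) = transv (uv j) 1) : ¬ IsConj t ((D 0 : G) * t) := by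
  obtain ⟨σ, hσ, hσD, -⟩ := Section.exists_section R S.psi hD
  have h0 : sg σ (tr (e 0)) = (D 0 : G) := by
    have : σ (tr (e 0)) = D 0 := hσD 0 (by norm_num)
    unfold sg
    rw [this]
  have h1 := CosetB.not_tb1 hσ hs hwc (h := e 0) (by decide +kernel)
  rw [h0] at h1
  have h2 : (D 0 : G) * t = t * (D 0 : G) := Subgroup.mem_centralizer_singleton_iff.1 (D 0).2
  rwa [h2]

/-- `Q ∩ Q' = 1` for a conjugate of `t` over a transvection -/
theorem inf_b1 (S : Sit G Q t) (hs : SpinHyp S.rho) (hwc : Pair.WC Q t)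
    {ev : QM →* Subgroup.centralizer ({t} : Set G)}
    {D : ℕ → Subgroup.centralizer ({t} : Set G)} (R : Rels false (tc t) ev D)
    (hD : ∀ j, j < 7 → S.psi (D j) = transv (uv j) 1) (g : G) (hg : g * t * g⁻¹ = (D 0 : G)) :
    Q ⊓ Q.map (MulAut.conj g).toMonoidHom = ⊥ := by
  obtain ⟨σ, hσ, hσD, -⟩ := Section.exists_section R S.psi hD
  have h0 : sg σ (tr (e 0)) = (D 0 : G) := by
    have : σ (tr (e 0)) = D 0 := hσD 0 (by norm_num)
    unfold sg
    rw [this]
  have d : CosetB.Duo S (S.conj g) σ (tr (e 0)) (e 0) := by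
    refine ⟨hσ, hs, hwc, hwc.conj g, isConj_iff.2 ⟨g, rfl⟩, Or.inl ⟨by decide +kernel, rfl⟩, Or.inl ?_⟩
    rw [hg, h0]
  exact (Subgroup.eq_bot_iff_forall _).2 fun x hx => d.inf_eq (Subgroup.mem_inf.1 hx).1 (Subgroup.mem_inf.1 hx).2

/-- every fused involution of `C(t)` is, up to `C(t)`-conjugacy, `σ r` or `t σ r` for `r` centralising two
non-commuting transvections -/
theorem good (S : Sit G Q t) (hs : SpinHyp S.rho) (hwc : Pair.WC Q t)
    {ev : QM →* Subgroup.centralizer ({t} : Set G)}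
    {D : ℕ → Subgroup.centralizer ({t} : Set G)} (R : Rels false (tc t) ev D)
    (hD : ∀ j, j < 7 → S.psi (D j) = transv (uv j) 1) (P : Pre (tc t) ev S.psi)
    {σ : Sp6 →* Subgroup.centralizer ({t} : Set G)} (hσD : ∀ j, j < 7 → σ (transv (uv j) 1) = D j)
    (ha3 : ¬ IsConj t ((ev (dec 1) * lin D : Subgroup.centralizer ({t} : Set G)) : G)) :
    ∀ z : G, z * t = t * z → IsConj t z → z ≠ t → ∃ c : G, c * t = t * c ∧
      ∃ (r : Sp6) (p p' : U), sf p p' = 1 ∧ r * tr p = tr p * r ∧ r * tr p' = tr p' * r ∧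
        (z = c * sg σ r * c⁻¹ ∨ z = c * (t * sg σ r) * c⁻¹) := by
  intro z hz hc hne
  have htt := S.large.z_sq
  have hcm : ∀ c : Subgroup.centralizer ({t} : Set G), (c : G) * t = t * c := fun c =>
    Subgroup.mem_centralizer_singleton_iff.1 c.2
  have hzm : z ∈ Subgroup.centralizer ({t} : Set G) := Subgroup.mem_centralizer_singleton_iff.2 hz
  set x : Subgroup.centralizer ({t} : Set G) := ⟨z, hzm⟩ with hx
  have hxx : x * x = 1 := by
    apply Subtype.ext
    obtain ⟨g, hg⟩ := isConj_iff.1 hc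
    show z * z = 1
    rw [← hg]
    calc g * t * g⁻¹ * (g * t * g⁻¹) = g * (t * t) * g⁻¹ := by group
      _ = 1 := by rw [htt]; group
  have hxQ : x ∉ ev.range := by
    rw [FusionB2.ev_mem S P]
    intro h
    exact hne (hwc.eq_of_mem h hc)
  have hno : ∀ {y g : Subgroup.centralizer ({t} : Set G)}, g * x * g⁻¹ = y → IsConj t (y : G) :=
    fun h => hc.trans (FusionB2.isConj_of h)
  have hback : ∀ {y g : Subgroup.centralizer ({t} : Set G)}, g * x * g⁻¹ = y →
      z = ((g⁻¹ : Subgroup.centralizer ({t} : Set G)) : G) * (y : G) *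
        ((g⁻¹ : Subgroup.centralizer ({t} : Set G)) : G)⁻¹ := by
    intro y g h
    have h1 : (g : G) * z * (g : G)⁻¹ = y := congrArg Subtype.val h
    rw [← h1, Subgroup.coe_inv]
    group
  have s0 : sg σ (tr (e 0)) = (D 0 : G) := by
    have : σ (tr (e 0)) = D 0 := hσD 0 (by norm_num)
    unfold sg
    rw [this]
  have s03 : sg σ (tr (e 0) * tr (f 1 + e 2)) = (D 0 : G) * D 3 := by
    have h3 : σ (tr (f 1 + e 2)) = D 3 := hσD 3 (by norm_num)
    rw [sg_mul, s0]
    unfold sg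
    rw [h3]
  have sl : sg σ (line (f 1 + e 2) (e 2)) = ((lin D :) : G) := by
    rw [Swap.line_al]
    unfold sg
    rw [map_mul, map_mul]
    have h3 : σ (tr (f 1 + e 2)) = D 3 := hσD 3 (by norm_num)
    have h5 : σ (tr (e 2)) = D 5 := hσD 5 (by norm_num)
    have h6 : σ (tr (f 1)) = D 6 := hσD 6 (by norm_num)
    rw [h3, h5, h6]
    rfl
  have tc : ∀ {u w : U}, sf u w = 0 → tr u * tr w = tr w * tr u := fun h =>
    SporRec.TwoSp6.Sp.tr_comm h
  have c0 : ∀ p : U, sf (e 0) p = 0 → tr (e 0) * tr p = tr p * tr (e 0) := fun p h => tc h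
  have c03 : ∀ p : U, sf (e 0) p = 0 → sf (f 1 + e 2) p = 0 →
      tr (e 0) * tr (f 1 + e 2) * tr p = tr p * (tr (e 0) * tr (f 1 + e 2)) := by
    intro p h1 h2
    rw [mul_assoc, tc h2, ← mul_assoc, tc h1, mul_assoc]
  have cl : ∀ p : U, sf (f 1 + e 2) p = 0 → sf (e 2) p = 0 →
      line (f 1 + e 2) (e 2) * tr p = tr p * line (f 1 + e 2) (e 2) := fun p h1 h2 =>
    line_comm_tr h1 h2
  have htm : ∀ y : Subgroup.centralizer ({t} : Set G), (((y * ExistsRels.tc t :
      Subgroup.centralizer ({t} : Set G)) : G)) = t * y := fun y => hcm y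
  rcases InvClass2.inv_list R P hD hxx hxQ with
    ⟨-, ⟨g, h⟩ | ⟨g, h⟩ | ⟨g, h⟩ | ⟨g, h⟩⟩ | ⟨g, h⟩ | ⟨g, h⟩ | ⟨g, h⟩ | ⟨g, h⟩
  · refine ⟨_, hcm g⁻¹, tr (e 0), e 1, f 1, by decide +kernel, c0 _ (by decide +kernel),
      c0 _ (by decide +kernel), Or.inl ?_⟩
    rw [s0]; exact hback h
  · refine ⟨_, hcm g⁻¹, tr (e 0), e 1, f 1, by decide +kernel, c0 _ (by decide +kernel),
      c0 _ (by decide +kernel), Or.inr ?_⟩
    rw [s0, ← htm]; exact hback h
  · refine ⟨_, hcm g⁻¹, tr (e 0) * tr (f 1 + e 2), e 2, f 2 + e 1, by decide +kernel,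
      c03 _ (by decide +kernel) (by decide +kernel), c03 _ (by decide +kernel) (by decide +kernel),
      Or.inl ?_⟩
    rw [s03]; exact hback h
  · refine ⟨_, hcm g⁻¹, tr (e 0) * tr (f 1 + e 2), e 2, f 2 + e 1, by decide +kernel,
      c03 _ (by decide +kernel) (by decide +kernel), c03 _ (by decide +kernel) (by decide +kernel),
      Or.inr ?_⟩
    rw [s03]
    have := hback h
    rw [htm] at this
    exact this
  · refine ⟨_, hcm g⁻¹, line (f 1 + e 2) (e 2), e 0, f 0, by decide +kernel,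
      cl _ (by decide +kernel) (by decide +kernel), cl _ (by decide +kernel) (by decide +kernel),
      Or.inl ?_⟩
    rw [sl]; exact hback h
  · refine ⟨_, hcm g⁻¹, line (f 1 + e 2) (e 2), e 0, f 0, by decide +kernel,
      cl _ (by decide +kernel) (by decide +kernel), cl _ (by decide +kernel) (by decide +kernel),
      Or.inr ?_⟩
    rw [sl, ← htm]; exact hback h
  · exact absurd (hno h) ha3
  · exact absurd (hno h) (FusionB2.not_bth S hs hwc hD)

/-- the fusion of `t`, given the exclusions of the classes `c2`, `t c2`, `alpha3` -/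
theorem fusion_of [Finite G] (hO : Cfsg.oddCore G = ⊥) (hZ : Subgroup.center G = ⊥)
    (S : Sit G Q t) (hs : SpinHyp S.rho) {ev : QM →* Subgroup.centralizer ({t} : Set G)}
    {D : ℕ → Subgroup.centralizer ({t} : Set G)} (R : Rels false (tc t) ev D)
    (hD : ∀ j, j < 7 → S.psi (D j) = transv (uv j) 1) (P : Pre (tc t) ev S.psi)
    (hc2 : ¬ IsConj t ((D 0 : G) * D 3)) (htc2 : ¬ IsConj t ((D 0 : G) * D 3 * t))
    (ha3 : ¬ IsConj t ((ev (dec 1) * lin D : Subgroup.centralizer ({t} : Set G)) : G)) :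
    ∀ x : Subgroup.centralizer ({t} : Set G), IsConj t (x : G) ↔ (x : G) = t ∨
      IsConj (D 0) x ∨ IsConj (tc t * (D 3 * D 5 * D 6)) x :=
  FusionB2.fusion_of hO hZ S hs R hD P (not_tb1 S hs (WeakB1.wc S hs) R hD) hc2 htc2 ha3
    (fun g hg => inf_b1 S hs (WeakB1.wc S hs) R hD g hg)

end Cfsg.Agent.Co2Type.FusionB3
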