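import Cfsg.Agent.Co2Type.ZMod2

/-!
# The facts on `Co₂` used in the closing argument, inside the group `G`
-/

set_option autoImplicit false

namespace Cfsg.Agent.Co2Type.GFacts

open Cfsg.Agent.Co2Type.Good

variable {G : Type*} [Group G]

/-- conjugate under `H` -/
def Cj (H : Subgroup G) (x w : G) : Prop := ∃ h ∈ H, h * x * h⁻¹ = w

/-- `T ∩ C(x)` -/
def ct (T : Subgroup G) (x : G) : Subgroup G := T ⊓ Subgroup.centralizer {x}

theorem mem_ct {T : Subgroup G} {x g : G} : g ∈ ct T x ↔ g ∈ T ∧ g * x = x * g := by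
  rw [ct, Subgroup.mem_inf, Subgroup.mem_centralizer_singleton_iff]

/-- the facts, without fusion in `G` -/
structure GF (H T E : Subgroup G) (z y v z1 z2 u p a b c d : G) : Prop where
  TH : T ≤ H
  T2 : IsPGroup 2 T
  cardT : Nat.card T = 2 ^ 18
  conjT : ∀ K : Subgroup G, T ≤ K → K ≤ H → ∀ R : Subgroup G, R ≤ K → IsPGroup 2 R →
    ∃ k ∈ K, ∀ r ∈ R, k * r * k⁻¹ ∈ T
  ET : E ≤ T
  Ec : ∀ e ∈ E, ∀ f ∈ E, e * f = f * e
  Es : ∀ e ∈ E, e * e = 1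
  zE : z ∈ E
  yE : y ∈ E
  z1E : z1 ∈ E
  z2E : z2 ∈ E
  uE : u ∈ E
  pE : p ∈ E
  aE : a ∈ E
  bE : b ∈ E
  cE : c ∈ E
  dE : d ∈ E
  zc : ∀ t ∈ T, t * z = z * t
  centT : ∀ t ∈ T, (∀ s ∈ T, s * t = t * s) → t = 1 ∨ t = z
  z_ne : z ≠ 1
  y_ne : y ≠ 1
  v_ne : v ≠ 1
  cls : ∀ x ∈ H, x * x = 1 → x ≠ 1 → Cj H z x ∨ Cj H y x ∨ Cj H v x
  nzy : ¬ Cj H z y
  c16 : ∀ x ∈ T, Cj H z x → x ≠ z → Nat.card (ct T x) ≤ 2 ^ 16
  c14 : ∀ x ∈ T, Cj H z x → Cj H v (z * x) → Nat.card (ct T x) ≤ 2 ^ 14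
  v_eq : v = z1 * z2
  z1A : Cj H z z1
  z2A : Cj H z z2
  cv : Nat.card (ct T v) = 2 ^ 15
  only_v : ∀ x ∈ T, x * v = v * x → Cj H z x → Cj H z (x * v) → x = z1 ∨ x = z2
  zy : Cj H y (z * y)
  zp : Cj H z (z * p)
  zyp : Cj H z (z * (y * p))
  p_ne : p ≠ 1
  cy : Nat.card (ct T y) = 2 ^ 17
  cyp : Nat.card (T ⊓ Subgroup.centralizer {y} ⊓ Subgroup.centralizer {p} : Subgroup G) = 2 ^ 16
  only_yp : ∀ x ∈ T, x * y = y * x → x * p = p * x → Cj H z x → Cj H y (x * y) → Cj H z (x * p) →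
    Cj H z (x * (y * p)) → x = z
  uA : Cj H z u
  u_comm : ∀ t ∈ T, t * y = y * t → t * u * t⁻¹ = u ∨ t * u * t⁻¹ = u * y
  uxy : ∀ x ∈ T, x * y = y * x → Cj H z x → Cj H y (x * y) →
    Cj H v (u * (x * y)) ∨ ∃ h ∈ H, h * y * h⁻¹ = y ∧ h * (u * (x * y)) * h⁻¹ = p
  aA : Cj H z a
  bA : Cj H z b
  cA : Cj H z c
  dA : Cj H z d
  abcdA : Cj H z (a * b * c * d)
  nab : a ≠ b
  nac : a ≠ c
  ncd : c ≠ d

theorem Cj.refl' {H : Subgroup G} (x : G) : Cj H x x := ⟨1, H.one_mem, by group⟩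

theorem Cj.trans' {H : Subgroup G} {x y z : G} (h : Cj H x y) (h' : Cj H y z) : Cj H x z := by
  obtain ⟨a, ha, rfl⟩ := h
  obtain ⟨b, hb, rfl⟩ := h'
  exact ⟨b * a, H.mul_mem hb ha, by group⟩

theorem Cj.symm' {H : Subgroup G} {x y : G} (h : Cj H x y) : Cj H y x := by
  obtain ⟨a, ha, rfl⟩ := h
  exact ⟨a⁻¹, H.inv_mem ha, by group⟩

theorem Cj.conj {H : Subgroup G} {x y k : G} (h : Cj H x y) (hk : k ∈ H) : Cj H x (k * y * k⁻¹) :=
  h.trans' ⟨k, hk, rfl⟩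

theorem Cj.good {H : Subgroup G} {x w : G} (h : Cj H x w) (hg : Good H x) : Good H w := by
  obtain ⟨k, hk, rfl⟩ := h
  exact hg.conj hk

theorem Cj.mem {H : Subgroup G} {x w : G} (h : Cj H x w) (hx : x ∈ H) : w ∈ H := by
  obtain ⟨k, hk, rfl⟩ := h
  exact H.mul_mem (H.mul_mem hk hx) (H.inv_mem hk)

/-- a 2-subgroup with a maximality property inside `L` is a Sylow 2-subgroup of `L` -/
theorem exists_sylow [Finite G] {L P0 : Subgroup G} (hle : P0 ≤ L) (h2 : IsPGroup 2 P0)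
    (hmax : ∀ N : Subgroup G, N ≤ L → IsPGroup 2 N → P0 ≤ N → N ≤ Subgroup.normalizer (P0 : Set G) → N ≤ P0) :
    ∃ P : Sylow 2 L, ∀ x : L, x ∈ P ↔ (x : G) ∈ P0 := by
  have : Fact (Nat.Prime 2) := ⟨Nat.prime_two⟩
  have key : ∀ R : Subgroup G, R ≤ L → IsPGroup 2 R → P0 ≤ R → R ≤ P0 := by
    intro R hR hR2 hPR
    by_contra hcon
    have hlt : P0 < R := lt_of_le_of_ne hPR (fun h => hcon (h ▸ le_rfl))
    have h3 := Cfsg.Agent.SporRec.MaxFix.lt_inf_normalizer hR2 hlt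
    have h4 := hmax (R ⊓ Subgroup.normalizer (P0 : Set G)) (inf_le_left.trans hR) (hR2.to_le inf_le_left) h3.le
      inf_le_right
    exact absurd (lt_of_lt_of_le h3 h4) (lt_irrefl _)
  have hsub : IsPGroup 2 (P0.subgroupOf L) := h2.comap_of_injective L.subtype (Subgroup.subtype_injective _)
  refine ⟨⟨P0.subgroupOf L, hsub, ?_⟩, ?_⟩
  · intro Q hQ hPQ
    apply le_antisymm _ hPQ
    intro x hx
    have h5 := key (Q.map L.subtype) (Subgroup.map_subtype_le _) (hQ.map _) (by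
      intro g hg
      exact ⟨⟨g, hle hg⟩, hPQ (Subgroup.mem_subgroupOf.2 hg), rfl⟩)
    exact Subgroup.mem_subgroupOf.2 (h5 ⟨x, hx, rfl⟩)
  · intro x
    exact Subgroup.mem_subgroupOf

namespace GF

variable {H T E : Subgroup G} {z y v z1 z2 u p a b c d : G} (F : GF H T E z y v z1 z2 u p a b c d)

include F

theorem zH : z ∈ H := F.TH (F.ET F.zE)
theorem yH : y ∈ H := F.TH (F.ET F.yE)
theorem uH : u ∈ H := F.TH (F.ET F.uE)
theorem pH : p ∈ H := F.TH (F.ET F.pE)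
theorem vE : v ∈ E := by rw [F.v_eq]; exact E.mul_mem F.z1E F.z2E
theorem vH : v ∈ H := F.TH (F.ET F.vE)
theorem zz : z * z = 1 := F.Es _ F.zE
theorem yy : y * y = 1 := F.Es _ F.yE
theorem vv : v * v = 1 := F.Es _ F.vE
theorem uu : u * u = 1 := F.Es _ F.uE
theorem pp : p * p = 1 := F.Es _ F.pE

/-- `C_G(z) ≤ H` gives `T ≤ C_G(z) ≤ H` -/
theorem T_le_cent : T ≤ Subgroup.centralizer {z} := fun t ht =>
  Subgroup.mem_centralizer_singleton_iff.2 (F.zc t ht)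

/-- bound for 2-groups commuting with `z` and another element of the class of `z` -/
theorem bound_z [Finite G] (hC : Subgroup.centralizer {z} ≤ H) {R : Subgroup G} (hR : IsPGroup 2 R)
    (hRz : ∀ r ∈ R, r * z = z * r) {x : G} (hx : Cj H z x) (hxz : x * z = z * x)
    (hRx : ∀ r ∈ R, r * x = x * r) :
    ∃ w ∈ T, Cj H z w ∧ (∃ k ∈ Subgroup.centralizer {z}, k * x * k⁻¹ = w) ∧ Nat.card R ≤ Nat.card (ct T w) := by
  have hxx : x * x = 1 := by
    obtain ⟨h, hh, rfl⟩ := hx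
    calc h * z * h⁻¹ * (h * z * h⁻¹) = h * (z * z) * h⁻¹ := by group
      _ = 1 := by rw [F.zz]; group
  have h2 : IsPGroup 2 (R ⊔ Subgroup.zpowers x : Subgroup G) := by
    have hp : IsPGroup 2 (Subgroup.zpowers x) := by
      by_cases h1 : x = 1
      · rw [h1, Subgroup.zpowers_one_eq_bot]; exact IsPGroup.of_bot
      · have : Fact (Nat.Prime 2) := ⟨Nat.prime_two⟩
        rw [IsPGroup.iff_card]
        exact ⟨1, by rw [Nat.card_zpowers, orderOf_eq_prime (by rw [pow_two, hxx]) h1, pow_one]⟩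
    rw [sup_comm]
    refine hp.to_sup_of_normal_right' hR ?_
    rw [Subgroup.zpowers_le, Subgroup.mem_normalizer_iff]
    intro r
    have hcm : ∀ r ∈ R, x * r * x⁻¹ = r := fun r hr => by rw [← hRx r hr, mul_inv_cancel_right]
    constructor
    · intro hr
      rw [hcm r hr]; exact hr
    · intro hr
      have h3 := hcm _ hr
      have h4 : r = x * r * x⁻¹ := by
        have h5 := congrArg (fun g => x⁻¹ * g * x) h3
        have e1 : x⁻¹ * (x * (x * r * x⁻¹) * x⁻¹) * x = x * r * x⁻¹ := by group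
        have e2 : x⁻¹ * (x * r * x⁻¹) * x = r := by group
        simp only [e1, e2] at h5
        exact h5.symm
      rw [h4]; exact hr
  have hle : R ⊔ Subgroup.zpowers x ≤ Subgroup.centralizer {z} := by
    rw [sup_le_iff, Subgroup.zpowers_le]
    exact ⟨fun r hr => Subgroup.mem_centralizer_singleton_iff.2 (hRz r hr),
      Subgroup.mem_centralizer_singleton_iff.2 hxz⟩
  obtain ⟨k, hk, hkT⟩ := F.conjT _ F.T_le_cent hC _ hle h2
  have hkH := hC hk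
  refine ⟨k * x * k⁻¹, hkT _ (Subgroup.mem_sup_right (Subgroup.mem_zpowers x)), hx.conj hkH, ⟨k, hk, rfl⟩, ?_⟩
  have h6 : R.map (MulAut.conj k).toMonoidHom ≤ ct T (k * x * k⁻¹) := by
    rintro _ ⟨r, hr, rfl⟩
    show k * r * k⁻¹ ∈ _
    rw [mem_ct]
    refine ⟨hkT r (Subgroup.mem_sup_left hr), ?_⟩
    calc k * r * k⁻¹ * (k * x * k⁻¹) = k * (r * x) * k⁻¹ := by group
      _ = k * (x * r) * k⁻¹ := by rw [hRx r hr]
      _ = k * x * k⁻¹ * (k * r * k⁻¹) := by group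
  have h7 := Subgroup.card_le_of_le h6
  have h8 : Nat.card (R.map (MulAut.conj k).toMonoidHom) = Nat.card R :=
    Subgroup.card_map_of_injective (MulAut.conj k).injective
  rwa [h8] at h7

/-- a 2-subgroup of `H` whose centraliser is in `H` is conjugated into `H` only by elements of `H` -/
theorem good_of_cent [Finite G] (hz : Good H z) {Y : Subgroup G} (hY2 : IsPGroup 2 Y)
    (hc : ∀ g : G, (∀ w ∈ Y, g * w = w * g) → g ∈ H) {g : G} (hg : ∀ w ∈ Y, g * w * g⁻¹ ∈ H) : g ∈ H := by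
  obtain ⟨k, hk, hkT⟩ := F.conjT H F.TH le_rfl (Y.map (MulAut.conj g).toMonoidHom) (by
    rintro _ ⟨w, hw, rfl⟩
    exact hg w hw) (hY2.map _)
  have h1 : ∀ w ∈ Y, (k * g) * w * (k * g)⁻¹ ∈ T := by
    intro w hw
    have := hkT (g * w * g⁻¹) ⟨w, hw, rfl⟩
    have e : (k * g) * w * (k * g)⁻¹ = k * (g * w * g⁻¹) * k⁻¹ := by group
    rw [e]; exact this
  have h2 : (k * g)⁻¹ * z * (k * g) ∈ H := by
    apply hc
    intro w hw
    have h3 := F.zc _ (h1 w hw)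
    calc (k * g)⁻¹ * z * (k * g) * w = (k * g)⁻¹ * (z * ((k * g) * w * (k * g)⁻¹)) * (k * g) := by group
      _ = (k * g)⁻¹ * (((k * g) * w * (k * g)⁻¹) * z) * (k * g) := by rw [h3]
      _ = w * ((k * g)⁻¹ * z * (k * g)) := by group
  have h3 : (k * g)⁻¹ ∈ H := hz _ (by rw [inv_inv]; exact h2)
  have h4 := H.inv_mem h3
  rw [inv_inv] at h4
  have h5 := H.mul_mem (H.inv_mem hk) h4
  rwa [inv_mul_cancel_left] at h5

theorem good_of_cent1 [Finite G] (hz : Good H z) {w : G} (hw : w * w = 1)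
    (hc : ∀ g : G, g * w = w * g → g ∈ H) : Good H w := by
  intro g hg
  have : Fact (Nat.Prime 2) := ⟨Nat.prime_two⟩
  refine F.good_of_cent hz (Y := Subgroup.zpowers w) ?_ ?_ ?_
  · by_cases h1 : w = 1
    · rw [h1, Subgroup.zpowers_one_eq_bot]; exact IsPGroup.of_bot
    · rw [IsPGroup.iff_card]
      exact ⟨1, by rw [Nat.card_zpowers, orderOf_eq_prime (by rw [pow_two, hw]) h1, pow_one]⟩
  · intro k hk
    exact hc k (hk w (Subgroup.mem_zpowers w))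
  · intro x hx
    obtain ⟨k, rfl⟩ := Subgroup.mem_zpowers_iff.1 hx
    have : g * w ^ k * g⁻¹ = (g * w * g⁻¹) ^ k := conj_zpow.symm
    rw [this]; exact H.zpow_mem hg k

/-- a subgroup of odd order normalised by `E` is in `H` -/
theorem odd_le [Finite G] (hz : Good H z) {X : Subgroup G} (hX : Odd (Nat.card X))
    (hn : ∀ e ∈ E, e ∈ Subgroup.normalizer (X : Set G)) : X ≤ H := by
  have hg : ∀ w : G, Cj H z w → ∀ x, x * w = w * x → x ∈ H := fun w hw x hx =>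
    (hw.good hz).cent (hw.mem F.zH) hx
  have hne : ∀ w : G, Cj H z w → w ≠ 1 := by
    rintro w ⟨h, hh, rfl⟩ h1
    apply F.z_ne
    calc z = h⁻¹ * (h * z * h⁻¹) * h := by group
      _ = 1 := by rw [h1]; group
  exact Good.odd_le hX (F.Es _ F.aE) (F.Es _ F.bE) (F.Es _ F.cE) (F.Es _ F.dE) (F.Ec _ F.aE _ F.bE)
    (F.Ec _ F.aE _ F.cE) (F.Ec _ F.aE _ F.dE) (F.Ec _ F.bE _ F.cE) (F.Ec _ F.bE _ F.dE) (F.Ec _ F.cE _ F.dE)
    (hne _ F.aA) (hne _ F.bA) (hne _ F.cA) (hne _ F.dA) F.nab F.nac F.ncd (hn _ F.aE) (hn _ F.bE) (hn _ F.cE)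
    (hn _ F.dE) (hg _ F.aA) (hg _ F.bA) (hg _ F.cA) (hg _ F.dA) (hg _ F.abcdA)

end GF

end Cfsg.Agent.Co2Type.GFacts
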