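import Cfsg.Agent.SporRec.MaxFix
import Cfsg.Agent.Dichotomy.Elem
import Cfsg.Agent.S0058
import Cfsg.Agent.S0215
import Cfsg.Agent.S1180

/-!
# Good elements and the `Z*`-step (closing argument for `Co₂`, R03)

`Good H x`: `x` is conjugated into `H` only by elements of `H`.
-/

set_option autoImplicit false

namespace Cfsg.Agent.Co2Type.Good

open Cfsg.Agent.Dichotomy.Elem

variable {G : Type*} [Group G]

/-- `x` is conjugated into `H` only by elements of `H` -/
def Good (H : Subgroup G) (x : G) : Prop := ∀ g : G, g * x * g⁻¹ ∈ H → g ∈ H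

/-- a pair is conjugated into `H` only by elements of `H` -/
def Good2 (H : Subgroup G) (x w : G) : Prop := ∀ g : G, g * x * g⁻¹ ∈ H → g * w * g⁻¹ ∈ H → g ∈ H

variable {H : Subgroup G}

theorem Good.two {x : G} (h : Good H x) (w : G) : Good2 H x w := fun g hg _ => h g hg

theorem Good.conj {x k : G} (h : Good H x) (hk : k ∈ H) : Good H (k * x * k⁻¹) := by
  intro g hg
  have h1 : g * k ∈ H := h (g * k) (by
    have e : g * k * x * (g * k)⁻¹ = g * (k * x * k⁻¹) * g⁻¹ := by group
    rw [e]; exact hg)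
  have h2 := H.mul_mem h1 (H.inv_mem hk)
  rwa [mul_inv_cancel_right] at h2

theorem Good2.conj {x w k : G} (h : Good2 H x w) (hk : k ∈ H) : Good2 H (k * x * k⁻¹) (k * w * k⁻¹) := by
  intro g hg hg'
  have e : ∀ x, g * k * x * (g * k)⁻¹ = g * (k * x * k⁻¹) * g⁻¹ := fun x => by group
  have h1 : g * k ∈ H := h (g * k) (by rw [e]; exact hg) (by rw [e]; exact hg')
  have h2 := H.mul_mem h1 (H.inv_mem hk)
  rwa [mul_inv_cancel_right] at h2

theorem Good.cent {x : G} (h : Good H x) (hx : x ∈ H) {g : G} (hg : g * x = x * g) : g ∈ H := by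
  apply h
  rw [hg, mul_inv_cancel_right]; exact hx

/-- `X` of odd order, normalised by the four-group `⟨a, b⟩`, is generated by its intersections with the three
centralisers. -/
theorem klein_le [Finite G] {X K : Subgroup G} (hX : Odd (Nat.card X)) {a b : G} (ha : a * a = 1) (hb : b * b = 1)
    (hab : a * b = b * a) (ha1 : a ≠ 1) (hb1 : b ≠ 1) (hne : a ≠ b)
    (na : a ∈ Subgroup.normalizer (X : Set G)) (nb : b ∈ Subgroup.normalizer (X : Set G))
    (h1 : ∀ x ∈ X, x * a = a * x → x ∈ K) (h2 : ∀ x ∈ X, x * b = b * x → x ∈ K)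
    (h3 : ∀ x ∈ X, x * (a * b) = (a * b) * x → x ∈ K) : X ≤ K := by
  have hel := elem_four ha hb hab
  have hcm := hel.1
  have h4 := card_four ha hb hab ha1 hb1 hne
  have hncyc : ¬ IsCyclic (four a b) := by
    intro hcyc
    obtain ⟨g, hg⟩ := IsCyclic.exists_generator (α := four a b)
    have h3 : orderOf g = Nat.card (four a b) := orderOf_eq_card_of_forall_mem_zpowers hg
    have h4' : g ^ 2 = 1 := by
      ext
      simpa using hel.2 g g.2
    have h5 : orderOf g ≤ 2 := orderOf_le_of_pow_eq_one (by norm_num) h4'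
    rw [h3, h4] at h5
    omega
  have hcop : (Nat.card (four a b)).Coprime (Nat.card X) := by
    rw [h4, show 4 = 2 ^ 2 from rfl]
    exact Nat.Coprime.pow_left 2 (Nat.coprime_two_left.2 hX)
  have h7 := Cfsg.Agent.S0058.result (four a b) X hncyc (four_le na nb) hcop
  rw [← h7]
  refine iSup₂_le ?_
  rintro c ⟨hc, hc1⟩ x hx
  rw [Subgroup.mem_inf, Subgroup.mem_centralizer_singleton_iff] at hx
  rcases (mem_four_iff ha hb hab).1 hc with rfl | rfl | rfl | rfl
  · exact absurd rfl hc1
  · exact h1 x hx.1 hx.2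
  · exact h2 x hx.1 hx.2
  · exact h3 x hx.1 hx.2

/-- five involutions `a, b, c, d, abcd` with centralisers in `H`, generating an elementary abelian group of order
16: a subgroup of odd order which they normalise lies in `H`. -/
theorem odd_le [Finite G] {X : Subgroup G} (hX : Odd (Nat.card X)) {a b c d : G}
    (ha : a * a = 1) (hb : b * b = 1) (hc : c * c = 1) (hd : d * d = 1)
    (hab : a * b = b * a) (hac : a * c = c * a) (had : a * d = d * a) (hbc : b * c = c * b) (hbd : b * d = d * b)
    (hcd : c * d = d * c) (ha1 : a ≠ 1) (hb1 : b ≠ 1) (hc1 : c ≠ 1) (hd1 : d ≠ 1) (nab : a ≠ b) (nac : a ≠ c)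
    (ncd : c ≠ d)
    (na : a ∈ Subgroup.normalizer (X : Set G)) (nb : b ∈ Subgroup.normalizer (X : Set G))
    (nc : c ∈ Subgroup.normalizer (X : Set G)) (nd : d ∈ Subgroup.normalizer (X : Set G))
    (ga : ∀ x, x * a = a * x → x ∈ H) (gb : ∀ x, x * b = b * x → x ∈ H)
    (gc : ∀ x, x * c = c * x → x ∈ H) (gd : ∀ x, x * d = d * x → x ∈ H)
    (gg : ∀ x, x * (a * b * c * d) = (a * b * c * d) * x → x ∈ H) : X ≤ H := by
  -- an invariant subgroup centralised by `w` which commutes with everything
  have hnorm : ∀ (Y : Subgroup G) (w k : G), k ∈ Subgroup.normalizer (Y : Set G) → k * w = w * k →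
      k ∈ Subgroup.normalizer ((Y ⊓ Subgroup.centralizer {w} : Subgroup G) : Set G) := by
    intro Y w k hk hkw
    rw [Subgroup.mem_normalizer_iff] at hk ⊢
    intro x
    rw [Subgroup.mem_inf, Subgroup.mem_inf, ← hk x, Subgroup.mem_centralizer_singleton_iff,
      Subgroup.mem_centralizer_singleton_iff]
    have hc : Commute k w := hkw
    constructor
    · rintro ⟨h1, h2⟩
      have h2' : Commute x w := h2
      exact ⟨h1, ((hc.mul_left h2').mul_left hc.inv_left).eq⟩
    · rintro ⟨h1, h2⟩
      have h2' : Commute (k * x * k⁻¹) w := h2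
      have h3 := ((hc.inv_left.mul_left h2').mul_left hc)
      have e : k⁻¹ * (k * x * k⁻¹) * k = x := by group
      rw [e] at h3
      exact ⟨h1, h3.eq⟩
  have hodd : ∀ {Y Z : Subgroup G}, Z ≤ Y → Odd (Nat.card Y) → Odd (Nat.card Z) := by
    intro Y Z h hY
    exact Odd.of_dvd_nat hY (Subgroup.card_dvd_of_le h)
  refine klein_le hX ha hb hab ha1 hb1 nab na nb (fun x _ => ga x) (fun x _ => gb x) ?_
  set X1 := X ⊓ Subgroup.centralizer {a * b} with hX1
  have h1 : X1 ≤ H := by
    have cab : ∀ k, k * a = a * k → k * b = b * k → k * (a * b) = (a * b) * k := by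
      intro k h h'
      exact ((show Commute k a from h).mul_right (show Commute k b from h')).eq
    refine klein_le (hodd inf_le_left hX) hc hd hcd hc1 hd1 ncd
      (hnorm X _ c nc (cab c hac.symm hbc.symm)) (hnorm X _ d nd (cab d had.symm hbd.symm))
      (fun x _ => gc x) (fun x _ => gd x) ?_
    set X2 := X1 ⊓ Subgroup.centralizer {c * d} with hX2
    have h2 : X2 ≤ H := by
      intro x hx
      rw [hX2, Subgroup.mem_inf, hX1, Subgroup.mem_inf, Subgroup.mem_centralizer_singleton_iff,
        Subgroup.mem_centralizer_singleton_iff] at hx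
      apply gg
      have h3 : Commute x (a * b) := hx.1.2
      have h4 : Commute x (c * d) := hx.2
      have := (h3.mul_right h4).eq
      rw [mul_assoc (a * b) c d]
      exact this
    intro x hx hxc
    exact h2 (Subgroup.mem_inf.2 ⟨hx, Subgroup.mem_centralizer_singleton_iff.2 hxc⟩)
  intro x hx hxc
  exact h1 (Subgroup.mem_inf.2 ⟨hx, Subgroup.mem_centralizer_singleton_iff.2 hxc⟩)

end Cfsg.Agent.Co2Type.Good
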