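import Cfsg.Agent.Co2Type.Rels

/-!
# Finite checks for the involution classes of `2^{1+8}_+ . Sp6(2)` (R03, helper902)
-/

set_option autoImplicit false

namespace Cfsg.Agent.Co2Type.InvData

open Cfsg.Agent.Co2Type.QModel Cfsg.Agent.Co2Type.Act Cfsg.Agent.Co2Type.Rels

/-- words of the four types: transvection, `c2`, line, `b3` -/
def rw' (k : ℕ) : List ℕ :=
  match k with
  | 0 => [0]
  | 1 => [0, 3]
  | 2 => [3, 5, 6]
  | _ => [0, 5, 6]

/-- tables `(m, y, w)`: the element with code `m` over the word is conjugate to a representative by `y`, `w` -/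
def invT (k : ℕ) : List (ℕ × ℕ × List ℕ) :=
  match k with
  | 0 =>
   [(0, 0, []),
    (2, 1, []),
    (8, 4, []),
    (10, 5, []),
    (32, 16, []),
    (34, 17, []),
    (40, 20, []),
    (42, 21, []),
    (128, 64, []),
    (130, 65, []),
    (136, 68, []),
    (138, 69, []),
    (160, 80, []),
    (162, 81, []),
    (168, 84, []),
    (170, 85, [])]
  | 1 =>
   [(0, 0, []),
    (18, 3, []),
    (32, 2, []),
    (50, 1, []),
    (73, 12, []),
    (91, 15, []),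
    (105, 14, []),
    (123, 13, []),
    (130, 8, []),
    (144, 11, []),
    (162, 10, []),
    (176, 9, []),
    (203, 4, []),
    (217, 7, []),
    (235, 6, []),
    (249, 5, [])]
  | 2 =>
   [(0, 0, []),
    (1, 0, []),
    (2, 0, [0,1]),
    (3, 0, [0]),
    (16, 4, []),
    (17, 4, []),
    (18, 12, [0,1]),
    (19, 12, [0]),
    (32, 8, []),
    (33, 8, []),
    (34, 4, [0,1]),
    (35, 8, [0]),
    (48, 12, []),
    (49, 12, []),
    (50, 8, [0,1]),
    (51, 4, [0]),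
    (64, 8, [2,3,4,3,5,6,2,3,4,2]),
    (65, 8, [2,3,6,2]),
    (80, 12, [2,3,4,3,5,6,2,3,4,2]),
    (81, 12, [2,3,6,2]),
    (96, 0, [2,3,4,3,5,6,2,3,4,2]),
    (97, 0, [2,3,6,2]),
    (112, 4, [2,3,4,3,5,6,2,3,4,2]),
    (113, 4, [2,3,6,2]),
    (128, 0, [0,1,2,3,4,3,5,6,2,3,4,2]),
    (130, 0, [0,1,2,3,6,2]),
    (144, 12, [0,1,2,3,4,3,5,6,2,3,4,2]),
    (146, 12, [0,1,2,3,6,2]),
    (160, 4, [0,1,2,3,4,3,5,6,2,3,4,2]),
    (162, 4, [0,1,2,3,6,2]),
    (176, 8, [0,1,2,3,4,3,5,6,2,3,4,2]),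
    (178, 8, [0,1,2,3,6,2]),
    (192, 8, [0,2,3,4,3,5,6,2,3,4,2]),
    (195, 8, [0,2,3,6,2]),
    (208, 4, [0,2,3,4,3,5,6,2,3,4,2]),
    (211, 4, [0,2,3,6,2]),
    (224, 0, [0,2,3,4,3,5,6,2,3,4,2]),
    (227, 0, [0,2,3,6,2]),
    (240, 12, [0,2,3,4,3,5,6,2,3,4,2]),
    (243, 12, [0,2,3,6,2])]
  | _ =>
   [(0, 0, []),
    (18, 3, []),
    (32, 2, []),
    (50, 1, []),
    (75, 15, []),
    (89, 12, []),
    (107, 13, []),
    (121, 14, []),
    (130, 10, []),
    (144, 9, []),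
    (162, 8, []),
    (176, 11, []),
    (201, 5, []),
    (219, 6, []),
    (233, 7, []),
    (251, 4, [])]

/-- the code of the conjugate modulo `t` -/
def cj (k m y : ℕ) (w : List ℕ) : ℕ := qmul (qmul y (autw w m)) (autw (rw' k) y)

theorem invT_lt : ∀ k, k < 4 → ∀ p ∈ invT k, ∀ j ∈ p.2.2, j < 7 := by decide +kernel

theorem invT_comm : ∀ k, k < 4 → ∀ p ∈ invT k, sameB (p.2.2 ++ rw' k) (rw' k ++ p.2.2) = true := by
  decide +kernel

theorem invT_ok : ∀ k, k < 4 → ∀ p ∈ invT k, cj k p.1 p.2.1 p.2.2 = 0 ∨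
    cj k p.1 p.2.1 p.2.2 = 256 ∨
    (k = 2 ∧ (cj k p.1 p.2.1 p.2.2 = 1 ∨ cj k p.1 p.2.1 p.2.2 = 257)) := by decide +kernel

/-- the square condition -/
def chk (k m : ℕ) : Bool :=
  (fun n => Nat.ble n 511 && (cond (Nat.beq n 0) ((invT k).any fun p => Nat.beq p.1 m) true) &&
    (cond (Nat.ble k 1) (!Nat.beq n 256) true)) (qmul m (autw (rw' k) m))

theorem chk_ok : ∀ k, k < 4 → ∀ m, m < 256 → chk k m = true := by decide +kernel

theorem inv_cov (k : ℕ) (hk : k < 4) (m : ℕ) (hm : m < 256) (h : qmul m (autw (rw' k) m) = 0) :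
    ∃ p ∈ invT k, p.1 = m := by
  have h1 := chk_ok k hk m hm
  simp only [chk, h, Bool.and_eq_true] at h1
  have h2 := h1.1.2
  simp only [show Nat.beq 0 0 = true from rfl, cond_true, List.any_eq_true] at h2
  obtain ⟨p, hp, h3⟩ := h2
  exact ⟨p, hp, Nat.eq_of_beq_eq_true h3⟩

theorem inv_lt (k : ℕ) (hk : k < 4) (m : ℕ) (hm : m < 256) : qmul m (autw (rw' k) m) < 512 := by
  have h1 := chk_ok k hk m hm
  simp only [chk, Bool.and_eq_true] at h1
  have h2 := Nat.le_of_ble_eq_true h1.1.1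
  omega

theorem inv_ne (k : ℕ) (hk : k < 2) (m : ℕ) (hm : m < 256) : qmul m (autw (rw' k) m) ≠ 256 := by
  intro h
  have h1 := chk_ok k (by omega) m hm
  simp only [chk, Bool.and_eq_true] at h1
  have h2 := h1.2
  rw [h] at h2
  have h3 : Nat.ble k 1 = true := Nat.ble_eq_true_of_le (by omega)
  rw [h3] at h2
  exact absurd h2 (by decide)

theorem split_code : ∀ m, m < 512 → (m &&& 255) < 256 ∧
    (m = m &&& 255 ∨ m = qmul (m &&& 255) 256) := by
  decide +kernel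

theorem sq_code : ∀ m, m < 512 → qmul m m = 0 ∨ qmul m m = 256 := by decide +kernel

theorem a3_conj : qmul (qmul 128 1) (autw (rw' 2) 128) = qmul 1 256 ∧ qmul 128 128 = 0 := by decide +kernel

theorem b3_conj : qmul 75 (autw (rw' 3) (qmul 75 (qmul 75 75))) = 256 := by decide +kernel

end Cfsg.Agent.Co2Type.InvData
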