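import Cfsg.Agent.Co2Type.PresDef

/-!
# Identification by a fibre product

If every group generated by elements with the relations `PG` has order at most `n`, and `K` is a simple group of order
`n` generated by such elements, then every group generated by such elements with `i ≠ 1` is isomorphic to `K` with
matching generators.
-/

set_option autoImplicit false

namespace Cfsg.Agent.Co2Type.IsoFib

open Cfsg.Agent.Co2Type.PresDef

universe u v

theorem pg_prod {G K : Type*} [Group G] [Group K] {a b c d e f g h i : G} {a' b' c' d' e' f' g' h' i' : K}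
    (P : PG a b c d e f g h i) (P' : PG a' b' c' d' e' f' g' h' i') :
    PG (a, a') (b, b') (c, c') (d, d') (e, e') (f, f') (g, g') (h, h') (i, i') where
  aa := Prod.ext P.aa P'.aa
  bb := Prod.ext P.bb P'.bb
  cc := Prod.ext P.cc P'.cc
  dd := Prod.ext P.dd P'.dd
  ee := Prod.ext P.ee P'.ee
  ff := Prod.ext P.ff P'.ff
  gg := Prod.ext P.gg P'.gg
  ii := Prod.ext P.ii P'.ii
  ab := Prod.ext P.ab P'.ab
  ad := Prod.ext P.ad P'.ad
  ae := Prod.ext P.ae P'.ae
  af := Prod.ext P.af P'.af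
  ag := Prod.ext P.ag P'.ag
  ai := Prod.ext P.ai P'.ai
  bc := Prod.ext P.bc P'.bc
  be := Prod.ext P.be P'.be
  bf := Prod.ext P.bf P'.bf
  bg := Prod.ext P.bg P'.bg
  bi := Prod.ext P.bi P'.bi
  ce := Prod.ext P.ce P'.ce
  cf := Prod.ext P.cf P'.cf
  cg := Prod.ext P.cg P'.cg
  ci := Prod.ext P.ci P'.ci
  df := Prod.ext P.df P'.df
  di := Prod.ext P.di P'.di
  eg := Prod.ext P.eg P'.eg
  ei := Prod.ext P.ei P'.ei
  fi := Prod.ext P.fi P'.fi
  gi := Prod.ext P.gi P'.gi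
  ac := Prod.ext P.ac P'.ac
  cd := Prod.ext P.cd P'.cd
  db := Prod.ext P.db P'.db
  de := Prod.ext P.de P'.de
  ef := Prod.ext P.ef P'.ef
  fg := Prod.ext P.fg P'.fg
  dg := Prod.ext P.dg P'.dg
  r1 := Prod.ext P.r1 P'.r1
  r2 := Prod.ext P.r2 P'.r2
  r3 := Prod.ext P.r3 P'.r3
  r4 := Prod.ext P.r4 P'.r4
  hh := Prod.ext P.hh P'.hh
  ah := Prod.ext P.ah P'.ah
  bh := Prod.ext P.bh P'.bh
  ch := Prod.ext P.ch P'.ch
  dh := Prod.ext P.dh P'.dh
  eh := Prod.ext P.eh P'.eh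
  fh := Prod.ext P.fh P'.fh
  hi := Prod.ext P.hi P'.hi
  gh := Prod.ext P.gh P'.gh
  r5 := Prod.ext P.r5 P'.r5

/-- **Abstract fibre product argument.** `S` a set of pairs of generators. -/
theorem exists_iso_pairs {n : ℕ} (hn : n ≠ 0) {G : Type u} [Group G] {K : Type v} [Group K] [IsSimpleGroup K]
    (S : Set (G × K)) (hgen : Subgroup.closure (Prod.snd '' S) = ⊤) (hK : Nat.card K = n)
    (hfin : Finite (Subgroup.closure S)) (hle : Nat.card (Subgroup.closure S) ≤ n)
    (hne : ∃ x ∈ S, x.1 ≠ 1) :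
    ∃ e : Subgroup.closure (Prod.fst '' S) ≃* K,
      ∀ x ∈ S, ∀ hx : x.1 ∈ Subgroup.closure (Prod.fst '' S), e ⟨x.1, hx⟩ = x.2 := by
  set F := Subgroup.closure S with hF
  have fK : Finite K := Nat.finite_of_card_ne_zero (by rw [hK]; exact hn)
  have m2 : F.map (MonoidHom.snd G K) = ⊤ := by
    rw [hF, MonoidHom.map_closure]
    exact hgen
  have m1 : F.map (MonoidHom.fst G K) = Subgroup.closure (Prod.fst '' S) := by
    rw [hF, MonoidHom.map_closure]
    rfl
  set p2 : F →* K := (MonoidHom.snd G K).comp F.subtype with hp2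
  have s2 : Function.Surjective p2 := by
    intro y
    have hy : y ∈ F.map (MonoidHom.snd G K) := by rw [m2]; exact Subgroup.mem_top _
    obtain ⟨x, hx, rfl⟩ := hy
    exact ⟨⟨x, hx⟩, rfl⟩
  have c2 : Nat.card F = Nat.card K :=
    le_antisymm (by rw [hK]; exact hle) (Nat.card_le_card_of_surjective p2 s2)
  have b2 : Function.Bijective p2 := (Nat.bijective_iff_surjective_and_card p2).2 ⟨s2, c2⟩
  let e2 : F ≃* K := MulEquiv.ofBijective p2 b2
  have hFs : IsSimpleGroup F := e2.isSimpleGroup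
  have hmem : ∀ y : F, (y : G × K).1 ∈ Subgroup.closure (Prod.fst '' S) := by
    intro y
    rw [← m1]
    exact ⟨y.1, y.2, rfl⟩
  set p1 : F →* Subgroup.closure (Prod.fst '' S) :=
    ((MonoidHom.fst G K).comp F.subtype).codRestrict (Subgroup.closure (Prod.fst '' S)) hmem with hp1
  have s1 : Function.Surjective p1 := by
    rintro ⟨y, hy⟩
    have h1 := hy
    rw [← m1] at h1
    obtain ⟨x, hx, rfl⟩ := h1
    exact ⟨⟨x, hx⟩, rfl⟩
  have i1 : Function.Injective p1 := by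
    rw [← MonoidHom.ker_eq_bot_iff]
    rcases (inferInstance : p1.ker.Normal).eq_bot_or_eq_top with h | h
    · exact h
    · exfalso
      obtain ⟨x, hx, hx1⟩ := hne
      apply hx1
      have h1 : (⟨x, Subgroup.subset_closure hx⟩ : F) ∈ p1.ker := by rw [h]; exact Subgroup.mem_top _
      exact congrArg Subtype.val ((MonoidHom.mem_ker).1 h1)
  let e1 : F ≃* Subgroup.closure (Prod.fst '' S) := MulEquiv.ofBijective p1 ⟨i1, s1⟩
  refine ⟨e1.symm.trans e2, fun x hx hx1 => ?_⟩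
  have k1 : e1.symm ⟨x.1, hx1⟩ = ⟨x, Subgroup.subset_closure hx⟩ := by
    rw [MulEquiv.symm_apply_eq]; rfl
  rw [MulEquiv.trans_apply, k1]
  rfl

/-- **Identification of the group with the relations `PG`.** -/
theorem exists_iso {n : ℕ} (hn : n ≠ 0)
    (bound : ∀ (X : Type (max u v)) [Group X] (a b c d e f g h i : X), PG a b c d e f g h i →
      Finite (Subgroup.closure ({a, b, c, d, e, f, g, h, i} : Set X)) ∧
        Nat.card (Subgroup.closure ({a, b, c, d, e, f, g, h, i} : Set X)) ≤ n)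
    {G : Type u} [Group G] {a b c d e f g h i : G} (P : PG a b c d e f g h i) (hi : i ≠ 1)
    {K : Type v} [Group K] [IsSimpleGroup K] {a' b' c' d' e' f' g' h' i' : K} (P' : PG a' b' c' d' e' f' g' h' i')
    (hgen : Subgroup.closure ({a', b', c', d', e', f', g', h', i'} : Set K) = ⊤) (hK : Nat.card K = n) :
    ∃ E : Subgroup.closure ({a, b, c, d, e, f, g, h, i} : Set G) ≃* K,
      (∀ hx, E ⟨a, hx⟩ = a') ∧ (∀ hx, E ⟨b, hx⟩ = b') ∧ (∀ hx, E ⟨c, hx⟩ = c') ∧ (∀ hx, E ⟨d, hx⟩ = d') ∧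
      (∀ hx, E ⟨e, hx⟩ = e') ∧ (∀ hx, E ⟨f, hx⟩ = f') ∧ (∀ hx, E ⟨g, hx⟩ = g') ∧ (∀ hx, E ⟨h, hx⟩ = h') ∧
      (∀ hx, E ⟨i, hx⟩ = i') := by
  obtain ⟨fF, cF⟩ := bound (G × K) _ _ _ _ _ _ _ _ _ (pg_prod P P')
  have e1 : Prod.fst '' ({(a, a'), (b, b'), (c, c'), (d, d'), (e, e'), (f, f'), (g, g'), (h, h'), (i, i')} :
      Set (G × K)) = {a, b, c, d, e, f, g, h, i} := by
    simp only [Set.image_insert_eq, Set.image_singleton]
  have e2 : Prod.snd '' ({(a, a'), (b, b'), (c, c'), (d, d'), (e, e'), (f, f'), (g, g'), (h, h'), (i, i')} :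
      Set (G × K)) = {a', b', c', d', e', f', g', h', i'} := by
    simp only [Set.image_insert_eq, Set.image_singleton]
  have key := exists_iso_pairs hn
    ({(a, a'), (b, b'), (c, c'), (d, d'), (e, e'), (f, f'), (g, g'), (h, h'), (i, i')} : Set (G × K))
    (by rw [e2]; exact hgen) hK fF cF ⟨(i, i'), by simp, hi⟩
  rw [e1] at key
  obtain ⟨E, hE⟩ := key
  exact ⟨E, hE (a, a') (by simp), hE (b, b') (by simp), hE (c, c') (by simp), hE (d, d') (by simp),
    hE (e, e') (by simp), hE (f, f') (by simp), hE (g, g') (by simp), hE (h, h') (by simp), hE (i, i') (by simp)⟩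

end Cfsg.Agent.Co2Type.IsoFib
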