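import Cfsg.Agent.Co2Type.UpMain
import Cfsg.Agent.Co2Type.CardCo2
import Cfsg.Agent.S0402

/-!
# Identification of groups satisfying the presentation of `Co₂` by a fibre product (R03, helper903)

* `exists_iso` : if `a, …, i` satisfy `PG` in `G` and `i ≠ 1`, and `A, …, I` satisfy `PG` in `Spor.Co2` and generate it,
  then there is an injective homomorphism `φ : Spor.Co2 →* G` with `φ A = a`, …, and range `closure {a, …, i}`.
-/

set_option autoImplicit false

namespace Cfsg.Agent.Co2Type.IsoPhi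

open Cfsg Cfsg.Agent.Co2Type.PresDef

universe u v

/-- the group generated by nine elements -/
def cl {G : Type*} [Group G] (a b c d e f g h i : G) : Subgroup G :=
  Subgroup.closure {a, b, c, d, e, f, g, h, i}

theorem pg_prod {G K : Type*} [Group G] [Group K] {a b c d e f g h i : G} {a' b' c' d' e' f' g' h' i' : K}
    (P : PG a b c d e f g h i) (Q : PG a' b' c' d' e' f' g' h' i') :
    PG (a, a') (b, b') (c, c') (d, d') (e, e') (f, f') (g, g') (h, h') (i, i') where
  aa := Prod.ext P.aa Q.aa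
  bb := Prod.ext P.bb Q.bb
  cc := Prod.ext P.cc Q.cc
  dd := Prod.ext P.dd Q.dd
  ee := Prod.ext P.ee Q.ee
  ff := Prod.ext P.ff Q.ff
  gg := Prod.ext P.gg Q.gg
  ii := Prod.ext P.ii Q.ii
  ab := Prod.ext P.ab Q.ab
  ad := Prod.ext P.ad Q.ad
  ae := Prod.ext P.ae Q.ae
  af := Prod.ext P.af Q.af
  ag := Prod.ext P.ag Q.ag
  ai := Prod.ext P.ai Q.ai
  bc := Prod.ext P.bc Q.bc
  be := Prod.ext P.be Q.be
  bf := Prod.ext P.bf Q.bf
  bg := Prod.ext P.bg Q.bg
  bi := Prod.ext P.bi Q.bi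
  ce := Prod.ext P.ce Q.ce
  cf := Prod.ext P.cf Q.cf
  cg := Prod.ext P.cg Q.cg
  ci := Prod.ext P.ci Q.ci
  df := Prod.ext P.df Q.df
  di := Prod.ext P.di Q.di
  eg := Prod.ext P.eg Q.eg
  ei := Prod.ext P.ei Q.ei
  fi := Prod.ext P.fi Q.fi
  gi := Prod.ext P.gi Q.gi
  ac := Prod.ext P.ac Q.ac
  cd := Prod.ext P.cd Q.cd
  db := Prod.ext P.db Q.db
  de := Prod.ext P.de Q.de
  ef := Prod.ext P.ef Q.ef
  fg := Prod.ext P.fg Q.fg
  dg := Prod.ext P.dg Q.dg
  r1 := Prod.ext P.r1 Q.r1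
  r2 := Prod.ext P.r2 Q.r2
  r3 := Prod.ext P.r3 Q.r3
  r4 := Prod.ext P.r4 Q.r4
  hh := Prod.ext P.hh Q.hh
  ah := Prod.ext P.ah Q.ah
  bh := Prod.ext P.bh Q.bh
  ch := Prod.ext P.ch Q.ch
  dh := Prod.ext P.dh Q.dh
  eh := Prod.ext P.eh Q.eh
  fh := Prod.ext P.fh Q.fh
  hi := Prod.ext P.hi Q.hi
  gh := Prod.ext P.gh Q.gh
  r5 := Prod.ext P.r5 Q.r5

/-- **Fibre product, abstract form.** -/
theorem exists_hom_of_sets {G : Type u} {K : Type v} [Group G] [Group K] [IsSimpleGroup K] {n : ℕ} (hn : n ≠ 0)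
    (hK : Nat.card K = n) (S : Set (G × K)) (hS : Subgroup.closure (Prod.snd '' S) = (⊤ : Subgroup K))
    (hb : Finite (Subgroup.closure S) ∧ Nat.card (Subgroup.closure S) ≤ n) (h1 : ∃ s ∈ S, s.1 ≠ 1) :
    ∃ φ : K →* G, Function.Injective φ ∧ (∀ s ∈ S, φ s.2 = s.1) ∧
      φ.range = Subgroup.closure (Prod.fst '' S) := by
  obtain ⟨fF, cF⟩ := hb
  set F := Subgroup.closure S with hF
  have fK : Finite K := Nat.finite_of_card_ne_zero (by rw [hK]; exact hn)
  set p2 : F →* K := (MonoidHom.snd G K).comp F.subtype with hp2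
  have s2 : Function.Surjective p2 := by
    rw [← MonoidHom.range_eq_top, eq_top_iff, ← hS, Subgroup.closure_le]
    rintro y ⟨s, hs, rfl⟩
    exact ⟨⟨s, Subgroup.subset_closure hs⟩, rfl⟩
  have c2 : Nat.card F = Nat.card K :=
    le_antisymm (by rw [hK]; exact cF) (Nat.card_le_card_of_surjective p2 s2)
  have b2 : Function.Bijective p2 := (Nat.bijective_iff_surjective_and_card p2).2 ⟨s2, c2⟩
  let e2 : F ≃* K := MulEquiv.ofBijective p2 b2
  have hFs : IsSimpleGroup F := e2.isSimpleGroup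
  let p1 : F →* G := (MonoidHom.fst G K).comp F.subtype
  have i1 : Function.Injective p1 := by
    rw [← MonoidHom.ker_eq_bot_iff]
    rcases (inferInstance : p1.ker.Normal).eq_bot_or_eq_top with h | h
    · exact h
    · exfalso
      obtain ⟨s, hs, hs1⟩ := h1
      apply hs1
      have h2 : (⟨s, Subgroup.subset_closure hs⟩ : F) ∈ p1.ker := by rw [h]; exact Subgroup.mem_top _
      exact MonoidHom.mem_ker.1 h2
  have key : ∀ s (hs : s ∈ S), e2.symm s.2 = ⟨s, Subgroup.subset_closure hs⟩ := by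
    intro s hs
    rw [MulEquiv.symm_apply_eq]
    rfl
  refine ⟨p1.comp e2.symm.toMonoidHom, ?_, ?_, ?_⟩
  · exact i1.comp e2.symm.injective
  · intro s hs
    show p1 (e2.symm s.2) = s.1
    rw [key s hs]
    rfl
  · have h2 : (p1.comp e2.symm.toMonoidHom).range = p1.range := by
      ext y
      constructor
      · rintro ⟨z, rfl⟩
        exact ⟨e2.symm z, rfl⟩
      · rintro ⟨z, rfl⟩
        exact ⟨e2 z, by show p1 (e2.symm (e2 z)) = _; rw [e2.symm_apply_apply]⟩
    rw [h2]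
    show ((MonoidHom.fst G K).comp F.subtype).range = _
    rw [MonoidHom.range_comp, Subgroup.range_subtype, hF, MonoidHom.map_closure]
    rfl

/-- `Spor.Co2` is simple. -/
theorem simple_co2 : IsSimpleGroup Spor.Co2 := by
  have h : IsSimpleGroup (MulAction.stabilizer Co0 Spor.leechU) := (Cfsg.Agent.S0402.result Spor.leechU (by
    show sqNorm Spor.vecU = 32
    decide +kernel)).1
  have e : (MulAction.stabilizer Co0 Spor.leechU) ≃* Spor.Co2 :=
    ((MulAction.stabilizer Co0 Spor.leechU).equivMapOfInjective Co0.subtype Co0.subtype_injective).trans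
      (MulEquiv.subgroupCongr CardCo2.map_stabilizer)
  exact e.symm.isSimpleGroup

/-- **Identification of groups with `PG`.** -/
theorem iso_of_PG {G : Type u} [Group G] {a b c d e f g h i : G} (P : PG a b c d e f g h i) (hi : i ≠ 1)
    {A B C D E F Gg Hh I : Spor.Co2} (PM : PG A B C D E F Gg Hh I)
    (gen : Subgroup.closure {A, B, C, D, E, F, Gg, Hh, I} = (⊤ : Subgroup Spor.Co2)) :
    ∃ φ : Spor.Co2 →* G, Function.Injective φ ∧
      (φ A = a ∧ φ B = b ∧ φ C = c ∧ φ D = d ∧ φ E = e ∧ φ F = f ∧ φ Gg = g ∧ φ Hh = h ∧ φ I = i) ∧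
      φ.range = Subgroup.closure {a, b, c, d, e, f, g, h, i} := by
  have := simple_co2
  obtain ⟨φ, h1, h2, h3⟩ := exists_hom_of_sets (n := 42305421312000) (by norm_num) CardCo2.card_co2
    ({(a, A), (b, B), (c, C), (d, D), (e, E), (f, F), (g, Gg), (h, Hh), (i, I)} : Set (G × Spor.Co2))
    (by
      rw [← gen]
      congr 1
      simp only [Set.image_insert_eq, Set.image_singleton])
    (UpMain.card_le (pg_prod P PM)) ⟨(i, I), by simp, hi⟩
  refine ⟨φ, h1, ⟨h2 (a, A) (by simp), h2 (b, B) (by simp), h2 (c, C) (by simp), h2 (d, D) (by simp),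
    h2 (e, E) (by simp), h2 (f, F) (by simp), h2 (g, Gg) (by simp), h2 (h, Hh) (by simp), h2 (i, I) (by simp)⟩, ?_⟩
  rw [h3]
  congr 1
  simp only [Set.image_insert_eq, Set.image_singleton]

end Cfsg.Agent.Co2Type.IsoPhi
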