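import Cfsg.Agent.SporRec.TwoSp6.Invol

/-!
# Elements of order 7 of `Sp6(2)` (R03, letter B, helper595)

An element of order 7 fixes no nonzero vector and commutes with no involution.
-/

set_option autoImplicit false
open Cfsg

namespace Cfsg.Agent.Co2Type.Seven

open Cfsg.Agent.SporRec.TwoSp6.Sp Cfsg.Agent.SporRec.TwoSp6.Invol

/-- the action of `Sp6(2)` on its natural module -/
@[reducible] def mulAct : MulAction S V where
  smul g x := act g x
  one_smul := act_one
  mul_smul := act_mul

theorem card_V : Nat.card V = 64 := by
  rw [Nat.card_eq_fintype_card]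
  simp [V, ZMod.card]

/-- an element of order `7` has no nonzero fixed vector -/
theorem act_ne_self {y : S} (h7 : y ^ 7 = 1) (h1 : y ≠ 1) {p : V} (hp : p ≠ 0) : act y p ≠ p := by
  classical
  intro hfix
  let _ : MulAction S V := mulAct
  have horb : (MulAction.orbit S p) = {x : V | x ≠ 0} := by
    ext x
    constructor
    · rintro ⟨g, rfl⟩
      exact act_ne hp
    · intro hx
      obtain ⟨g, hg⟩ := exists_act hp hx
      exact ⟨g, hg⟩
  have h63 : Nat.card (MulAction.orbit S p) = 63 := by
    rw [horb]
    have h := Set.ncard_compl (s := ({0} : Set V))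
    rw [Set.ncard_singleton, card_V] at h
    have h2 : ({0} : Set V)ᶜ = {x : V | x ≠ 0} := by ext x; simp
    rw [h2] at h
    exact h
  have e1 := Nat.card_congr (MulAction.orbitEquivQuotientStabilizer S p)
  have e2 : Nat.card (S ⧸ MulAction.stabilizer S p) = 63 := e1.symm.trans h63
  have hprod' : Nat.card (MulAction.stabilizer S p) * 63 = Nat.card S := by
    rw [← Subgroup.card_mul_index (MulAction.stabilizer S p)]
    exact congrArg _ e2.symm
  rw [card_S] at hprod'
  have hst : Nat.card (MulAction.stabilizer S p) = 23040 := by omega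
  have hy : y ∈ MulAction.stabilizer S p := hfix
  have h7p : Fact (Nat.Prime 7) := ⟨by norm_num⟩
  have ho : orderOf y = 7 := orderOf_eq_prime h7 h1
  have hd : orderOf (⟨y, hy⟩ : MulAction.stabilizer S p) ∣ Nat.card (MulAction.stabilizer S p) :=
    orderOf_dvd_natCard _
  rw [Subgroup.orderOf_mk, ho, hst] at hd
  exact absurd hd (by norm_num)

theorem act_pow (y : S) (x : V) (n : ℕ) : act (y ^ (n + 1)) x = act y (act (y ^ n) x) := by
  rw [pow_succ', act_mul]

/-- a vector with a short orbit is fixed -/
theorem act_ne_short {y : S} (h7 : y ^ 7 = 1) (h1 : y ≠ 1) {p : V} (hp : p ≠ 0)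
    (h : act y (act y p) = p ∨ act y (act y (act y p)) = p) : False := by
  apply act_ne_self h7 h1 hp
  have h6 : act y (act y (act y (act y (act y (act y p))))) = p := by
    rcases h with h | h
    · rw [h, h, h]
    · rw [h, h]
  have e7 : act (y ^ 7) p = act y (act y (act y (act y (act y (act y (act y p)))))) := by
    rw [act_pow, act_pow, act_pow, act_pow, act_pow, act_pow, pow_one]
  rw [h7, act_one, h6] at e7
  exact e7.symm

/-- nondegeneracy -/
theorem eq_of_om {p p' : V} (h : ∀ a, om a p = om a p') : p = p' := by
  apply eq_of_add_eq_zero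
  by_contra hne
  obtain ⟨a, ha⟩ := exists_om_one hne
  rw [om_symm, om_add, h a] at ha
  have : ∀ z : ZMod 2, z + z = 0 := by decide
  rw [this] at ha
  exact absurd ha (by decide)

theorem om_mul_self (a p : V) : om a p * om a p = om a p := by
  rcases om_cases a p with h | h <;> rw [h] <;> decide

/-- an element of order `7` commutes with no involution -/
theorem not_comm {x y : S} (hx : x * x = 1) (hx1 : x ≠ 1) (h7 : y ^ 7 = 1) (h1 : y ≠ 1)
    (hc : y * x = x * y) : False := by
  have hyx : ∀ a, act y (act x a) = act x (act y a) := by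
    intro a
    rw [← act_mul, hc, act_mul]
  -- the canonical vector
  have key : ∀ p, p ≠ 0 → (∀ a, om a (act x a) = om a p) → False := by
    intro p hp hq
    refine act_ne_self h7 h1 hp ?_
    apply eq_of_om
    intro a
    obtain ⟨b, rfl⟩ : ∃ b, a = act y b := ⟨act y⁻¹ a, by rw [← act_mul, mul_inv_cancel, act_one]⟩
    rw [act_om, ← hq, ← hq, ← hyx, act_om]
  rcases classify hx hx1 with ⟨u, hu, rfl⟩ | ⟨u, w, hu, hw, hwu, huw, rfl⟩ |
    ⟨u, w, hu, hw, hwu, huw, rfl⟩ | ⟨u, w, s, hind, hort, rfl⟩
  · refine key u hu fun a => ?_
    rw [act_tr, om_add, om_self, zero_add, om_smul, om_mul_self]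
  · refine key (u + w) (fun h => hwu (eq_of_add_eq_zero h).symm) fun a => ?_
    rw [act_mul, act_tr, act_tr, om_add, om_add, om_self, zero_add, om_smul, om_smul, om_mul_self,
      om_add', om_smul', om_symm w u, huw, mul_zero, add_zero, om_mul_self, om_add]
    ring
  · -- image of `x + 1`
    have him : ∀ a, act y (om a w • u + om a u • w) =
        om (act y a) w • u + om (act y a) u • w := by
      intro a
      have e1 := hyx a
      rw [tr3_apply huw, tr3_apply huw, act_add] at e1
      exact add_left_cancel e1
    have hval : ∀ a : V, om a w • u + om a u • w = 0 ∨ om a w • u + om a u • w = u ∨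
        om a w • u + om a u • w = w ∨ om a w • u + om a u • w = u + w := by
      intro a
      rcases om_cases a w with e1 | e1 <;> rcases om_cases a u with e2 | e2 <;> rw [e1, e2]
      · left; simp
      · right; right; left; simp
      · right; left; simp
      · right; right; right; simp
    have huw0 : u + w ≠ 0 := fun h => hwu (eq_of_add_eq_zero h).symm
    have hU : act y u = u ∨ act y u = w ∨ act y u = u + w := by
      obtain ⟨a, ha1, ha2⟩ := exists_om_one_zero hw hwu
      have e1 := him a
      rw [om_symm a w, om_symm a u, ha1, ha2, one_smul, zero_smul, add_zero] at e1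
      rcases hval (act y a) with h | h | h | h <;> rw [h] at e1
      · exact absurd e1 (act_ne hu)
      · exact Or.inl e1
      · exact Or.inr (Or.inl e1)
      · exact Or.inr (Or.inr e1)
    have hW : act y w = u ∨ act y w = w ∨ act y w = u + w := by
      obtain ⟨a, ha1, ha2⟩ := exists_om_one_zero hu (Ne.symm hwu)
      have e1 := him a
      rw [om_symm a w, om_symm a u, ha1, ha2, one_smul, zero_smul, zero_add] at e1
      rcases hval (act y a) with h | h | h | h <;> rw [h] at e1
      · exact absurd e1 (act_ne hw)
      · exact Or.inl e1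
      · exact Or.inr (Or.inl e1)
      · exact Or.inr (Or.inr e1)
    have hcanc1 : u + (u + w) = w := by rw [← add_assoc, add_self, zero_add]
    have hcanc2 : w + (u + w) = u := by rw [add_comm u w, ← add_assoc, add_self, zero_add]
    rcases hU with e1 | e1 | e1
    · exact act_ne_self h7 h1 hu e1
    · rcases hW with e2 | e2 | e2
      · exact act_ne_short h7 h1 hu (Or.inl (by rw [e1, e2]))
      · exact act_ne_self h7 h1 hw e2
      · refine act_ne_short h7 h1 hu (Or.inr ?_)
        rw [e1, e2, act_add, e1, e2, hcanc2]
    · rcases hW with e2 | e2 | e2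
      · refine act_ne_short h7 h1 hu (Or.inr ?_)
        rw [e1, act_add, e1, e2, add_comm (u + w) u, hcanc1, e2]
      · exact act_ne_self h7 h1 hw e2
      · exact hwu (act_inj (e2.trans e1.symm))
  · refine key (u + w + s) ?_ fun a => ?_
    · intro h
      obtain ⟨-, -, -, -, -, -, h4⟩ := hind
      exact h4 (eq_of_add_eq_zero h).symm
    · obtain ⟨o1, o2, o3⟩ := hort
      rw [act_mul, act_mul, act_tr, act_tr, act_tr, om_add, om_add, om_add, om_self, zero_add, om_smul,
        om_smul, om_smul, om_mul_self, om_add', om_smul', om_symm s w, o3, mul_zero, add_zero,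
        om_mul_self, om_add', om_smul', om_add', om_smul', om_symm s u, o2, mul_zero, add_zero,
        om_symm w u, o1, mul_zero, add_zero, om_mul_self, om_add, om_add]
      ring

end Cfsg.Agent.Co2Type.Seven
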