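import Cfsg.Agent.Co2Type.Ctx
import Cfsg.Agent.Co2Type.Seven

/-!
# Levi root elements, elements of order 7 in the stabiliser of `B 7` (R03, letter B, helper595)

`K i j = d_{e_i} d_{f_j} d_{e_i+f_j}` (`i ≠ j`) is a root element of the Levi subgroup `GL_3(2)` of the
stabiliser of the maximal totally isotropic subspace `⟨e_0,e_1,e_2⟩`; on the spin module it is
`1 + n_{e_i} n_{f_j}`.
-/

set_option autoImplicit false
open Cfsg

namespace Cfsg.Agent.Co2Type.Levi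

open Cfsg.Agent.Co2Type.Quad Cfsg.Agent.Co2Type.Setup Cfsg.Agent.Co2Type.Spin
open Cfsg.Agent.Co2Type.Code
open Cfsg.Agent.SporRec.TwoSp6

/-- transvections on codes of `U` -/
def trc (m c : ℕ) : ℕ := if Sp.fN c m then c ^^^ m else c

theorem act_tr_enc (m c : ℕ) : Sp.act (Sp.tr (Sp.enc m)) (Sp.enc c) = Sp.enc (trc m c) := by
  rw [Sp.act_tr, Sp.om_enc]
  unfold trc
  split_ifs
  · rw [one_smul, Sp.enc_xor]
  · rw [zero_smul, add_zero]

/-- codes of the Levi root elements, on codes of `V` -/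
def KV (i j c : ℕ) : ℕ := stU (2 ^ i) (stU (2 ^ (3 + j)) (stU (2 ^ i ^^^ 2 ^ (3 + j)) c))

/-- codes of the Levi root elements, on codes of `U` -/
def KU (i j c : ℕ) : ℕ := trc (2 ^ i) (trc (2 ^ (3 + j)) (trc (2 ^ i ^^^ 2 ^ (3 + j)) c))

/-- the Levi root elements -/
def K (i j : ℕ) : Sp6 := Sp.tr (Sp.enc (2 ^ i)) * (Sp.tr (Sp.enc (2 ^ (3 + j))) *
  Sp.tr (Sp.enc (2 ^ i ^^^ 2 ^ (3 + j))))

theorem act_K (i j c : ℕ) : Sp.act (K i j) (Sp.enc c) = Sp.enc (KU i j c) := by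
  rw [K, Sp.act_mul, Sp.act_mul, act_tr_enc, act_tr_enc, act_tr_enc, KU]

theorem KV_lt (i j : ℕ) {c : ℕ} (hc : c < 256) : KV i j c < 256 :=
  stU_lt _ (stU_lt _ (stU_lt _ hc))

variable {G : Type*} [Group G] {Q : Subgroup G} {t : G} {S : Sit G Q t}

theorem rho_K (P : Ctx S) (i j : ℕ) {c : ℕ} (hc : c < 256) :
    S.rho (K i j) (enc P.B c) = enc P.B (KV i j c) := by
  rw [K, map_mul, map_mul, LinearEquiv.mul_apply, LinearEquiv.mul_apply, P.rho_enc _ hc,
    P.rho_enc _ (stU_lt _ hc), P.rho_enc _ (stU_lt _ (stU_lt _ hc)), KV]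

/-- on codes `K i j` is `1 + n_{e_i} n_{f_j}` -/
theorem KV_eq : ∀ i < 3, ∀ j < 3, i ≠ j → ∀ c < 256, KV i j c = c ^^^ nE i (nF j c) := by
  decide +kernel

theorem KV_128 : ∀ i < 3, ∀ j < 3, i ≠ j → KV i j 128 = 128 := by decide +kernel

theorem stU_128 : ∀ i < 3, stU (2 ^ i) 128 = 128 := by decide +kernel

/-- an element of order 7 -/
def k7 : Sp6 := K 0 1 * (K 1 2 * K 2 0)

theorem act_k7 (c : ℕ) : Sp.act k7 (Sp.enc c) = Sp.enc (KU 0 1 (KU 1 2 (KU 2 0 c))) := by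
  rw [k7, Sp.act_mul, Sp.act_mul, act_K, act_K, act_K]

theorem act_k7_pow (n c : ℕ) :
    Sp.act (k7 ^ n) (Sp.enc c) = Sp.enc ((fun c => KU 0 1 (KU 1 2 (KU 2 0 c)))^[n] c) := by
  induction n generalizing c with
  | zero => rw [pow_zero, Sp.act_one]; rfl
  | succ n ih => rw [pow_succ, Sp.act_mul, act_k7, ih, Function.iterate_succ_apply]

theorem k7_iter : ∀ c < 64, (fun c => KU 0 1 (KU 1 2 (KU 2 0 c)))^[7] c = c := by decide +kernel

theorem k7_pow : k7 ^ 7 = 1 := by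
  apply Sp.act_ext
  intro x
  obtain ⟨c, hc, rfl⟩ := Sp.exists_enc x
  rw [act_k7_pow, k7_iter c hc, Sp.act_one]

theorem enc_inj64 : ∀ c < 64, ∀ d < 64, Sp.enc c = Sp.enc d → c = d := by
  intro c hc d hd h
  have h1 : ∀ k < 6, c.testBit k = d.testBit k := by
    have hb : ∀ k, Sp.bitf c k = Sp.bitf d k → c.testBit k = d.testBit k := by
      intro k hk
      unfold Sp.bitf at hk
      cases hck : c.testBit k <;> cases hdk : d.testBit k <;> simp [hck, hdk] at hk ⊢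
    intro k hk
    apply hb
    interval_cases k
    · exact congrFun h (Sum.inl 0)
    · exact congrFun h (Sum.inl 1)
    · exact congrFun h (Sum.inl 2)
    · exact congrFun h (Sum.inr 0)
    · exact congrFun h (Sum.inr 1)
    · exact congrFun h (Sum.inr 2)
  apply Nat.eq_of_testBit_eq
  intro k
  by_cases hk : k < 6
  · exact h1 k hk
  · have h2 : 2 ^ 6 ≤ 2 ^ k := Nat.pow_le_pow_right (by norm_num) (not_lt.1 hk)
    rw [Nat.testBit_lt_two_pow (lt_of_lt_of_le hc h2), Nat.testBit_lt_two_pow (lt_of_lt_of_le hd h2)]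

theorem k7_ne : k7 ≠ 1 := by
  intro h
  have h1 := act_k7 1
  rw [h, Sp.act_one] at h1
  have h2 := enc_inj64 1 (by norm_num) (KU 0 1 (KU 1 2 (KU 2 0 1))) (by decide +kernel) h1
  revert h2
  decide +kernel

theorem rho_k7 (P : Ctx S) : S.rho k7 (P.B 7) = P.B 7 := by
  rw [← P.enc_128, k7, map_mul, map_mul, LinearEquiv.mul_apply, LinearEquiv.mul_apply,
    rho_K P 2 0 (by norm_num), KV_128 2 (by norm_num) 0 (by norm_num) (by norm_num),
    rho_K P 1 2 (by norm_num), KV_128 1 (by norm_num) 2 (by norm_num) (by norm_num),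
    rho_K P 0 1 (by norm_num), KV_128 0 (by norm_num) 1 (by norm_num) (by norm_num)]

theorem rho_tr_B7 (P : Ctx S) {i : ℕ} (hi : i < 3) :
    S.rho (Sp.tr (Sp.enc (2 ^ i))) (P.B 7) = P.B 7 := by
  rw [← P.enc_128, P.rho_enc _ (by norm_num), stU_128 i hi]

theorem rho_K_B7 (P : Ctx S) {i j : ℕ} (hi : i < 3) (hj : j < 3) (hij : i ≠ j) :
    S.rho (K i j) (P.B 7) = P.B 7 := by
  rw [← P.enc_128, rho_K P i j (by norm_num), KV_128 i hi j hj hij]

/-- elements of `Q` have fourth power `1` -/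
theorem pow_four (S : Sit G Q t) {x : G} (hx : x ∈ Q) : x ^ 4 = 1 := by
  have e : x ^ 4 = (x * x) * (x * x) := by simp only [pow_succ, pow_zero, one_mul, mul_assoc]
  rw [e]
  rcases S.large.sq x hx with h | h
  · rw [h, mul_one]
  · rw [h, S.large.z_sq]

/-- an element of order 7 of `C(t) ∩ C(t')`, `t' ∈ Q` -/
theorem exists_seven (P : Ctx S) {t' : G} (ht' : t' ∈ Q) (hne : t' ≠ 1) (hne' : t' ≠ t)
    (h7 : S.large.pr ⟨t', ht'⟩ = P.B 7) :
    ∃ s, s * t = t * s ∧ s * t' = t' * s ∧ s ^ 7 = 1 ∧ s ≠ 1 := by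
  obtain ⟨a, ha, ha', hps⟩ := S.exists_lift ht' hne hne' k7 (by rw [h7]; exact rho_k7 P)
  have hcom : Commute a t := ha
  have hcom' : Commute a t' := ha'
  have h1 : ∀ n : ℕ, S.ps (hcom.pow_left n).eq = k7 ^ n := by
    intro n
    rw [← hps]
    show S.psi _ = (S.psi _) ^ n
    rw [← map_pow]
    rfl
  have hQ7 : a ^ 7 ∈ Q := by
    rw [← S.ps_eq_one (hcom.pow_left 7).eq, h1, k7_pow]
  refine ⟨a ^ 8, hcom.pow_left 8, hcom'.pow_left 8, ?_, ?_⟩
  · have e : (a ^ 8) ^ 7 = ((a ^ 7) ^ 4) ^ 2 := by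
      rw [← pow_mul, ← pow_mul, ← pow_mul]
    rw [e, pow_four S hQ7, one_pow]
  · intro h8
    have h2 := h1 8
    have h3 : S.ps (hcom.pow_left 8).eq = 1 := by
      rw [S.ps_eq_one, h8]; exact one_mem Q
    rw [h3] at h2
    have h4 : k7 ^ 8 = k7 := by rw [pow_succ, k7_pow, one_mul]
    rw [h4] at h2
    exact k7_ne h2.symm

/-- `t' ∈ Q` implies `t ∈ Q'` for conjugate situations -/
theorem mem_of_mem (P : Ctx S) {Q' : Subgroup G} {t' : G} (S' : Sit G Q' t') (ht' : t' ∈ Q)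
    (hne' : t' ≠ t) (h7 : S.large.pr ⟨t', ht'⟩ = P.B 7) : t ∈ Q' := by
  obtain ⟨s, hs, hs', hs7, hs1⟩ := exists_seven P ht' S'.large.z_ne hne' h7
  by_contra hno
  have htt : t * t' = t' * t := (S.large.comm_z t' ht').symm
  have h1 : S'.ps htt ≠ 1 := by
    rw [Ne, S'.ps_eq_one]; exact hno
  have h2 : S'.ps htt * S'.ps htt = 1 := by
    have h3 : t * t * t' = t' * (t * t) := by rw [S.large.z_sq, one_mul, mul_one]
    rw [← S'.ps_mul htt htt h3, S'.ps_eq_one, S.large.z_sq]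
    exact one_mem Q'
  have h3 : S'.ps hs' ≠ 1 := by
    rw [Ne, S'.ps_eq_one]
    intro hmem
    apply hs1
    have h4 := pow_four S' hmem
    have e : s = (s ^ 4) ^ 2 * (s ^ 7)⁻¹ := by group
    rw [e, h4, hs7]; group
  have h4 : S'.ps hs' ^ 7 = 1 := by
    show (S'.psi _) ^ 7 = 1
    rw [← map_pow, S'.psi_ker]
    show s ^ 7 ∈ Q'
    rw [hs7]; exact one_mem Q'
  refine Seven.not_comm h2 h1 h4 h3 ?_
  have h5 : s * t * t' = t' * (s * t) := by rw [mul_assoc, htt, ← mul_assoc, hs', mul_assoc]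
  have h6 : t * s * t' = t' * (t * s) := by rw [← hs]; exact h5
  rw [← S'.ps_mul hs' htt h5, ← S'.ps_mul htt hs' h6]
  unfold Sit.ps
  congr 1
  exact Subtype.ext hs

end Cfsg.Agent.Co2Type.Levi
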