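import Cfsg.Agent.Co2Type.Coord

/-!
# Lifts of the transvections to `C_G(t)` (R03, helper902)
-/

set_option autoImplicit false

namespace Cfsg.Agent.Co2Type.Lifts

open Cfsg Cfsg.Agent.Co2Type.Quad Cfsg.Agent.Co2Type.Setup Cfsg.Agent.Co2Type.Spin
open Cfsg.Agent.Co2Type.QModel Cfsg.Agent.Co2Type.Act Cfsg.Agent.Co2Type.Coord
open Cfsg.Agent.Co2Type.Rels
open Cfsg.Agent.ClassicalGeometry.SympBasic

instance : Finite QM := by
  have : Function.Injective (fun x : QM => (x.v, x.a)) := by
    intro x y h
    exact QM.ext (congrArg Prod.fst h) (congrArg Prod.snd h)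
  exact Finite.of_injective _ this

variable {G : Type*} [Group G] {Q : Subgroup G} {t : G}

/-- powers of an involution -/
def powHom {H : Type*} [Group H] (s : H) (hs : s * s = 1) : Multiplicative (ZMod 2) →* H where
  toFun a := if Multiplicative.toAdd a = 0 then 1 else s
  map_one' := by simp
  map_mul' a b := by
    have h : ∀ a b : ZMod 2, (if a + b = 0 then (1 : H) else s) =
        (if a = 0 then 1 else s) * (if b = 0 then 1 else s) := by
      have h2 : ∀ a : ZMod 2, a = 0 ∨ a = 1 := by decide
      have h11 : (1 : ZMod 2) + 1 = 0 := by decide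
      intro a b
      rcases h2 a with rfl | rfl <;> rcases h2 b with rfl | rfl <;> simp [hs, h11]
    exact h _ _

theorem powHom_apply {H : Type*} [Group H] (s : H) (hs : s * s = 1) (a : ZMod 2) :
    powHom s hs (Multiplicative.ofAdd a) = if a = 0 then 1 else s := rfl

theorem mem_range_powHom {H : Type*} [Group H] (s : H) (hs : s * s = 1) (x : H) :
    x ∈ (powHom s hs).range ↔ x = 1 ∨ x = s := by
  constructor
  · rintro ⟨a, rfl⟩
    obtain ⟨a, rfl⟩ := Multiplicative.ofAdd.surjective a
    rw [powHom_apply]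
    split_ifs
    · exact Or.inl rfl
    · exact Or.inr rfl
  · rintro (rfl | rfl)
    · exact one_mem _
    · exact ⟨Multiplicative.ofAdd 1, by rw [powHom_apply]; simp⟩

theorem powHom_injective {H : Type*} [Group H] (s : H) (hs : s * s = 1) (h1 : s ≠ 1) :
    Function.Injective (powHom s hs) := by
  rw [injective_iff_map_eq_one]
  intro a ha
  obtain ⟨a, rfl⟩ := Multiplicative.ofAdd.surjective a
  rw [powHom_apply] at ha
  split_ifs at ha with h
  · rw [h]; rfl
  · exact absurd ha h1

theorem dec256 : dec 256 = ⟨0, 1⟩ := by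
  apply QM.ext
  · funext i
    show (if (256 : ℕ).testBit i = true then (1 : ZMod 2) else 0) = 0
    have h3 : (256 : ℕ).testBit (i : ℕ) = false := by
      have : (256 : ℕ) = 2 ^ 8 := by norm_num
      rw [this, Nat.testBit_two_pow]
      simp only [decide_eq_false_iff_not]
      have := i.2
      omega
    rw [h3]; rfl
  · rfl

/-- identification of `Q` with the explicit group -/
theorem exists_equiv [Finite Q] (S : Sit G Q t) (K : Crd S) :
    ∃ e : Q ≃* QM, (∀ x, (e x).v = K.c (S.large.pr x)) ∧
      e ⟨t, S.large.z_mem⟩ = dec 256 := by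
  classical
  let f : Q →* Multiplicative (Fin 8 → ZMod 2) :=
    { toFun := fun x => Multiplicative.ofAdd (K.c (S.large.pr x))
      map_one' := by rw [S.large.pr_one, map_zero]; rfl
      map_mul' := fun x y => by rw [S.large.pr_mul, map_add]; rfl }
  let f' : QM →* Multiplicative (Fin 8 → ZMod 2) :=
    { toFun := fun x => Multiplicative.ofAdd x.v
      map_one' := rfl
      map_mul' := fun x y => rfl }
  have hsq1 : (⟨t, S.large.z_mem⟩ : Q) * ⟨t, S.large.z_mem⟩ = 1 := Subtype.ext S.large.z_sq
  have hsq2 : (⟨0, 1⟩ : QM) * ⟨0, 1⟩ = 1 := by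
    apply QM.ext
    · rw [QM.mul_v]; exact add_zero _
    · rw [QM.mul_a]
      simp only [beta, Pi.zero_apply, mul_zero, add_zero]
      decide
  have hne1 : (⟨t, S.large.z_mem⟩ : Q) ≠ 1 := fun h => S.large.z_ne (congrArg Subtype.val h)
  have hne2 : (⟨0, 1⟩ : QM) ≠ 1 := fun h => one_ne_zero (congrArg QM.a h)
  have g1 : Function.Surjective f := by
    intro y
    obtain ⟨x, hx⟩ := S.large.pr_surjective (K.c.symm (Multiplicative.toAdd y))
    refine ⟨x, ?_⟩
    show Multiplicative.ofAdd (K.c (S.large.pr x)) = y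
    rw [hx, LinearEquiv.apply_symm_apply]; rfl
  have g2 : Function.Surjective f' := by
    intro y
    exact ⟨⟨Multiplicative.toAdd y, 0⟩, rfl⟩
  have g3 : ∀ x : Q, f x = 1 ↔ x ∈ (powHom _ hsq1).range := by
    intro x
    rw [mem_range_powHom]
    show Multiplicative.ofAdd (K.c (S.large.pr x)) = Multiplicative.ofAdd 0 ↔ _
    rw [Multiplicative.ofAdd.apply_eq_iff_eq, LinearEquiv.map_eq_zero_iff, S.large.pr_eq_zero]
    constructor
    · rintro (h | h)
      · exact Or.inl (Subtype.ext h)
      · exact Or.inr (Subtype.ext h)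
    · rintro (h | h)
      · exact Or.inl (congrArg Subtype.val h)
      · exact Or.inr (congrArg Subtype.val h)
  have g4 : ∀ x : QM, f' x = 1 ↔ x ∈ (powHom _ hsq2).range := by
    intro x
    rw [mem_range_powHom]
    show Multiplicative.ofAdd x.v = Multiplicative.ofAdd 0 ↔ _
    rw [Multiplicative.ofAdd.apply_eq_iff_eq]
    constructor
    · intro h
      have h2 : ∀ a : ZMod 2, a = 0 ∨ a = 1 := by decide
      rcases h2 x.a with ha | ha
      · exact Or.inl (QM.ext h ha)
      · exact Or.inr (QM.ext h ha)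
    · rintro (h | h)
      · rw [h]; rfl
      · rw [h]
  have g5 : ∀ (a : Multiplicative (ZMod 2)) (x : Q), powHom _ hsq1 a * x = x * powHom _ hsq1 a := by
    intro a x
    rcases (mem_range_powHom _ hsq1 _).1 ⟨a, rfl⟩ with h | h
    · rw [h]; simp
    · rw [h]; exact Subtype.ext (S.large.comm_z x x.2).symm
  have g6 : ∀ (a : Multiplicative (ZMod 2)) (x : QM),
      powHom _ hsq2 a * x = x * powHom _ hsq2 a := by
    intro a x
    rcases (mem_range_powHom _ hsq2 _).1 ⟨a, rfl⟩ with h | h
    · rw [h]; simp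
    · rw [h]
      apply QM.ext
      · rw [QM.mul_v, QM.mul_v, add_comm]
      · rw [QM.mul_a, QM.mul_a]
        simp only [beta, Pi.zero_apply, mul_zero, zero_mul, add_zero]
        rw [add_comm]
  have g7 : ∀ (x : Q) (x' : QM), f x = f' x' → ∃ a : Multiplicative (ZMod 2),
      x * x = powHom _ hsq1 a ∧ x' * x' = powHom _ hsq2 a := by
    intro x x' hxx
    have hv : K.c (S.large.pr x) = x'.v := congrArg Multiplicative.toAdd hxx
    have h2 : ∀ a : ZMod 2, a ≠ 0 → a = 1 := by decide
    refine ⟨Multiplicative.ofAdd (S.large.q (S.large.pr x)), ?_, ?_⟩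
    · rw [powHom_apply]
      split_ifs with h
      · exact Subtype.ext (S.large.q_eq_zero.1 h)
      · exact Subtype.ext (S.large.q_eq_one.1 (h2 _ h))
    · rw [powHom_apply, K.hq, hv]
      apply QM.ext
      · rw [QM.mul_v, QM.add_self2]
        split_ifs <;> rfl
      · rw [QM.mul_a]
        have h3 : x'.a + x'.a = 0 := CharTwo.add_self_eq_zero _
        rw [h3, zero_add]
        split_ifs with h
        · exact h
        · exact h2 _ h
  obtain ⟨e, he1, he2⟩ := Cfsg.Agent.LieRecognition.CentralExtIso.exists_mulEquiv f f'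
    (powHom _ hsq1) (powHom _ hsq2) g1 g2 (powHom_injective _ hsq1 hne1)
    (powHom_injective _ hsq2 hne2) g3 g4 g5 g6 g7
  refine ⟨e, fun x => ?_, ?_⟩
  · have := congrArg Multiplicative.toAdd (he1 x)
    exact this
  · have := he2 (Multiplicative.ofAdd 1)
    rw [powHom_apply, powHom_apply] at this
    simp only [one_ne_zero, ↓reduceIte] at this
    rw [this, dec256]

end Cfsg.Agent.Co2Type.Lifts
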