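import Cfsg.Agent.Co2Type.Spin
import Cfsg.Agent.SporRec.TwoSp6.Invol

/-!
# Line elements of `Sp6(2)` on the spin module

`line a b = d_a d_b d_{a+b}` for a totally isotropic line `⟨a, b⟩`; it acts as `1 + n_a n_b`.
-/

set_option autoImplicit false

namespace Cfsg.Agent.Co2Type.LineMod

open Cfsg Cfsg.Agent.Co2Type.Setup Cfsg.Agent.Co2Type.Spin
open Cfsg.Agent.SporRec.TwoSp6.Sp (tr act act_om act_add act_mul act_one conj_tr tr_comm tr_sq exists_pair)
open Cfsg.Agent.SporRec.TwoSp6.Invol (Ind Orth maximal)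

/-- two vectors spanning a totally isotropic line -/
def IsLine (a b : U) : Prop := a ≠ 0 ∧ b ≠ 0 ∧ b ≠ a ∧ sf a b = 0

/-- the element of type `a2` attached to a line -/
def line (a b : U) : Sp6 := tr a * tr b * tr (a + b)

theorem line_conj (g : Sp6) (a b : U) : g * line a b * g⁻¹ = line (act g a) (act g b) := by
  unfold line
  rw [← conj_tr g a, ← conj_tr g b, ← act_add, ← conj_tr g (a + b)]
  group

theorem sf_add (x y w : U) : sf x (y + w) = sf x y + sf x w := SporRec.TwoSp6.Sp.om_add x y w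
theorem sf_add' (x y w : U) : sf (x + y) w = sf x w + sf y w := SporRec.TwoSp6.Sp.om_add' x y w
theorem sf_self (x : U) : sf x x = 0 := SporRec.TwoSp6.Sp.om_self x

theorem isLine_act (g : Sp6) {a b : U} (h : IsLine a b) : IsLine (act g a) (act g b) := by
  obtain ⟨h1, h2, h3, h4⟩ := h
  refine ⟨SporRec.TwoSp6.Invol.act_ne h1, SporRec.TwoSp6.Invol.act_ne h2, ?_, ?_⟩
  · intro h; exact h3 (SporRec.TwoSp6.Invol.act_inj h)
  · rw [← h4]; exact act_om g a b

theorem line_sq {a b : U} (h : sf a b = 0) : line a b * line a b = 1 := by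
  have h1 : tr a * tr b = tr b * tr a := tr_comm h
  have h2 : tr a * tr (a + b) = tr (a + b) * tr a := by
    apply tr_comm
    show sf a (a + b) = 0
    rw [sf_add, sf_self, h, add_zero]
  have h3 : tr b * tr (a + b) = tr (a + b) * tr b := by
    apply tr_comm
    show sf b (a + b) = 0
    rw [sf_add, sf_self, sf_comm b a, h, add_zero]
  unfold line
  calc tr a * tr b * tr (a + b) * (tr a * tr b * tr (a + b))
      = tr a * tr b * (tr (a + b) * tr a) * tr b * tr (a + b) := by group
    _ = tr a * (tr b * tr a) * (tr (a + b) * tr b) * tr (a + b) := by rw [← h2]; group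
    _ = tr a * (tr a * tr b) * (tr b * tr (a + b)) * tr (a + b) := by rw [← h1, ← h3]
    _ = (tr a * tr a) * (tr b * tr b) * (tr (a + b) * tr (a + b)) := by group
    _ = 1 := by rw [tr_sq, tr_sq, tr_sq]; group

theorem line_comm_tr {a b u : U} (h1 : sf a u = 0) (h2 : sf b u = 0) : line a b * tr u = tr u * line a b := by
  have e1 : tr a * tr u = tr u * tr a := tr_comm h1
  have e2 : tr b * tr u = tr u * tr b := tr_comm h2
  have e3 : tr (a + b) * tr u = tr u * tr (a + b) := by
    apply tr_comm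
    show sf (a + b) u = 0
    rw [sf_add', h1, h2, add_zero]
  unfold line
  calc tr a * tr b * tr (a + b) * tr u = tr a * tr b * (tr (a + b) * tr u) := by group
    _ = tr a * (tr b * tr u) * tr (a + b) := by rw [e3]; group
    _ = (tr a * tr u) * tr b * tr (a + b) := by rw [e2]; group
    _ = _ := by rw [e1]; group

theorem line_comm {a b c d : U} (h1 : sf a c = 0) (h2 : sf a d = 0) (h3 : sf b c = 0) (h4 : sf b d = 0) :
    line a b * line c d = line c d * line a b := by
  have e1 := line_comm_tr (a := a) (b := b) h1 h3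
  have e2 := line_comm_tr (a := a) (b := b) h2 h4
  have e3 : line a b * tr (c + d) = tr (c + d) * line a b := by
    apply line_comm_tr
    · rw [sf_add, h1, h2, add_zero]
    · rw [sf_add, h3, h4, add_zero]
  conv_lhs => rw [show line c d = tr c * tr d * tr (c + d) from rfl]
  conv_rhs => rw [show line c d = tr c * tr d * tr (c + d) from rfl]
  calc line a b * (tr c * tr d * tr (c + d)) = (line a b * tr c) * tr d * tr (c + d) := by group
    _ = tr c * (line a b * tr d) * tr (c + d) := by rw [e1]; group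
    _ = tr c * tr d * (line a b * tr (c + d)) := by rw [e2]; group
    _ = _ := by rw [e3]; group

/-- transitivity on lines -/
theorem exists_act_line {a b c d : U} (h : IsLine a b) (h' : IsLine c d) :
    ∃ g : Sp6, act g a = c ∧ act g b = d :=
  exists_pair h.1 h.2.1 h.2.2.1 h.2.2.2 h'.1 h'.2.1 h'.2.2.1 h'.2.2.2

theorem isLine_e01 : IsLine (e 0) (e 1) := by
  refine ⟨?_, ?_, ?_, sf_e_e 0 1⟩
  · decide +kernel
  · decide +kernel
  · decide +kernel

/-- a hyperbolic pair orthogonal to a line -/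
theorem exists_hyp {a b : U} (h : IsLine a b) :
    ∃ u w : U, sf a u = 0 ∧ sf b u = 0 ∧ sf a w = 0 ∧ sf b w = 0 ∧ sf u w = 1 := by
  obtain ⟨g, hg1, hg2⟩ := exists_act_line isLine_e01 h
  refine ⟨act g (e 2), act g (f 2), ?_, ?_, ?_, ?_, ?_⟩
  · rw [← hg1]; exact (act_om g _ _).trans (sf_e_e 0 2)
  · rw [← hg2]; exact (act_om g _ _).trans (sf_e_e 1 2)
  · rw [← hg1]; exact (act_om g _ _).trans (by show sf _ _ = 0; rw [sf_e_f]; rfl)
  · rw [← hg2]; exact (act_om g _ _).trans (by show sf _ _ = 0; rw [sf_e_f]; rfl)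
  · exact (act_om g _ _).trans (by show sf _ _ = 1; rw [sf_e_f]; rfl)

section Mod

variable {V : Type*} [AddCommGroup V] [Module (ZMod 2) V]
variable {rho : Sp6 →* (V ≃ₗ[ZMod 2] V)}

theorem rho_tr (u : U) (v : V) : rho (tr u) v = v + n rho u v := by
  rw [n_apply, ← add_assoc, ZModModule.add_self v, zero_add]; rfl

section

variable (hs : SpinHyp rho) (hcard : Nat.card V = 2 ^ 8)
include hs hcard

theorem n_add_zero {u w : U} (h : sf u w = 0) (v : V) : n rho (u + w) v = n rho u v + n rho w v := by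
  rw [n_add hs hcard, h, zero_smul, add_zero, LinearMap.add_apply]

theorem rho_line {a b : U} (h : sf a b = 0) (v : V) : rho (line a b) v = v + n rho a (n rho b v) := by
  have hc : n rho b (n rho a v) = n rho a (n rho b v) := by
    rw [n_anticomm_apply hs b a, sf_comm, h, zero_smul, add_zero]
  have e0 : rho (line a b) v = rho (tr a) (rho (tr b) (rho (tr (a + b)) v)) := by
    rw [line, map_mul, map_mul]; rfl
  rw [e0, rho_tr, rho_tr, rho_tr, n_add_zero hs hcard h]
  simp only [map_add, n_n_apply, hc, add_zero, zero_add]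
  have h2 : ∀ x : V, x + x = 0 := ZModModule.add_self
  calc v + (n rho a v + n rho b v) + (n rho b v + n rho a (n rho b v)) +
      (n rho a v + n rho a (n rho b v) + n rho a (n rho b v))
      = v + n rho a (n rho b v) + (n rho a v + n rho a v) + (n rho b v + n rho b v) +
        (n rho a (n rho b v) + n rho a (n rho b v)) := by abel
    _ = _ := by rw [h2, h2, h2, add_zero, add_zero, add_zero]

omit hcard in
theorem n_comm_apply {a b : U} (h : sf a b = 0) (v : V) : n rho a (n rho b v) = n rho b (n rho a v) := by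
  rw [n_anticomm_apply hs a b, h, zero_smul, add_zero]

omit hcard in
/-- the annihilator of a nonzero vector is totally isotropic -/
theorem sf_zero_of_ker {a b : U} {v : V} (hv : v ≠ 0) (ha : n rho a v = 0) (hb : n rho b v = 0) :
    sf a b = 0 := by
  rcases zmod2_cases (sf a b) with h | h
  · exact h
  · exfalso
    have h1 := n_anticomm_apply hs a b v
    rw [ha, hb, h, one_smul, map_zero, map_zero, zero_add] at h1
    exact hv h1.symm

/-- four mutually orthogonal vectors of two lines: the product of the `n` vanishes -/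
theorem n4_zero {a b c d : U} (h1 : IsLine a b) (h2 : IsLine c d) (ac : sf a c = 0) (ad : sf a d = 0)
    (bc : sf b c = 0) (bd : sf b d = 0) (v : V) : n rho a (n rho b (n rho c (n rho d v))) = 0 := by
  have hab := h1.2.2.2
  have hcd := h2.2.2.2
  have key : ∀ x : V, c = a ∨ c = b ∨ c = a + b → n rho a (n rho b (n rho c x)) = 0 := by
    rintro x (rfl | rfl | rfl)
    · rw [n_comm_apply hs hab, n_n_apply, map_zero]
    · rw [n_n_apply, map_zero]
    · rw [n_add_zero hs hcard hab, map_add, map_add, n_n_apply, map_zero, add_zero,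
        n_comm_apply hs hab, n_n_apply, map_zero]
  by_cases hc : c = a ∨ c = b ∨ c = a + b
  · exact key _ hc
  · have hi : Ind a b c := by
      refine ⟨h1.1, h1.2.1, h1.2.2.1, h2.1, fun h => hc (Or.inl h), fun h => hc (Or.inr (Or.inl h)),
        fun h => hc (Or.inr (Or.inr h))⟩
    have ho : Orth a b c := ⟨hab, ac, bc⟩
    obtain ⟨α, β, γ, hd⟩ := maximal hi ho (s := d) (by rw [← ad]; exact sf_comm d a)
      (by rw [← bd]; exact sf_comm d b) (by rw [← hcd]; exact sf_comm d c)
    have smul_n : ∀ (k : ZMod 2) (w : U) (x : V), n rho (k • w) x = k • n rho w x := by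
      intro k w x
      rcases zmod2_cases k with rfl | rfl
      · rw [zero_smul, zero_smul, n_zero]; rfl
      · rw [one_smul, one_smul]
    have smul_sf : ∀ (k : ZMod 2) (u w : U), sf u w = 0 → sf u (k • w) = 0 := by
      intro k u w h
      rcases zmod2_cases k with rfl | rfl
      · rw [zero_smul]; exact SporRec.TwoSp6.Invol.om_zero u
      · rw [one_smul]; exact h
    have smul_sf' : ∀ (k : ZMod 2) (u w : U), sf u w = 0 → sf (k • u) w = 0 := by
      intro k u w h
      rw [sf_comm]; exact smul_sf k w u (by rw [sf_comm]; exact h)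
    rw [hd, n_add_zero hs hcard, n_add_zero hs hcard (smul_sf' _ _ _ (smul_sf _ _ _ hab)), smul_n, smul_n,
      smul_n]
    · have kk : ∀ x : V, n rho c (n rho a x) = n rho a (n rho c x) := fun x =>
        n_comm_apply hs (by rw [sf_comm]; exact ac) x
      have kb : ∀ x : V, n rho b (n rho a x) = n rho a (n rho b x) := fun x =>
        n_comm_apply hs (by rw [sf_comm]; exact hab) x
      have kc : ∀ x : V, n rho c (n rho b x) = n rho b (n rho c x) := fun x =>
        n_comm_apply hs (by rw [sf_comm]; exact bc) x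
      simp only [map_add, map_smul, n_n_apply, kk, kb, kc, smul_zero, add_zero]
    · rw [sf_add', smul_sf' _ _ _ (smul_sf _ _ _ ac), smul_sf' _ _ _ (smul_sf _ _ _ bc), add_zero]

omit hcard in
/-- a vector orthogonal to `im n_a + im n_b` is in `im n_a n_b` -/
theorem im_of_perp {b0 : LinearMap.BilinForm (ZMod 2) V}
    (hbr : ∀ g v w, b0 (rho g v) (rho g w) = b0 v w) (hnd : ∀ v, (∀ w, b0 v w = 0) → v = 0) {a b : U}
    (h : IsLine a b) {x : V} (ha : ∀ v, b0 x (n rho a v) = 0) (hb : ∀ v, b0 x (n rho b v) = 0) :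
    ∃ s, x = n rho a (n rho b s) := by
  have hxa : n rho a x = 0 := hnd _ fun w => by rw [b_n_left hbr]; exact ha w
  have hxb : n rho b x = 0 := hnd _ fun w => by rw [b_n_left hbr]; exact hb w
  -- dual vectors
  obtain ⟨a', h1, h2⟩ : ∃ a', sf a a' = 1 ∧ sf b a' = 0 :=
    SporRec.TwoSp6.Sp.exists_om_one_zero h.1 (fun hh => h.2.2.1 hh.symm)
  obtain ⟨b', h3, h4⟩ : ∃ b', sf b b' = 1 ∧ sf a b' = 0 :=
    SporRec.TwoSp6.Sp.exists_om_one_zero h.2.1 h.2.2.1
  have e1 : n rho a (n rho a' x) = x := by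
    rw [n_anticomm_apply hs a a', hxa, map_zero, h1, one_smul, zero_add]
  have e2 : n rho b (n rho a' x) = 0 := by
    rw [n_anticomm_apply hs b a', hxb, map_zero, h2, zero_smul, zero_add]
  have e3 : n rho b (n rho b' (n rho a' x)) = n rho a' x := by
    rw [n_anticomm_apply hs b b', e2, map_zero, h3, one_smul, zero_add]
  exact ⟨n rho b' (n rho a' x), by rw [e3, e1]⟩

/-- An isometry in `Sp6(2)` trivial on `ker n_a n_b` is `1` or the line element (`a = e 0`, `b = e 1`). -/
theorem eq_of_fix_ker {q : V → ZMod 2} {b0 : LinearMap.BilinForm (ZMod 2) V}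
    (hbr : ∀ g v w, b0 (rho g v) (rho g w) = b0 v w) (hbs : ∀ v, b0 v v = 0)
    (hnd : ∀ v, (∀ w, b0 v w = 0) → v = 0)
    (hq : ∀ v w, q (v + w) = q v + q w + b0 v w) (hqr : ∀ g v, q (rho g v) = q v)
    (hinj : Function.Injective rho) {g : Sp6}
    (hg : ∀ v, n rho (e 0) (n rho (e 1) v) = 0 → rho g v = v) : g = 1 ∨ g = line (e 0) (e 1) := by
  have hab : sf (e 0) (e 1) = 0 := sf_e_e 0 1
  have hnt : Nontrivial V := by
    have : Finite V := (Nat.card_pos_iff.1 (by rw [hcard]; norm_num)).2
    rw [← Finite.one_lt_card_iff_nontrivial, hcard]; norm_num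
  obtain ⟨B, hE, hF⟩ := exists_basis hs hcard
  have hB := b_basis hbr hnd B hE hF
  have h2 : ∀ x : V, x + x = 0 := ZModModule.add_self
  have hba : ∀ v, n rho (e 1) (n rho (e 0) v) = n rho (e 0) (n rho (e 1) v) := fun v =>
    n_comm_apply hs (by rw [sf_comm]; exact hab) v
  -- `N v = v + g v`
  have hN : ∀ v, ∃ s, v + rho g v = n rho (e 0) (n rho (e 1) s) := by
    intro v
    refine im_of_perp hs hbr hnd isLine_e01 ?_ ?_
    · intro w
      have h1 : rho g (n rho (e 0) w) = n rho (e 0) w := by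
        apply hg; rw [hba, n_n_apply]
      have h3 : b0 (rho g v) (n rho (e 0) w) = b0 v (n rho (e 0) w) := by
        conv_lhs => rw [← h1]
        exact hbr g v _
      rw [map_add, LinearMap.add_apply, h3, zmod2_add_self]
    · intro w
      have h1 : rho g (n rho (e 1) w) = n rho (e 1) w := by
        apply hg; rw [n_n_apply, map_zero]
      have h3 : b0 (rho g v) (n rho (e 1) w) = b0 v (n rho (e 1) w) := by
        conv_lhs => rw [← h1]
        exact hbr g v _
      rw [map_add, LinearMap.add_apply, h3, zmod2_add_self]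
  have hiso : ∀ v, b0 v (v + rho g v) = 0 := by
    intro v
    obtain ⟨s, hs'⟩ := hN v
    have h1 : q (v + (v + rho g v)) = q v := by
      rw [← add_assoc, h2, zero_add, hqr]
    rw [hq, hs', q_n hs hbr hbs hq hqr, ← hs', add_zero] at h1
    simpa using h1
  -- the values of `n n` on the basis
  have z1 : ∀ I : Fin 8, (I : ℕ).testBit ((1 : Fin 3) : ℕ) = true → n rho (e 0) (n rho (e 1) (B I)) = 0 := by
    intro I hI
    rw [hE, if_pos hI, map_zero]
  have z0 : ∀ I : Fin 8, (I : ℕ).testBit ((0 : Fin 3) : ℕ) = true → n rho (e 0) (n rho (e 1) (B I)) = 0 := by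
    intro I hI
    rw [← hba, hE, if_pos hI, map_zero]
  have v0 : n rho (e 0) (n rho (e 1) (B 0)) = B 3 := by
    rw [hE, if_neg (by decide), hE, if_neg (by decide)]; rfl
  have v4 : n rho (e 0) (n rho (e 1) (B 4)) = B 7 := by
    rw [hE, if_neg (by decide), hE, if_neg (by decide)]; rfl
  have hY : ∀ s, ∃ α β : ZMod 2, n rho (e 0) (n rho (e 1) s) = α • B 3 + β • B 7 := by
    intro s
    refine ⟨B.repr s 0, B.repr s 4, ?_⟩
    conv_lhs => rw [← B.sum_repr s]
    rw [Fin.sum_univ_eight]
    simp only [map_add, map_smul]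
    rw [v0, v4, z0 1 rfl, z1 2 rfl, z1 3 rfl, z0 5 rfl, z1 6 rfl, z1 7 rfl]
    simp
  obtain ⟨s0, hs0⟩ := hN (B 0)
  obtain ⟨α, β, h0⟩ := hY s0
  rw [h0] at hs0
  obtain ⟨s4, hs4⟩ := hN (B 4)
  obtain ⟨γ, δ, h4⟩ := hY s4
  rw [h4] at hs4
  have k0 := hiso (B 0)
  have k4 := hiso (B 4)
  have k04 := hiso (B 0 + B 4)
  have e04 : B 0 + B 4 + rho g (B 0 + B 4) = (α • B 3 + β • B 7) + (γ • B 3 + δ • B 7) := by
    rw [map_add, ← hs0, ← hs4]; abel
  rw [hs0] at k0
  rw [hs4] at k4
  rw [e04] at k04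
  have b03 : b0 (B 0) (B 3) = 0 := by rw [hB]; rfl
  have b07 : b0 (B 0) (B 7) = 1 := by rw [hB]; rfl
  have b43 : b0 (B 4) (B 3) = 1 := by rw [hB]; rfl
  have b47 : b0 (B 4) (B 7) = 0 := by rw [hB]; rfl
  simp only [map_add, map_smul, LinearMap.add_apply, b03, b07, b43, b47, smul_eq_mul, mul_zero, mul_one,
    zero_add, add_zero] at k0 k4 k04
  have hαδ : α = δ := by
    have : ∀ a b c d : ZMod 2, b = 0 → c = 0 → a + b + (c + d) = 0 → a = d := by decide
    exact this _ _ _ _ k0 k4 k04
  subst hαδ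
  rw [k0, zero_smul, add_zero] at hs0
  rw [k4, zero_smul, zero_add] at hs4
  have fixb : ∀ I : Fin 8, n rho (e 0) (n rho (e 1) (B I)) = 0 → B I + rho g (B I) = 0 := by
    intro I hI
    rw [hg _ hI]; exact h2 _
  have bad : ∀ I : Fin 8, n rho (e 0) (n rho (e 1) (B I)) = 0 →
      B I + rho g (B I) = α • n rho (e 0) (n rho (e 1) (B I)) := by
    intro I hI
    rw [fixb I hI, hI, smul_zero]
  have hall : ∀ I : Fin 8, B I + rho g (B I) = α • n rho (e 0) (n rho (e 1) (B I)) := by
    intro I
    fin_cases I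
    · exact hs0.trans (by rw [← v0]; rfl)
    · exact bad 1 (z0 1 rfl)
    · exact bad 2 (z1 2 rfl)
    · exact bad 3 (z1 3 rfl)
    · exact hs4.trans (by rw [← v4]; rfl)
    · exact bad 5 (z0 5 rfl)
    · exact bad 6 (z1 6 rfl)
    · exact bad 7 (z1 7 rfl)
  have hlin : (LinearMap.id + (rho g : V →ₗ[ZMod 2] V)) = α • (n rho (e 0) * n rho (e 1)) := by
    apply B.ext
    intro I
    exact hall I
  have hallv : ∀ v, v + rho g v = α • n rho (e 0) (n rho (e 1) v) := fun v => LinearMap.congr_fun hlin v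
  have hgv : ∀ v, rho g v = v + α • n rho (e 0) (n rho (e 1) v) := by
    intro v
    rw [← hallv, ← add_assoc, h2, zero_add]
  rcases zmod2_cases α with rfl | rfl
  · left
    apply hinj
    apply LinearEquiv.ext
    intro v
    rw [hgv, zero_smul, add_zero, map_one]; rfl
  · right
    apply hinj
    apply LinearEquiv.ext
    intro v
    rw [hgv, one_smul, rho_line hs hcard hab]

end

end Mod

end Cfsg.Agent.Co2Type.LineMod
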