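import Cfsg.Agent.Co2Type.Swap
import Cfsg.Agent.Co2Type.ExistsRels

/-!
# The swap element from the fusion statement (R03, helper143)
-/

set_option autoImplicit false

namespace Cfsg.Agent.Co2Type.SwapB

open Cfsg Cfsg.Agent.Co2Type.Setup Cfsg.Agent.Co2Type.Coord Cfsg.Agent.Co2Type.QModel
open Cfsg.Agent.Co2Type.Rels Cfsg.Agent.Co2Type.ExistsRels
open Cfsg.Agent.ClassicalGeometry.SympBasic

variable {G : Type*} [Group G] {Q : Subgroup G} {t : G}

/-- the swap element of `t` and `D 0` -/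
theorem swapB (S : Sit G Q t) {ev : QM →* Subgroup.centralizer ({t} : Set G)}
    {D : ℕ → Subgroup.centralizer ({t} : Set G)} (R : Rels false (tc t) ev D)
    (hD : ∀ j, j < 7 → S.psi (D j) = transv (uv j) 1)
    (hfus : ∀ x : Subgroup.centralizer ({t} : Set G), IsConj t (x : G) ↔ (x : G) = t ∨
      IsConj (D 0) x ∨ IsConj (tc t * (D 3 * D 5 * D 6)) x) :
    ∃ x : G, x * t * x⁻¹ = D 0 ∧ x * (D 0 : G) * x⁻¹ = t := by
  have hc : ∀ j, j < 7 → j ≠ 0 → adj 0 j = false → D 0 * D j = D j * D 0 := by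
    intro j hj h0 ha
    have := R.comm 0 j (by norm_num) hj (Ne.symm h0) ha
    rw [this]
    exact one_mul _
  refine Swap.swap S D hD (hc 2 (by norm_num) (by norm_num) rfl)
    (hc 3 (by norm_num) (by norm_num) rfl) (hc 4 (by norm_num) (by norm_num) rfl)
    (hc 6 (by norm_num) (by norm_num) rfl) (tc t) rfl
    ((hfus (D 0)).2 (Or.inr (Or.inl (IsConj.refl _)))) ?_
  intro x hx
  rcases (hfus x).1 hx with h | h | h
  · exact Or.inl h
  · exact Or.inr (Or.inl h.symm)
  · right; right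
    rw [mul_assoc, mul_assoc, ← mul_assoc (D 3)]
    exact h.symm

end Cfsg.Agent.Co2Type.SwapB
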