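import Cfsg.Agent.Co2Type.PieceA
import Cfsg.Agent.Co2Type.FusionB4
import Cfsg.Agent.Co2Type.Alpha3T
import Cfsg.Agent.Co2Type.SwapB
import Cfsg.Agent.Co2Type.ExistsH
import Cfsg.Agent.Co2Type.P1Rels

/-!
# The local structure of a group of type `Co₂` (assembly of the pieces A, B, C)

From the hypotheses of S1675: elements `a, …, g, t` generating `C_G(t)` with the relations `P1`, an element `h`
with the relations `P2`, and the fusion of `t` in `C_G(t)`.
-/

set_option autoImplicit false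

namespace Cfsg.Agent.Co2Type.LocalMain

open Cfsg.Agent.Co2Type.P1Rels Cfsg.Agent.Co2Type.QModel Cfsg.Agent.Co2Type.CCode Cfsg.Agent.Co2Type.CommChk
  Cfsg.Agent.Co2Type.CommOut Cfsg.Agent.Co2Type.Rels

/-- the relations `P2` -/
structure P2 {H : Type*} [Group H] (a b c d e f g i h : H) : Prop where
  hh : h * h = 1
  ha : h * a = a * h
  hb : h * b = b * h
  hc : h * c = c * h
  hd : h * d = d * h
  he : h * e = e * h
  hf : h * f = f * h
  hi : (h * i) ^ 3 = 1
  hg : (g * h) ^ 4 = 1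
  r : (g * h * i) ^ 3 = b * e

theorem P1.map {H K : Type*} [Group H] [Group K] (φ : H →* K) {a b c d e f g i : H} (P : P1 a b c d e f g i) :
    P1 (φ a) (φ b) (φ c) (φ d) (φ e) (φ f) (φ g) (φ i) := by
  constructor <;> simp only [← map_mul, ← map_pow]
  · rw [P.sqa, map_one]
  · rw [P.sqb, map_one]
  · rw [P.sqc, map_one]
  · rw [P.sqd, map_one]
  · rw [P.sqe, map_one]
  · rw [P.sqf, map_one]
  · rw [P.sqg, map_one]
  · rw [P.sqi, map_one]
  · rw [P.ia]
  · rw [P.ib]
  · rw [P.ic]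
  · rw [P.id]
  · rw [P.ie]
  · rw [P.if']
  · rw [P.ig]
  · rw [P.ab]
  · rw [P.ac]
  · rw [P.ad]
  · rw [P.ae]
  · rw [P.af]
  · rw [P.ag]
  · rw [P.bc]
  · rw [P.bd]
  · rw [P.be]
  · rw [P.bf]
  · rw [P.bg]
  · rw [P.cd]
  · rw [P.ce]
  · rw [P.cf]
  · rw [P.cg]
  · rw [P.de]
  · rw [P.df]
  · rw [P.dg]
  · rw [P.ef]
  · rw [P.eg]
  · rw [P.fg]
  · rw [P.r1]
  · rw [P.r2, map_one]
  · rw [P.r3, map_one]
  · rw [P.r4, map_one]

/-- the local structure -/
structure Loc {G : Type*} [Group G] (t : G) (a b c d e f g h : G) : Prop where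
  tt : t * t = 1
  t1 : t ≠ 1
  p1 : P1 a b c d e f g t
  p2 : P2 a b c d e f g t h
  gen : ∀ x : G, x * t = t * x → x ∈ Subgroup.closure {a, b, c, d, e, f, g, t}
  fus : ∀ x : G, x * t = t * x → IsConj t x → x = t ∨ (∃ k : G, k * t = t * k ∧ k * a * k⁻¹ = x) ∨
    ∃ k : G, k * t = t * k ∧ k * (t * (e * g * b)) * k⁻¹ = x

theorem exists_loc {G : Type*} [Group G] [Finite G] (hO : Cfsg.oddCore G = ⊥) (hZ : Subgroup.center G = ⊥) (t : G)
    (ht : orderOf t = 2)
    (hcon : Cfsg.IsPConstrained 2 (Subgroup.centralizer ({t} : Set G)))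
    (hQ : Cfsg.IsExtraspecial 2 (Cfsg.pCore 2 (Subgroup.centralizer ({t} : Set G))))
    (hcard : Nat.card (Cfsg.pCore 2 (Subgroup.centralizer ({t} : Set G))) = 2 ^ 9)
    (e : (Subgroup.centralizer ({t} : Set G)) ⧸ Cfsg.pCore 2 (Subgroup.centralizer ({t} : Set G)) ≃*
      Matrix.symplecticGroup (Fin 3) (ZMod 2)) :
    ∃ a b c d e f g h : G, Loc t a b c d e f g h := by
  obtain ⟨Q, ⟨A⟩⟩ := PieceA.exists_A hO hZ t ht hcon hQ hcard e
  have hfus := FusionB4.fusion_of hO hZ A.S A.hs A.R A.hpsi A.P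
    (Alpha3T.not_ev1_lin A.S A.hs A.wc A.R A.hpsi A.P)
  obtain ⟨x, hx, hx'⟩ := SwapB.swapB A.S A.R A.hpsi hfus
  have htc : ((ExistsRels.tc t : Subgroup.centralizer ({t} : Set G)) : G) = t := rfl
  have hfus' : ∀ y : Subgroup.centralizer ({t} : Set G), IsConj t (y : G) ↔
      FList.InF (ExistsRels.tc t) A.D y := by
    intro y
    rw [hfus y, FList.InF]
    have e1 : ExistsRels.tc t * (A.D 3 * A.D 5 * A.D 6) = ExistsRels.tc t * A.D 3 * A.D 5 * A.D 6 := by group
    rw [e1]
    constructor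
    · rintro (h | h | h)
      · left; exact Subtype.ext h
      · right; left; exact h
      · right; right; exact h
    · rintro (h | h | h)
      · left; rw [h]; exact htc
      · right; left; exact h
      · right; right; exact h
  obtain ⟨h, -, h1, h2, h3, h4, h5, h6, h7, h8, h9, h10⟩ := ExistsH.exists_h A.data htc hfus' hx hx'
  have wa : wg A.ev A.D w_a = A.D 0 := congrArg Subtype.val (wv_D (by norm_num))
  have wb : wg A.ev A.D w_b = A.D 6 := congrArg Subtype.val (wv_D (by norm_num))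
  have wc : wg A.ev A.D w_c = A.D 1 := congrArg Subtype.val (wv_D (by norm_num))
  have wd : wg A.ev A.D w_d = (A.ev (dec 8) * A.D 2 : Subgroup.centralizer ({t} : Set G)) :=
    congrArg Subtype.val (P1Rels.wv_d)
  have we : wg A.ev A.D w_e = A.D 3 := congrArg Subtype.val (wv_D (by norm_num))
  have wf : wg A.ev A.D w_f = A.D 4 := congrArg Subtype.val (wv_D (by norm_num))
  have wgg : wg A.ev A.D w_g = A.D 5 := congrArg Subtype.val (wv_D (by norm_num))
  rw [wa] at h2
  rw [wb] at h3 h10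
  rw [wc] at h4
  rw [wd] at h5
  rw [we] at h6 h10
  rw [wf] at h7
  rw [wgg] at h9 h10
  have hP1 := P1.map (Subgroup.centralizer ({t} : Set G)).subtype (P1Rels.p1 A.data)
  have hgen := P1Rels.gen A.data
  refine ⟨A.D 0, A.D 6, A.D 1, (A.ev (dec 8) * A.D 2 : Subgroup.centralizer ({t} : Set G)), A.D 3, A.D 4, A.D 5, h,
    { tt := A.t_sq
      t1 := A.t_ne
      p1 := hP1
      p2 := ⟨h1, h2, h3, h4, h5, h6, h7, h8, h9, h10⟩
      gen := ?_
      fus := ?_ }⟩
  · intro x hx
    have hxC : x ∈ Subgroup.centralizer ({t} : Set G) := Subgroup.mem_centralizer_singleton_iff.2 hx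
    have h11 : (⟨x, hxC⟩ : Subgroup.centralizer ({t} : Set G)) ∈ (⊤ : Subgroup (Subgroup.centralizer ({t} : Set G))) :=
      Subgroup.mem_top _
    rw [← hgen] at h11
    have h12 := Subgroup.mem_map_of_mem (Subgroup.centralizer ({t} : Set G)).subtype h11
    rw [MonoidHom.map_closure] at h12
    refine (Subgroup.closure_mono ?_) h12
    rintro _ ⟨y, hy, rfl⟩
    simp only [Set.mem_insert_iff, Set.mem_singleton_iff] at hy ⊢
    rcases hy with rfl | rfl | rfl | rfl | rfl | rfl | rfl | rfl <;> simp [ExistsRels.tc]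
  · intro x hx hc
    have hxC : x ∈ Subgroup.centralizer ({t} : Set G) := Subgroup.mem_centralizer_singleton_iff.2 hx
    rcases (hfus ⟨x, hxC⟩).1 hc with h11 | h11 | h11
    · left; exact h11
    · right; left
      obtain ⟨k, hk⟩ := isConj_iff.1 h11
      exact ⟨k, Subgroup.mem_centralizer_singleton_iff.1 k.2, congrArg Subtype.val hk⟩
    · right; right
      obtain ⟨k, hk⟩ := isConj_iff.1 h11
      exact ⟨k, Subgroup.mem_centralizer_singleton_iff.1 k.2, congrArg Subtype.val hk⟩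

end Cfsg.Agent.Co2Type.LocalMain
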