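import Mathlib
import Cfsg.Prelude.Def_Sporadic_a
import Cfsg.Agent.Co2Type.MatsA
import Cfsg.Agent.Co2Type.MatsB
import Cfsg.Agent.Co2Type.MatsC
import Cfsg.Agent.Co2Type.MatsD

/-!
Explicit elements of `Spor.Co2` (matrices times 8, 24 packed columns), generated by tools/co2/mats.py.
-/

set_option autoImplicit false

namespace Cfsg.Agent.Co2Type.MatsData

open Cfsg Cfsg.Agent.LeechMat.Orbit Cfsg.Agent.LeechMat.Elements Cfsg.Agent.LeechMat.Words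

/-- the matrices as a function: letters 0..6 = D, 7..14 = X, 15 = t, 16 = h -/
def Ms : ℕ → List ℕ
  | 0 => MatsA.MD0
  | 1 => MatsA.MD1
  | 2 => MatsA.MD2
  | 3 => MatsA.MD3
  | 4 => MatsB.MD4
  | 5 => MatsB.MD5
  | 6 => MatsB.MD6
  | 7 => MatsB.MX0
  | 8 => MatsC.MX1
  | 9 => MatsC.MX2
  | 10 => MatsC.MX3
  | 11 => MatsC.MX4
  | 12 => MatsD.MX5
  | 13 => MatsD.MX6
  | 14 => MatsD.MX7
  | 15 => MatsD.MTt
  | 16 => MatsD.MHh
  | _ => MatsD.MTt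

/-- the sums as a function -/
def Ss : ℕ → ℕ
  | 0 => MatsA.SD0
  | 1 => MatsA.SD1
  | 2 => MatsA.SD2
  | 3 => MatsA.SD3
  | 4 => MatsB.SD4
  | 5 => MatsB.SD5
  | 6 => MatsB.SD6
  | 7 => MatsB.SX0
  | 8 => MatsC.SX1
  | 9 => MatsC.SX2
  | 10 => MatsC.SX3
  | 11 => MatsC.SX4
  | 12 => MatsD.SX5
  | 13 => MatsD.SX6
  | 14 => MatsD.SX7
  | 15 => MatsD.STt
  | 16 => MatsD.SHh
  | _ => MatsD.STt

end Cfsg.Agent.Co2Type.MatsData
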