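import Cfsg.Agent.Co2Type.Pair

/-!
# Orders in the pair situation (R03, letter B, helper595)

`surj_of_fibre` (a counting lemma), `card_dsub` (`|C_Q(z')| = |Q|/2`), `card_two_mul`
(`|K| = 2 |pr K|` for `z ∈ K ≤ Q`), `mem_of_comm` (a maximal totally singular `K` is its own
centraliser in `Q`).
-/

set_option autoImplicit false
open Cfsg

namespace Cfsg.Agent.Co2Type.Pair

open Cfsg.Agent.Co2Type.Quad

/-- a map whose fibres lie in cosets of `K` and whose image lies in a small set is surjective -/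
theorem surj_of_fibre {H : Type*} [Group H] [Finite H] (K : Subgroup H) {α : Type*} (T : Finset α)
    (F : H → α) (hT : ∀ x, F x ∈ T) (hF : ∀ x y, F x = F y → x⁻¹ * y ∈ K)
    (hc : T.card * Nat.card K ≤ Nat.card H) {c : α} (hcT : c ∈ T) : ∃ x, F x = c := by
  classical
  let g : H ⧸ K → T := fun a => ⟨F a.out, hT _⟩
  have hinj : Function.Injective g := by
    intro a b hab
    have h1 : F a.out = F b.out := congrArg Subtype.val hab
    have h2 := hF _ _ h1
    have h3 : (QuotientGroup.mk a.out : H ⧸ K) = QuotientGroup.mk b.out := QuotientGroup.eq.2 h2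
    rwa [QuotientGroup.out_eq', QuotientGroup.out_eq'] at h3
  have hcard : Nat.card T ≤ Nat.card (H ⧸ K) := by
    have h4 := Subgroup.card_eq_card_quotient_mul_card_subgroup K
    have h5 : Nat.card T = T.card := by rw [Nat.card_eq_fintype_card, Fintype.card_coe]
    rw [h5]
    rw [h4] at hc
    exact Nat.le_of_mul_le_mul_right hc Nat.card_pos
  have hsurj : Function.Surjective g := (hinj.bijective_of_nat_card_le hcard).2
  obtain ⟨a, ha⟩ := hsurj ⟨c, hcT⟩
  exact ⟨a.out, congrArg Subtype.val ha⟩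

variable {G : Type*} [Group G] {Q Q' : Subgroup G} {z z' : G}

/-- `C_Q(z')` has index 2 in `Q` -/
theorem card_dsub (h : Large Q z) (hz' : z' ∈ Q) (h1 : z' ≠ 1) (h2 : z' ≠ z) :
    Nat.card Q = Nat.card (dsub Q z') * 2 := by
  have hex : ∃ a ∈ Q, a * z' ≠ z' * a := by
    by_contra hno
    push Not at hno
    rcases h.cent z' hz' (fun y hy => (hno y hy).symm) with h3 | h3
    · exact h1 h3
    · exact h2 h3
  obtain ⟨a, haQ, ha⟩ := hex
  have ha2 : a * z' = z' * a * z := (h.comm a haQ z' hz').resolve_left ha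
  have hidx : ((dsub Q z').subgroupOf Q).index = 2 := by
    rw [Subgroup.index_eq_two_iff]
    refine ⟨⟨a, haQ⟩, fun b => ?_⟩
    rw [Subgroup.mem_subgroupOf, Subgroup.mem_subgroupOf, mem_dsub, mem_dsub]
    have hb := h.comm b b.2 z' hz'
    have hbz : (b : G) * z = z * b := h.comm_z b b.2
    have haz : a * z = z * a := h.comm_z a haQ
    rcases hb with hb | hb
    · right
      refine ⟨⟨b.2, hb⟩, fun hcon => ?_⟩
      have h3 : (b : G) * a * z' = z' * (b * a) := hcon.2
      apply ha
      have h4 : (b : G) * (a * z') = b * (z' * a) := by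
        calc (b : G) * (a * z') = b * a * z' := by group
          _ = z' * (b * a) := h3
          _ = z' * b * a := by group
          _ = b * z' * a := by rw [hb]
          _ = b * (z' * a) := by group
      exact mul_left_cancel h4
    · left
      refine ⟨⟨mul_mem b.2 haQ, ?_⟩, fun hcon => ?_⟩
      · show (b : G) * a * z' = z' * (b * a)
        calc (b : G) * a * z' = b * (a * z') := by group
          _ = b * z' * a * z := by rw [ha2]; group
          _ = z' * b * (z * a) * z := by rw [hb]; group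
          _ = z' * b * (a * z) * z := by rw [haz]
          _ = z' * (b * a) * (z * z) := by group
          _ = z' * (b * a) := by rw [h.z_sq, mul_one]
      · have h3 : (b : G) * z' = z' * b := hcon.2
        have h4 : z' * (b : G) * z = z' * b := by rw [← hb, h3]
        exact h.z_ne (mul_eq_left.1 h4)
  have hle : dsub Q z' ≤ Q := fun x hx => (mem_dsub.1 hx).1
  have hcard : Nat.card ((dsub Q z').subgroupOf Q) = Nat.card (dsub Q z') :=
    Nat.card_congr (Subgroup.subgroupOfEquivOfLe hle).toEquiv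
  rw [← hcard, ← hidx, Subgroup.card_mul_index]

/-- `|K| = 2 |pr K|` for `z ∈ K ≤ Q` -/
theorem card_two_mul (h : Large Q z) (K : Subgroup G) (hK : K ≤ Q) (hz : z ∈ K) :
    Nat.card K = 2 * Nat.card {v : h.V // ∃ x : Q, (x : G) ∈ K ∧ h.pr x = v} := by
  classical
  let f : K →* Multiplicative h.V :=
    { toFun := fun x => Multiplicative.ofAdd (h.pr ⟨x, hK x.2⟩)
      map_one' := by
        show Multiplicative.ofAdd (h.pr 1) = 1
        rw [h.pr_one]; rfl
      map_mul' := fun x y => by
        show Multiplicative.ofAdd (h.pr (⟨x, hK x.2⟩ * ⟨y, hK y.2⟩)) = _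
        rw [h.pr_mul]; rfl }
  have hker : ∀ x : K, x ∈ f.ker ↔ (x : G) = 1 ∨ (x : G) = z := by
    intro x
    rw [MonoidHom.mem_ker]
    exact h.pr_eq_zero (x := ⟨x, hK x.2⟩)
  have hkc : Nat.card f.ker = 2 := by
    rw [Nat.card_eq_two_iff]
    refine ⟨1, ⟨⟨z, hz⟩, (hker _).2 (Or.inr rfl)⟩, ?_, ?_⟩
    · intro he
      have : (1 : G) = z := congrArg (fun y : f.ker => ((y : K) : G)) he
      exact h.z_ne this.symm
    · ext x
      simp only [Set.mem_insert_iff, Set.mem_singleton_iff, Set.mem_univ, iff_true]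
      rcases (hker _).1 x.2 with hx | hx
      · left; exact Subtype.ext (Subtype.ext hx)
      · right; exact Subtype.ext (Subtype.ext hx)
  have h1 := Subgroup.card_mul_index f.ker
  rw [Subgroup.index_ker, hkc] at h1
  rw [← h1]
  congr 1
  apply Nat.card_congr
  refine ⟨fun v => ⟨Multiplicative.toAdd v.1, ?_⟩, fun v => ⟨Multiplicative.ofAdd v.1, ?_⟩,
    fun v => rfl, fun v => rfl⟩
  · obtain ⟨x, hx⟩ := v.2
    refine ⟨⟨x, hK x.2⟩, x.2, ?_⟩
    rw [← hx]; rfl
  · obtain ⟨x, hx, hxe⟩ := v.2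
    exact ⟨⟨x, hx⟩, congrArg Multiplicative.ofAdd hxe⟩

/-- a maximal totally singular subgroup is its own centraliser -/
theorem mem_of_comm [Finite Q] (h : Large Q z) (K : Subgroup G) (hK : K ≤ Q) (hz : z ∈ K)
    (hab : ∀ x ∈ K, ∀ y ∈ K, x * y = y * x) {m : ℕ} (hcQ : Nat.card Q = 2 * 2 ^ (2 * m))
    (hcK : Nat.card K = 2 * 2 ^ m) {d : G} (hd : d ∈ Q) (hc : ∀ x ∈ K, d * x = x * d) : d ∈ K := by
  classical
  have hfin : Module.Finite (ZMod 2) h.V := Module.Finite.of_finite
  have hzm : ∀ a : ZMod 2, a = 0 ∨ a = 1 := by decide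
  let W : Submodule (ZMod 2) h.V :=
    { carrier := {v | ∃ x : Q, (x : G) ∈ K ∧ h.pr x = v}
      add_mem' := by
        rintro _ _ ⟨x, hx, rfl⟩ ⟨y, hy, rfl⟩
        exact ⟨x * y, mul_mem hx hy, h.pr_mul x y⟩
      zero_mem' := ⟨1, one_mem K, h.pr_one⟩
      smul_mem' := by
        rintro a _ ⟨x, hx, rfl⟩
        rcases hzm a with rfl | rfl
        · rw [zero_smul]; exact ⟨1, one_mem K, h.pr_one⟩
        · rw [one_smul]; exact ⟨x, hx, rfl⟩ }
  have hWc : Nat.card W = 2 ^ m := by
    have h1 := card_two_mul h K hK hz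
    rw [hcK] at h1
    exact (Nat.eq_of_mul_eq_mul_left (by norm_num) h1).symm
  have hWd : Module.finrank (ZMod 2) W = m := by
    have h1 := Module.natCard_eq_pow_finrank (K := ZMod 2) (V := W)
    rw [hWc, Nat.card_zmod] at h1
    exact (Nat.pow_right_injective le_rfl h1).symm
  have hVd : Module.finrank (ZMod 2) h.V = 2 * m := by
    have h1 := Module.natCard_eq_pow_finrank (K := ZMod 2) (V := h.V)
    have h2 := h.card_eq
    rw [hcQ] at h2
    rw [← Nat.eq_of_mul_eq_mul_left (by norm_num) h2, Nat.card_zmod] at h1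
    exact (Nat.pow_right_injective le_rfl h1).symm
  have hnd : (h.b).Nondegenerate := by
    refine ⟨fun v hv => h.b_nondeg hv, fun v hv => h.b_nondeg fun w => ?_⟩
    rw [h.b_comm]; exact hv w
  have hle : W ≤ h.b.orthogonal W := by
    rintro _ ⟨x, hx, rfl⟩
    rw [LinearMap.BilinForm.mem_orthogonal_iff]
    rintro _ ⟨y, hy, rfl⟩
    show h.b (h.pr y) (h.pr x) = 0
    rw [h.b_pr]
    exact hab _ hy _ hx
  have hfr := LinearMap.BilinForm.finrank_orthogonal hnd W
  have heq : W = h.b.orthogonal W := by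
    apply Submodule.eq_of_le_of_finrank_eq hle
    rw [hfr, hVd, hWd]; omega
  have hdW : h.pr ⟨d, hd⟩ ∈ W := by
    rw [heq, LinearMap.BilinForm.mem_orthogonal_iff]
    rintro _ ⟨y, hy, rfl⟩
    show h.b (h.pr y) (h.pr ⟨d, hd⟩) = 0
    rw [h.b_pr]
    exact (hc _ hy).symm
  obtain ⟨x, hx, hxe⟩ := hdW
  rw [h.pr_eq_pr] at hxe
  rcases hxe with h1 | h1
  · simp only at h1
    rw [← h1]; exact hx
  · simp only at h1
    have h2 : d = x * z := by rw [h1, mul_assoc, h.z_sq, mul_one]
    rw [h2]; exact mul_mem hx hz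

end Cfsg.Agent.Co2Type.Pair
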