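import Mathlib

/-!
# Kernel-fast model of the extraspecial group `2^{1+8}_+` (R03, helper902)

`QM` : pairs `(v, a)`, `v : Fin 8 → ZMod 2`, `a : ZMod 2` with
`(v,a)(w,b) = (v+w, a+b+β(v,w))`, `β(v,w) = v₄w₃ + v₅w₂ + v₆w₁ + v₇w₀`.
`dec n` decodes a natural number `n < 512` (bits 0..7 = `v`, bit 8 = `a`), `qmul` is the multiplication
on codes.
-/

set_option autoImplicit false

namespace Cfsg.Agent.Co2Type.QModel

/-- the cocycle -/
def beta (v w : Fin 8 → ZMod 2) : ZMod 2 := v 4 * w 3 + v 5 * w 2 + v 6 * w 1 + v 7 * w 0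

/-- the extraspecial group `2^{1+8}_+` -/
@[ext] structure QM where
  v : Fin 8 → ZMod 2
  a : ZMod 2

namespace QM

instance : Mul QM := ⟨fun x y => ⟨x.v + y.v, x.a + y.a + beta x.v y.v⟩⟩
instance : One QM := ⟨⟨0, 0⟩⟩
instance : Inv QM := ⟨fun x => ⟨x.v, x.a + beta x.v x.v⟩⟩

theorem mul_v (x y : QM) : (x * y).v = x.v + y.v := rfl
theorem mul_a (x y : QM) : (x * y).a = x.a + y.a + beta x.v y.v := rfl
theorem one_v : (1 : QM).v = 0 := rfl
theorem one_a : (1 : QM).a = 0 := rfl
theorem inv_v (x : QM) : x⁻¹.v = x.v := rfl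
theorem inv_a (x : QM) : x⁻¹.a = x.a + beta x.v x.v := rfl

theorem add_self2 (v : Fin 8 → ZMod 2) : v + v = 0 := by
  funext i; exact CharTwo.add_self_eq_zero (v i)

instance : Group QM :=
  Group.ofLeftAxioms
    (by
      intro x y z
      apply QM.ext
      · simp only [mul_v, add_assoc]
      · simp only [mul_a, mul_v, beta, Pi.add_apply]; ring)
    (by
      intro x
      apply QM.ext
      · simp only [mul_v, one_v, zero_add]
      · simp only [mul_a, one_v, one_a, beta, Pi.zero_apply]; ring)
    (by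
      intro x
      apply QM.ext
      · rw [mul_v, inv_v, one_v, add_self2]
      · rw [mul_a, inv_a, inv_v, one_a]
        have h : ∀ a b : ZMod 2, a + b + a + b = 0 := by decide
        exact h _ _)

end QM

/-- decode -/
def dec (n : ℕ) : QM := ⟨fun i => if n.testBit i then 1 else 0, if n.testBit 8 then 1 else 0⟩

/-- parity of the cocycle on codes -/
def par (m n : ℕ) : Bool :=
  ((m.testBit 4 && n.testBit 3) ^^ (m.testBit 5 && n.testBit 2)) ^^
    ((m.testBit 6 && n.testBit 1) ^^ (m.testBit 7 && n.testBit 0))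

/-- multiplication on codes -/
def qmul (m n : ℕ) : ℕ := (m ^^^ n) ^^^ (cond (par m n) 256 0)

theorem ite_xor (a b : Bool) : (if (a ^^ b) = true then (1 : ZMod 2) else 0) =
    (if a = true then 1 else 0) + (if b = true then 1 else 0) := by
  cases a <;> cases b <;> decide

theorem ite_and (a b : Bool) : (if (a && b) = true then (1 : ZMod 2) else 0) =
    (if a = true then 1 else 0) * (if b = true then 1 else 0) := by
  cases a <;> cases b <;> decide

theorem testBit_cond (p : Bool) (i : ℕ) (hi : i < 8) : (cond p 256 0 : ℕ).testBit i = false := by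
  cases p
  · simp
  · have : (256 : ℕ) = 2 ^ 8 := by norm_num
    simp only [cond_true, this]
    rw [Nat.testBit_two_pow]
    simp only [decide_eq_false_iff_not]
    omega

theorem testBit_cond8 (p : Bool) : (cond p 256 0 : ℕ).testBit 8 = p := by
  cases p <;> decide

theorem dec_qmul (m n : ℕ) : dec (qmul m n) = dec m * dec n := by
  apply QM.ext
  · funext i
    show (if (qmul m n).testBit i then (1 : ZMod 2) else 0) = (if m.testBit i then 1 else 0) +
      (if n.testBit i then 1 else 0)
    rw [qmul, Nat.testBit_xor, Nat.testBit_xor, testBit_cond _ _ i.2, Bool.xor_false, ite_xor]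
  · show (if (qmul m n).testBit 8 then (1 : ZMod 2) else 0) = (if m.testBit 8 then 1 else 0) +
      (if n.testBit 8 then 1 else 0) + _
    rw [qmul, Nat.testBit_xor, Nat.testBit_xor, testBit_cond8, ite_xor, ite_xor]
    congr 1
    rw [par, ite_xor, ite_xor, ite_xor, ite_and, ite_and, ite_and, ite_and]
    show _ = (dec m).v 4 * (dec n).v 3 + (dec m).v 5 * (dec n).v 2 + (dec m).v 6 * (dec n).v 1 +
      (dec m).v 7 * (dec n).v 0
    simp only [dec]
    norm_num [Fin.val_ofNat]
    ring

theorem dec_zero : dec 0 = 1 := by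
  apply QM.ext
  · funext i; simp [dec, QM.one_v]
  · simp [dec, QM.one_a]

/-- partial ordered products of generators -/
theorem pre_step (f : Fin 8 → Bool) (k : Fin 8) :
    (⟨fun i => if (i : ℕ) < k ∧ f i = true then 1 else 0, 0⟩ : QM) *
      (if f k = true then dec (2 ^ (k : ℕ)) else 1) =
    ⟨fun i => if (i : ℕ) < k + 1 ∧ f i = true then 1 else 0, 0⟩ := by
  cases hk : f k
  · simp only [Bool.false_eq_true, ↓reduceIte, mul_one]
    apply QM.ext
    · funext i
      show (if (i : ℕ) < k ∧ f i = true then (1 : ZMod 2) else 0) = if (i : ℕ) < k + 1 ∧ f i = true then 1 else 0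
      by_cases hi : (i : ℕ) = k
      · have : i = k := Fin.ext hi
        rw [this, hk]; simp
      · have : ((i : ℕ) < k + 1) ↔ (i : ℕ) < k := by omega
        simp only [this]
    · rfl
  · simp only [↓reduceIte]
    apply QM.ext
    · funext i
      show (if (i : ℕ) < k ∧ f i = true then (1 : ZMod 2) else 0) +
        (if (2 ^ (k : ℕ)).testBit i = true then 1 else 0) = if (i : ℕ) < k + 1 ∧ f i = true then 1 else 0
      by_cases hi : (i : ℕ) = k
      · have h1 : i = k := Fin.ext hi
        rw [h1, hk]; simp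
      · have h2 : ((i : ℕ) < k + 1) ↔ (i : ℕ) < k := by omega
        have h3 : (2 ^ (k : ℕ)).testBit (i : ℕ) = false := by
          rw [Nat.testBit_two_pow]
          simp only [decide_eq_false_iff_not]
          exact fun h => hi h.symm
        simp only [h2, h3]; simp
    · show (0 : ZMod 2) + (if (2 ^ (k : ℕ)).testBit 8 = true then 1 else 0) + beta _ _ = 0
      have h8 : (2 ^ (k : ℕ)).testBit 8 = false := by
        rw [Nat.testBit_two_pow]
        simp only [decide_eq_false_iff_not]
        have := k.2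
        omega
      rw [h8]
      simp only [beta, dec, Nat.testBit_two_pow]
      fin_cases k <;> simp

theorem dec_expand (n : ℕ) :
    dec n = (if n.testBit 0 = true then dec (2 ^ 0) else 1) *
      (if n.testBit 1 = true then dec (2 ^ 1) else 1) *
      (if n.testBit 2 = true then dec (2 ^ 2) else 1) *
      (if n.testBit 3 = true then dec (2 ^ 3) else 1) *
      (if n.testBit 4 = true then dec (2 ^ 4) else 1) *
      (if n.testBit 5 = true then dec (2 ^ 5) else 1) *
      (if n.testBit 6 = true then dec (2 ^ 6) else 1) *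
      (if n.testBit 7 = true then dec (2 ^ 7) else 1) *
      (if n.testBit 8 = true then dec 256 else 1) := by
  have h0 : (1 : QM) = ⟨fun i => if (i : ℕ) < (0 : Fin 8) ∧ n.testBit i = true then 1 else 0, 0⟩ := by
    apply QM.ext
    · funext i; simp [QM.one_v]
    · rfl
  have s := pre_step (fun i => n.testBit i)
  have e0 := s 0
  have e1 := s 1
  have e2 := s 2
  have e3 := s 3
  have e4 := s 4
  have e5 := s 5
  have e6 := s 6
  have e7 := s 7
  rw [← h0, one_mul] at e0
  have f1 : ((0 : Fin 8) : ℕ) + 1 = ((1 : Fin 8) : ℕ) := rfl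
  have f2 : ((1 : Fin 8) : ℕ) + 1 = ((2 : Fin 8) : ℕ) := rfl
  have f3 : ((2 : Fin 8) : ℕ) + 1 = ((3 : Fin 8) : ℕ) := rfl
  have f4 : ((3 : Fin 8) : ℕ) + 1 = ((4 : Fin 8) : ℕ) := rfl
  have f5 : ((4 : Fin 8) : ℕ) + 1 = ((5 : Fin 8) : ℕ) := rfl
  have f6 : ((5 : Fin 8) : ℕ) + 1 = ((6 : Fin 8) : ℕ) := rfl
  have f7 : ((6 : Fin 8) : ℕ) + 1 = ((7 : Fin 8) : ℕ) := rfl
  rw [f1] at e0; rw [f2] at e1; rw [f3] at e2; rw [f4] at e3; rw [f5] at e4; rw [f6] at e5
  rw [f7] at e6
  have total : (if n.testBit ((0 : Fin 8) : ℕ) = true then dec (2 ^ ((0 : Fin 8) : ℕ)) else 1) *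
      (if n.testBit ((1 : Fin 8) : ℕ) = true then dec (2 ^ ((1 : Fin 8) : ℕ)) else 1) *
      (if n.testBit ((2 : Fin 8) : ℕ) = true then dec (2 ^ ((2 : Fin 8) : ℕ)) else 1) *
      (if n.testBit ((3 : Fin 8) : ℕ) = true then dec (2 ^ ((3 : Fin 8) : ℕ)) else 1) *
      (if n.testBit ((4 : Fin 8) : ℕ) = true then dec (2 ^ ((4 : Fin 8) : ℕ)) else 1) *
      (if n.testBit ((5 : Fin 8) : ℕ) = true then dec (2 ^ ((5 : Fin 8) : ℕ)) else 1) *
      (if n.testBit ((6 : Fin 8) : ℕ) = true then dec (2 ^ ((6 : Fin 8) : ℕ)) else 1) *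
      (if n.testBit ((7 : Fin 8) : ℕ) = true then dec (2 ^ ((7 : Fin 8) : ℕ)) else 1) =
      ⟨fun i => if n.testBit i = true then 1 else 0, 0⟩ := by
    rw [e0, e1, e2, e3, e4, e5, e6, e7]
    apply QM.ext
    · funext i
      have hi : (i : ℕ) < ((7 : Fin 8) : ℕ) + 1 := i.2
      simp only [hi, true_and]
    · rfl
  have total' : (if n.testBit 0 = true then dec (2 ^ 0) else 1) *
      (if n.testBit 1 = true then dec (2 ^ 1) else 1) *
      (if n.testBit 2 = true then dec (2 ^ 2) else 1) *
      (if n.testBit 3 = true then dec (2 ^ 3) else 1) *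
      (if n.testBit 4 = true then dec (2 ^ 4) else 1) *
      (if n.testBit 5 = true then dec (2 ^ 5) else 1) *
      (if n.testBit 6 = true then dec (2 ^ 6) else 1) *
      (if n.testBit 7 = true then dec (2 ^ 7) else 1) =
      ⟨fun i => if n.testBit i = true then 1 else 0, 0⟩ := total
  rw [total']
  cases h8 : n.testBit 8
  · simp only [Bool.false_eq_true, ↓reduceIte, mul_one]
    apply QM.ext
    · rfl
    · show (if n.testBit 8 = true then (1 : ZMod 2) else 0) = 0
      rw [h8]; rfl
  · simp only [↓reduceIte]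
    apply QM.ext
    · funext i
      show (if n.testBit i = true then (1 : ZMod 2) else 0) =
        (if n.testBit i = true then 1 else 0) + (if (256 : ℕ).testBit i = true then 1 else 0)
      have h3 : (256 : ℕ).testBit (i : ℕ) = false := by
        have : (256 : ℕ) = 2 ^ 8 := by norm_num
        rw [this, Nat.testBit_two_pow]
        simp only [decide_eq_false_iff_not]
        have := i.2
        omega
      rw [h3]; simp
    · show (if n.testBit 8 = true then (1 : ZMod 2) else 0) = (0 : ZMod 2) +
        (if (256 : ℕ).testBit 8 = true then 1 else 0) + beta _ _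
      rw [h8]
      have hv : (dec 256).v = 0 := by
        funext i
        show (if (256 : ℕ).testBit i = true then (1 : ZMod 2) else 0) = 0
        have h3 : (256 : ℕ).testBit (i : ℕ) = false := by
          have : (256 : ℕ) = 2 ^ 8 := by norm_num
          rw [this, Nat.testBit_two_pow]
          simp only [decide_eq_false_iff_not]
          have := i.2
          omega
        rw [h3]; rfl
      rw [hv]
      simp only [beta, Pi.zero_apply, mul_zero, add_zero, zero_add]
      rfl

end Cfsg.Agent.Co2Type.QModel
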