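import Cfsg.Agent.Co2Type.LineMod
import Cfsg.Agent.Co2Type.Seven

/-!
# The centraliser of `ker n_u` in `Sp6(2)` (R03, Co2 type, letter B, helper595)

`fix_ker`: an element of `Sp6(2)` acting trivially on `ker n_u` is `line u w` or `d_u * line u w`
with `w ⊥ u`.
-/

set_option autoImplicit false

namespace Cfsg.Agent.Co2Type.R5

open Cfsg Cfsg.Agent.Co2Type.Quad Cfsg.Agent.Co2Type.Setup Cfsg.Agent.Co2Type.Spin
open Cfsg.Agent.Co2Type.LineMod
open Cfsg.Agent.SporRec.TwoSp6
open Cfsg.Agent.SporRec.TwoSp6.Sp (tr act act_om act_add act_mul act_one conj_tr tr_comm tr_sq act_tr)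

variable {G : Type*} [Group G] {Q : Subgroup G} {t : G} {S : Sit G Q t}

theorem addV {h : Large Q t} (v : h.V) : v + v = 0 := h.add_self v

theorem nontrivialV (S : Sit G Q t) : ∃ v : S.large.V, v ≠ 0 := by
  have : Finite S.large.V := (Nat.card_pos_iff.1 (by rw [S.card_V]; norm_num)).2
  have hnt : Nontrivial S.large.V := by
    rw [← Finite.one_lt_card_iff_nontrivial, S.card_V]; norm_num
  exact exists_ne 0

variable (hs : SpinHyp S.rho)

include hs

/-- `n_u ≠ 0` for `u ≠ 0` -/
theorem exists_n_ne {u : U} (hu : u ≠ 0) : ∃ v : S.large.V, n S.rho u v ≠ 0 := by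
  by_contra h
  push Not at h
  obtain ⟨a, ha⟩ := Sp.exists_om_one hu
  obtain ⟨v, hv⟩ := nontrivialV S
  have h1 := n_anticomm_apply hs u a v
  have ha' : sf u a = 1 := ha
  rw [h, h, map_zero, zero_add, ha', one_smul] at h1
  exact hv h1.symm

/-- `ker n_u = im n_u` -/
theorem exists_of_ker {u : U} (hu : u ≠ 0) {v : S.large.V} (hv : n S.rho u v = 0) :
    ∃ w, v = n S.rho u w := by
  obtain ⟨a, ha⟩ := Sp.exists_om_one hu
  have ha' : sf u a = 1 := ha
  refine ⟨n S.rho a v, ?_⟩
  rw [n_anticomm_apply hs u a, hv, map_zero, ha', one_smul, zero_add]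

theorem n_add_apply (u w : U) (v : S.large.V) :
    n S.rho (u + w) v = n S.rho u v + n S.rho w v + sf u w • v := by
  rw [n_add hs S.card_V]; rfl

/-- `n_w n_u = 0` only if `w ∈ ⟨u⟩` -/
theorem nn_zero {u w : U} (hu : u ≠ 0) (h : ∀ v, n S.rho w (n S.rho u v) = 0) : w = 0 ∨ w = u := by
  by_contra hne
  push Not at hne
  obtain ⟨hw0, hwu⟩ := hne
  obtain ⟨v, hv⟩ := exists_n_ne hs hu
  rcases zmod2_cases (sf w u) with h0 | h0
  · obtain ⟨a, ha1, ha2⟩ := Sp.exists_om_one_zero hw0 hwu
    have h1 : sf w a = 1 := ha1
    have h2 : sf u a = 0 := ha2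
    have e1 := n_anticomm_apply hs w a (n S.rho u v)
    rw [h, map_zero, h1, one_smul, zero_add] at e1
    have e2 : n S.rho a (n S.rho u v) = n S.rho u (n S.rho a v) := by
      rw [n_anticomm_apply hs a u, sf_comm, h2, zero_smul, add_zero]
    rw [e2, h] at e1
    exact hv e1.symm
  · have e1 := n_anticomm_apply hs w u v
    rw [h, h0, one_smul] at e1
    have e2 := congrArg (n S.rho u) e1
    rw [map_zero, map_add, n_n_apply, zero_add] at e2
    exact hv e2.symm

/-- `u ↦ n_u` is injective -/
theorem n_inj {u w : U} (h : ∀ v, n S.rho u v = n S.rho w v) : u = w := by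
  apply Invol.eq_of_add_eq_zero
  by_contra hne
  obtain ⟨v, hv⟩ := exists_n_ne hs hne
  rcases zmod2_cases (sf u w) with h0 | h0
  · apply hv
    rw [n_add_apply hs, h, h0, zero_smul, add_zero, addV]
  · have e1 : ∀ x, n S.rho (u + w) x = x := by
      intro x
      rw [n_add_apply hs, h, h0, one_smul, addV, zero_add]
    have e2 := n_n_apply (rho := S.rho) (u + w) v
    rw [e1] at e2
    exact hv e2

omit hs in
theorem act_line {u w : U} (h : sf u w = 0) (x : U) :
    act (line u w) x = x + (sf x w • u + sf x u • w) := Invol.tr3_apply h x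

/-- an element of `Sp6(2)` acting trivially on `ker n_u` -/
theorem fix_ker {u : U} (hu : u ≠ 0) {g : Sp6} (hg : ∀ v, n S.rho u v = 0 → S.rho g v = v) :
    ∃ w, sf u w = 0 ∧ (g = line u w ∨ g = tr u * line u w) := by
  have hbr := S.b_rho
  have hnd : ∀ v, (∀ w, S.large.b v w = 0) → v = 0 := fun v hv => S.large.b_nondeg hv
  have g1 : ∀ v, S.rho g (n S.rho u v) = n S.rho u v := fun v => hg _ (n_n_apply u v)
  -- `n_u g = n_u`
  have g2 : ∀ v, n S.rho u (S.rho g v) = n S.rho u v := by
    intro v
    have h1 : n S.rho u (S.rho g v + v) = 0 := by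
      apply hnd
      intro x
      rw [b_n_left hbr, map_add, LinearMap.add_apply]
      have h2 := hbr g v (n S.rho u x)
      rw [g1] at h2
      rw [h2]
      exact zmod2_add_self _
    rw [map_add] at h1
    have h2 := congrArg (fun z => z + n S.rho u v) h1
    simp only [add_assoc, addV, add_zero, zero_add] at h2
    exact h2
  -- `g u = u`
  have gu : act g u = u := by
    apply n_inj hs
    intro v
    obtain ⟨v', rfl⟩ := (S.rho g).surjective v
    have h1 := rho_n (rho := S.rho) g u v'
    rw [g1] at h1
    show n S.rho ((g : Matrix _ _ (ZMod 2)).mulVec u) _ = _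
    rw [← h1, g2]
  -- `g p = p` or `p + u` for `p ⊥ u`
  have gp : ∀ p, sf u p = 0 → act g p = p ∨ act g p = p + u := by
    intro p hp
    have h1 : ∀ v, n S.rho (act g p) (n S.rho u v) = n S.rho p (n S.rho u v) := by
      intro v
      have h2 := rho_n (rho := S.rho) g p (n S.rho u v)
      rw [g1] at h2
      have h3 : S.rho g (n S.rho p (n S.rho u v)) = n S.rho p (n S.rho u v) := by
        apply hg
        rw [n_anticomm_apply hs u p, n_n_apply, map_zero, hp, zero_smul, add_zero]
      rw [h3] at h2
      exact h2.symm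
    have h4 : ∀ v, n S.rho (act g p + p) (n S.rho u v) = sf (act g p) p • n S.rho u v := by
      intro v
      rw [n_add_apply hs, h1, addV, zero_add]
    rcases zmod2_cases (sf (act g p) p) with h0 | h0
    · have h5 : ∀ v, n S.rho (act g p + p) (n S.rho u v) = 0 := by
        intro v; rw [h4, h0, zero_smul]
      rcases nn_zero hs hu h5 with h6 | h6
      · left; exact Invol.eq_of_add_eq_zero h6
      · right
        rw [add_comm]
        apply Invol.eq_of_add_eq_zero
        rw [← add_assoc, add_right_comm, h6, Sp.add_self]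
    · exfalso
      obtain ⟨v, hv⟩ := exists_n_ne hs hu
      have h5 := h4 v
      rw [h0, one_smul] at h5
      have h6 := congrArg (n S.rho (act g p + p)) h5
      rw [n_n_apply, h5] at h6
      exact hv h6.symm
  -- the vector `w`
  obtain ⟨a, ha⟩ := Sp.exists_om_one hu
  have ha' : sf u a = 1 := ha
  have hom : ∀ x y : U, sf (act g x) (act g y) = sf x y := act_om g
  set w := act g a + a with hw
  have huw : sf u w = 0 := by
    have h1 := hom u a
    rw [gu] at h1
    rw [hw, sf_add, h1]
    exact zmod2_add_self _
  have hgp : ∀ p, sf u p = 0 → act g p = p + sf p w • u := by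
    intro p hp
    have h1 := hom p a
    rcases gp p hp with h2 | h2
    · have h3 : sf p w = 0 := by
        rw [h2] at h1
        rw [hw, sf_add, h1]; exact zmod2_add_self _
      rw [h3, zero_smul, add_zero]; exact h2
    · have h3 : sf p w = 1 := by
        have h4 : sf u (act g a) = 1 := by
          have := hom u a
          rw [gu, ha'] at this; exact this
        rw [h2, sf_add', h4] at h1
        rw [hw, sf_add, ← h1]
        generalize sf p (act g a) = z
        revert z; decide
      rw [h3, one_smul]; exact h2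
  refine ⟨w, huw, ?_⟩
  have hga : act g a = a + w := by
    rw [hw, add_comm (act g a) a, ← add_assoc, Sp.add_self, zero_add]
  have hau : sf a u = 1 := by rw [sf_comm]; exact ha'
  have hdec : ∀ x : U, sf u (x + sf x u • a) = 0 := by
    intro x
    rw [sf_add, sf_comm u x]
    rcases zmod2_cases (sf x u) with h | h
    · rw [h, zero_smul, zero_add]
      exact Invol.om_zero u
    · rw [h, one_smul, ha']; decide
  have hgx : ∀ x : U, act g x = (x + sf x u • a) + sf (x + sf x u • a) w • u +
      sf x u • (a + w) := by
    intro x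
    have h1 : x = (x + sf x u • a) + sf x u • a := by
      rw [add_assoc, Sp.add_self, add_zero]
    conv_lhs => rw [h1]
    rw [act_add, hgp _ (hdec x), Invol.act_smul, hga]
  rcases zmod2_cases (sf a w) with h0 | h0
  · left
    apply Sp.act_ext
    intro x
    rw [hgx, act_line huw]
    rcases zmod2_cases (sf x u) with h | h
    · simp only [h, zero_smul, add_zero]
    · simp only [h, one_smul]
      rw [sf_add', h0, add_zero]
      calc x + a + sf x w • u + (a + w) = (a + a) + (x + (sf x w • u + w)) := by abel
        _ = _ := by rw [Sp.add_self, zero_add]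
  · right
    apply Sp.act_ext
    intro x
    rw [act_mul, act_tr, hgx, act_line huw]
    have e1 : Sp.om (x + (sf x w • u + sf x u • w)) u = sf x u := by
      show sf _ u = _
      have huu : sf u u = 0 := sf_self u
      have hwu : sf w u = 0 := by rw [sf_comm]; exact huw
      rw [sf_add', sf_add']
      have e2 : sf (sf x w • u) u = 0 := by
        have := Invol.om_smul' (sf x w) u u
        rw [show Sp.om u u = 0 from huu, mul_zero] at this
        exact this
      have e3 : sf (sf x u • w) u = 0 := by
        have := Invol.om_smul' (sf x u) w u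
        rw [show Sp.om w u = 0 from hwu, mul_zero] at this
        exact this
      rw [e2, e3, add_zero, add_zero]
    rw [e1]
    rcases zmod2_cases (sf x u) with h | h
    · simp only [h, zero_smul, add_zero]
    · simp only [h, one_smul]
      rw [sf_add', h0, add_smul, one_smul]
      calc x + a + (sf x w • u + u) + (a + w) = (a + a) + (x + (sf x w • u + w) + u) := by abel
        _ = _ := by rw [Sp.add_self, zero_add]

end Cfsg.Agent.Co2Type.R5
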