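import Mathlib

/-!
# Linear algebra for the reducible case of the Co2 type theorem (R03, piece A2; helper587)

`V` a finite quadratic space over `F_2`, `y` an isometry with `y⁴ = 1 ≠ y²`, `D` a space of fixed
vectors of `y` of index at most `2` in the space of fixed vectors of `y²`.
-/

set_option autoImplicit false

namespace Cfsg.Agent.Co2Type.RedLin

theorem zm (a : ZMod 2) : a = 0 ∨ a = 1 := by revert a; decide

/-- quadratic space -/
structure QF {V : Type*} [AddCommGroup V] [Module (ZMod 2) V] (q : V → ZMod 2)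
    (b : LinearMap.BilinForm (ZMod 2) V) : Prop where
  q_add : ∀ x y, q (x + y) = q x + q y + b x y
  nd : ∀ x, (∀ y, b x y = 0) → x = 0

section

variable {V : Type*} [AddCommGroup V] [Module (ZMod 2) V] {q : V → ZMod 2}
  {b : LinearMap.BilinForm (ZMod 2) V}

theorem aa (x : V) : x + x = 0 := ZModModule.add_self x

theorem eq_of_add {x y : V} (h : x + y = 0) : x = y := by
  have := congrArg (· + y) h
  simpa [add_assoc, aa] using this

theorem one_smul_inj {x y : V} (h : (1 : ZMod 2) • x = (1 : ZMod 2) • y) : x = y := by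
  simpa using h

theorem cc (a : ZMod 2) : a + a = 0 := CharTwo.add_self_eq_zero a

namespace QF

theorem b_comm (h : QF q b) (x y : V) : b x y = b y x := by
  have h1 := h.q_add x y
  have h2 := h.q_add y x
  rw [add_comm y x, h1, add_comm (q y)] at h2
  exact add_left_cancel h2

theorem q_zero (h : QF q b) : q 0 = 0 := by
  have h := h.q_add 0 0
  simpa using h

theorem b_self (h : QF q b) (x : V) : b x x = 0 := by
  have h1 := h.q_add x x
  rw [aa, h.q_zero] at h1
  have : ∀ a b : ZMod 2, 0 = a + a + b → b = 0 := by decide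
  exact this _ _ h1

theorem nondeg (h : QF q b) : b.Nondegenerate := by
  refine ⟨fun x hx => h.nd x hx, fun x hx => h.nd x fun y => ?_⟩
  rw [h.b_comm]; exact hx y

theorem symm (h : QF q b) : b.IsSymm := ⟨fun x y => h.b_comm x y⟩

theorem refl (h : QF q b) : b.IsRefl := h.symm.isRefl

theorem b_isom (h : QF q b) {y : V ≃ₗ[ZMod 2] V} (hy : ∀ x, q (y x) = q x) (v w : V) :
    b (y v) (y w) = b v w := by
  have h1 := h.q_add v w
  have h2 := h.q_add (y v) (y w)
  rw [← map_add, hy, hy, hy, h1] at h2
  exact (add_left_cancel h2).symm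

theorem exists_one (h : QF q b) {v : V} (hv : v ≠ 0) : ∃ x, b x v = 1 := by
  by_contra hc
  push Not at hc
  apply hv
  apply h.nd
  intro y
  rw [h.b_comm]
  exact (zm _).resolve_right (hc y)

end QF

/-- index at most two -/
theorem idx2 [Finite V] {X Y : Submodule (ZMod 2) V} (hXY : X ≤ Y)
    (hr : Module.finrank (ZMod 2) Y ≤ Module.finrank (ZMod 2) X + 1) {v w : V} (hv : v ∈ Y)
    (hw : w ∈ Y) (hv' : v ∉ X) (hw' : w ∉ X) : v + w ∈ X := by
  have : Module.Finite (ZMod 2) V := Module.Finite.of_finite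
  have hle : X ⊔ Submodule.span (ZMod 2) {v} ≤ Y :=
    sup_le hXY (by rw [Submodule.span_singleton_le_iff_mem]; exact hv)
  have hlt : Module.finrank (ZMod 2) X <
      Module.finrank (ZMod 2) (X ⊔ Submodule.span (ZMod 2) {v} : Submodule (ZMod 2) V) := by
    apply Submodule.finrank_lt_finrank_of_lt
    refine lt_of_le_of_ne le_sup_left ?_
    intro h
    apply hv'
    rw [h]
    exact Submodule.mem_sup_right (Submodule.mem_span_singleton_self v)
  have heq : X ⊔ Submodule.span (ZMod 2) {v} = Y :=
    Submodule.eq_of_le_of_finrank_le hle (by omega)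
  rw [← heq] at hw
  obtain ⟨x, hx, z, hz, rfl⟩ := Submodule.mem_sup.1 hw
  obtain ⟨c, rfl⟩ := Submodule.mem_span_singleton.1 hz
  rcases zm c with rfl | rfl
  · exfalso; apply hw'; rw [zero_smul, add_zero]; exact hx
  · have : v + (x + (1 : ZMod 2) • v) = x := by
      rw [one_smul, add_left_comm, aa, add_zero]
    rw [this]; exact hx

/-- rank of a map on a subspace whose intersection with the kernel lies in a line -/
theorem finrank_map_eq [Finite V] (N : V →ₗ[ZMod 2] V) (X : Submodule (ZMod 2) V) :
    Module.finrank (ZMod 2) (X.map N) +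
      Module.finrank (ZMod 2) (LinearMap.ker N ⊓ X : Submodule (ZMod 2) V) =
        Module.finrank (ZMod 2) X := by
  have : Module.Finite (ZMod 2) V := Module.Finite.of_finite
  have h := LinearMap.finrank_range_add_finrank_ker (N.domRestrict X)
  have h1 : LinearMap.range (N.domRestrict X) = X.map N := by
    rw [LinearMap.range_domRestrict]
  have h2 : Module.finrank (ZMod 2) (LinearMap.ker (N.domRestrict X)) =
      Module.finrank (ZMod 2) (LinearMap.ker N ⊓ X : Submodule (ZMod 2) V) := by
    have h3 : (LinearMap.ker (N.domRestrict X)).map X.subtype = LinearMap.ker N ⊓ X := by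
      ext x
      constructor
      · rintro ⟨y, hy, rfl⟩
        exact ⟨hy, y.2⟩
      · rintro ⟨hx, hx'⟩
        exact ⟨⟨x, hx'⟩, hx, rfl⟩
    rw [← h3]
    exact (LinearEquiv.finrank_eq (Submodule.equivMapOfInjective _ X.subtype_injective _))
  rw [h1, h2] at h
  exact h

/-- `N = y - 1` -/
def N (y : V ≃ₗ[ZMod 2] V) : V →ₗ[ZMod 2] V := y.toLinearMap + LinearMap.id

theorem N_apply (y : V ≃ₗ[ZMod 2] V) (x : V) : N y x = y x + x := rfl

theorem N_zero_iff (y : V ≃ₗ[ZMod 2] V) (x : V) : N y x = 0 ↔ y x = x :=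
  ⟨fun h => eq_of_add h, fun h => by rw [N_apply, h, aa]⟩

theorem NN_apply (y : V ≃ₗ[ZMod 2] V) (x : V) : N y (N y x) = y (y x) + x := by
  rw [N_apply, N_apply, map_add]
  apply one_smul_inj
  match_scalars <;> decide

theorem NNNN_apply {y : V ≃ₗ[ZMod 2] V} (y4 : ∀ x, y (y (y (y x))) = x) (x : V) :
    N y (N y (N y (N y x))) = 0 := by
  rw [NN_apply, NN_apply, map_add, map_add, y4]
  apply one_smul_inj
  match_scalars <;> decide

/-- data of an isometry `y` of order 4 and the space `D` -/
structure Yd (q : V → ZMod 2) (y : V ≃ₗ[ZMod 2] V) (D : Submodule (ZMod 2) V) : Prop where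
  iso : ∀ x, q (y x) = q x
  y4 : ∀ x, y (y (y (y x))) = x
  y2 : ∃ x, y (y x) ≠ x
  fixD : ∀ x ∈ D, y x = x
  idx : ∀ v w, y (y v) = v → y (y w) = w → v ∉ D → w ∉ D → v + w ∈ D

/-- the conclusions -/
structure Yu (q : V → ZMod 2) (b : LinearMap.BilinForm (ZMod 2) V) (y : V ≃ₗ[ZMod 2] V)
    (D : Submodule (ZMod 2) V) (u : V) : Prop where
  u_ne : u ≠ 0
  u_mem : u ∈ D
  q_u : q u = 0
  rad : ∀ v ∈ D, (∀ w ∈ D, b v w = 0) → v = 0 ∨ v = u
  perp : ∀ w ∈ D, b w u = 0
  card : 32 ≤ Nat.card D
  fix : ∀ x, y x = x → x ∈ D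
  fixk : ∀ x ∈ D, y x = x
  split : ∀ v, b v u = 0 → ∃ k ∈ D, ∃ x, v = k + N y x
  NNN : ∀ x, N y (N y (N y x)) = 0 ∨ N y (N y (N y x)) = u
  R12 : ∀ x x', (¬ ∃ t, N y x = N y (N y t)) → (¬ ∃ t, N y x' = N y (N y t)) →
    ∃ t, N y x + N y x' = N y (N y t)
  R2u : ∀ x x', N y (N y x) ≠ 0 → N y (N y x) ≠ u → N y (N y x') ≠ 0 → N y (N y x') ≠ u →
    N y (N y x) + N y (N y x') = 0 ∨ N y (N y x) + N y (N y x') = u

theorem Yd.exists_u [Finite V] (hV : Module.finrank (ZMod 2) V = 8) (h : QF q b)
    {y : V ≃ₗ[ZMod 2] V} {D : Submodule (ZMod 2) V} (d : Yd q y D) : ∃ u, Yu q b y D u := by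
  have hfin : Module.Finite (ZMod 2) V := Module.Finite.of_finite
  set n := N y with hn
  have h4 : ∀ x, n (n (n (n x))) = 0 := NNNN_apply d.y4
  -- ker N ≠ ker N²
  obtain ⟨p, hp1, hp2⟩ : ∃ p, n (n p) = 0 ∧ n p ≠ 0 := by
    by_contra hc
    push Not at hc
    obtain ⟨x, hx⟩ := d.y2
    have h3 := hc _ (h4 x)
    have h2 := hc _ h3
    have h1 := hc _ h2
    rw [hn, N_zero_iff] at h1
    exact hx (by rw [h1, h1])
  have hpy : y (y p) = p := by
    rw [hn, NN_apply] at hp1
    exact eq_of_add hp1
  have hpD : p ∉ D := fun hc => hp2 (by rw [hn, N_zero_iff]; exact d.fixD p hc)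
  -- D = ker N
  have hfix : ∀ x, y x = x → x ∈ D := by
    intro x hx
    by_contra hc
    have h1 := d.idx x p (by rw [hx, hx]) hpy hc hpD
    have h2 := d.fixD _ h1
    rw [map_add, hx] at h2
    have h3 : y p = p := add_left_cancel h2
    exact hp2 (by rw [hn, N_zero_iff]; exact h3)
  have hDK : D = LinearMap.ker n := by
    ext x
    rw [LinearMap.mem_ker, hn, N_zero_iff]
    exact ⟨fun hx => d.fixD x hx, fun hx => hfix x hx⟩
  -- N (ker N²) = {0,u}
  have hker2 : ∀ v, n (n v) = 0 → n v = 0 ∨ n v = n p := by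
    intro v hv
    by_cases hvD : v ∈ D
    · left; rw [hn, N_zero_iff]; exact d.fixD v hvD
    · right
      have hvy : y (y v) = v := by
        rw [hn, NN_apply] at hv
        exact eq_of_add hv
      have h1 := d.fixD _ (d.idx v p hvy hpy hvD hpD)
      rw [← N_zero_iff, map_add] at h1
      exact eq_of_add h1
  -- adjunction
  have hbN : ∀ x w, y w = w → b (n x) w = 0 := by
    intro x w hw
    have h1 := h.b_isom d.iso x w
    rw [hw] at h1
    rw [hn, N_apply, map_add, LinearMap.add_apply, h1, cc]
  have hR1 : ∀ x, n x ∈ LinearMap.range n := fun x => ⟨x, rfl⟩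
  have hsum := LinearMap.finrank_range_add_finrank_ker n
  rw [hV] at hsum
  have horth : b.orthogonal (LinearMap.ker n) = LinearMap.range n := by
    symm
    apply Submodule.eq_of_le_of_finrank_le
    · rintro _ ⟨x, rfl⟩
      rw [LinearMap.BilinForm.mem_orthogonal_iff]
      intro w hw
      rw [LinearMap.mem_ker, hn, N_zero_iff] at hw
      show b w (n x) = 0
      rw [h.b_comm]
      exact hbN x w hw
    · rw [LinearMap.BilinForm.finrank_orthogonal h.nondeg, hV]
      omega
  have hspan : LinearMap.ker n ⊓ LinearMap.range n = Submodule.span (ZMod 2) {n p} := by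
    apply le_antisymm
    · rintro x ⟨hx, ⟨v, rfl⟩⟩
      rcases hker2 v hx with h1 | h1
      · rw [h1]; exact Submodule.zero_mem _
      · rw [h1]; exact Submodule.mem_span_singleton_self _
    · rw [Submodule.span_singleton_le_iff_mem]
      exact ⟨hp1, ⟨p, rfl⟩⟩
  have hf1 : Module.finrank (ZMod 2) (Submodule.span (ZMod 2) {n p}) = 1 :=
    finrank_span_singleton hp2
  have hmemspan : ∀ x ∈ Submodule.span (ZMod 2) {n p}, x = 0 ∨ x = n p := by
    intro x hx
    obtain ⟨c, rfl⟩ := Submodule.mem_span_singleton.1 hx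
    rcases zm c with rfl | rfl
    · left; rw [zero_smul]
    · right; rw [one_smul]
  -- ranks
  have hstep : ∀ X : Submodule (ZMod 2) V, X ≤ LinearMap.range n →
      Module.finrank (ZMod 2) X ≤ Module.finrank (ZMod 2) (X.map n) + 1 := by
    intro X hX
    have h1 := finrank_map_eq n X
    have h2 : LinearMap.ker n ⊓ X ≤ Submodule.span (ZMod 2) {n p} := by
      rw [← hspan]; exact inf_le_inf_left _ hX
    have h3 := Submodule.finrank_mono h2
    omega
  set R1 := LinearMap.range n with hR1def
  have hle2 : R1.map n ≤ R1 := by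
    rintro _ ⟨x, -, rfl⟩; exact ⟨x, rfl⟩
  have hle3 : (R1.map n).map n ≤ R1 := by
    rintro _ ⟨x, -, rfl⟩; exact ⟨x, rfl⟩
  have hbot : ((R1.map n).map n).map n = ⊥ := by
    rw [eq_bot_iff]
    rintro _ ⟨_, ⟨_, ⟨_, ⟨x, rfl⟩, rfl⟩, rfl⟩, rfl⟩
    exact h4 x
  have hr3 := hstep _ hle3
  rw [hbot, finrank_bot] at hr3
  have hr2 := hstep _ hle2
  have hr1 : Module.finrank (ZMod 2) R1 = Module.finrank (ZMod 2) (R1.map n) + 1 := by
    have h1 := finrank_map_eq n R1
    rw [hspan, hf1] at h1
    exact h1.symm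
  have hR1le : Module.finrank (ZMod 2) R1 ≤ 3 := by omega
  have hR2le : Module.finrank (ZMod 2) (R1.map n) ≤ 2 := by omega
  -- u in R2
  have huR2 : n p ∈ R1.map n := by
    obtain ⟨x, hx⟩ := d.y2
    have hx2 : n (n x) ≠ 0 := fun hc => hx (by
      rw [hn, NN_apply] at hc
      exact eq_of_add hc)
    have h5 : n (n (n x)) = 0 ∨ n (n (n x)) = n p := hker2 _ (h4 x)
    rcases h5 with h5 | h5
    · have h6 : n (n x) = 0 ∨ n (n x) = n p := hker2 _ h5
      rcases h6 with h6 | h6
      · exact absurd h6 hx2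
      · rw [← h6]; exact ⟨n x, ⟨x, rfl⟩, rfl⟩
    · rw [← h5]; exact ⟨n (n x), ⟨n x, rfl⟩, rfl⟩
  obtain ⟨_, ⟨w, rfl⟩, hw⟩ := huR2
  have hyy : ∀ x, q (y (y x)) = q x := fun x => by rw [d.iso, d.iso]
  have hbNN : ∀ x z, b (n (n x)) z = b x (n (n z)) := by
    intro x z
    have h1 : b (y (y x)) z = b x (y (y z)) := by
      have h3 := h.b_isom d.iso (y (y x)) z
      have h4 := h.b_isom d.iso (y (y (y x))) (y z)
      rw [d.y4] at h4
      rw [← h3, ← h4]
    rw [hn, NN_apply, NN_apply, map_add, map_add, LinearMap.add_apply, h1]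
  have hqu : q (n p) = 0 := by
    have h1 : q (n p) = b (n p) p := by
      have h2 := h.q_add (y p) p
      have h3 := h.b_self p
      have h4 : b (n p) p = b (y p) p := by
        rw [hn, N_apply, map_add, LinearMap.add_apply, h3, add_zero]
      rw [h4, hn, N_apply, h2, d.iso, cc, zero_add]
    rw [h1, ← hw, hbNN, hp1, map_zero]
  -- decomposition of the orthogonal space of u
  have hperp : LinearMap.ker n ⊔ R1 = b.orthogonal (Submodule.span (ZMod 2) {n p}) := by
    apply Submodule.eq_of_le_of_finrank_le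
    · apply sup_le
      · intro x hx
        rw [LinearMap.BilinForm.mem_orthogonal_iff]
        intro v hv
        show b v x = 0
        rw [LinearMap.mem_ker, hn, N_zero_iff] at hx
        rcases hmemspan v hv with h1 | h1
        · rw [h1, map_zero, LinearMap.zero_apply]
        · rw [h1]; exact hbN p x hx
      · rintro _ ⟨x, rfl⟩
        rw [LinearMap.BilinForm.mem_orthogonal_iff]
        intro v hv
        show b v (n x) = 0
        rcases hmemspan v hv with h1 | h1
        · rw [h1, map_zero, LinearMap.zero_apply]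
        · rw [h1, h.b_comm]
          apply hbN
          rw [← N_zero_iff]; exact hp1
    · rw [LinearMap.BilinForm.finrank_orthogonal h.nondeg, hf1, hV]
      have h1 := Submodule.finrank_sup_add_finrank_inf_eq (LinearMap.ker n) R1
      rw [hspan, hf1] at h1
      omega
  refine ⟨n p, hp2, ?_, hqu, ?_, ?_, ?_, hfix, d.fixD, ?_, ?_, ?_, ?_⟩
  · rw [hDK]; exact hp1
  · intro v hv hv'
    have h1 : v ∈ R1 := by
      rw [← horth, LinearMap.BilinForm.mem_orthogonal_iff]
      intro w hw
      show b w v = 0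
      rw [h.b_comm]
      exact hv' w (by rw [hDK]; exact hw)
    obtain ⟨x, rfl⟩ := h1
    have h2 : n (n x) = 0 := by rw [hDK] at hv; exact hv
    exact hker2 x h2
  · intro w hw
    rw [h.b_comm]
    exact hbN p w (d.fixD w hw)
  · have h1 : Nat.card D = 2 ^ Module.finrank (ZMod 2) D := by
      have h2 := Module.natCard_eq_pow_finrank (K := ZMod 2) (V := D)
      rwa [Nat.card_zmod] at h2
    have h2 : Module.finrank (ZMod 2) D = Module.finrank (ZMod 2) (LinearMap.ker n) := by rw [hDK]
    rw [h1]
    calc 32 = 2 ^ 5 := by norm_num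
      _ ≤ _ := Nat.pow_le_pow_right (by norm_num) (by omega)
  · intro v hv
    have h1 : v ∈ LinearMap.ker n ⊔ R1 := by
      rw [hperp, LinearMap.BilinForm.mem_orthogonal_iff]
      intro w hw
      show b w v = 0
      rcases hmemspan w hw with h2 | h2
      · rw [h2, map_zero, LinearMap.zero_apply]
      · rw [h2, h.b_comm]; exact hv
    obtain ⟨k, hk, _, ⟨x, rfl⟩, hkx⟩ := Submodule.mem_sup.1 h1
    exact ⟨k, by rw [hDK]; exact hk, x, hkx.symm⟩
  · intro x
    exact hker2 _ (h4 x)
  · intro x x' hx hx'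
    have h1 := idx2 hle2 (by omega) (hR1 x) (hR1 x')
      (fun hc => hx (by obtain ⟨_, ⟨t, rfl⟩, ht⟩ := hc; exact ⟨t, ht.symm⟩))
      (fun hc => hx' (by obtain ⟨_, ⟨t, rfl⟩, ht⟩ := hc; exact ⟨t, ht.symm⟩))
    obtain ⟨_, ⟨t, rfl⟩, ht⟩ := h1
    exact ⟨t, ht.symm⟩
  · intro x x' hx1 hx2 hx1' hx2'
    have hle : Submodule.span (ZMod 2) {n p} ≤ R1.map n := by
      rw [Submodule.span_singleton_le_iff_mem, ← hw]
      exact ⟨n w, ⟨w, rfl⟩, rfl⟩
    have h1 := idx2 hle (by omega) (v := n (n x)) (w := n (n x')) ⟨n x, ⟨x, rfl⟩, rfl⟩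
      ⟨n x', ⟨x', rfl⟩, rfl⟩
      (fun hc => by rcases hmemspan _ hc with h | h; exacts [hx1 h, hx2 h])
      (fun hc => by rcases hmemspan _ hc with h | h; exacts [hx1' h, hx2' h])
    exact hmemspan _ h1

/-- the vectors orthogonal to a hyperplane form a line -/
theorem line_of_perp (h : QF q b) {u : V} (hu : u ≠ 0) (z : V)
    (hz : ∀ w, b w u = 0 → b z w = 0) : z = 0 ∨ z = u := by
  obtain ⟨s, hs⟩ := h.exists_one hu
  rcases zm (b z s) with h5 | h5
  · left
    apply h.nd
    intro y
    rcases zm (b y u) with h6 | h6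
    · exact hz y h6
    · have h7 : b (y + s) u = 0 := by rw [map_add, LinearMap.add_apply, h6, hs, cc]
      have h8 := hz _ h7
      rw [map_add, h5, add_zero] at h8
      exact h8
  · right
    apply eq_of_add
    apply h.nd
    intro y
    rcases zm (b y u) with h6 | h6
    · rw [map_add, LinearMap.add_apply, hz y h6, h.b_comm u y, h6, add_zero]
    · have h7 : b (y + s) u = 0 := by rw [map_add, LinearMap.add_apply, h6, hs, cc]
      have h8 := hz _ h7
      rw [map_add, h5] at h8
      rw [map_add, LinearMap.add_apply, h.b_comm u y, h6]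
      exact h8

/-- a hyperplane has at least half of the elements -/
theorem card_perp [Finite V] (h : QF q b) (u : V) (D : Submodule (ZMod 2) V)
    (hD : ∀ v, b v u = 0 → v ∈ D) : Nat.card V ≤ 2 * Nat.card D := by
  classical
  by_cases hu : ∃ s, b s u = 1
  · obtain ⟨s, hs⟩ := hu
    have hmem : ∀ v : V, ¬ b v u = 0 → v + s ∈ D := by
      intro v hv
      apply hD
      rw [map_add, LinearMap.add_apply, (zm _).resolve_left hv, hs]; decide
    have h2 : Nat.card V ≤ Nat.card (Bool × D) := by
      refine Nat.card_le_card_of_injective (fun v : V =>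
        if hv : b v u = 0 then (true, (⟨v, hD v hv⟩ : D)) else (false, ⟨v + s, hmem v hv⟩)) ?_
      intro v w hvw
      simp only at hvw
      by_cases hv : b v u = 0 <;> by_cases hw : b w u = 0
      · rw [dif_pos hv, dif_pos hw] at hvw
        exact congrArg (fun t => ((t.2 : D) : V)) hvw
      · rw [dif_pos hv, dif_neg hw] at hvw
        exact absurd (congrArg Prod.fst hvw) (by simp)
      · rw [dif_neg hv, dif_pos hw] at hvw
        exact absurd (congrArg Prod.fst hvw) (by simp)
      · rw [dif_neg hv, dif_neg hw] at hvw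
        have := congrArg (fun t => ((t.2 : D) : V)) hvw
        exact add_right_cancel this
    rw [Nat.card_prod] at h2
    simpa using h2
  · push Not at hu
    have h2 : Nat.card V ≤ Nat.card D := by
      refine Nat.card_le_card_of_injective (fun v : V =>
        (⟨v, hD v ((zm _).resolve_right (hu v))⟩ : D)) ?_
      intro v w hvw
      exact congrArg (fun t : D => (t : V)) hvw
    omega

/-! ### isometries trivial on `u^⊥ / u` -/

/-- `α` is trivial on `u^⊥ / ⟨u⟩` -/
def Good (b : LinearMap.BilinForm (ZMod 2) V) (u : V) (α : V ≃ₗ[ZMod 2] V) : Prop :=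
  ∀ v, b v u = 0 → α v = v ∨ α v = v + u

theorem Good.comm (h : QF q b) {u : V} (hu : u ≠ 0) (hqu : q u = 0) {α β : V ≃ₗ[ZMod 2] V}
    (hα : ∀ x, q (α x) = q x) (hβ : ∀ x, q (β x) = q x) (ga : Good b u α) (gb : Good b u β) :
    α * β = β * α := by
  have hfix : ∀ γ : V ≃ₗ[ZMod 2] V, Good b u γ → γ u = u := by
    intro γ hγ
    rcases hγ u (h.b_self u) with h1 | h1
    · exact h1
    · rw [aa] at h1
      exact absurd ((map_eq_zero_iff γ γ.injective).1 h1) hu
  have hau := hfix α ga
  have hbu := hfix β gb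
  -- on the hyperplane
  have h1 : ∀ v, b v u = 0 → α (β v) = β (α v) := by
    intro v hv
    rcases ga v hv with h2 | h2 <;> rcases gb v hv with h3 | h3 <;> rw [h2, h3]
    · exact h2
    · rw [map_add, h2, hau]
    · rw [map_add, h3, hbu, h2]
    · rw [map_add, map_add, h2, h3, hau, hbu]
  -- everywhere
  have h2 : ∀ x, α (β x) = β (α x) := by
    intro x
    have hw : ∀ w, b w u = 0 → b (α (β x) + β (α x)) w = 0 := by
      intro w hw
      -- w = α β w'
      obtain ⟨w1, rfl⟩ := α.surjective w
      obtain ⟨w', rfl⟩ := β.surjective w1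
      have hw' : b w' u = 0 := by
        have h3 := h.b_isom hα (β w') u
        have h4 := h.b_isom hβ w' u
        rw [hau] at h3
        rw [hbu] at h4
        rw [← h4, ← h3]; exact hw
      rw [map_add, LinearMap.add_apply, h.b_isom hα, h.b_isom hβ, h1 w' hw', h.b_isom hβ,
        h.b_isom hα, cc]
    -- hence in the line of u
    obtain ⟨s, hs⟩ := h.exists_one hu
    have h4 : ∀ z, (∀ w, b w u = 0 → b z w = 0) → z = 0 ∨ z = u := by
      intro z hz
      rcases zm (b z s) with h5 | h5
      · left
        apply h.nd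
        intro y
        rcases zm (b y u) with h6 | h6
        · exact hz y h6
        · have h7 : b (y + s) u = 0 := by rw [map_add, LinearMap.add_apply, h6, hs, cc]
          have h8 := hz _ h7
          rw [map_add, h5, add_zero] at h8
          exact h8
      · right
        apply eq_of_add
        apply h.nd
        intro y
        rcases zm (b y u) with h6 | h6
        · rw [map_add, LinearMap.add_apply, hz y h6, h.b_comm u y, h6, add_zero]
        · have h7 : b (y + s) u = 0 := by rw [map_add, LinearMap.add_apply, h6, hs, cc]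
          have h8 := hz _ h7
          rw [map_add, h5] at h8
          rw [map_add, LinearMap.add_apply, h.b_comm u y, h6]
          exact h8
    rcases h4 _ hw with h5 | h5
    · exact eq_of_add h5
    · exfalso
      have h6 : α (β x) = β (α x) + u := by
        rw [← h5]
        apply one_smul_inj
        match_scalars <;> decide
      have h7 := congrArg q h6
      rw [h.q_add, hα, hβ, hβ, hα, hqu, add_zero] at h7
      have h8 : b (β (α x)) u = 0 := by
        have : ∀ a b : ZMod 2, a = a + b → b = 0 := by decide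
        exact this _ _ h7
      have h9 : b x u = 0 := by
        have h10 := h.b_isom hβ (α x) u
        rw [hbu] at h10
        have h11 := h.b_isom hα x u
        rw [hau] at h11
        rw [← h11, ← h10]; exact h8
      have h12 := h1 x h9
      rw [h12, aa] at h5
      exact hu h5.symm
  ext x
  exact h2 x

/-- product of two non-good isometries -/
theorem Yu.good_mul (h : QF q b) {y : V ≃ₗ[ZMod 2] V} {D : Submodule (ZMod 2) V} {u : V}
    (U : Yu q b y D u) {α β : V ≃ₗ[ZMod 2] V}
    (hα : ∀ x, q (α x) = q x) (hβ : ∀ x, q (β x) = q x)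
    (aD : ∀ v ∈ D, α v = v ∨ α v = v + u) (bD : ∀ v ∈ D, β v = v ∨ β v = v + u)
    (ay : (∀ x, α (y x) = y (α x)) ∨ ∀ x, α (y x) = y (y (y (α x))))
    (hby : (∀ x, β (y x) = y (β x)) ∨ ∀ x, β (y x) = y (y (y (β x))))
    (y4 : ∀ x, y (y (y (y x))) = x)
    (ga : ¬ Good b u α) (gb : ¬ Good b u β) : Good b u (α * β) := by
  set n := N y with hn
  have hmem : ∀ s t : V, (s = 0 ∨ s = u) → (t = 0 ∨ t = u) → (s + t = 0 ∨ s + t = u) := by
    rintro s t (rfl | rfl) (rfl | rfl)
    · left; rw [add_zero]
    · right; rw [zero_add]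
    · right; rw [add_zero]
    · left; rw [aa]
  -- general facts on one isometry
  have key : ∀ γ : V ≃ₗ[ZMod 2] V, (∀ x, q (γ x) = q x) → (∀ v ∈ D, γ v = v ∨ γ v = v + u) →
      ((∀ x, γ (y x) = y (γ x)) ∨ ∀ x, γ (y x) = y (y (y (γ x)))) →
      γ u = u ∧ (∀ x, ∃ t, γ (n x) + n x = n (n t)) ∧
        (∀ x, γ (n (n x)) + n (n x) = 0 ∨ γ (n (n x)) + n (n x) = u) := by
    intro γ hγ gD gy
    have hγu : γ u = u := by
      rcases gD u U.u_mem with h1 | h1
      · exact h1
      · rw [aa] at h1
        exact absurd ((map_eq_zero_iff γ γ.injective).1 h1) U.u_ne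
    have hγN : ∀ x, ∃ t, γ (n x) = n (γ x) + n (n t) := by
      intro x
      rcases gy with h1 | h1
      · refine ⟨0, ?_⟩
        rw [map_zero, map_zero, add_zero, hn, N_apply, N_apply, map_add, h1]
      · refine ⟨γ x + n (γ x), ?_⟩
        rw [hn, N_apply, N_apply, map_add, h1, NN_apply]
        simp only [map_add]
        apply one_smul_inj
        match_scalars <;> decide
    have hγNN : ∀ x, γ (n (n x)) = n (n (γ x)) := by
      intro x
      rw [hn, NN_apply, NN_apply, map_add]
      rcases gy with h1 | h1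
      · rw [h1, h1]
      · rw [h1, h1, y4]
    have hperp : ∀ x, b (γ x + x) u = 0 := by
      intro x
      have h1 := h.b_isom hγ x u
      rw [hγu] at h1
      rw [map_add, LinearMap.add_apply, h1, cc]
    refine ⟨hγu, ?_, ?_⟩
    · intro x
      obtain ⟨t, ht⟩ := hγN x
      obtain ⟨k, hk, x', hx'⟩ := U.split _ (hperp x)
      have hk0 : n k = 0 := by
        rw [hn, N_zero_iff]
        exact U.fixk k hk
      refine ⟨x' + t, ?_⟩
      have h2 : n (γ x) + n x = n (n x') := by
        rw [← map_add, hx', map_add, hk0, zero_add]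
      rw [ht, map_add, map_add, ← h2]
      abel
    · intro x
      obtain ⟨k, hk, x', hx'⟩ := U.split _ (hperp x)
      have hk0 : n k = 0 := by
        rw [hn, N_zero_iff]
        exact U.fixk k hk
      have h2 : γ (n (n x)) + n (n x) = n (n (n x')) := by
        rw [hγNN, ← map_add, ← map_add, hx', map_add, hk0, zero_add]
      rw [h2]
      exact U.NNN x'
  obtain ⟨au, aR, aR2⟩ := key α hα aD ay
  obtain ⟨bu, bR, bR2⟩ := key β hβ bD hby
  -- non-good: a witness in the range of N
  have wit : ∀ γ : V ≃ₗ[ZMod 2] V, (∀ v ∈ D, γ v = v ∨ γ v = v + u) → ¬ Good b u γ →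
      ∃ x, γ (n x) + n x ≠ 0 ∧ γ (n x) + n x ≠ u := by
    intro γ gD hg
    by_contra hc
    push Not at hc
    apply hg
    intro v hv
    obtain ⟨k, hk, x, rfl⟩ := U.split v hv
    have h1 : γ k + k = 0 ∨ γ k + k = u := by
      rcases gD k hk with h2 | h2
      · left; rw [h2, aa]
      · right; rw [h2, add_comm k u, add_assoc, aa, add_zero]
    have h2 : γ (n x) + n x = 0 ∨ γ (n x) + n x = u := by
      by_cases h3 : γ (n x) + n x = 0
      · exact Or.inl h3
      · exact Or.inr (hc x h3)
    have h3 := hmem _ _ h1 h2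
    have h4 : γ (k + n x) + (k + n x) = (γ k + k) + (γ (n x) + n x) := by rw [map_add]; abel
    rw [← h4] at h3
    rcases h3 with h5 | h5
    · left; exact eq_of_add h5
    · right
      rw [← h5]
      apply one_smul_inj
      match_scalars <;> decide
  obtain ⟨x, hx1, hx2⟩ := wit α aD ga
  obtain ⟨x', hx1', hx2'⟩ := wit β bD gb
  -- witnesses are not in R2
  have hxR : ¬ ∃ t, n x = n (n t) := by
    rintro ⟨t, ht⟩
    have h3 := aR2 t
    rw [← ht] at h3
    rcases h3 with h3 | h3
    · exact hx1 h3
    · exact hx2 h3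
  have hxR' : ¬ ∃ t, n x' = n (n t) := by
    rintro ⟨t, ht⟩
    have h3 := bR2 t
    rw [← ht] at h3
    rcases h3 with h3 | h3
    · exact hx1' h3
    · exact hx2' h3
  -- β moves N x too
  obtain ⟨t0, ht0⟩ := U.R12 x x' hxR hxR'
  have hb1 : β (n x) + n x ≠ 0 ∧ β (n x) + n x ≠ u := by
    have h3 := bR2 t0
    rw [hn, ← ht0] at h3
    have h4 : (β (n x' ) + n x') = (β (n x) + n x) + (β (n x + n x') + (n x + n x')) := by
      rw [map_add]
      apply one_smul_inj
      match_scalars <;> decide
    constructor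
    · intro hc
      rcases hmem _ _ (Or.inl hc) h3 with h5 | h5
      · exact hx1' (by rw [h4]; exact h5)
      · exact hx2' (by rw [h4]; exact h5)
    · intro hc
      rcases hmem _ _ (Or.inr hc) h3 with h5 | h5
      · exact hx1' (by rw [h4]; exact h5)
      · exact hx2' (by rw [h4]; exact h5)
  -- α β on N x
  have hαβ : α (β (n x)) + n x = 0 ∨ α (β (n x)) + n x = u := by
    obtain ⟨s, hs⟩ := aR x
    obtain ⟨s', hs'⟩ := bR x
    have h3 : (β (n x) + n x) + (α (n x) + n x) = 0 ∨ (β (n x) + n x) + (α (n x) + n x) = u := by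
      have e1 : N y (N y s') = β (n x) + n x := hs'.symm
      have e2 : N y (N y s) = α (n x) + n x := hs.symm
      have h6 := U.R2u s' s (by rw [e1]; exact hb1.1) (by rw [e1]; exact hb1.2)
        (by rw [e2]; exact hx1) (by rw [e2]; exact hx2)
      rw [e1, e2] at h6
      exact h6
    have h4 := aR2 s'
    rw [← hs'] at h4
    have h5 : α (β (n x)) + n x = (α (β (n x) + n x) + (β (n x) + n x)) +
        ((β (n x) + n x) + (α (n x) + n x)) := by
      rw [map_add]
      apply one_smul_inj
      match_scalars <;> decide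
    rw [h5]
    exact hmem _ _ h4 h3
  -- on R2
  have hR2 : ∀ t, α (β (n (n t))) + n (n t) = 0 ∨ α (β (n (n t))) + n (n t) = u := by
    intro t
    have h3 := aR2 t
    have h4 := bR2 t
    have h5 : α (β (n (n t))) + n (n t) = α (β (n (n t)) + n (n t)) + (α (n (n t)) + n (n t)) := by
      rw [map_add]
      apply one_smul_inj
      match_scalars <;> decide
    rw [h5]
    refine hmem _ _ ?_ h3
    rcases h4 with h6 | h6
    · left; rw [h6, map_zero]
    · right; rw [h6, au]
  intro v hv
  obtain ⟨k, hk, z, rfl⟩ := U.split v hv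
  have h1 : α (β k) + k = 0 ∨ α (β k) + k = u := by
    have h5 : α (β k) + k = α (β k + k) + (α k + k) := by
      rw [map_add]
      apply one_smul_inj
      match_scalars <;> decide
    rw [h5]
    refine hmem _ _ ?_ ?_
    · rcases bD k hk with h2 | h2
      · left; rw [h2, aa, map_zero]
      · right; rw [h2, add_comm k u, add_assoc, aa, add_zero, au]
    · rcases aD k hk with h2 | h2
      · left; rw [h2, aa]
      · right; rw [h2, add_comm k u, add_assoc, aa, add_zero]
  have h2 : α (β (n z)) + n z = 0 ∨ α (β (n z)) + n z = u := by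
    by_cases hz : ∃ t, n z = n (n t)
    · obtain ⟨t, ht⟩ := hz
      rw [ht]; exact hR2 t
    · obtain ⟨t, ht⟩ := U.R12 x z hxR hz
      have h5 : n z = n x + n (n t) := by
        rw [hn, ← ht, ← hn]
        apply one_smul_inj
        match_scalars <;> decide
      have h6 : α (β (n z)) + n z = (α (β (n x)) + n x) + (α (β (n (n t))) + n (n t)) := by
        rw [h5, map_add, map_add]; abel
      rw [h6]
      exact hmem _ _ hαβ (hR2 t)
  have h3 := hmem _ _ h1 h2
  show α (β _) = _ ∨ α (β _) = _
  have h4 : α (β (k + n z)) + (k + n z) = (α (β k) + k) + (α (β (n z)) + n z) := by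
    rw [map_add, map_add]; abel
  rw [← h4] at h3
  rcases h3 with h5 | h5
  · left; exact eq_of_add h5
  · right
    rw [← h5]
    apply one_smul_inj
    match_scalars <;> decide

/-- a space with a totally isotropic subspace of index at most 2 and small radical is small -/
theorem card_le_of_isotropic [Finite V] (h : QF q b) {D B : Submodule (ZMod 2) V} (hBD : B ≤ D)
    (ti : ∀ v ∈ B, ∀ w ∈ B, b v w = 0)
    (idx : ∀ v ∈ D, ∀ w ∈ D, v ∉ B → w ∉ B → v + w ∈ B) {u : V}
    (rad : ∀ v ∈ D, (∀ w ∈ D, b v w = 0) → v = 0 ∨ v = u) : Nat.card D ≤ 8 := by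
  classical
  have card2 : ∀ (X Y : Submodule (ZMod 2) V), X ≤ Y →
      (∀ v ∈ Y, ∀ w ∈ Y, v ∉ X → w ∉ X → v + w ∈ X) → Nat.card Y ≤ 2 * Nat.card X := by
    intro X Y hXY hidx
    by_cases hne : ∃ p ∈ Y, p ∉ X
    · obtain ⟨p, hp, hpX⟩ := hne
      have h2 : Nat.card Y ≤ Nat.card (Bool × X) := by
        refine Nat.card_le_card_of_injective (fun v : Y =>
          if hv : (v : V) ∈ X then (true, (⟨v, hv⟩ : X)) else (false, ⟨v + p,
            hidx v v.2 p hp hv hpX⟩)) ?_
        intro v w hvw
        simp only at hvw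
        by_cases hv : (v : V) ∈ X <;> by_cases hw : (w : V) ∈ X
        · rw [dif_pos hv, dif_pos hw] at hvw
          have := congrArg (fun t => ((t.2 : X) : V)) hvw
          exact Subtype.ext this
        · rw [dif_pos hv, dif_neg hw] at hvw
          exact absurd (congrArg Prod.fst hvw) (by simp)
        · rw [dif_neg hv, dif_pos hw] at hvw
          exact absurd (congrArg Prod.fst hvw) (by simp)
        · rw [dif_neg hv, dif_neg hw] at hvw
          have := congrArg (fun t => ((t.2 : X) : V)) hvw
          exact Subtype.ext (add_right_cancel this)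
      rw [Nat.card_prod] at h2
      simpa using h2
    · push Not at hne
      have h2 : Nat.card Y ≤ Nat.card X :=
        Nat.card_le_card_of_injective (fun v : Y => (⟨v, hne v v.2⟩ : X))
          (fun v w hvw => Subtype.ext (congrArg (fun t : X => (t : V)) hvw))
      omega
  have hD := card2 B D hBD idx
  by_cases hne : ∃ p ∈ D, p ∉ B
  · obtain ⟨p, hp, hpB⟩ := hne
    -- radical
    let R : Submodule (ZMod 2) V := B ⊓ LinearMap.ker (b p)
    have hR : Nat.card R ≤ 2 := by
      have h2 : ∀ v ∈ R, v = 0 ∨ v = u := by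
        intro v hv
        refine rad v (hBD hv.1) ?_
        intro w hw
        by_cases hwB : w ∈ B
        · exact ti v hv.1 w hwB
        · have h3 := idx w hw p hp hwB hpB
          have h4 := ti v hv.1 _ h3
          have h5 : b v p = 0 := by rw [h.b_comm]; exact hv.2
          rw [map_add, h5, add_zero] at h4
          exact h4
      have h3 : Nat.card R ≤ Nat.card Bool := by
        refine Nat.card_le_card_of_injective (fun v : R => if (v : V) = 0 then true else false) ?_
        intro v w hvw
        simp only at hvw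
        by_cases hv : (v : V) = 0 <;> by_cases hw : (w : V) = 0
        · exact Subtype.ext (hv.trans hw.symm)
        · rw [if_pos hv, if_neg hw] at hvw; simp at hvw
        · rw [if_neg hv, if_pos hw] at hvw; simp at hvw
        · exact Subtype.ext (((h2 v v.2).resolve_left hv).trans
            ((h2 w w.2).resolve_left hw).symm)
      simpa using h3
    have hB := card2 R B inf_le_left (by
      intro v hv w hw hvR hwR
      refine ⟨B.add_mem hv hw, ?_⟩
      show b p (v + w) = 0
      rw [map_add]
      have h1 : b p v = 1 := (zm _).resolve_left fun hc => hvR ⟨hv, hc⟩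
      have h2 : b p w = 1 := (zm _).resolve_left fun hc => hwR ⟨hw, hc⟩
      rw [h1, h2]; decide)
    omega
  · push Not at hne
    have h1 : ∀ v ∈ D, v = 0 ∨ v = u := fun v hv => rad v hv fun w hw => ti v (hne v hv) w
      (hne w hw)
    have h3 : Nat.card D ≤ Nat.card Bool := by
      refine Nat.card_le_card_of_injective (fun v : D => if (v : V) = 0 then true else false) ?_
      intro v w hvw
      simp only at hvw
      by_cases hv : (v : V) = 0 <;> by_cases hw : (w : V) = 0
      · exact Subtype.ext (hv.trans hw.symm)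
      · rw [if_pos hv, if_neg hw] at hvw; simp at hvw
      · rw [if_neg hv, if_pos hw] at hvw; simp at hvw
      · exact Subtype.ext (((h1 v v.2).resolve_left hv).trans
          ((h1 w w.2).resolve_left hw).symm)
    have h4 : Nat.card Bool = 2 := by simp
    omega

end

end Cfsg.Agent.Co2Type.RedLin
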