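import Cfsg.Agent.Co2Type.Pair
import Cfsg.Agent.Co2Type.RedLin

/-!
# Exclusion of the reducible case in the Co2 type theorem: group theory (R03, piece A2; helper587)

`Wd Q z x`: `Q` extraspecial of order `2^9` with centre `⟨z⟩`, `x ∈ Q` of order 4 with `⟨x⟩` normal in
`C_G(z)`.  Two such situations with `z z' = z' z`, `z ≠ z'`, are compared.
-/

set_option autoImplicit false

namespace Cfsg.Agent.Co2Type.RedGroup

open Cfsg.Agent.Co2Type.Quad Cfsg.Agent.Co2Type.Pair Cfsg.Agent.Co2Type.RedLin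

variable {G : Type*} [Group G] {Q Q' : Subgroup G} {z z' x x' : G}

/-- `Q` extraspecial with `⟨x⟩` normal in the centraliser of its centre -/
structure Wd (Q : Subgroup G) (z x : G) : Prop where
  large : Large Q z
  card : Nat.card Q = 2 ^ 9
  mem : x ∈ Q
  sq : x * x = z
  norm : ∀ c, c * z = z * c → c * x * c⁻¹ = x ∨ c * x * c⁻¹ = x * z

theorem Wd.conj (w : Wd Q z x) (g : G) :
    Wd (Q.map (MulAut.conj g).toMonoidHom) (g * z * g⁻¹) (g * x * g⁻¹) where
  large := w.large.conj g
  card := by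
    rw [← w.card]
    exact Subgroup.card_map_of_injective (MulAut.conj g).injective
  mem := ⟨x, w.mem, rfl⟩
  sq := by rw [← w.sq]; group
  norm := by
    intro c hc
    have h1 : (g⁻¹ * c * g) * z = z * (g⁻¹ * c * g) := by
      calc (g⁻¹ * c * g) * z = g⁻¹ * (c * (g * z * g⁻¹)) * g := by group
        _ = g⁻¹ * ((g * z * g⁻¹) * c) * g := by rw [hc]
        _ = _ := by group
    rcases w.norm _ h1 with h2 | h2
    · left
      calc c * (g * x * g⁻¹) * c⁻¹ = g * ((g⁻¹ * c * g) * x * (g⁻¹ * c * g)⁻¹) * g⁻¹ := by group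
        _ = g * x * g⁻¹ := by rw [h2]
    · right
      calc c * (g * x * g⁻¹) * c⁻¹ = g * ((g⁻¹ * c * g) * x * (g⁻¹ * c * g)⁻¹) * g⁻¹ := by group
        _ = g * (x * z) * g⁻¹ := by rw [h2]
        _ = g * x * g⁻¹ * (g * z * g⁻¹) := by group

theorem qf (h : Large Q z) : QF h.q h.b := ⟨h.q_add', fun _ hv => h.b_nondeg hv⟩

theorem finite_Q (w : Wd Q z x) : Finite Q :=
  (Nat.card_pos_iff.1 (by rw [w.card]; norm_num)).2

theorem finrank_V (w : Wd Q z x) : Module.finrank (ZMod 2) w.large.V = 8 := by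
  have := finite_Q w
  have : Module.Finite (ZMod 2) w.large.V := Module.Finite.of_finite
  have h := Module.natCard_eq_pow_finrank (K := ZMod 2) (V := w.large.V)
  have h1 := w.large.card_eq
  rw [w.card] at h1
  have h2 : Nat.card w.large.V = 2 ^ 8 := by omega
  rw [h2, Nat.card_zmod] at h
  exact (Nat.pow_right_injective le_rfl h).symm

/-! ### the action of elements commuting with `z` -/

/-- action of an element commuting with `z` -/
noncomputable def A (h : Large Q z) (c : G) (hc : c * z = z * c) : h.V ≃ₗ[ZMod 2] h.V :=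
  h.act ⟨c, Subgroup.mem_centralizer_singleton_iff.2 hc⟩

theorem A_pr (h : Large Q z) (c : G) (hc : c * z = z * c) (d : Q) :
    A h c hc (h.pr d) = h.pr ⟨c * d * c⁻¹, h.conj_mem c hc d d.2⟩ := h.act_pr _ d

theorem A_q (h : Large Q z) (c : G) (hc : c * z = z * c) (v : h.V) : h.q (A h c hc v) = h.q v :=
  h.q_act _ v

theorem mul_comm_z {a b z : G} (ha : a * z = z * a) (hb : b * z = z * b) :
    a * b * z = z * (a * b) := ((show Commute a z from ha).mul_left (show Commute b z from hb)).eq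

theorem A_mul (h : Large Q z) {a b : G} (ha : a * z = z * a) (hb : b * z = z * b) :
    A h (a * b) (mul_comm_z ha hb) = A h a ha * A h b hb := by
  rw [A, A, A, ← map_mul]
  rfl

theorem A_mul_apply (h : Large Q z) {a b : G} (ha : a * z = z * a) (hb : b * z = z * b) (v : h.V) :
    A h (a * b) (mul_comm_z ha hb) v = A h a ha (A h b hb v) := by
  rw [A_mul h ha hb]; rfl

theorem A_congr (h : Large Q z) {a b : G} (ha : a * z = z * a) (hb : b * z = z * b) (hab : a = b) :
    A h a ha = A h b hb := by subst hab; rfl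

theorem A_one (h : Large Q z) (h1 : (1 : G) * z = z * 1) : A h 1 h1 = 1 := by
  have : (⟨1, Subgroup.mem_centralizer_singleton_iff.2 h1⟩ :
    Subgroup.centralizer ({z} : Set G)) = 1 := rfl
  rw [A, this, map_one]

theorem mem_of_A [Finite Q] (h : Large Q z) {c : G} (hc : c * z = z * c) (h1 : A h c hc = 1) :
    c ∈ Q := h.mem_of_act _ h1

theorem pr_congr (h : Large Q z) {a b : Q} (hab : (a : G) = b) : h.pr a = h.pr b := by
  rw [Subtype.ext hab]

/-! ### the space `D̄` -/

/-- image of `C_Q(z')` -/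
def Dbar (h : Large Q z) (z' : G) : Submodule (ZMod 2) h.V where
  carrier := {v | ∃ d : Q, (d : G) * z' = z' * d ∧ h.pr d = v}
  zero_mem' := ⟨1, by simp, h.pr_one⟩
  add_mem' := by
    rintro _ _ ⟨d, hd, rfl⟩ ⟨e, he, rfl⟩
    exact ⟨d * e, mul_comm_z hd he, h.pr_mul d e⟩
  smul_mem' := by
    rintro c _ ⟨d, hd, rfl⟩
    rcases zm c with rfl | rfl
    · rw [zero_smul]; exact ⟨1, by simp, h.pr_one⟩
    · rw [one_smul]; exact ⟨d, hd, rfl⟩

theorem mem_Dbar (h : Large Q z) {v : h.V} :
    v ∈ Dbar h z' ↔ ∃ d : Q, (d : G) * z' = z' * d ∧ h.pr d = v := Iff.rfl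

/-- if `z'` commutes with `z`: a lift of a vector of `D̄` commutes with `z'` -/
theorem comm_of_mem_Dbar (h : Large Q z) (hc : z * z' = z' * z) {d : Q}
    (hd : h.pr d ∈ Dbar h z') : (d : G) * z' = z' * d := by
  obtain ⟨e, he, hde⟩ := hd
  rcases h.pr_eq_pr.1 hde with h1 | h1
  · rw [← h1]; exact he
  · have h2 : (d : G) = e * z := by rw [h1, mul_assoc, h.z_sq, mul_one]
    rw [h2]; exact mul_comm_z he hc

/-- `z'` fixes the image of `d`: then `z'` commutes with `d` or `z' d z' = d z` -/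
theorem fixed_cases (h : Large Q z) (hc : z' * z = z * z') {d : Q}
    (hd : A h z' hc (h.pr d) = h.pr d) :
    (d : G) * z' = z' * d ∨ z' * d = d * z' * z := by
  rw [A_pr, h.pr_eq_pr] at hd
  rcases hd with h1 | h1
  · left
    have h2 : z' * d * z'⁻¹ = d := h1
    rw [mul_inv_eq_iff_eq_mul] at h2
    exact h2.symm
  · right
    have h2 : z' * d * z'⁻¹ = d * z := h1
    rw [mul_inv_eq_iff_eq_mul] at h2
    rw [h2, mul_assoc, mul_assoc, hc]

theorem Dbar_idx (h : Large Q z) (hc : z' * z = z * z') {v w : h.V}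
    (hv : A h z' hc v = v) (hw : A h z' hc w = w) (hv' : v ∉ Dbar h z') (hw' : w ∉ Dbar h z') :
    v + w ∈ Dbar h z' := by
  obtain ⟨d, rfl⟩ := h.pr_surjective v
  obtain ⟨e, rfl⟩ := h.pr_surjective w
  rcases fixed_cases h hc hv with h1 | h1
  · exact absurd ⟨d, h1, rfl⟩ hv'
  rcases fixed_cases h hc hw with h2 | h2
  · exact absurd ⟨e, h2, rfl⟩ hw'
  refine ⟨d * e, ?_, h.pr_mul d e⟩
  show (d : G) * e * z' = z' * (d * e)
  have hez := h.comm_z e e.2
  calc (d : G) * e * z' = d * (e * z' * z) * z := by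
        rw [mul_assoc (d : G), mul_assoc (d : G), mul_assoc ((e : G) * z'), h.z_sq, mul_one]
    _ = d * (z' * e) * z := by rw [h2]
    _ = d * z' * (e * z) := by group
    _ = d * z' * (z * e) := by rw [hez]
    _ = (d * z' * z) * e := by group
    _ = z' * d * e := by rw [h1]
    _ = z' * (d * e) := by group

/-! ### centralising case -/

/-- `z'` centralises `x` if `z` centralises `x'` -/
theorem cen_symm (w : Wd Q z x) (w' : Wd Q' z' x') (h : x' * z = z * x') : x * z' = z' * x := by
  have hz'x : z' * x * z'⁻¹ = x := by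
    have e : z' * x * z'⁻¹ = x' * (x' * x * x'⁻¹) * x'⁻¹ := by rw [← w'.sq]; group
    rw [e]
    rcases w.norm x' h with h1 | h1
    · rw [h1, h1]
    · rw [h1]
      calc x' * (x * z) * x'⁻¹ = (x' * x * x'⁻¹) * (x' * z * x'⁻¹) := by group
        _ = x * z * (z * x' * x'⁻¹) := by rw [h1, h]
        _ = x * (z * z) := by group
        _ = x := by rw [w.large.z_sq, mul_one]
  rw [mul_inv_eq_iff_eq_mul] at hz'x
  exact hz'x.symm

theorem x_comm_z (w : Wd Q z x) : x * z = z * x := w.large.comm_z x w.mem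

/-- if `z'` is not in `Q` and `z` centralises `x'` then `C_Q(z')` centralises `x'` -/
theorem dsub_comm_x' (w : Wd Q z x) (w' : Wd Q' z' x') (hz' : z' ∉ Q) (h : x' * z = z * x')
    {d : G} (hd : d ∈ Q) (hdz : d * z' = z' * d) : d * x' = x' * d := by
  rcases w'.norm d hdz with h1 | h1
  · rwa [mul_inv_eq_iff_eq_mul] at h1
  · exfalso
    apply hz'
    have h2 : x' * d⁻¹ * x'⁻¹ ∈ Q := w.large.conj_mem x' h _ (inv_mem hd)
    have h3 : d * (x' * d⁻¹ * x'⁻¹) = z' := by
      calc d * (x' * d⁻¹ * x'⁻¹) = (d * x' * d⁻¹) * x'⁻¹ := by group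
        _ = x' * z' * x'⁻¹ := by rw [h1]
        _ = z' * x' * x'⁻¹ := by rw [x_comm_z w']
        _ = z' := by group
    rw [← h3]
    exact mul_mem hd h2

/-- the isometry `y` of order four -/
theorem yd (w : Wd Q z x) (w' : Wd Q' z' x') (hz' : z' ∉ Q) (h : x' * z = z * x') :
    Yd w.large.q (A w.large x' h) (Dbar w.large z') := by
  have hfin := finite_Q w
  have hz'z : z' * z = z * z' := by
    rw [← w'.sq]; exact mul_comm_z h h
  have hyy : ∀ v, A w.large x' h (A w.large x' h v) = A w.large z' hz'z v := by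
    intro v
    rw [← A_mul_apply w.large h h]
    exact congrArg (fun t : w.large.V ≃ₗ[ZMod 2] w.large.V => t v)
      (A_congr w.large _ _ w'.sq)
  have hzz : ∀ v, A w.large z' hz'z (A w.large z' hz'z v) = v := by
    intro v
    rw [← A_mul_apply w.large hz'z hz'z]
    have h1 : (1 : G) * z = z * 1 := by simp
    rw [A_congr w.large (mul_comm_z hz'z hz'z) h1 w'.large.z_sq, A_one]
    rfl
  refine ⟨A_q _ _ _, ?_, ?_, ?_, ?_⟩
  · intro v
    rw [hyy, hyy, hzz]
  · by_contra hc
    push Not at hc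
    apply hz'
    apply mem_of_A w.large hz'z
    ext v
    rw [← hyy, hc]; rfl
  · rintro _ ⟨d, hd, rfl⟩
    rw [A_pr]
    apply pr_congr
    show x' * d * x'⁻¹ = d
    rw [← dsub_comm_x' w w' hz' h d.2 hd]; group
  · intro v u hv hu
    rw [hyy] at hv hu
    exact Dbar_idx w.large hz'z hv hu

/-- **the main lemma of the centralising case** -/
theorem card_Dbar_le (w : Wd Q z x) (w' : Wd Q' z' x') (hz' : z' ∉ Q) (h : x' * z = z * x')
    (hI : ∀ i ∈ Q ⊓ Q', ∀ d ∈ Q, d * z' = z' * d → i * d = d * i) {r : w'.large.V}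
    (hrad : ∀ v ∈ Dbar w'.large z, (∀ u ∈ Dbar w'.large z, w'.large.b v u = 0) → v = 0 ∨ v = r) :
    Nat.card (Dbar w'.large z) ≤ 8 := by
  have hfin := finite_Q w
  have hfin' := finite_Q w'
  have hz'z : z' * z = z * z' := by
    rw [← w'.sq]; exact mul_comm_z h h
  have y := yd w w' hz' h
  obtain ⟨u, U⟩ := y.exists_u (finrank_V w) (qf w.large)
  -- elements of D'
  have hID : ∀ i : Q, (i : G) ∈ Q' → w.large.pr i = 0 ∨ w.large.pr i = u := by
    intro i hi
    refine U.rad _ ⟨i, w'.large.comm_z i hi, rfl⟩ ?_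
    rintro _ ⟨d, hd, rfl⟩
    rw [w.large.b_pr]
    exact hI i (Subgroup.mem_inf.2 ⟨i.2, hi⟩) d d.2 hd
  have hD : ∀ (a : G), a ∈ Q' → ∀ (ha : a * z = z * a), ∀ v ∈ Dbar w.large z',
      A w.large a ha v = v ∨ A w.large a ha v = v + u := by
    rintro a haQ ha _ ⟨d, hd, rfl⟩
    have h1 := commutator_mem w.large w'.large (mem_dsub.2 ⟨d.2, hd⟩ : (d : G) ∈ dsub Q z')
      (mem_dsub.2 ⟨haQ, ha⟩ : a ∈ dsub Q' z)
    have h2 : a * d * a⁻¹ * (d : G)⁻¹ ∈ Q ⊓ Q' := by
      have h3 := inv_mem h1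
      have e : ((d : G) * a * (d : G)⁻¹ * a⁻¹)⁻¹ = a * d * a⁻¹ * (d : G)⁻¹ := by group
      rwa [e] at h3
    have h3 : A w.large a ha (w.large.pr d) =
        w.large.pr ⟨a * d * a⁻¹ * (d : G)⁻¹, (Subgroup.mem_inf.1 h2).1⟩ + w.large.pr d := by
      rw [A_pr, ← w.large.pr_mul]
      apply pr_congr
      show a * d * a⁻¹ = (a * d * a⁻¹ * (d : G)⁻¹) * d
      group
    rw [h3]
    rcases hID ⟨_, (Subgroup.mem_inf.1 h2).1⟩ (Subgroup.mem_inf.1 h2).2 with h4 | h4
    · left; rw [h4, zero_add]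
    · right; rw [h4, add_comm]
  have hyy : ∀ v, A w.large x' h (A w.large x' h v) = A w.large z' hz'z v := by
    intro v
    rw [← A_mul_apply w.large h h]
    exact congrArg (fun t : w.large.V ≃ₗ[ZMod 2] w.large.V => t v)
      (A_congr w.large _ _ w'.sq)
  have hay : ∀ (a : G), a ∈ Q' → ∀ (ha : a * z = z * a),
      (∀ v, A w.large a ha (A w.large x' h v) = A w.large x' h (A w.large a ha v)) ∨
      ∀ v, A w.large a ha (A w.large x' h v) =
        A w.large x' h (A w.large x' h (A w.large x' h (A w.large a ha v))) := by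
    intro a haQ ha
    rcases w'.large.comm a haQ x' w'.mem with h1 | h1
    · left
      intro v
      rw [← A_mul_apply w.large ha h, ← A_mul_apply w.large h ha]
      exact congrArg (fun t : w.large.V ≃ₗ[ZMod 2] w.large.V => t v)
        (A_congr w.large _ _ h1)
    · right
      intro v
      rw [hyy (A w.large x' h (A w.large a ha v)), ← A_mul_apply w.large ha h,
        ← A_mul_apply w.large h ha, ← A_mul_apply w.large hz'z (mul_comm_z h ha)]
      refine congrArg (fun t : w.large.V ≃ₗ[ZMod 2] w.large.V => t v)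
        (A_congr w.large _ _ ?_)
      rw [h1]
      exact w'.large.comm_z _ (mul_mem w'.mem haQ)
  -- good elements
  have hgmul : ∀ (a a' : G) (ha : a * z = z * a) (ha' : a' * z = z * a'),
      Good w.large.b u (A w.large a ha) → Good w.large.b u (A w.large a' ha') →
      Good w.large.b u (A w.large (a * a') (mul_comm_z ha ha')) := by
    intro a a' ha ha' g g' v hv
    rw [A_mul_apply w.large ha ha']
    have hau : A w.large a ha u = u := by
      rcases g u ((qf w.large).b_self u) with h1 | h1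
      · exact h1
      · rw [aa] at h1
        exact absurd ((map_eq_zero_iff _ (A w.large a ha).injective).1 h1) U.u_ne
    rcases g' v hv with h1 | h1 <;> rcases g v hv with h2 | h2 <;> rw [h1]
    · left; exact h2
    · right; exact h2
    · right; rw [map_add, h2, hau]
    · left; rw [map_add, h2, hau, add_assoc, aa, add_zero]
  -- the isotropic subspace
  let B : Submodule (ZMod 2) w'.large.V :=
    { carrier := {v | ∃ (a : Q') (ha : (a : G) * z = z * a),
        Good w.large.b u (A w.large a ha) ∧ w'.large.pr a = v}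
      zero_mem' := by
        refine ⟨1, by simp, ?_, w'.large.pr_one⟩
        intro v _
        left
        have := A_one w.large (by simp : (1 : G) * z = z * 1)
        exact congrArg (fun t : w.large.V ≃ₗ[ZMod 2] w.large.V => t v) this
      add_mem' := by
        rintro _ _ ⟨a, ha, g, rfl⟩ ⟨a', ha', g', rfl⟩
        exact ⟨a * a', mul_comm_z ha ha', hgmul a a' ha ha' g g', w'.large.pr_mul a a'⟩
      smul_mem' := by
        rintro c _ ⟨a, ha, g, rfl⟩
        rcases zm c with rfl | rfl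
        · rw [zero_smul]
          refine ⟨1, by simp, ?_, w'.large.pr_one⟩
          intro v _
          left
          have := A_one w.large (by simp : (1 : G) * z = z * 1)
          exact congrArg (fun t : w.large.V ≃ₗ[ZMod 2] w.large.V => t v) this
        · rw [one_smul]; exact ⟨a, ha, g, rfl⟩ }
  refine card_le_of_isotropic (qf w'.large) (D := Dbar w'.large z) (B := B) ?_ ?_ ?_ hrad
  · rintro _ ⟨a, ha, -, rfl⟩
    exact ⟨a, ha, rfl⟩
  · rintro _ ⟨a, ha, g, rfl⟩ _ ⟨a', ha', g', rfl⟩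
    rw [w'.large.b_pr]
    rcases w'.large.comm a a.2 a' a'.2 with h1 | h1
    · exact h1
    · exfalso
      apply hz'
      apply mem_of_A w.large hz'z
      have h2 := Good.comm (qf w.large) U.u_ne U.q_u (A_q w.large a ha) (A_q w.large a' ha') g g'
      rw [← A_mul w.large ha ha', ← A_mul w.large ha' ha,
        A_congr w.large (mul_comm_z ha ha') (mul_comm_z (mul_comm_z ha' ha) hz'z) h1,
        A_mul w.large (mul_comm_z ha' ha) hz'z] at h2
      exact mul_eq_left.1 h2
  · rintro _ ⟨a, ha, rfl⟩ _ ⟨a', ha', rfl⟩ hv hw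
    refine ⟨a * a', mul_comm_z ha ha', ?_, w'.large.pr_mul a a'⟩
    have h1 := U.good_mul (qf w.large) (A_q w.large a ha) (A_q w.large a' ha')
      (hD a a.2 ha) (hD a' a'.2 ha') (hay a a.2 ha) (hay a' a'.2 ha') y.y4
      (fun g => hv ⟨a, ha, g, rfl⟩) (fun g => hw ⟨a', ha', g, rfl⟩)
    rw [← A_mul w.large ha ha'] at h1
    exact h1

/-- membership in `D̄'` when `z ∈ Q'` -/
theorem mem_Dbar_iff (h : Large Q z) (hz' : z' ∈ Q) (v : h.V) :
    v ∈ Dbar h z' ↔ h.b v (h.pr ⟨z', hz'⟩) = 0 := by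
  constructor
  · rintro ⟨d, hd, rfl⟩
    rw [h.b_pr]; exact hd
  · intro hv
    obtain ⟨d, rfl⟩ := h.pr_surjective v
    rw [h.b_pr] at hv
    exact ⟨d, hv, rfl⟩

theorem pr_ne_zero (h : Large Q z) (hz' : z' ∈ Q) (h1 : z' ≠ 1) (h2 : z' ≠ z) :
    h.pr ⟨z', hz'⟩ ≠ 0 := by
  intro hc
  rw [h.pr_eq_zero] at hc
  rcases hc with h3 | h3
  · exact h1 h3
  · exact h2 h3

theorem conj_z_comm (w : Wd Q z x) (w' : Wd Q' z' x') (h : x' * z = z * x') :
    z' * z = z * z' := by rw [← w'.sq]; exact mul_comm_z h h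

/-- the centralising case with `z' ∉ Q` is impossible -/
theorem cen_false (w : Wd Q z x) (w' : Wd Q' z' x') (hne : z' ≠ z) (h : x' * z = z * x')
    (hz' : z' ∉ Q) : False := by
  have hfin := finite_Q w
  have hfin' := finite_Q w'
  have hxz' := cen_symm w w' h
  have hz'z := conj_z_comm w w' h
  by_cases hz : z ∈ Q'
  · have hr0 : w'.large.pr ⟨z, hz⟩ ≠ 0 := pr_ne_zero w'.large hz w.large.z_ne hne.symm
    have hline := line_of_perp (qf w'.large) hr0
    have hle := card_Dbar_le w w' hz' h (r := w'.large.pr ⟨z, hz⟩) ?_ ?_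
    · have h1 := card_perp (qf w'.large) (w'.large.pr ⟨z, hz⟩) (Dbar w'.large z)
        (fun v hv => (mem_Dbar_iff w'.large hz v).2 hv)
      have h2 := w'.large.card_eq
      rw [w'.card] at h2
      omega
    · intro i hi d hd hdz
      have hi' := Subgroup.mem_inf.1 hi
      have h1 : w'.large.pr ⟨i, hi'.2⟩ = 0 ∨ w'.large.pr ⟨i, hi'.2⟩ = w'.large.pr ⟨z, hz⟩ := by
        apply hline
        intro v hv
        obtain ⟨a, rfl⟩ := w'.large.pr_surjective v
        rw [w'.large.b_pr] at hv ⊢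
        exact (inf_comm_right w.large w'.large hz' hi (mem_dsub.2 ⟨a.2, hv⟩)).symm
      have h2 : i = 1 ∨ i = z := by
        rcases h1 with h1 | h1
        · rcases w'.large.pr_eq_zero.1 h1 with h2 | h2
          · left; exact h2
          · exfalso; apply hz'; rw [← show i = z' from h2]; exact hi'.1
        · rcases w'.large.pr_eq_pr.1 h1 with h2 | h2
          · right; exact h2
          · exfalso; apply hz'
            have h3 : i = z * z' := h2
            have h4 : z' = z⁻¹ * i := by rw [h3]; group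
            rw [h4]
            exact mul_mem (inv_mem w.large.z_mem) hi'.1
      rcases h2 with h2 | h2
      · rw [h2]; simp
      · rw [h2]; exact (w.large.comm_z d hd).symm
    · intro v _ hv'
      exact hline v fun u hu => hv' u ((mem_Dbar_iff w'.large hz u).2 hu)
  · -- z ∉ Q'
    obtain ⟨r, U⟩ := (yd w' w hz hxz').exists_u (finrank_V w') (qf w'.large)
    have hle := card_Dbar_le w w' hz' h (r := r) ?_ U.rad
    · have := U.card
      omega
    · intro i hi d hd hdz
      exact (inf_comm_left w.large w'.large hz hi (mem_dsub.2 ⟨hd, hdz⟩)).symm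

end Cfsg.Agent.Co2Type.RedGroup
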