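import Cfsg.Agent.Co2Type.RedLin

/-!
# Linear algebra for the reducible case, part 2 (R03, piece A2; helper587)
-/

set_option autoImplicit false

namespace Cfsg.Agent.Co2Type.RedLin2

open Cfsg.Agent.Co2Type.RedLin

variable {V : Type*} [AddCommGroup V] [Module (ZMod 2) V] {q : V → ZMod 2}
  {b : LinearMap.BilinForm (ZMod 2) V}

theorem ti_of_ts (h : QF q b) {D : Submodule (ZMod 2) V} (hD : ∀ v ∈ D, q v = 0) :
    ∀ v ∈ D, ∀ w ∈ D, b v w = 0 := by
  intro v hv w hw
  have h1 := h.q_add v w
  rw [hD _ (D.add_mem hv hw), hD v hv, hD w hw] at h1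
  simpa using h1.symm

theorem finrank_ti [Finite V] (hV : Module.finrank (ZMod 2) V = 8) (h : QF q b)
    {D : Submodule (ZMod 2) V} (hD : ∀ v ∈ D, ∀ w ∈ D, b v w = 0) :
    Module.finrank (ZMod 2) D ≤ 4 := by
  have hfin : Module.Finite (ZMod 2) V := Module.Finite.of_finite
  have h1 : D ≤ b.orthogonal D := by
    intro v hv
    rw [LinearMap.BilinForm.mem_orthogonal_iff]
    intro w hw
    exact hD w hw v hv
  have h2 := Submodule.finrank_mono h1
  rw [LinearMap.BilinForm.finrank_orthogonal h.nondeg, hV] at h2
  omega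

/-- data of an involutory isometry -/
structure Sd (q : V → ZMod 2) (s : V ≃ₗ[ZMod 2] V) (D : Submodule (ZMod 2) V) (v0 : V) :
    Prop where
  iso : ∀ x, q (s x) = q x
  s2 : ∀ x, s (s x) = x
  ts : ∀ v ∈ D, q v = 0
  fixD : ∀ v ∈ D, s v = v
  fix0 : s v0 = v0
  nmem : v0 ∉ D
  idx : ∀ v, s v = v → v ∉ D → v + v0 ∈ D

theorem Sd.main [Finite V] (hV : Module.finrank (ZMod 2) V = 8) (h : QF q b)
    {s : V ≃ₗ[ZMod 2] V} {D : Submodule (ZMod 2) V} {v0 : V} (d : Sd q s D v0) :
    (∀ v, s v = v → ∃ t, v = s t + t) ∧ (∀ v w, s v = v → s w = w → b v w = 0) ∧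
      ∃ h1 ∈ D, ∃ h2 ∈ D, h1 ≠ 0 ∧ h2 ≠ 0 ∧ h1 ≠ h2 := by
  have hfin : Module.Finite (ZMod 2) V := Module.Finite.of_finite
  set n := N s with hn
  have hker : ∀ x, n x = 0 ↔ s x = x := N_zero_iff s
  have hnn : ∀ x, n (n x) = 0 := by
    intro x
    rw [hn, NN_apply, d.s2, aa]
  have hbN : ∀ x w, s w = w → b (n x) w = 0 := by
    intro x w hw
    have h1 := h.b_isom d.iso x w
    rw [hw] at h1
    rw [hn, N_apply, map_add, LinearMap.add_apply, h1, cc]
  have hsum := LinearMap.finrank_range_add_finrank_ker n
  rw [hV] at hsum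
  have horth : b.orthogonal (LinearMap.ker n) = LinearMap.range n := by
    symm
    apply Submodule.eq_of_le_of_finrank_le
    · rintro _ ⟨x, rfl⟩
      rw [LinearMap.BilinForm.mem_orthogonal_iff]
      intro w hw
      rw [LinearMap.mem_ker, hker] at hw
      show b w (n x) = 0
      rw [h.b_comm]
      exact hbN x w hw
    · rw [LinearMap.BilinForm.finrank_orthogonal h.nondeg, hV]
      omega
  have hadj : ∀ v w, b (n v) w = b v (n w) := by
    intro v w
    have h1 := h.b_isom d.iso v (s w)
    rw [d.s2] at h1
    rw [hn, N_apply, N_apply, map_add, map_add, LinearMap.add_apply, h1]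
  have hti := ti_of_ts h d.ts
  have hD4 := finrank_ti hV h hti
  -- dimension of the kernel
  have hDK : D ≤ LinearMap.ker n := fun v hv => (hker v).2 (d.fixD v hv)
  have hK : LinearMap.ker n ≤ D ⊔ Submodule.span (ZMod 2) {v0} := by
    intro v hv
    by_cases hvD : v ∈ D
    · exact Submodule.mem_sup_left hvD
    · have h1 := d.idx v ((hker v).1 hv) hvD
      have h2 : v = (v + v0) + v0 := by rw [add_assoc, aa, add_zero]
      rw [h2]
      exact Submodule.add_mem_sup h1 (Submodule.mem_span_singleton_self v0)
  have hKr : Module.finrank (ZMod 2) (LinearMap.ker n) ≤ Module.finrank (ZMod 2) D + 1 := by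
    have h1 := Submodule.finrank_mono hK
    have h2 := Submodule.finrank_add_le_finrank_add_finrank D (Submodule.span (ZMod 2) {v0})
    have h3 := finrank_span_singleton (K := ZMod 2) (v := v0) (by
      intro h0; apply d.nmem; rw [h0]; exact D.zero_mem)
    omega
  have hRK : LinearMap.range n ≤ LinearMap.ker n := by
    rintro _ ⟨x, rfl⟩; exact hnn x
  have hRK' := Submodule.finrank_mono hRK
  -- the kernel has dimension 4
  have hK4 : Module.finrank (ZMod 2) (LinearMap.ker n) ≤ 4 := by
    by_contra hc
    have hK5 : Module.finrank (ZMod 2) (LinearMap.ker n) = 5 := by omega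
    have hD4' : Module.finrank (ZMod 2) D = 4 := by omega
    have hDorth : b.orthogonal D = D := by
      symm
      apply Submodule.eq_of_le_of_finrank_le
      · intro v hv
        rw [LinearMap.BilinForm.mem_orthogonal_iff]
        intro w hw
        exact hti w hw v hv
      · rw [LinearMap.BilinForm.finrank_orthogonal h.nondeg, hV]
        omega
    have hRD : ∀ v, n v ∈ D := by
      intro v
      rw [← hDorth, LinearMap.BilinForm.mem_orthogonal_iff]
      intro w hw
      show b w (n v) = 0
      rw [h.b_comm]
      exact hbN v w (d.fixD w hw)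
    have halt : ∀ v, b v (n v) = 0 := by
      intro v
      have h1 : q (n v) = 0 := d.ts _ (hRD v)
      have h2 := h.q_add (s v) v
      rw [d.iso, cc, zero_add] at h2
      rw [hn, N_apply, h2] at h1
      rw [hn, N_apply, map_add, h.b_self, add_zero, h.b_comm]
      exact h1
    -- choose a, c
    obtain ⟨a, ha⟩ : ∃ a, n a ≠ 0 := by
      by_contra hc'
      push Not at hc'
      have h1 : LinearMap.ker n = ⊤ := by
        rw [eq_top_iff]; intro v _; exact hc' v
      rw [h1, finrank_top, hV] at hK5
      omega
    obtain ⟨c, hc1⟩ := h.exists_one ha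
    have hac : b a (n c) = 1 := by rw [← hadj, h.b_comm]; exact hc1
    let X : Submodule (ZMod 2) V := b.orthogonal (Submodule.span (ZMod 2) {n a, n c})
    have hXmem : ∀ v, v ∈ X ↔ b v (n a) = 0 ∧ b v (n c) = 0 := by
      intro v
      rw [show (v ∈ X ↔ v ∈ b.orthogonal (Submodule.span (ZMod 2) {n a, n c})) from Iff.rfl,
        LinearMap.BilinForm.mem_orthogonal_iff]
      constructor
      · intro h1
        constructor
        · rw [h.b_comm]
          exact h1 _ (Submodule.subset_span (Set.mem_insert _ _))
        · rw [h.b_comm]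
          exact h1 _ (Submodule.subset_span (Set.mem_insert_of_mem _ rfl))
      · rintro ⟨h1, h2⟩ w hw
        obtain ⟨r, t, rfl⟩ := Submodule.mem_span_pair.1 hw
        show b (r • n a + t • n c) v = 0
        rw [map_add, map_smul, map_smul, LinearMap.add_apply, LinearMap.smul_apply,
          LinearMap.smul_apply, h.b_comm (n a), h.b_comm (n c), h1, h2]
        simp
    have hspan2 : Module.finrank (ZMod 2) (Submodule.span (ZMod 2) {n a, n c}) = 2 := by
      have hli : LinearIndependent (ZMod 2) ![n a, n c] := by
        rw [LinearIndependent.pair_iff]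
        intro r t hrt
        have h1 := congrArg (fun v => b v a) hrt
        have h2 := congrArg (fun v => b v c) hrt
        simp only [map_add, map_smul, LinearMap.add_apply, LinearMap.smul_apply, hadj, halt,
          hac, map_zero, LinearMap.zero_apply, smul_eq_mul] at h1 h2
        rw [hc1, mul_one] at h1
        rw [mul_one] at h2
        exact ⟨by simpa using h2, by simpa using h1⟩
      have h1 := finrank_span_eq_card hli
      have h2 : Set.range ![n a, n c] = {n a, n c} := by
        ext v
        simp only [Set.mem_range, Fin.exists_fin_two, Set.mem_insert_iff, Set.mem_singleton_iff]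
        constructor
        · rintro (h3 | h3)
          · left; exact h3.symm
          · right; exact h3.symm
        · rintro (h3 | h3)
          · left; exact h3.symm
          · right; exact h3.symm
      rw [h2, Fintype.card_fin] at h1
      exact h1
    have hX6 : Module.finrank (ZMod 2) X = 6 := by
      rw [LinearMap.BilinForm.finrank_orthogonal h.nondeg, hV, hspan2]
    have hKX : LinearMap.ker n ≤ X := by
      intro v hv
      rw [hXmem, ← hadj, ← hadj, show n v = 0 from hv]
      simp
    obtain ⟨p, hpX, hpK⟩ : ∃ p ∈ X, p ∉ LinearMap.ker n := by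
      by_contra hc'
      push Not at hc'
      have h1 := Submodule.finrank_mono (show X ≤ LinearMap.ker n from hc')
      omega
    obtain ⟨w, hw⟩ := h.exists_one (show n p ≠ 0 from hpK)
    have hpX' := (hXmem p).1 hpX
    have hap : b a (n p) = 0 := by rw [← hadj, h.b_comm]; exact hpX'.1
    have hcp : b c (n p) = 0 := by rw [← hadj, h.b_comm]; exact hpX'.2
    have hw' : b (w + b w (n c) • a + b w (n a) • c) (n p) = 1 := by
      simp only [map_add, map_smul, LinearMap.add_apply, LinearMap.smul_apply, hw, hap, hcp]
      simp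
    have hwX : w + b w (n c) • a + b w (n a) • c ∈ X := by
      rw [hXmem]
      simp only [map_add, map_smul, LinearMap.add_apply, LinearMap.smul_apply, halt, hac, hc1,
        smul_eq_mul, mul_zero, mul_one, add_zero]
      exact ⟨cc _, cc _⟩
    generalize w + b w (n c) • a + b w (n a) • c = w' at hw' hwX
    have hwK : w' ∉ LinearMap.ker n := by
      intro hc'
      rw [← hadj, show n w' = 0 from hc', map_zero, LinearMap.zero_apply] at hw'
      exact absurd hw' (by decide)
    have h1 := idx2 hKX (by omega) hpX hwX hpK hwK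
    have h2 : b (p + w') (n p) = 0 := by
      rw [← hadj, show n (p + w') = 0 from h1, map_zero, LinearMap.zero_apply]
    rw [map_add, LinearMap.add_apply, halt, hw'] at h2
    exact absurd h2 (by decide)
  have hKeq : LinearMap.range n = LinearMap.ker n :=
    Submodule.eq_of_le_of_finrank_le hRK (by omega)
  refine ⟨?_, ?_, ?_⟩
  · intro v hv
    have h1 : v ∈ LinearMap.range n := by rw [hKeq]; exact (hker v).2 hv
    obtain ⟨t, rfl⟩ := h1
    exact ⟨t, rfl⟩
  · intro v w hv hw
    have h1 : v ∈ LinearMap.range n := by rw [hKeq]; exact (hker v).2 hv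
    obtain ⟨t, rfl⟩ := h1
    exact hbN t w hw
  · have hD3 : 3 ≤ Module.finrank (ZMod 2) D := by omega
    obtain ⟨h1, h1D, h10⟩ : ∃ h1 ∈ D, h1 ≠ 0 := by
      by_contra hc
      push Not at hc
      have : D = ⊥ := by rw [eq_bot_iff]; intro v hv; exact hc v hv
      rw [this, finrank_bot] at hD3
      omega
    obtain ⟨h2, h2D, h20⟩ : ∃ h2 ∈ D, h2 ∉ Submodule.span (ZMod 2) {h1} := by
      by_contra hc
      push Not at hc
      have h3 := Submodule.finrank_mono (show D ≤ Submodule.span (ZMod 2) {h1} from hc)
      rw [finrank_span_singleton h10] at h3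
      omega
    refine ⟨h1, h1D, h2, h2D, h10, ?_, ?_⟩
    · intro hc; apply h20; rw [hc]; exact Submodule.zero_mem _
    · intro hc; apply h20; rw [← hc]; exact Submodule.mem_span_singleton_self _

end Cfsg.Agent.Co2Type.RedLin2
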