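import Cfsg.Agent.Co2Type.RedGroup
import Cfsg.Agent.Co2Type.RedLin2

/-!
# Exclusion of the reducible case, part 2: the inverting case (R03, piece A2; helper587)
-/

set_option autoImplicit false

namespace Cfsg.Agent.Co2Type.RedGroup2

open Cfsg.Agent.Co2Type.Quad Cfsg.Agent.Co2Type.Pair Cfsg.Agent.Co2Type.RedLin
  Cfsg.Agent.Co2Type.RedLin2 Cfsg.Agent.Co2Type.RedGroup

variable {G : Type*} [Group G] {Q Q' : Subgroup G} {z z' x x' : G}

/-- the fixed vector -/
def v0 (w : Wd Q z x) : w.large.V := w.large.pr ⟨x, w.mem⟩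

theorem q_v0 (w : Wd Q z x) : w.large.q (v0 w) = 1 := by
  rw [v0, w.large.q_eq_one]; exact w.sq

theorem v0_ne (w : Wd Q z x) : v0 w ≠ 0 := by
  intro h
  have := q_v0 w
  rw [h, w.large.q_zero] at this
  exact absurd this (by decide)

theorem A_v0 (w : Wd Q z x) {c : G} (hc : c * z = z * c) : A w.large c hc (v0 w) = v0 w := by
  rw [v0, A_pr, w.large.pr_eq_pr]
  exact w.norm c hc

/-- every vector `h` singular and orthogonal to `v0` defines an element of `C_G(z)` -/
def Tr (w : Wd Q z x) : Prop :=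
  ∀ h : w.large.V, h ≠ 0 → w.large.q h = 0 → w.large.b h (v0 w) = 0 →
    ∃ (c : G) (hc : c * z = z * c), ∀ v, A w.large c hc v =
      v + w.large.b v (h + v0 w) • (h + v0 w) + w.large.b v (v0 w) • v0 w

/-! ### the centraliser of `x'` in `C(z')` -/

theorem k_inv {a c : G} (h : c * a = a * c) : c⁻¹ * a = a * c⁻¹ :=
  (show Commute c a from h).inv_left.eq

theorem k_not_mul (w' : Wd Q' z' x') {c d : G} (hc : c * z' = z' * c) (hd : d * z' = z' * d)
    (h1 : ¬ c * x' = x' * c) (h2 : ¬ d * x' = x' * d) : c * d * x' = x' * (c * d) := by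
  have h1' : c * x' = x' * z' * c := by
    rcases w'.norm c hc with h | h
    · exact absurd (by rwa [mul_inv_eq_iff_eq_mul] at h) h1
    · rwa [mul_inv_eq_iff_eq_mul] at h
  have h2' : d * x' = x' * z' * d := by
    rcases w'.norm d hd with h | h
    · exact absurd (by rwa [mul_inv_eq_iff_eq_mul] at h) h2
    · rwa [mul_inv_eq_iff_eq_mul] at h
  calc c * d * x' = c * (d * x') := mul_assoc _ _ _
    _ = c * x' * z' * d := by rw [h2']; group
    _ = x' * z' * (c * z') * d := by rw [h1']; group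
    _ = x' * (z' * z') * c * d := by rw [hc]; group
    _ = x' * (c * d) := by rw [w'.large.z_sq]; group

theorem k_comm (w' : Wd Q' z' x') {c d : G} (hc : c * z' = z' * c) (hd : d * z' = z' * d) :
    (c * d * c⁻¹ * d⁻¹) * x' = x' * (c * d * c⁻¹ * d⁻¹) := by
  have hci := k_inv hc
  have hdi := k_inv hd
  have e : c * d * c⁻¹ * d⁻¹ = (c * d) * (c⁻¹ * d⁻¹) := by group
  have hcd := mul_comm_z hc hd
  have hcd' := mul_comm_z hci hdi
  have hinv : ∀ a : G, a * x' = x' * a → a⁻¹ * x' = x' * a⁻¹ := fun a h => k_inv h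
  have hinv' : ∀ a : G, ¬ a * x' = x' * a → ¬ a⁻¹ * x' = x' * a⁻¹ := by
    intro a h h'
    apply h
    have := hinv _ h'
    rwa [inv_inv] at this
  rw [e]
  by_cases h1 : c * x' = x' * c <;> by_cases h2 : d * x' = x' * d
  · exact mul_comm_z (mul_comm_z h1 h2) (mul_comm_z (hinv _ h1) (hinv _ h2))
  · refine k_not_mul w' hcd hcd' ?_ ?_
    · intro h3
      apply h2
      have h4 := mul_comm_z (hinv _ h1) h3
      have e2 : c⁻¹ * (c * d) = d := by group
      rwa [e2] at h4
    · intro h3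
      apply hinv' _ h2
      have h4 := mul_comm_z h1 h3
      have e2 : c * (c⁻¹ * d⁻¹) = d⁻¹ := by group
      rwa [e2] at h4
  · refine k_not_mul w' hcd hcd' ?_ ?_
    · intro h3
      apply h1
      have h4 := mul_comm_z h3 (hinv _ h2)
      have e2 : c * d * d⁻¹ = c := by group
      rwa [e2] at h4
    · intro h3
      apply hinv' _ h1
      have h4 := mul_comm_z h3 h2
      have e2 : c⁻¹ * d⁻¹ * d = c⁻¹ := by group
      rwa [e2] at h4
  · exact mul_comm_z (k_not_mul w' hc hd h1 h2)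
      (k_not_mul w' hci hdi (hinv' _ h1) (hinv' _ h2))

theorem k_sq (w' : Wd Q' z' x') {c : G} (hc : c * z' = z' * c) : c * c * x' = x' * (c * c) := by
  by_cases h1 : c * x' = x' * c
  · exact mul_comm_z h1 h1
  · exact k_not_mul w' hc hc h1 h1

/-! ### the inverting case -/

/-- in the inverting case `C_Q(z')` is elementary abelian -/
theorem inv_ts (w : Wd Q z x) (w' : Wd Q' z' x') (hx' : ¬ x' * z = z * x') :
    ∀ v ∈ Dbar w.large z', w.large.q v = 0 := by
  rintro _ ⟨d, hd, rfl⟩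
  rw [w.large.q_eq_zero]
  rcases w.large.sq d d.2 with h1 | h1
  · exact h1
  · exfalso
    apply hx'
    have h2 := k_sq w' hd
    rw [h1] at h2
    exact h2.symm

theorem x_inv (w : Wd Q z x) {z' : G} (hz'z : z' * z = z * z') (hinv : ¬ x * z' = z' * x) :
    z' * x * z'⁻¹ = x * z := by
  rcases w.norm z' hz'z with h | h
  · exact absurd (by rw [mul_inv_eq_iff_eq_mul] at h; exact h.symm) hinv
  · exact h

theorem A_eq_one_of_mem (h : Large Q z) {c : G} (hc : c * z = z * c) (hm : c ∈ Q) :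
    A h c hc = 1 := h.act_mem _ hm

theorem mem_of_A_eq [Finite Q] (h : Large Q z) {a c : G} (ha : a * z = z * a)
    (hc : c * z = z * c) (h1 : A h a ha = A h c hc) : a * c⁻¹ ∈ Q := by
  have hci := k_inv hc
  apply mem_of_A h (mul_comm_z ha hci)
  have h2 : A h c hc * A h c⁻¹ hci = 1 := by
    rw [← A_mul h hc hci]
    have h3 : (1 : G) * z = z * 1 := by simp
    rw [A_congr h (mul_comm_z hc hci) h3 (mul_inv_cancel c), A_one]
  rw [A_mul h ha hci, h1, h2]

theorem inv_key (w : Wd Q z x) (w' : Wd Q' z' x') (hz'z : z' * z = z * z')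
    (hx' : ¬ x' * z = z * x')
    (hinv : ¬ x * z' = z' * x)
    (hti : ∀ v u, A w.large z' hz'z v = v → A w.large z' hz'z u = u → w.large.b v u = 0)
    {s : G} (hsz : s * z = z * s) (hsz' : s * z' = z' * s) (hsx : s * x = x * s)
    (hfix : ∀ v ∈ Dbar w.large z', A w.large s hsz v = v)
    (him : ∀ v, A w.large z' hz'z (A w.large s hsz v + v) = A w.large s hsz v + v) (v : w.large.V) :
    w.large.q (A w.large s hsz v + v) = 0 := by
  have hzz' := hz'z.symm
  -- s centralises C_Q(z')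
  have hD : ∀ d : Q, (d : G) * z' = z' * d → s * d = d * s := by
    intro d hd
    have h1 := hfix _ ⟨d, hd, rfl⟩
    rw [A_pr, w.large.pr_eq_pr] at h1
    rcases h1 with h2 | h2
    · have h3 : s * d * s⁻¹ = d := h2
      rwa [mul_inv_eq_iff_eq_mul] at h3
    · exfalso
      apply hx'
      have h3 : s * d * s⁻¹ = d * z := h2
      have h4 := k_comm w' hsz' hd
      have h5 : s * d * s⁻¹ * (d : G)⁻¹ = z := by
        rw [h3, w.large.comm_z d d.2]; group
      rw [h5] at h4
      exact h4.symm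
  -- s centralises everything fixed mod z
  have hK : ∀ e : Q, A w.large z' hz'z (w.large.pr e) = w.large.pr e → s * e = e * s := by
    intro e he
    by_cases h1 : w.large.pr e ∈ Dbar w.large z'
    · exact hD e (comm_of_mem_Dbar w.large hzz' h1)
    · have h0 : v0 w ∉ Dbar w.large z' := by
        intro h2
        exact hinv (comm_of_mem_Dbar w.large hzz' h2)
      have h2 := Dbar_idx w.large hz'z he (A_v0 w hz'z) h1 h0
      rw [v0, ← w.large.pr_mul] at h2
      have h3 := hD _ (comm_of_mem_Dbar w.large hzz' h2)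
      have h4 : s * ((e : G) * x) = (e : G) * x * s := h3
      have h5 : s * (e : G) * x = (e : G) * s * x := by
        rw [mul_assoc s, h4, mul_assoc, ← hsx, mul_assoc]
      exact mul_right_cancel h5
  obtain ⟨u, rfl⟩ := w.large.pr_surjective v
  have hzi : z * (u : G)⁻¹ = (u : G)⁻¹ * z := (w.large.commz u.2).inv_left.eq.symm
  have hkQ : z' * u * z'⁻¹ * (u : G)⁻¹ ∈ Q :=
    mul_mem (w.large.conj_mem z' hz'z u u.2) (inv_mem u.2)
  have hmQ : s * u * s⁻¹ * (u : G)⁻¹ ∈ Q :=
    mul_mem (w.large.conj_mem s hsz u u.2) (inv_mem u.2)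
  have hk : w.large.pr ⟨_, hkQ⟩ = A w.large z' hz'z (w.large.pr u) + w.large.pr u := by
    have e : w.large.pr ⟨_, hkQ⟩ + w.large.pr u = A w.large z' hz'z (w.large.pr u) := by
      rw [A_pr, ← w.large.pr_mul]
      apply pr_congr
      show z' * u * z'⁻¹ * (u : G)⁻¹ * u = z' * u * z'⁻¹
      group
    rw [← e, add_assoc, aa, add_zero]
  have hm : w.large.pr ⟨_, hmQ⟩ = A w.large s hsz (w.large.pr u) + w.large.pr u := by
    have e : w.large.pr ⟨_, hmQ⟩ + w.large.pr u = A w.large s hsz (w.large.pr u) := by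
      rw [A_pr, ← w.large.pr_mul]
      apply pr_congr
      show s * u * s⁻¹ * (u : G)⁻¹ * u = s * u * s⁻¹
      group
    rw [← e, add_assoc, aa, add_zero]
  have hzz : ∀ v, A w.large z' hz'z (A w.large z' hz'z v) = v := by
    intro v
    rw [← A_mul_apply w.large hz'z hz'z]
    have h1 : (1 : G) * z = z * 1 := by simp
    rw [A_congr w.large (mul_comm_z hz'z hz'z) h1 w'.large.z_sq, A_one]
    rfl
  have hkf : A w.large z' hz'z (w.large.pr ⟨_, hkQ⟩) = w.large.pr ⟨_, hkQ⟩ := by
    rw [hk, map_add, hzz, add_comm]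
  have hmf : A w.large z' hz'z (w.large.pr ⟨_, hmQ⟩) = w.large.pr ⟨_, hmQ⟩ := by
    rw [hm]; exact him _
  have hkm := (w.large.b_pr _ _).1 (hti _ _ hkf hmf)
  have hsk := hK ⟨_, hkQ⟩ hkf
  rw [← hm]
  -- show that m commutes with z'
  generalize hkd : z' * u * z'⁻¹ * (u : G)⁻¹ = k at hkQ hk hkf hkm hsk
  generalize hmd : s * u * s⁻¹ * (u : G)⁻¹ = m at hmQ hm hmf hkm ⊢
  have hkm' : k * m = m * k := hkm
  have hsk' : s * k = k * s := hsk
  have e1 : s * z' * u * (s * z')⁻¹ = k * m * u := by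
    calc s * z' * u * (s * z')⁻¹ = s * (z' * u * z'⁻¹ * (u : G)⁻¹) * u * s⁻¹ := by group
      _ = (s * k) * u * s⁻¹ := by rw [hkd]
      _ = k * (s * u * s⁻¹ * (u : G)⁻¹) * u := by rw [hsk']; group
      _ = k * m * u := by rw [hmd]
  have e2 : z' * s * u * (z' * s)⁻¹ = (z' * m * z'⁻¹) * k * u := by
    calc z' * s * u * (z' * s)⁻¹ = z' * (s * u * s⁻¹ * (u : G)⁻¹) * z'⁻¹ *
          (z' * u * z'⁻¹ * (u : G)⁻¹) * u := by group
      _ = (z' * m * z'⁻¹) * k * u := by rw [hmd, hkd]
  rw [hsz'] at e1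
  rw [e1, hkm'] at e2
  have e3 : m = z' * m * z'⁻¹ := mul_right_cancel (mul_right_cancel e2)
  have e4 : m * z' = z' * m := by
    conv_lhs => rw [e3]
    group
  exact inv_ts w w' hx' _ ⟨⟨m, hmQ⟩, e4, rfl⟩

theorem inv_h (w : Wd Q z x) (w' : Wd Q' z' x') (T : Tr w) (hz'z : z' * z = z * z')
    (hx' : ¬ x' * z = z * x') (hinv : ¬ x * z' = z' * x)
    (hker : ∀ v, A w.large z' hz'z v = v → ∃ t, v = A w.large z' hz'z t + t)
    (hti : ∀ v u, A w.large z' hz'z v = v → A w.large z' hz'z u = u → w.large.b v u = 0)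
    {h : w.large.V} (hD : h ∈ Dbar w.large z') (h0 : h ≠ 0) (v : w.large.V)
    (hv : w.large.b v (v0 w) = 0) : w.large.q (A w.large z' hz'z v + v) = w.large.b v h := by
  have hfin := finite_Q w
  have hQF := qf w.large
  have hzz' := hz'z.symm
  have hv0D : v0 w ∉ Dbar w.large z' := fun h2 => hinv (comm_of_mem_Dbar w.large hzz' h2)
  have hfixD : ∀ u ∈ Dbar w.large z', A w.large z' hz'z u = u := by
    rintro _ ⟨d, hd, rfl⟩
    rw [A_pr]
    apply pr_congr
    show z' * d * z'⁻¹ = d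
    rw [← hd]; group
  have hsh := hfixD h hD
  have hsv0 := A_v0 w hz'z
  have hqh : w.large.q h = 0 := inv_ts w w' hx' h hD
  have hbh : w.large.b h (v0 w) = 0 := hti _ _ hsh hsv0
  obtain ⟨c, hc, hcf⟩ := T h h0 hqh hbh
  have hzz : ∀ v, A w.large z' hz'z (A w.large z' hz'z v) = v := by
    intro v
    rw [← A_mul_apply w.large hz'z hz'z]
    have h1 : (1 : G) * z = z * 1 := by simp
    rw [A_congr w.large (mul_comm_z hz'z hz'z) h1 w'.large.z_sq, A_one]
    rfl
  have hbs : ∀ v u, A w.large z' hz'z u = u → w.large.b (A w.large z' hz'z v) u =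
      w.large.b v u := by
    intro v u hu
    conv_lhs => rw [← hu]
    exact hQF.b_isom (A_q w.large z' hz'z) v u
  have hshv0 : A w.large z' hz'z (h + v0 w) = h + v0 w := by rw [map_add, hsh, hsv0]
  -- c and z' commute on V
  have hcomm : A w.large c hc * A w.large z' hz'z = A w.large z' hz'z * A w.large c hc := by
    ext u
    show A w.large c hc (A w.large z' hz'z u) = A w.large z' hz'z (A w.large c hc u)
    rw [hcf, hcf, hbs _ _ hshv0, hbs _ _ hsv0, map_add (A w.large z' hz'z),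
      map_add (A w.large z' hz'z), map_smul (A w.large z' hz'z), map_smul (A w.large z' hz'z),
      hshv0, hsv0]
  -- m = c z' c⁻¹ z'⁻¹
  have hmQ : c * z' * (z' * c)⁻¹ ∈ Q := by
    apply mem_of_A_eq w.large (mul_comm_z hc hz'z) (mul_comm_z hz'z hc)
    rw [A_mul w.large hc hz'z, A_mul w.large hz'z hc, hcomm]
  generalize hmd : c * z' * (z' * c)⁻¹ = m at hmQ
  have hcm : c * z' * c⁻¹ = m * z' := by rw [← hmd]; group
  have hmm : z' * m * z'⁻¹ = m⁻¹ := by
    have h1 : (m * z') * (m * z') = 1 := by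
      rw [← hcm]
      calc c * z' * c⁻¹ * (c * z' * c⁻¹) = c * (z' * z') * c⁻¹ := by group
        _ = 1 := by rw [w'.large.z_sq]; group
    have h2 : z' * m * z' = m⁻¹ := by
      rw [← mul_right_inj m, mul_inv_cancel, ← h1]; group
    rw [w'.large.z_inv]; exact h2
  have hmf : A w.large z' hz'z (w.large.pr ⟨m, hmQ⟩) = w.large.pr ⟨m, hmQ⟩ := by
    rw [A_pr]
    have h1 : w.large.pr (⟨z' * m * z'⁻¹, w.large.conj_mem z' hz'z m hmQ⟩ : Q) =
        w.large.pr (⟨m, hmQ⟩ : Q)⁻¹ := pr_congr w.large hmm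
    rw [h1, w.large.pr_inv, w.large.neg_eq]
  -- find y in Q with y z' y⁻¹ = c z' c⁻¹
  have hxz := x_inv w hz'z hinv
  obtain ⟨y, hyQ, hy⟩ : ∃ y ∈ Q, y * z' * y⁻¹ = m * z' := by
    obtain ⟨t, ht⟩ := hker _ hmf
    obtain ⟨y0, rfl⟩ := w.large.pr_surjective t
    have hyQ : (y0 : G) * (z' * (y0 : G)⁻¹ * z'⁻¹) ∈ Q :=
      mul_mem y0.2 (w.large.conj_mem z' hz'z _ (inv_mem y0.2))
    have h1 : w.large.pr ⟨_, hyQ⟩ = w.large.pr ⟨m, hmQ⟩ := by
      rw [ht]
      have e : w.large.pr (⟨(y0 : G) * (z' * (y0 : G)⁻¹ * z'⁻¹), hyQ⟩ : Q) =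
          w.large.pr (y0 * (⟨z' * ((y0⁻¹ : Q) : G) * z'⁻¹,
            w.large.conj_mem z' hz'z _ (y0⁻¹).2⟩ : Q)) := pr_congr w.large rfl
      rw [e, w.large.pr_mul, ← A_pr w.large z' hz'z, w.large.pr_inv, w.large.neg_eq, add_comm]
    rcases w.large.pr_eq_pr.1 h1 with h2 | h2
    · refine ⟨y0, y0.2, ?_⟩
      have h3 : (y0 : G) * (z' * (y0 : G)⁻¹ * z'⁻¹) = m := h2
      rw [← h3]; group
    · refine ⟨y0 * x, mul_mem y0.2 w.mem, ?_⟩
      have h3 : (y0 : G) * (z' * (y0 : G)⁻¹ * z'⁻¹) = m * z := h2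
      have h4 : x * z' * x⁻¹ = z * z' := by
        have h5 : z' * x⁻¹ * z'⁻¹ = z⁻¹ * x⁻¹ := by
          calc z' * x⁻¹ * z'⁻¹ = (z' * x * z'⁻¹)⁻¹ := by group
            _ = z⁻¹ * x⁻¹ := by rw [hxz, mul_inv_rev]
        calc x * z' * x⁻¹ = x * (z' * x⁻¹ * z'⁻¹) * z' := by group
          _ = x * z⁻¹ * x⁻¹ * z' := by rw [h5]; group
          _ = z * z' := by
            have h6 : x * z⁻¹ * x⁻¹ = z := by
              rw [w.large.z_inv, x_comm_z w]; group
            rw [h6]
      calc (y0 : G) * x * z' * ((y0 : G) * x)⁻¹ = y0 * (x * z' * x⁻¹) * (y0 : G)⁻¹ := by group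
        _ = y0 * (z * z') * (y0 : G)⁻¹ := by rw [h4]
        _ = (y0 * z) * (y0 : G)⁻¹ * ((y0 : G) * (z' * (y0 : G)⁻¹ * z'⁻¹)) * z' := by group
        _ = (z * y0) * (y0 : G)⁻¹ * (m * z) * z' := by rw [h3, w.large.comm_z y0 y0.2]
        _ = (z * (m * z)) * z' := by group
        _ = m * (z * z) * z' := by rw [← mul_assoc z m z, ← w.large.comm_z m hmQ]; group
        _ = m * z' := by rw [w.large.z_sq, mul_one]
  have hyz : y * z = z * y := w.large.comm_z y hyQ
  have hyzi := k_inv hyz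
  -- s = y⁻¹ c
  have hsz : (y⁻¹ * c) * z = z * (y⁻¹ * c) := mul_comm_z hyzi hc
  have hsz' : (y⁻¹ * c) * z' = z' * (y⁻¹ * c) := by
    calc (y⁻¹ * c) * z' = y⁻¹ * (c * z' * c⁻¹) * c := by group
      _ = y⁻¹ * (y * z' * y⁻¹) * c := by rw [hcm, hy]
      _ = _ := by group
  have hAs : ∀ v, A w.large (y⁻¹ * c) hsz v = A w.large c hc v := by
    intro v
    rw [A_mul_apply w.large hyzi hc, A_eq_one_of_mem w.large hyzi (inv_mem hyQ)]
    rfl
  generalize hsd : y⁻¹ * c = s at hsz hsz' hAs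
  have hAsf : ∀ v, A w.large s hsz v = v + w.large.b v (h + v0 w) • (h + v0 w) +
      w.large.b v (v0 w) • v0 w := fun v => (hAs v).trans (hcf v)
  have hbD : ∀ u ∈ Dbar w.large z', w.large.b u (h + v0 w) = 0 ∧ w.large.b u (v0 w) = 0 :=
    fun u hu => ⟨hti _ _ (hfixD u hu) hshv0, hti _ _ (hfixD u hu) hsv0⟩
  have hfix : ∀ u ∈ Dbar w.large z', A w.large s hsz u = u := by
    intro u hu
    rw [hAsf, (hbD u hu).1, (hbD u hu).2]
    simp
  have hqhv0 : w.large.q (h + v0 w) = 1 := by
    rw [w.large.q_add', hqh, q_v0, hbh]; decide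
  rcases w.norm s hsz with h1 | h1
  · -- s centralises x: contradiction
    exfalso
    have hsx : s * x = x * s := by rwa [mul_inv_eq_iff_eq_mul] at h1
    have hkey := inv_key w w' hz'z hx' hinv hti hsz hsz' hsx hfix (by
      intro v
      have e : A w.large s hsz v + v = w.large.b v (h + v0 w) • (h + v0 w) +
          w.large.b v (v0 w) • v0 w := by
        rw [hAsf]
        generalize w.large.b v (h + v0 w) • (h + v0 w) = a
        generalize w.large.b v (v0 w) • v0 w = b
        apply one_smul_inj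
        match_scalars <;> decide
      rw [e, map_add, map_smul, map_smul, hshv0, hsv0])
    obtain ⟨u, hu1, hu2⟩ : ∃ u, w.large.b u (v0 w) = 0 ∧ w.large.b u h = 1 := by
      by_contra hcon
      push Not at hcon
      rcases line_of_perp hQF (v0_ne w) h (fun u hu => by
        rw [w.large.b_comm]
        exact (zm _).resolve_right (hcon u hu)) with h2 | h2
      · exact h0 h2
      · exact hv0D (by rw [← h2]; exact hD)
    have h2 := hkey u
    rw [hAsf, map_add, hu1, hu2] at h2
    have e : u + (1 + 0 : ZMod 2) • (h + v0 w) + (0 : ZMod 2) • v0 w + u = h + v0 w := by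
      apply one_smul_inj
      match_scalars <;> decide
    rw [e, hqhv0] at h2
    exact absurd h2 (by decide)
  · -- s z' centralises x
    have hsz2 : (s * z') * z = z * (s * z') := mul_comm_z hsz hz'z
    have hsz2' : (s * z') * z' = z' * (s * z') := mul_comm_z hsz' rfl
    have hsx : s * z' * x = x * (s * z') := by
      have h2 : s * z' * x * (s * z')⁻¹ = x := by
        calc s * z' * x * (s * z')⁻¹ = s * (z' * x * z'⁻¹) * s⁻¹ := by group
          _ = (s * x * s⁻¹) * (s * z * s⁻¹) := by rw [hxz]; group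
          _ = x * z * (z * s * s⁻¹) := by rw [h1, hsz]
          _ = x * (z * z) := by group
          _ = x := by rw [w.large.z_sq, mul_one]
      rwa [mul_inv_eq_iff_eq_mul] at h2
    have hA2 : ∀ v, A w.large (s * z') hsz2 v = A w.large s hsz (A w.large z' hz'z v) :=
      fun v => A_mul_apply w.large hsz hz'z v
    have hform : ∀ v, A w.large (s * z') hsz2 v + v = (A w.large z' hz'z v + v) +
        w.large.b v (h + v0 w) • (h + v0 w) + w.large.b v (v0 w) • v0 w := by
      intro v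
      rw [hA2, hAsf, hbs _ _ hshv0, hbs _ _ hsv0]
      abel
    have hkey := inv_key w w' hz'z hx' hinv hti hsz2 hsz2' hsx (by
      intro u hu
      rw [hA2, hfixD u hu, hfix u hu]) (by
      intro v
      rw [hform, map_add, map_add, map_add, map_smul, map_smul, hshv0, hsv0, hzz,
        add_comm v]) v
    rw [hform, hv, zero_smul, add_zero, w.large.q_add'] at hkey
    have h3 : w.large.b (A w.large z' hz'z v + v) (w.large.b v (h + v0 w) • (h + v0 w)) = 0 := by
      have h3' : w.large.b (A w.large z' hz'z v + v) (h + v0 w) = 0 := by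
        rw [map_add w.large.b, LinearMap.add_apply, hbs _ _ hshv0, cc]
      rw [map_smul, h3', smul_zero]
    have h4 : w.large.b v (h + v0 w) = w.large.b v h := by rw [map_add, hv, add_zero]
    rw [h3, h4, add_zero] at hkey
    have h5 : w.large.q (w.large.b v h • (h + v0 w)) = w.large.b v h := by
      rcases zm (w.large.b v h) with h6 | h6
      · rw [h6, zero_smul]; exact w.large.q_zero
      · rw [h6, one_smul]; exact hqhv0
    rw [h5] at hkey
    have h7 : ∀ a b : ZMod 2, a + b = 0 → a = b := by decide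
    exact h7 _ _ hkey

/-- the inverting case is impossible -/
theorem inv_false (w : Wd Q z x) (w' : Wd Q' z' x') (T : Tr w) (hne : z' ≠ z)
    (hz'z : z' * z = z * z') (hinv : ¬ x * z' = z' * x) : False := by
  have hfin := finite_Q w
  have hQF := qf w.large
  have hzz' := hz'z.symm
  have hx' : ¬ x' * z = z * x' := fun h => hinv (cen_symm w w' h)
  have hts := inv_ts w w' hx'
  by_cases hz' : z' ∈ Q
  · -- z' in Q: the hyperplane is not isotropic
    have hr0 : w.large.pr ⟨z', hz'⟩ ≠ 0 := pr_ne_zero w.large hz' w'.large.z_ne hne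
    have hline := line_of_perp hQF hr0
    have hle := card_le_of_isotropic hQF (D := Dbar w.large z') (B := Dbar w.large z') le_rfl
      (ti_of_ts hQF hts) (fun v hv _ _ hv' _ => absurd hv hv') (u := w.large.pr ⟨z', hz'⟩)
      (fun v _ hv' => hline v fun u hu => hv' u ((mem_Dbar_iff w.large hz' u).2 hu))
    have h1 := card_perp hQF (w.large.pr ⟨z', hz'⟩) (Dbar w.large z')
      (fun v hv => (mem_Dbar_iff w.large hz' v).2 hv)
    have h2 := w.large.card_eq
    rw [w.card] at h2
    omega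
  · have hv0D : v0 w ∉ Dbar w.large z' := fun h2 => hinv (comm_of_mem_Dbar w.large hzz' h2)
    have hzz : ∀ v, A w.large z' hz'z (A w.large z' hz'z v) = v := by
      intro v
      rw [← A_mul_apply w.large hz'z hz'z]
      have h1 : (1 : G) * z = z * 1 := by simp
      rw [A_congr w.large (mul_comm_z hz'z hz'z) h1 w'.large.z_sq, A_one]
      rfl
    have hSd : Sd w.large.q (A w.large z' hz'z) (Dbar w.large z') (v0 w) := by
      refine ⟨A_q _ _ _, hzz, hts, ?_, A_v0 w hz'z, hv0D, ?_⟩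
      · rintro _ ⟨d, hd, rfl⟩
        rw [A_pr]
        apply pr_congr
        show z' * d * z'⁻¹ = d
        rw [← hd]; group
      · intro v hv hvD
        exact Dbar_idx w.large hz'z hv (A_v0 w hz'z) hvD hv0D
    obtain ⟨hker, hti, h1, h1D, h2, h2D, h10, h20, h12⟩ := hSd.main (finrank_V w) hQF
    have key : ∀ v, w.large.b v (v0 w) = 0 → w.large.b v (h1 + h2) = 0 := by
      intro v hv
      rw [map_add, ← inv_h w w' T hz'z hx' hinv hker hti h1D h10 v hv,
        ← inv_h w w' T hz'z hx' hinv hker hti h2D h20 v hv, cc]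
    rcases line_of_perp hQF (v0_ne w) (h1 + h2) (fun v hv => by
      rw [w.large.b_comm]; exact key v hv) with h3 | h3
    · exact h12 (eq_of_add h3)
    · exact hv0D (by rw [← h3]; exact Submodule.add_mem _ h1D h2D)

end Cfsg.Agent.Co2Type.RedGroup2
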