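import Cfsg.Agent.Co2Type.RedLin2

/-!
# Linear algebra for the reducible case, part 3 (R03, piece A2; helper587)
-/

set_option autoImplicit false

namespace Cfsg.Agent.Co2Type.RedLin3

open Cfsg.Agent.Co2Type.RedLin Cfsg.Agent.Co2Type.RedLin2

variable {V : Type*} [AddCommGroup V] [Module (ZMod 2) V] {q : V → ZMod 2}
  {b : LinearMap.BilinForm (ZMod 2) V}

theorem mem_orth_pair (h : QF q b) (u v x : V) :
    x ∈ b.orthogonal (Submodule.span (ZMod 2) {u, v}) ↔ b x u = 0 ∧ b x v = 0 := by
  rw [LinearMap.BilinForm.mem_orthogonal_iff]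
  constructor
  · intro h1
    constructor
    · rw [h.b_comm]
      exact h1 _ (Submodule.subset_span (Set.mem_insert _ _))
    · rw [h.b_comm]
      exact h1 _ (Submodule.subset_span (Set.mem_insert_of_mem _ rfl))
  · rintro ⟨h1, h2⟩ w hw
    obtain ⟨r, t, rfl⟩ := Submodule.mem_span_pair.1 hw
    show b (r • u + t • v) x = 0
    rw [map_add, map_smul, map_smul, LinearMap.add_apply, LinearMap.smul_apply,
      LinearMap.smul_apply, h.b_comm u, h.b_comm v, h1, h2]
    simp

theorem finrank_span_pair {u v : V} (hu : u ≠ 0) (hv : v ≠ 0) (huv : u ≠ v) :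
    Module.finrank (ZMod 2) (Submodule.span (ZMod 2) {u, v}) = 2 := by
  have hli : LinearIndependent (ZMod 2) ![u, v] := by
    rw [LinearIndependent.pair_iff]
    intro r t hrt
    rcases zm r with rfl | rfl <;> rcases zm t with rfl | rfl
    · exact ⟨rfl, rfl⟩
    · exfalso; apply hv; simpa using hrt
    · exfalso; apply hu; simpa using hrt
    · exfalso; apply huv; apply eq_of_add; simpa using hrt
  have h1 := finrank_span_eq_card hli
  have h2 : Set.range ![u, v] = {u, v} := by
    ext x
    simp only [Set.mem_range, Fin.exists_fin_two, Set.mem_insert_iff, Set.mem_singleton_iff]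
    constructor
    · rintro (h3 | h3)
      · left; exact h3.symm
      · right; exact h3.symm
    · rintro (h3 | h3)
      · left; exact h3.symm
      · right; exact h3.symm
  rw [h2, Fintype.card_fin] at h1
  exact h1

theorem card_orth_pair [Finite V] (hV : Module.finrank (ZMod 2) V = 8) (h : QF q b) {u v : V}
    (hu : u ≠ 0) (hv : v ≠ 0) (huv : u ≠ v) :
    Nat.card (b.orthogonal (Submodule.span (ZMod 2) {u, v})) = 64 := by
  have hfin : Module.Finite (ZMod 2) V := Module.Finite.of_finite
  have h1 := Module.natCard_eq_pow_finrank (K := ZMod 2)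
    (V := b.orthogonal (Submodule.span (ZMod 2) {u, v}))
  rw [LinearMap.BilinForm.finrank_orthogonal h.nondeg, hV, finrank_span_pair hu hv huv,
    Nat.card_zmod] at h1
  rw [h1]; norm_num

theorem mem_of_perp_pair [Finite V] (h : QF q b) {u v j : V}
    (hj : ∀ x, b x u = 0 → b x v = 0 → b x j = 0) :
    j = 0 ∨ j = u ∨ j = v ∨ j = u + v := by
  have hfin : Module.Finite (ZMod 2) V := Module.Finite.of_finite
  have h1 : j ∈ b.orthogonal (b.orthogonal (Submodule.span (ZMod 2) {u, v})) := by
    rw [LinearMap.BilinForm.mem_orthogonal_iff]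
    intro x hx
    obtain ⟨h2, h3⟩ := (mem_orth_pair h u v x).1 hx
    exact hj x h2 h3
  rw [LinearMap.BilinForm.orthogonal_orthogonal h.nondeg h.refl] at h1
  obtain ⟨r, t, rfl⟩ := Submodule.mem_span_pair.1 h1
  rcases zm r with rfl | rfl <;> rcases zm t with rfl | rfl
  · left; simp
  · right; right; left; simp
  · right; left; simp
  · right; right; right; simp

/-- existence of the vector `h` -/
theorem exists_h [Finite V] (hV : Module.finrank (ZMod 2) V = 8) (h : QF q b) {v0 r j : V}
    (qv : q v0 = 1) (qr : q r = 0) (brv : b r v0 = 0) (qj : q j = 0) (j0 : j ≠ 0) (jr : j ≠ r)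
    : ∃ k, k ≠ 0 ∧ q k = 0 ∧ b k v0 = 0 ∧ b k r = 0 ∧ b k j = 1 := by
  have hfin : Module.Finite (ZMod 2) V := Module.Finite.of_finite
  have ne : ∀ k, b k j = 1 → k ≠ 0 := by
    intro k hk h0
    rw [h0, map_zero, LinearMap.zero_apply] at hk
    exact absurd hk (by decide)
  have bvr : b v0 r = 0 := by rw [h.b_comm]; exact brv
  rcases zm (b v0 j) with hj | hj
  · -- j ⊥ v0
    obtain ⟨k, hk1, hk2, hk3⟩ : ∃ k, b k v0 = 0 ∧ b k r = 0 ∧ b k j = 1 := by
      by_contra hc
      push Not at hc
      rcases mem_of_perp_pair h (u := v0) (v := r) (j := j)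
        (fun x h1 h2 => (zm _).resolve_right (hc x h1 h2)) with h1 | h1 | h1 | h1
      · exact j0 h1
      · rw [h1, qv] at qj; exact absurd qj (by decide)
      · exact jr h1
      · rw [h1, h.q_add, qv, qr, bvr] at qj; exact absurd qj (by decide)
    rcases zm (q k) with h1 | h1
    · exact ⟨k, ne k hk3, h1, hk1, hk2, hk3⟩
    · have h2 : b (k + v0) j = 1 := by
        rw [map_add, LinearMap.add_apply, hk3, hj, add_zero]
      refine ⟨k + v0, ne _ h2, ?_, ?_, ?_, h2⟩
      · rw [h.q_add, h1, qv, hk1]; decide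
      · rw [map_add, LinearMap.add_apply, hk1, h.b_self, add_zero]
      · rw [map_add, LinearMap.add_apply, hk2, bvr, add_zero]
  · -- b v0 j = 1
    obtain ⟨k, hk1, hk2, hk3, hk4⟩ : ∃ k, b k v0 = 0 ∧ b k r = 0 ∧ b k j = 0 ∧ q k = 1 := by
      by_contra hc
      push Not at hc
      let X : Submodule (ZMod 2) V := b.orthogonal (Submodule.span (ZMod 2) {v0, r, j})
      have hX : ∀ x ∈ X, q x = 0 := by
        intro x hx
        rw [LinearMap.BilinForm.mem_orthogonal_iff] at hx
        have e1 : b x v0 = 0 := by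
          rw [h.b_comm]; exact hx _ (Submodule.subset_span (by simp))
        have e2 : b x r = 0 := by
          rw [h.b_comm]; exact hx _ (Submodule.subset_span (by simp))
        have e3 : b x j = 0 := by
          rw [h.b_comm]; exact hx _ (Submodule.subset_span (by simp))
        exact (zm _).resolve_right (hc x e1 e2 e3)
      have h1 := finrank_ti hV h (ti_of_ts h hX)
      have h2 : Module.finrank (ZMod 2) X = 8 -
          Module.finrank (ZMod 2) (Submodule.span (ZMod 2) {v0, r, j}) := by
        rw [LinearMap.BilinForm.finrank_orthogonal h.nondeg, hV]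
      have h3 : Module.finrank (ZMod 2) (Submodule.span (ZMod 2) ({v0, r, j} : Set V)) ≤ 3 := by
        classical
        have h4 := finrank_span_finset_le_card (R := ZMod 2) ({v0, r, j} : Finset V)
        have h5 : (({v0, r, j} : Finset V) : Set V) = {v0, r, j} := by simp
        have h6 : ({v0, r, j} : Finset V).card ≤ 3 := Finset.card_le_three
        rw [Set.finrank, h5] at h4
        omega
      omega
    have h2 : b (k + v0) j = 1 := by
      rw [map_add, LinearMap.add_apply, hk3, hj, zero_add]
    refine ⟨k + v0, ne _ h2, ?_, ?_, ?_, h2⟩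
    · rw [h.q_add, hk4, qv, hk1]; decide
    · rw [map_add, LinearMap.add_apply, hk1, h.b_self, add_zero]
    · rw [map_add, LinearMap.add_apply, hk2, bvr, add_zero]

end Cfsg.Agent.Co2Type.RedLin3
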