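import Cfsg.Agent.Co2Type.RedGroup2
import Cfsg.Agent.Co2Type.RedLin3

/-!
# Exclusion of the reducible case, part 3: `z' ∈ Q` and `z ∈ Q'` (R03, piece A2; helper587)
-/

set_option autoImplicit false

namespace Cfsg.Agent.Co2Type.RedGroup3

open Cfsg.Agent.Co2Type.Quad Cfsg.Agent.Co2Type.Pair Cfsg.Agent.Co2Type.RedLin
  Cfsg.Agent.Co2Type.RedLin2 Cfsg.Agent.Co2Type.RedLin3 Cfsg.Agent.Co2Type.RedGroup
  Cfsg.Agent.Co2Type.RedGroup2

variable {G : Type*} [Group G] {Q Q' : Subgroup G} {z z' x x' : G}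

/-- the image of `Q ∩ Q'` is invariant under the elements given by `Tr` -/
theorem orbit (w : Wd Q z x) (w' : Wd Q' z' x') (T : Tr w) (hne : z' ≠ z) (hz' : z' ∈ Q)
    (hr : w.large.b (w.large.pr ⟨z', hz'⟩) (v0 w) = 0) (i : Q) (hi : (i : G) ∈ Q')
    {h : w.large.V} (h0 : h ≠ 0) (hq : w.large.q h = 0) (hv : w.large.b h (v0 w) = 0)
    (hhr : w.large.b h (w.large.pr ⟨z', hz'⟩) = 0) :
    ∃ i' : Q, (i' : G) ∈ Q' ∧ w.large.pr i' = w.large.pr i +
      w.large.b (w.large.pr i) (h + v0 w) • (h + v0 w) +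
      w.large.b (w.large.pr i) (v0 w) • v0 w := by
  have hfin := finite_Q w
  have hz'z : z' * z = z * z' := w.large.comm_z z' hz'
  obtain ⟨c, hc, hcf⟩ := T h h0 hq hv
  have h1 : A w.large c hc (w.large.pr ⟨z', hz'⟩) = w.large.pr ⟨z', hz'⟩ := by
    rw [hcf, map_add, hr, w.large.b_comm _ h, hhr]
    simp
  rw [A_pr, w.large.pr_eq_pr] at h1
  -- a modification of c commutes with z'
  obtain ⟨e, heQ, hc'⟩ : ∃ e ∈ Q, (c * e) * z' = z' * (c * e) := by
    rcases h1 with h2 | h2
    · refine ⟨1, Q.one_mem, ?_⟩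
      have h3 : c * z' * c⁻¹ = z' := h2
      rw [mul_inv_eq_iff_eq_mul] at h3
      rw [mul_one]; exact h3
    · have h3 : c * z' * c⁻¹ = z' * z := h2
      obtain ⟨v, hv⟩ := (qf w.large).exists_one (pr_ne_zero w.large hz' w'.large.z_ne hne)
      obtain ⟨e, rfl⟩ := w.large.pr_surjective v
      refine ⟨e, e.2, ?_⟩
      have h4 : (e : G) * z' = z' * e * z := (w.large.b_pr_one _ _).1 hv
      have h5 : c * z' = z' * z * c := by rwa [mul_inv_eq_iff_eq_mul] at h3
      calc c * e * z' = c * (e * z') := mul_assoc _ _ _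
        _ = c * z' * (e * z) := by rw [h4]; group
        _ = z' * z * c * (e * z) := by rw [h5]
        _ = z' * z * c * (z * e) := by rw [w.large.comm_z e e.2]
        _ = z' * z * (c * z) * e := by group
        _ = z' * (z * z) * c * e := by rw [hc]; group
        _ = z' * (c * e) := by rw [w.large.z_sq]; group
  have hez := w.large.comm_z e heQ
  have hcz' : (c * e) * z = z * (c * e) := mul_comm_z hc hez
  have h6 := conj_mem_inf w.large w'.large hcz' hc' (Subgroup.mem_inf.2 ⟨i.2, hi⟩)
  refine ⟨⟨(c * e) * i * (c * e)⁻¹, (Subgroup.mem_inf.1 h6).1⟩, (Subgroup.mem_inf.1 h6).2, ?_⟩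
  have h7 : w.large.pr ⟨(c * e) * i * (c * e)⁻¹, (Subgroup.mem_inf.1 h6).1⟩ =
      A w.large (c * e) hcz' (w.large.pr i) := (A_pr w.large (c * e) hcz' i).symm
  rw [h7, A_mul_apply w.large hc hez, A_eq_one_of_mem w.large hez heQ]
  exact hcf _

theorem inf_line (w : Wd Q z x) (w' : Wd Q' z' x') (T : Tr w) (hne : z' ≠ z) (hz' : z' ∈ Q)
    (hr : w.large.b (w.large.pr ⟨z', hz'⟩) (v0 w) = 0) (i : Q) (hi : (i : G) ∈ Q') :
    w.large.pr i = 0 ∨ w.large.pr i = w.large.pr ⟨z', hz'⟩ := by
  have hfin := finite_Q w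
  have hQF := qf w.large
  have hq : ∀ i : Q, (i : G) ∈ Q' → w.large.q (w.large.pr i) = 0 := by
    intro i hi
    rw [w.large.q_eq_zero]
    exact inf_sq w.large w'.large hne (Subgroup.mem_inf.2 ⟨i.2, hi⟩)
  by_contra hcon
  push Not at hcon
  have hqr : w.large.q (w.large.pr ⟨z', hz'⟩) = 0 := by
    rw [w.large.q_eq_zero]; exact w'.large.z_sq
  obtain ⟨k, hk0, hk1, hk2, hk3, hk4⟩ := exists_h (finrank_V w) hQF (q_v0 w) hqr hr (hq i hi)
    hcon.1 hcon.2
  obtain ⟨i', hi', he⟩ := orbit w w' T hne hz' hr i hi hk0 hk1 hk2 hk3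
  have h1 := hq (i * i') (mul_mem hi hi')
  rw [w.large.pr_mul, he] at h1
  have hk4' : w.large.b (w.large.pr i) k = 1 := by rw [w.large.b_comm]; exact hk4
  generalize w.large.pr i = j at *
  rcases zm (w.large.b j (v0 w)) with h2 | h2
  · have e : j + (j + w.large.b j (k + v0 w) • (k + v0 w) + w.large.b j (v0 w) • v0 w) =
        k + v0 w := by
      rw [map_add, hk4', h2]
      apply one_smul_inj
      match_scalars <;> decide
    rw [e, w.large.q_add', hk1, q_v0, hk2] at h1
    exact absurd h1 (by decide)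
  · have e : j + (j + w.large.b j (k + v0 w) • (k + v0 w) + w.large.b j (v0 w) • v0 w) =
        v0 w := by
      rw [map_add, hk4', h2]
      apply one_smul_inj
      match_scalars <;> decide
    rw [e, q_v0] at h1
    exact absurd h1 (by decide)

/-- `z' ∈ Q`, `z ∈ Q'`, centralising case -/
theorem both_false (w : Wd Q z x) (w' : Wd Q' z' x') (T : Tr w) (hne : z' ≠ z)
    (h : x' * z = z * x') (hz' : z' ∈ Q) (hz : z ∈ Q') : False := by
  classical
  have hfin := finite_Q w
  have hfin' := finite_Q w'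
  have hQF := qf w.large
  have hxz' := cen_symm w w' h
  have hz'z : z' * z = z * z' := w.large.comm_z z' hz'
  have hr0 : w.large.pr ⟨z', hz'⟩ ≠ 0 := pr_ne_zero w.large hz' w'.large.z_ne hne
  have hqr : w.large.q (w.large.pr ⟨z', hz'⟩) = 0 := by
    rw [w.large.q_eq_zero]; exact w'.large.z_sq
  have hr : w.large.b (w.large.pr ⟨z', hz'⟩) (v0 w) = 0 := by
    rw [v0, w.large.b_pr]; exact hxz'.symm
  have hline := inf_line w w' T hne hz' hr
  have hr0' : w'.large.pr ⟨z, hz⟩ ≠ 0 := pr_ne_zero w'.large hz w.large.z_ne hne.symm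
  set r := w.large.pr ⟨z', hz'⟩ with hrdef
  set r' := w'.large.pr ⟨z, hz⟩ with hr'def
  -- elements of D' act trivially on the hyperplane mod r
  have hact : ∀ (a : G), a ∈ Q' → ∀ (ha : a * z = z * a) (v : w.large.V), w.large.b v r = 0 →
      A w.large a ha v = v ∨ A w.large a ha v = v + r := by
    intro a haQ ha v hv
    rw [hrdef, ← mem_Dbar_iff] at hv
    obtain ⟨d, hd, rfl⟩ := hv
    have h1 := commutator_mem w.large w'.large (mem_dsub.2 ⟨d.2, hd⟩ : (d : G) ∈ dsub Q z')
      (mem_dsub.2 ⟨haQ, ha⟩ : a ∈ dsub Q' z)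
    have h2 : a * d * a⁻¹ * (d : G)⁻¹ ∈ Q ⊓ Q' := by
      have h3 := inv_mem h1
      have e : ((d : G) * a * (d : G)⁻¹ * a⁻¹)⁻¹ = a * d * a⁻¹ * (d : G)⁻¹ := by group
      rwa [e] at h3
    have h3 : A w.large a ha (w.large.pr d) =
        w.large.pr ⟨a * d * a⁻¹ * (d : G)⁻¹, (Subgroup.mem_inf.1 h2).1⟩ + w.large.pr d := by
      rw [A_pr, ← w.large.pr_mul]
      apply pr_congr
      show a * d * a⁻¹ = (a * d * a⁻¹ * (d : G)⁻¹) * d
      group
    rw [h3]
    rcases hline ⟨_, (Subgroup.mem_inf.1 h2).1⟩ (Subgroup.mem_inf.1 h2).2 with h4 | h4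
    · left; rw [h4, zero_add]
    · right; rw [h4, add_comm]
  have har : ∀ (a : G), a ∈ Q' → ∀ (ha : a * z = z * a), A w.large a ha r = r := by
    intro a haQ ha
    rw [hrdef, A_pr]
    apply pr_congr
    show a * z' * a⁻¹ = z'
    rw [w'.large.comm_z a haQ]; group
  obtain ⟨p, hp⟩ := hQF.exists_one hr0
  -- the vector m
  have hm : ∀ (a : G), a ∈ Q' → ∀ (ha : a * z = z * a),
      w.large.b (A w.large a ha p + p) r = 0 ∧ w.large.b (A w.large a ha p + p) (v0 w) = 0 ∧
      w.large.q (A w.large a ha p + p) = w.large.b p (A w.large a ha p + p) := by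
    intro a haQ ha
    have hb1 := hQF.b_isom (A_q w.large a ha) p r
    have hb2 := hQF.b_isom (A_q w.large a ha) p (v0 w)
    rw [har a haQ ha] at hb1
    rw [A_v0 w ha] at hb2
    refine ⟨?_, ?_, ?_⟩
    · rw [map_add w.large.b, LinearMap.add_apply, hb1, cc]
    · rw [map_add w.large.b, LinearMap.add_apply, hb2, cc]
    · rw [w.large.q_add', A_q, cc, zero_add, map_add, w.large.b_self, add_zero, w.large.b_comm]
  have hsame : ∀ (a a' : G), a ∈ Q' → a' ∈ Q' → ∀ (ha : a * z = z * a) (ha' : a' * z = z * a'),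
      A w.large a ha p = A w.large a' ha' p → A w.large a ha = A w.large a' ha' := by
    intro a a' haQ haQ' ha ha' he
    have hperp : ∀ v, w.large.b v r = 0 → A w.large a ha v = A w.large a' ha' v := by
      intro v hv
      have hb1 := hQF.b_isom (A_q w.large a ha) p v
      have hb2 := hQF.b_isom (A_q w.large a' ha') p v
      have hbr : w.large.b (A w.large a ha p) r = 1 := by
        have h3 := hQF.b_isom (A_q w.large a ha) p r
        rw [har a haQ ha, hp] at h3
        exact h3
      rw [← he] at hb2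
      rcases hact a haQ ha v hv with h1 | h1 <;> rcases hact a' haQ' ha' v hv with h2 | h2
      · rw [h1, h2]
      · exfalso
        rw [h1] at hb1
        rw [h2, map_add, hbr, hb1] at hb2
        have : ∀ a : ZMod 2, a + 1 = a → False := by decide
        exact this _ hb2
      · exfalso
        rw [h2] at hb2
        rw [h1, map_add, hbr, hb2] at hb1
        have : ∀ a : ZMod 2, a + 1 = a → False := by decide
        exact this _ hb1
      · rw [h1, h2]
    ext v
    rcases zm (w.large.b v r) with h1 | h1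
    · exact hperp v h1
    · have h2 : w.large.b (v + p) r = 0 := by
        rw [map_add w.large.b, LinearMap.add_apply, h1, hp, cc]
      have h3 := hperp _ h2
      rw [map_add, map_add, he] at h3
      exact add_right_cancel h3
  -- choose elements
  have hch : ∀ v : Dbar w'.large z, ∃ a : Q', ∃ _ : (a : G) * z = z * a, w'.large.pr a = v := by
    intro v
    obtain ⟨a, ha, hav⟩ := v.2
    exact ⟨a, ha, hav⟩
  choose a ha hav using hch
  let X := w.large.b.orthogonal (Submodule.span (ZMod 2) {r, v0 w})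
  have hrv0 : r ≠ v0 w := by
    intro hc
    have := q_v0 w
    rw [← hc, hqr] at this
    exact absurd this (by decide)
  have hXcard : Nat.card X = 64 := card_orth_pair (finrank_V w) hQF hr0 (v0_ne w) hrv0
  obtain ⟨s, hs⟩ := (qf w'.large).exists_one hr0'
  have hmemX : ∀ (v : Dbar w'.large z) (β : ZMod 2),
      (A w.large (a v) (ha v) p + p) + β • r ∈ X := by
    intro v β
    obtain ⟨m1, m2, -⟩ := hm (a v) (a v).2 (ha v)
    rw [mem_orth_pair hQF]
    constructor
    · rw [map_add w.large.b, LinearMap.add_apply, m1, map_smul, LinearMap.smul_apply,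
        w.large.b_self, smul_zero, add_zero]
    · rw [map_add w.large.b, LinearMap.add_apply, m2, map_smul, LinearMap.smul_apply, hr,
        smul_zero, add_zero]
  have hcard : Nat.card (Dbar w'.large z × ZMod 2) ≤ Nat.card (X × ZMod 2) := by
    refine Nat.card_le_card_of_injective (fun t : Dbar w'.large z × ZMod 2 =>
      ((⟨_, hmemX t.1 t.2⟩ : X), w'.large.b s (t.1 : w'.large.V))) ?_
    rintro ⟨v, β⟩ ⟨v', β'⟩ hvv
    have e1 : (A w.large (a v) (ha v) p + p) + β • r =
        (A w.large (a v') (ha v') p + p) + β' • r :=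
      congrArg (fun t : X × ZMod 2 => ((t.1 : X) : w.large.V)) hvv
    have e2 : w'.large.b s (v : w'.large.V) = w'.large.b s (v' : w'.large.V) :=
      congrArg (fun t : X × ZMod 2 => t.2) hvv
    obtain ⟨m1, m2, m3⟩ := hm (a v) (a v).2 (ha v)
    obtain ⟨m1', m2', m3'⟩ := hm (a v') (a v').2 (ha v')
    have hqX : ∀ m, w.large.b m r = 0 → w.large.q (m + r) = w.large.q m := by
      intro m hm
      rw [w.large.q_add', hqr, hm, add_zero, add_zero]
    have hbp : ∀ m, w.large.b p (m + r) = w.large.b p m + 1 := by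
      intro m; rw [map_add, hp]
    have hcontra : ∀ c : ZMod 2, c = c + 1 → False := by decide
    have hββ : β = β' := by
      rcases zm β with rfl | rfl <;> rcases zm β' with rfl | rfl
      · rfl
      · exfalso
        rw [zero_smul, add_zero, one_smul] at e1
        rw [e1, hqX _ m1', hbp, m3'] at m3
        exact hcontra _ m3
      · exfalso
        rw [zero_smul, add_zero, one_smul] at e1
        rw [← e1, hqX _ m1, hbp, m3] at m3'
        exact hcontra _ m3'
      · rfl
    subst hββ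
    have e3 : A w.large (a v) (ha v) p = A w.large (a v') (ha v') p :=
      add_right_cancel (add_right_cancel e1)
    have e4 := hsame _ _ (a v).2 (a v').2 (ha v) (ha v') e3
    have e5 := mem_of_A_eq w.large (ha v) (ha v') e4
    have e6 : ((a v : Q') : G) * ((a v' : Q') : G)⁻¹ ∈ Q' := mul_mem (a v).2 (inv_mem (a v').2)
    have e7 : w'.large.pr ⟨_, e6⟩ = (v : w'.large.V) + v' := by
      have e8 : w'.large.pr ⟨_, e6⟩ = w'.large.pr (a v * (a v')⁻¹) := pr_congr w'.large rfl
      rw [e8, w'.large.pr_mul, w'.large.pr_inv, w'.large.neg_eq, hav, hav]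
    have e9 : w'.large.pr ⟨_, e6⟩ = 0 ∨ w'.large.pr ⟨_, e6⟩ = r' := by
      rcases hline ⟨_, e5⟩ e6 with h1 | h1
      · rcases w.large.pr_eq_zero.1 h1 with h2 | h2
        · left; rw [w'.large.pr_eq_zero]; left; exact h2
        · right; rw [hr'def, w'.large.pr_eq_pr]; left; exact h2
      · rcases w.large.pr_eq_pr.1 h1 with h2 | h2
        · left; rw [w'.large.pr_eq_zero]; right; exact h2
        · right; rw [hr'def, w'.large.pr_eq_pr]; right
          have h3 : ((a v : Q') : G) * ((a v' : Q') : G)⁻¹ = z' * z := h2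
          show ((a v : Q') : G) * ((a v' : Q') : G)⁻¹ = z * z'
          rw [h3, hz'z]
    rw [e7] at e9
    have hvv' : (v : w'.large.V) = v' := by
      rcases e9 with h1 | h1
      · exact eq_of_add h1
      · exfalso
        have h2 : w'.large.b s ((v : w'.large.V) + v') = 1 := by rw [h1, hs]
        rw [map_add, e2, cc] at h2
        exact absurd h2 (by decide)
    rw [Subtype.ext hvv']
  rw [Nat.card_prod, Nat.card_prod, hXcard, Nat.card_zmod] at hcard
  have h1 := card_perp (qf w'.large) r' (Dbar w'.large z)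
    (fun v hv => (mem_Dbar_iff w'.large hz v).2 hv)
  have h2 := w'.large.card_eq
  rw [w'.card] at h2
  omega

/-- **two commuting conjugates are equal** -/
theorem eq_of_commute (w : Wd Q z x) (T : Tr w) (g : G)
    (hc : (g * z * g⁻¹) * z = z * (g * z * g⁻¹)) : g * z * g⁻¹ = z := by
  by_contra hne
  have w' := w.conj g
  by_cases hinv : x * (g * z * g⁻¹) = (g * z * g⁻¹) * x
  · -- centralising case
    have hx' : (g * x * g⁻¹) * z = z * (g * x * g⁻¹) := cen_symm w' w hinv
    by_cases hz' : g * z * g⁻¹ ∈ Q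
    · by_cases hz : z ∈ Q.map (MulAut.conj g).toMonoidHom
      · exact both_false w w' T hne hx' hz' hz
      · exact cen_false w' w (Ne.symm hne) hinv hz
    · exact cen_false w w' hne hx' hz'
  · exact inv_false w w' T hne hc hinv

end Cfsg.Agent.Co2Type.RedGroup3
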