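import Cfsg.Agent.Co2Type.CardCo2
import Cfsg.Agent.S0402

/-!
# `Spor.Co2` is simple
-/

set_option autoImplicit false

namespace Cfsg.Agent.Co2Type.SimpleCo2

open Cfsg Cfsg.Agent.Co2Type.CardCo2 Cfsg.Agent.SporadicStructure

theorem simple_co2 : IsSimpleGroup Spor.Co2 := by
  have h1 : IsSimpleGroup (MulAction.stabilizer Co0 Spor.leechU) := by
    refine (Cfsg.Agent.S0402.result Spor.leechU ?_).1
    rw [Co2RankThree.norm_eq]
    exact Co2RankThree.dt_a0_a0
  have e : MulAction.stabilizer Co0 Spor.leechU ≃* (MulAction.stabilizer Co0 Spor.leechU).map Co0.subtype :=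
    Subgroup.equivMapOfInjective _ _ Co0.subtype_injective
  have h2 : IsSimpleGroup ((MulAction.stabilizer Co0 Spor.leechU).map Co0.subtype) := e.symm.isSimpleGroup
  rw [map_stabilizer] at h2
  exact h2

end Cfsg.Agent.Co2Type.SimpleCo2
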