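import Cfsg.Agent.Co2Type.Setup
import Cfsg.Agent.LieClassical.SympPerfect

/-!
The spin module of `Sp6(2)`: structure of an 8-dimensional module on which
`d_u + d_w + d_{u+w} = 0` for all `(u, w) = 1`.
-/

set_option autoImplicit false
set_option linter.unusedSimpArgs false
open Cfsg
open scoped Matrix

namespace Cfsg.Agent.Co2Type.Spin

open Cfsg.Agent.Co2Type.Setup
open Cfsg.Agent.ClassicalGeometry.SympBasic
open Cfsg.Agent.LieClassical.SympPerfect

/-- the natural module -/
abbrev U : Type := Fin 3 ⊕ Fin 3 → ZMod 2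

/-- the symplectic form -/
abbrev sf (u w : U) : ZMod 2 := sympForm 3 (ZMod 2) u w

theorem sf_comm (u w : U) : sf u w = sf w u := by
  rw [sf, sympForm_swap, ZModModule.neg_eq_self]

theorem zmod2_cases (a : ZMod 2) : a = 0 ∨ a = 1 := by
  revert a; decide

section General

variable {V : Type*} [AddCommGroup V] [Module (ZMod 2) V]

theorem add_self' (x : Module.End (ZMod 2) V) : x + x = 0 := ZModModule.add_self x

variable (rho : Sp6 →* (V ≃ₗ[ZMod 2] V))

/-- the linear map given by an element of `Sp6(2)` -/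
def D (g : Sp6) : Module.End (ZMod 2) V := (rho g : V →ₗ[ZMod 2] V)

@[simp] theorem D_apply (g : Sp6) (v : V) : D rho g v = rho g v := rfl

theorem D_one : D rho 1 = 1 := by
  ext v
  simp [D]

theorem D_mul (g h : Sp6) : D rho (g * h) = D rho g * D rho h := by
  ext v
  simp [D]

/-- the transvection `d_u`, as a linear map -/
def T (u : U) : Module.End (ZMod 2) V := D rho (transv u 1)

/-- `n_u = 1 + d_u` -/
def n (u : U) : Module.End (ZMod 2) V := 1 + T rho u

theorem n_apply (u : U) (v : V) : n rho u v = v + rho (transv u 1) v := rfl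

theorem T_apply (u : U) (v : V) : T rho u v = rho (transv u 1) v := rfl

theorem T_eq (u : U) : T rho u = 1 + n rho u := by
  rw [n, ← add_assoc, add_self', zero_add]

theorem T_mul_self (u : U) : T rho u * T rho u = 1 := by
  rw [T, ← D_mul, transv_mul]
  have h : (1 : ZMod 2) + 1 = 0 := by decide
  rw [h, transv_zero, D_one]

theorem n_mul_self (u : U) : n rho u * n rho u = 0 := by
  rw [n, mul_add, add_mul, add_mul, T_mul_self, one_mul, one_mul, mul_one]
  calc (1 : Module.End (ZMod 2) V) + T rho u + (T rho u + 1)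
      = (1 + 1) + (T rho u + T rho u) := by abel
    _ = 0 := by rw [add_self', add_self', add_zero]

theorem transv_zero_left : transv (0 : U) (1 : ZMod 2) = 1 := by
  have h := transv_smul (F := ZMod 2) (m := 3) (0 : U) 0 1
  rw [smul_zero] at h
  rw [h]
  simp [transv_zero]

theorem n_zero : n rho 0 = 0 := by
  rw [n, T, transv_zero_left, D_one, add_self']

theorem D_mul_T (g : Sp6) (u : U) :
    D rho g * T rho u = T rho ((g : Matrix _ _ (ZMod 2)) *ᵥ u) * D rho g := by
  rw [T, T, ← D_mul, ← D_mul, ← conj_transv, inv_mul_cancel_right]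

theorem D_mul_n (g : Sp6) (u : U) :
    D rho g * n rho u = n rho ((g : Matrix _ _ (ZMod 2)) *ᵥ u) * D rho g := by
  rw [n, n, mul_add, add_mul, D_mul_T, mul_one, one_mul]

theorem transv_mulVec (w u : U) :
    ((transv w 1 : Sp6) : Matrix _ _ (ZMod 2)) *ᵥ u = u + sf u w • w := by
  rw [coe_transv, sympTransvection_mulVec, one_mul]

theorem T_mul_n (w u : U) : T rho w * n rho u = n rho (u + sf u w • w) * T rho w := by
  rw [T, D_mul_n, transv_mulVec]

theorem T_mul_n_of_zero {w u : U} (h : sf u w = 0) : T rho w * n rho u = n rho u * T rho w := by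
  rw [T_mul_n, h, zero_smul, add_zero]

theorem n_comm_of_zero {w u : U} (h : sf u w = 0) : n rho w * n rho u = n rho u * n rho w := by
  have h1 := T_mul_n_of_zero rho h
  rw [T_eq, add_mul, mul_add, one_mul, mul_one] at h1
  exact add_left_cancel h1

/-- the hypothesis of the spin case -/
def SpinHyp : Prop := ∀ u w : U, sf u w = 1 → ∀ v : V,
  rho (transv u 1) v + rho (transv w 1) v + rho (transv (u + w) 1) v = 0

variable {rho}

theorem n_add_of_one (hs : SpinHyp rho) {u w : U} (h : sf u w = 1) :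
    n rho (u + w) = n rho u + n rho w + 1 := by
  have h1 : T rho u + T rho w + T rho (u + w) = 0 := by
    ext v
    exact hs u w h v
  have h2 : T rho (u + w) = T rho u + T rho w := by
    have := congrArg (fun x => x + T rho (u + w)) h1
    simp only [zero_add] at this
    rw [← this, add_assoc, add_self', add_zero]
  rw [n, n, n, h2]
  calc (1 : Module.End (ZMod 2) V) + (T rho u + T rho w)
      = (1 + 1) + (1 + (T rho u + T rho w)) := by rw [add_self', zero_add]
    _ = _ := by abel

/-- the defect -/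
def Del (rho : Sp6 →* (V ≃ₗ[ZMod 2] V)) (u w : U) : Module.End (ZMod 2) V :=
  n rho (u + w) + n rho u + n rho w

theorem Del_mul_self {u w : U} (h : sf u w = 0) : Del rho u w * Del rho u w = 0 := by
  have h1 : n rho (u + w) * n rho u = n rho u * n rho (u + w) := by
    apply n_comm_of_zero
    rw [sf, sympForm_add_right, sympForm_self, zero_add]; exact h
  have h2 : n rho (u + w) * n rho w = n rho w * n rho (u + w) := by
    apply n_comm_of_zero
    rw [sf, sympForm_add_right, sympForm_self, add_zero]; exact (sf_comm w u).trans h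
  have h3 : n rho u * n rho w = n rho w * n rho u := by
    apply n_comm_of_zero
    exact (sf_comm w u).trans h
  have h4 := n_mul_self rho (u + w)
  have h5 := n_mul_self rho u
  have h6 := n_mul_self rho w
  rw [Del]
  calc (n rho (u + w) + n rho u + n rho w) * (n rho (u + w) + n rho u + n rho w)
      = n rho (u + w) * n rho (u + w) + n rho u * n rho u + n rho w * n rho w
        + (n rho (u + w) * n rho u + n rho u * n rho (u + w))
        + (n rho (u + w) * n rho w + n rho w * n rho (u + w))
        + (n rho u * n rho w + n rho w * n rho u) := by noncomm_ring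
    _ = 0 := by
      rw [h1, h2, h3, h4, h5, h6]
      simp only [add_self', add_zero]

theorem D_mul_Del (g : Sp6) (u w : U) :
    D rho g * Del rho u w = Del rho ((g : Matrix _ _ (ZMod 2)) *ᵥ u)
      ((g : Matrix _ _ (ZMod 2)) *ᵥ w) * D rho g := by
  rw [Del, Del, mul_add, mul_add, D_mul_n, D_mul_n, D_mul_n, ← Matrix.mulVec_add, add_mul,
    add_mul]

theorem Del_transv (hs : SpinHyp rho) (u w p : U) :
    Del rho (u + sf u p • p) (w + sf w p • p) = Del rho u w := by
  rcases zmod2_cases (sf u p) with hu | hu <;> rcases zmod2_cases (sf w p) with hw | hw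
  · rw [hu, hw]; simp
  · have h1 : sf (u + w) p = 1 := by
      rw [sf, sympForm_add_left]
      show sf u p + sf w p = 1
      rw [hu, hw, zero_add]
    rw [hu, hw, zero_smul, one_smul, add_zero, Del, Del, ← add_assoc, n_add_of_one hs h1,
      n_add_of_one hs hw]
    calc n rho (u + w) + n rho p + 1 + n rho u + (n rho w + n rho p + 1)
        = n rho (u + w) + n rho u + n rho w + (n rho p + n rho p) + (1 + 1) := by abel
      _ = _ := by rw [add_self', add_self', add_zero, add_zero]
  · have h1 : sf (u + w) p = 1 := by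
      rw [sf, sympForm_add_left]
      show sf u p + sf w p = 1
      rw [hu, hw, add_zero]
    rw [hu, hw, zero_smul, one_smul, add_zero, Del, Del, add_right_comm u p w,
      n_add_of_one hs h1, n_add_of_one hs hu]
    calc n rho (u + w) + n rho p + 1 + (n rho u + n rho p + 1) + n rho w
        = n rho (u + w) + n rho u + n rho w + (n rho p + n rho p) + (1 + 1) := by abel
      _ = _ := by rw [add_self', add_self', add_zero, add_zero]
  · have h1 : u + p + (w + p) = u + w := by
      have : p + p = 0 := ZModModule.add_self p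
      calc u + p + (w + p) = u + w + (p + p) := by abel
        _ = u + w := by rw [this, add_zero]
    rw [hu, hw, one_smul, Del, Del, h1, n_add_of_one hs hu, n_add_of_one hs hw]
    calc n rho (u + w) + (n rho u + n rho p + 1) + (n rho w + n rho p + 1)
        = n rho (u + w) + n rho u + n rho w + (n rho p + n rho p) + (1 + 1) := by abel
      _ = _ := by rw [add_self', add_self', add_zero, add_zero]

theorem closure_top : Subgroup.closure {A : Sp6 | ∃ u : U, A = transv u 1} = ⊤ := by
  rw [eq_top_iff, ← Cfsg.Agent.S0765.result (F := ZMod 2) 3, Subgroup.closure_le]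
  rintro A ⟨w, c, hA⟩
  have hA' : A = transv w c := Subtype.ext hA
  rcases zmod2_cases c with rfl | rfl
  · rw [hA', transv_zero]
    exact Subgroup.one_mem _
  · exact Subgroup.subset_closure ⟨w, hA'⟩

/-- what commutes with all `d_u` commutes with everything -/
theorem comm_of_comm_T {x : Module.End (ZMod 2) V} (h : ∀ u, T rho u * x = x * T rho u)
    (g : Sp6) : D rho g * x = x * D rho g := by
  have hg : g ∈ Subgroup.closure {A : Sp6 | ∃ u : U, A = transv u 1} := by
    rw [closure_top]; trivial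
  induction hg using Subgroup.closure_induction with
  | mem y hy =>
    obtain ⟨u, rfl⟩ := hy
    exact h u
  | one => rw [D_one, one_mul, mul_one]
  | mul y z _ _ hy hz => rw [D_mul, mul_assoc, hz, ← mul_assoc, hy, mul_assoc]
  | inv y _ hy =>
    have h1 : D rho y⁻¹ * D rho y = 1 := by rw [← D_mul, inv_mul_cancel, D_one]
    have h2 : D rho y * D rho y⁻¹ = 1 := by rw [← D_mul, mul_inv_cancel, D_one]
    calc D rho y⁻¹ * x = D rho y⁻¹ * (x * (D rho y * D rho y⁻¹)) := by rw [h2, mul_one]
      _ = D rho y⁻¹ * ((D rho y * x) * D rho y⁻¹) := by rw [← mul_assoc x, hy]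
      _ = (D rho y⁻¹ * D rho y) * x * D rho y⁻¹ := by simp only [mul_assoc]
      _ = x * D rho y⁻¹ := by rw [h1, one_mul]

theorem T_mul_Del (hs : SpinHyp rho) (u w p : U) :
    T rho p * Del rho u w = Del rho u w * T rho p := by
  rw [T, D_mul_Del, transv_mulVec, transv_mulVec, Del_transv hs]

/-- squaring: the Clifford relation follows from additivity -/
theorem n_anticomm_of_one (hs : SpinHyp rho) {u w : U} (h : sf u w = 1) :
    n rho u * n rho w + n rho w * n rho u = 1 := by
  have h1 := n_mul_self rho (u + w)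
  rw [n_add_of_one hs h] at h1
  have h5 := n_mul_self rho u
  have h6 := n_mul_self rho w
  have h2 : (n rho u + n rho w + 1) * (n rho u + n rho w + 1)
      = n rho u * n rho u + n rho w * n rho w + (n rho u + n rho u) + (n rho w + n rho w)
        + (n rho u * n rho w + n rho w * n rho u) + 1 := by noncomm_ring
  rw [h2, h5, h6] at h1
  simp only [add_self', zero_add] at h1
  calc n rho u * n rho w + n rho w * n rho u
      = (n rho u * n rho w + n rho w * n rho u + 1) + 1 := by
        rw [add_assoc _ (1 : Module.End (ZMod 2) V) 1, add_self', add_zero]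
    _ = 1 := by rw [h1, zero_add]

/-- standard basis vectors -/
def e (i : Fin 3) : U := Pi.single (Sum.inl i) 1
/-- standard basis vectors -/
def f (i : Fin 3) : U := Pi.single (Sum.inr i) 1

theorem sf_e_f (i j : Fin 3) : sf (e i) (f j) = if i = j then 1 else 0 := by
  rw [sf, e, sympForm_single_inl_left, f, ZModModule.neg_eq_self, Pi.single_apply]
  simp only [Sum.inr.injEq]

theorem sf_f_e (i j : Fin 3) : sf (f i) (e j) = if i = j then 1 else 0 := by
  rw [sf_comm, sf_e_f]
  simp only [eq_comm]

theorem sf_e_e (i j : Fin 3) : sf (e i) (e j) = 0 := by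
  rw [sf, e, sympForm_single_inl_left, e, ZModModule.neg_eq_self, Pi.single_apply]
  simp

theorem sf_f_f (i j : Fin 3) : sf (f i) (f j) = 0 := by
  rw [sf, f, sympForm_single_inr_left, f, Pi.single_apply]
  simp

/-- an invariant subspace on which everything is trivial is zero -/
theorem eq_zero_of_fixed (hs : SpinHyp rho) {x : V} (h : ∀ u, rho (transv u 1) x = x) :
    x = 0 := by
  have h0 : ∀ u, n rho u x = 0 := fun u => by
    rw [n_apply, h]; exact ZModModule.add_self x
  have h1 := n_anticomm_of_one hs (u := e 0) (w := f 0) (by rw [sf_e_f]; rfl)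
  have h2 := LinearMap.congr_fun h1 x
  simpa [Module.End.mul_apply, h0] using h2.symm

theorem Del_eq_zero (hs : SpinHyp rho) (hcard : Nat.card V = 2 ^ 8) {u w : U}
    (h : sf u w = 0) : Del rho u w = 0 := by
  classical
  have : Finite V := (Nat.card_pos_iff.1 (by rw [hcard]; norm_num)).2
  have : Fintype V := Fintype.ofFinite V
  by_contra hne
  set Δ := Del rho u w with hΔ
  have hcomm : ∀ g, D rho g * Δ = Δ * D rho g := comm_of_comm_T (T_mul_Del hs u w)
  have hsq : Δ * Δ = 0 := Del_mul_self h
  set R := LinearMap.range Δ with hR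
  have hle : R ≤ LinearMap.ker Δ := by
    rintro _ ⟨y, rfl⟩
    rw [LinearMap.mem_ker]
    exact LinearMap.congr_fun hsq y
  have hfd : Module.Finite (ZMod 2) V := Module.Finite.of_finite
  have hrank := LinearMap.finrank_range_add_finrank_ker Δ
  have hle2 : Module.finrank (ZMod 2) R ≤ Module.finrank (ZMod 2) (LinearMap.ker Δ) :=
    Submodule.finrank_mono hle
  have hV : Module.finrank (ZMod 2) V = 8 := by
    have h := Module.natCard_eq_pow_finrank (K := ZMod 2) (V := V)
    rw [hcard, Nat.card_zmod] at h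
    exact (Nat.pow_right_injective le_rfl h).symm
  rw [hV, ← hR] at hrank
  have h4 : Module.finrank (ZMod 2) R ≤ 4 := by omega
  have hinv : ∀ g (x : R), rho g (x : V) ∈ R := by
    rintro g ⟨_, y, rfl⟩
    refine ⟨rho g y, ?_⟩
    exact (LinearMap.congr_fun (hcomm g) y).symm
  let φ : Sp6 → (R →ₗ[ZMod 2] R) := fun g =>
    ((D rho g).domRestrict R).codRestrict R (fun x => hinv g x)
  have hφmul : ∀ g k, φ (g * k) = φ g * φ k := by
    intro g k
    apply LinearMap.ext
    intro x
    apply Subtype.ext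
    show D rho (g * k) (x : V) = D rho g (D rho k (x : V))
    rw [D_mul]
    rfl
  have hφone : φ 1 = 1 := by
    apply LinearMap.ext
    intro x
    apply Subtype.ext
    show D rho 1 (x : V) = x
    rw [D_one]
    rfl
  let Φ : Sp6 →* Module.End (ZMod 2) R := ⟨⟨φ, hφone⟩, hφmul⟩
  have hsimple := isSimpleGroup_sp6
  have hkn : Φ.ker.Normal := inferInstance
  rcases hkn.eq_bot_or_eq_top with hk | hk
  · have hinj : Function.Injective Φ := (MonoidHom.ker_eq_bot_iff Φ).1 hk
    have hfin : Finite (Module.End (ZMod 2) R) := by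
      apply Finite.of_injective (fun (f : Module.End (ZMod 2) R) => (f : R → R))
      exact DFunLike.coe_injective
    have hc := Nat.card_le_card_of_injective Φ hinj
    rw [card_sp6] at hc
    have hb : Nat.card (Module.End (ZMod 2) R) ≤ 2 ^ 16 := by
      have h := Module.natCard_eq_pow_finrank (K := ZMod 2) (V := Module.End (ZMod 2) R)
      rw [h, Nat.card_zmod]
      apply Nat.pow_le_pow_right (by norm_num)
      rw [Module.finrank_linearMap]
      calc _ ≤ 4 * 4 := Nat.mul_le_mul h4 h4
        _ = 16 := by norm_num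
    norm_num at hb
    omega
  · have hRbot : R = ⊥ := by
      rw [eq_bot_iff]
      intro x hx
      rw [Submodule.mem_bot]
      apply eq_zero_of_fixed hs
      intro p
      have h1 : (transv p 1 : Sp6) ∈ Φ.ker := by rw [hk]; trivial
      have h2 : Φ (transv p 1) = 1 := h1
      have h3 := LinearMap.congr_fun h2 ⟨x, hx⟩
      exact congrArg Subtype.val h3
    exact hne (LinearMap.range_eq_bot.1 hRbot)

/-- (1) additivity -/
theorem n_add (hs : SpinHyp rho) (hcard : Nat.card V = 2 ^ 8) (u w : U) :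
    n rho (u + w) = n rho u + n rho w + sf u w • (1 : Module.End (ZMod 2) V) := by
  rcases zmod2_cases (sf u w) with h | h
  · rw [h, zero_smul, add_zero]
    have h1 := Del_eq_zero hs hcard h
    rw [Del, add_assoc] at h1
    have h2 := congrArg (fun x => x + (n rho u + n rho w)) h1
    simp only [zero_add] at h2
    rw [← h2, add_assoc, add_self', add_zero]
  · rw [h, one_smul]
    exact n_add_of_one hs h

/-- (2) the Clifford relations -/
theorem n_anticomm (hs : SpinHyp rho) (u w : U) :
    n rho u * n rho w + n rho w * n rho u = sf u w • (1 : Module.End (ZMod 2) V) := by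
  rcases zmod2_cases (sf u w) with h | h
  · rw [h, zero_smul, n_comm_of_zero rho h, add_self']
  · rw [h, one_smul]
    exact n_anticomm_of_one hs h

theorem n_anticomm_apply (hs : SpinHyp rho) (u w : U) (x : V) :
    n rho u (n rho w x) = n rho w (n rho u x) + sf u w • x := by
  have h := LinearMap.congr_fun (n_anticomm hs u w) x
  rw [LinearMap.add_apply, Module.End.mul_apply, Module.End.mul_apply, LinearMap.smul_apply,
    Module.End.one_apply] at h
  rw [← h, add_comm (n rho u (n rho w x)), ← add_assoc]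
  have h2 : n rho w (n rho u x) + n rho w (n rho u x) = 0 := ZModModule.add_self _
  rw [h2, zero_add]

theorem n_n_apply (u : U) (x : V) : n rho u (n rho u x) = 0 :=
  LinearMap.congr_fun (n_mul_self rho u) x

section BasisVectors

variable (rho) in
/-- the vector `x_I`, the product of the `n_{e_i}`, `i ∈ I`, applied to `x_0` -/
def x (x0 : V) : Fin 8 → V :=
  ![x0, n rho (e 0) x0, n rho (e 1) x0, n rho (e 0) (n rho (e 1) x0),
    n rho (e 2) x0, n rho (e 0) (n rho (e 2) x0), n rho (e 1) (n rho (e 2) x0),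
    n rho (e 0) (n rho (e 1) (n rho (e 2) x0))]

theorem ee (hs : SpinHyp rho) (i j : Fin 3) (y : V) :
    n rho (e i) (n rho (e j) y) = n rho (e j) (n rho (e i) y) := by
  rw [n_anticomm_apply hs, sf_e_e, zero_smul, add_zero]

theorem ff (hs : SpinHyp rho) (i j : Fin 3) (y : V) :
    n rho (f i) (n rho (f j) y) = n rho (f j) (n rho (f i) y) := by
  rw [n_anticomm_apply hs, sf_f_f, zero_smul, add_zero]

theorem fe_of_ne (hs : SpinHyp rho) {i j : Fin 3} (hij : i ≠ j) (y : V) :
    n rho (f i) (n rho (e j) y) = n rho (e j) (n rho (f i) y) := by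
  rw [n_anticomm_apply hs, sf_f_e, if_neg hij, zero_smul, add_zero]

theorem fe_self (hs : SpinHyp rho) (i : Fin 3) (y : V) :
    n rho (f i) (n rho (e i) y) = n rho (e i) (n rho (f i) y) + y := by
  rw [n_anticomm_apply hs, sf_f_e, if_pos rfl, one_smul]

theorem n_e_x (hs : SpinHyp rho) (x0 : V) (i : Fin 3) (I : Fin 8) :
    n rho (e i) (x rho x0 I) =
      if (I : ℕ).testBit i then 0 else x rho x0 (I + 2 ^ (i : ℕ)) := by
  have h10 : ∀ y, n rho (e 1) (n rho (e 0) y) = n rho (e 0) (n rho (e 1) y) := ee hs 1 0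
  have h20 : ∀ y, n rho (e 2) (n rho (e 0) y) = n rho (e 0) (n rho (e 2) y) := ee hs 2 0
  have h21 : ∀ y, n rho (e 2) (n rho (e 1) y) = n rho (e 1) (n rho (e 2) y) := ee hs 2 1
  have hh : ∀ u y, n rho u (n rho u y) = 0 := n_n_apply
  fin_cases i <;> fin_cases I
  · show n rho (e 0) x0 = n rho (e 0) x0
    try simp only [h10, h20, h21, hh, map_zero]
  · show n rho (e 0) (n rho (e 0) x0) = 0
    try simp only [h10, h20, h21, hh, map_zero]
  · show n rho (e 0) (n rho (e 1) x0) = n rho (e 0) (n rho (e 1) x0)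
    try simp only [h10, h20, h21, hh, map_zero]
  · show n rho (e 0) (n rho (e 0) (n rho (e 1) x0)) = 0
    try simp only [h10, h20, h21, hh, map_zero]
  · show n rho (e 0) (n rho (e 2) x0) = n rho (e 0) (n rho (e 2) x0)
    try simp only [h10, h20, h21, hh, map_zero]
  · show n rho (e 0) (n rho (e 0) (n rho (e 2) x0)) = 0
    try simp only [h10, h20, h21, hh, map_zero]
  · show n rho (e 0) (n rho (e 1) (n rho (e 2) x0)) = n rho (e 0) (n rho (e 1) (n rho (e 2) x0))
    try simp only [h10, h20, h21, hh, map_zero]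
  · show n rho (e 0) (n rho (e 0) (n rho (e 1) (n rho (e 2) x0))) = 0
    try simp only [h10, h20, h21, hh, map_zero]
  · show n rho (e 1) x0 = n rho (e 1) x0
    try simp only [h10, h20, h21, hh, map_zero]
  · show n rho (e 1) (n rho (e 0) x0) = n rho (e 0) (n rho (e 1) x0)
    try simp only [h10, h20, h21, hh, map_zero]
  · show n rho (e 1) (n rho (e 1) x0) = 0
    try simp only [h10, h20, h21, hh, map_zero]
  · show n rho (e 1) (n rho (e 0) (n rho (e 1) x0)) = 0
    try simp only [h10, h20, h21, hh, map_zero]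
  · show n rho (e 1) (n rho (e 2) x0) = n rho (e 1) (n rho (e 2) x0)
    try simp only [h10, h20, h21, hh, map_zero]
  · show n rho (e 1) (n rho (e 0) (n rho (e 2) x0)) = n rho (e 0) (n rho (e 1) (n rho (e 2) x0))
    try simp only [h10, h20, h21, hh, map_zero]
  · show n rho (e 1) (n rho (e 1) (n rho (e 2) x0)) = 0
    try simp only [h10, h20, h21, hh, map_zero]
  · show n rho (e 1) (n rho (e 0) (n rho (e 1) (n rho (e 2) x0))) = 0
    try simp only [h10, h20, h21, hh, map_zero]
  · show n rho (e 2) x0 = n rho (e 2) x0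
    try simp only [h10, h20, h21, hh, map_zero]
  · show n rho (e 2) (n rho (e 0) x0) = n rho (e 0) (n rho (e 2) x0)
    try simp only [h10, h20, h21, hh, map_zero]
  · show n rho (e 2) (n rho (e 1) x0) = n rho (e 1) (n rho (e 2) x0)
    try simp only [h10, h20, h21, hh, map_zero]
  · show n rho (e 2) (n rho (e 0) (n rho (e 1) x0)) = n rho (e 0) (n rho (e 1) (n rho (e 2) x0))
    try simp only [h10, h20, h21, hh, map_zero]
  · show n rho (e 2) (n rho (e 2) x0) = 0
    try simp only [h10, h20, h21, hh, map_zero]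
  · show n rho (e 2) (n rho (e 0) (n rho (e 2) x0)) = 0
    try simp only [h10, h20, h21, hh, map_zero]
  · show n rho (e 2) (n rho (e 1) (n rho (e 2) x0)) = 0
    try simp only [h10, h20, h21, hh, map_zero]
  · show n rho (e 2) (n rho (e 0) (n rho (e 1) (n rho (e 2) x0))) = 0
    try simp only [h10, h20, h21, hh, map_zero]

theorem n_f_x (hs : SpinHyp rho) {x0 : V} (h0 : ∀ i, n rho (f i) x0 = 0) (i : Fin 3)
    (I : Fin 8) :
    n rho (f i) (x rho x0 I) =
      if (I : ℕ).testBit i then x rho x0 (I - 2 ^ (i : ℕ)) else 0 := by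
  have h00 : ∀ y, n rho (f 0) (n rho (e 0) y) = n rho (e 0) (n rho (f 0) y) + y := fe_self hs 0
  have h11 : ∀ y, n rho (f 1) (n rho (e 1) y) = n rho (e 1) (n rho (f 1) y) + y := fe_self hs 1
  have h22 : ∀ y, n rho (f 2) (n rho (e 2) y) = n rho (e 2) (n rho (f 2) y) + y := fe_self hs 2
  have h01 : ∀ y, n rho (f 0) (n rho (e 1) y) = n rho (e 1) (n rho (f 0) y) :=
    fe_of_ne hs (by decide)
  have h02 : ∀ y, n rho (f 0) (n rho (e 2) y) = n rho (e 2) (n rho (f 0) y) :=
    fe_of_ne hs (by decide)
  have h10 : ∀ y, n rho (f 1) (n rho (e 0) y) = n rho (e 0) (n rho (f 1) y) :=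
    fe_of_ne hs (by decide)
  have h12 : ∀ y, n rho (f 1) (n rho (e 2) y) = n rho (e 2) (n rho (f 1) y) :=
    fe_of_ne hs (by decide)
  have h20 : ∀ y, n rho (f 2) (n rho (e 0) y) = n rho (e 0) (n rho (f 2) y) :=
    fe_of_ne hs (by decide)
  have h21 : ∀ y, n rho (f 2) (n rho (e 1) y) = n rho (e 1) (n rho (f 2) y) :=
    fe_of_ne hs (by decide)
  fin_cases i <;> fin_cases I
  · show n rho (f 0) x0 = 0
    simp only [h00, h11, h22, h01, h02, h10, h12, h20, h21, h0, map_zero, zero_add]
  · show n rho (f 0) (n rho (e 0) x0) = x0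
    simp only [h00, h11, h22, h01, h02, h10, h12, h20, h21, h0, map_zero, zero_add]
  · show n rho (f 0) (n rho (e 1) x0) = 0
    simp only [h00, h11, h22, h01, h02, h10, h12, h20, h21, h0, map_zero, zero_add]
  · show n rho (f 0) (n rho (e 0) (n rho (e 1) x0)) = n rho (e 1) x0
    simp only [h00, h11, h22, h01, h02, h10, h12, h20, h21, h0, map_zero, zero_add]
  · show n rho (f 0) (n rho (e 2) x0) = 0
    simp only [h00, h11, h22, h01, h02, h10, h12, h20, h21, h0, map_zero, zero_add]
  · show n rho (f 0) (n rho (e 0) (n rho (e 2) x0)) = n rho (e 2) x0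
    simp only [h00, h11, h22, h01, h02, h10, h12, h20, h21, h0, map_zero, zero_add]
  · show n rho (f 0) (n rho (e 1) (n rho (e 2) x0)) = 0
    simp only [h00, h11, h22, h01, h02, h10, h12, h20, h21, h0, map_zero, zero_add]
  · show n rho (f 0) (n rho (e 0) (n rho (e 1) (n rho (e 2) x0))) = n rho (e 1) (n rho (e 2) x0)
    simp only [h00, h11, h22, h01, h02, h10, h12, h20, h21, h0, map_zero, zero_add]
  · show n rho (f 1) x0 = 0
    simp only [h00, h11, h22, h01, h02, h10, h12, h20, h21, h0, map_zero, zero_add]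
  · show n rho (f 1) (n rho (e 0) x0) = 0
    simp only [h00, h11, h22, h01, h02, h10, h12, h20, h21, h0, map_zero, zero_add]
  · show n rho (f 1) (n rho (e 1) x0) = x0
    simp only [h00, h11, h22, h01, h02, h10, h12, h20, h21, h0, map_zero, zero_add]
  · show n rho (f 1) (n rho (e 0) (n rho (e 1) x0)) = n rho (e 0) x0
    simp only [h00, h11, h22, h01, h02, h10, h12, h20, h21, h0, map_zero, zero_add]
  · show n rho (f 1) (n rho (e 2) x0) = 0
    simp only [h00, h11, h22, h01, h02, h10, h12, h20, h21, h0, map_zero, zero_add]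
  · show n rho (f 1) (n rho (e 0) (n rho (e 2) x0)) = 0
    simp only [h00, h11, h22, h01, h02, h10, h12, h20, h21, h0, map_zero, zero_add]
  · show n rho (f 1) (n rho (e 1) (n rho (e 2) x0)) = n rho (e 2) x0
    simp only [h00, h11, h22, h01, h02, h10, h12, h20, h21, h0, map_zero, zero_add]
  · show n rho (f 1) (n rho (e 0) (n rho (e 1) (n rho (e 2) x0))) = n rho (e 0) (n rho (e 2) x0)
    simp only [h00, h11, h22, h01, h02, h10, h12, h20, h21, h0, map_zero, zero_add]
  · show n rho (f 2) x0 = 0
    simp only [h00, h11, h22, h01, h02, h10, h12, h20, h21, h0, map_zero, zero_add]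
  · show n rho (f 2) (n rho (e 0) x0) = 0
    simp only [h00, h11, h22, h01, h02, h10, h12, h20, h21, h0, map_zero, zero_add]
  · show n rho (f 2) (n rho (e 1) x0) = 0
    simp only [h00, h11, h22, h01, h02, h10, h12, h20, h21, h0, map_zero, zero_add]
  · show n rho (f 2) (n rho (e 0) (n rho (e 1) x0)) = 0
    simp only [h00, h11, h22, h01, h02, h10, h12, h20, h21, h0, map_zero, zero_add]
  · show n rho (f 2) (n rho (e 2) x0) = x0
    simp only [h00, h11, h22, h01, h02, h10, h12, h20, h21, h0, map_zero, zero_add]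
  · show n rho (f 2) (n rho (e 0) (n rho (e 2) x0)) = n rho (e 0) x0
    simp only [h00, h11, h22, h01, h02, h10, h12, h20, h21, h0, map_zero, zero_add]
  · show n rho (f 2) (n rho (e 1) (n rho (e 2) x0)) = n rho (e 1) x0
    simp only [h00, h11, h22, h01, h02, h10, h12, h20, h21, h0, map_zero, zero_add]
  · show n rho (f 2) (n rho (e 0) (n rho (e 1) (n rho (e 2) x0))) = n rho (e 0) (n rho (e 1) x0)
    simp only [h00, h11, h22, h01, h02, h10, h12, h20, h21, h0, map_zero, zero_add]

theorem exists_x0 (hs : SpinHyp rho) [Nontrivial V] :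
    ∃ x0 : V, x0 ≠ 0 ∧ ∀ i, n rho (f i) x0 = 0 := by
  by_contra hcon
  push Not at hcon
  have hh : ∀ u y, n rho u (n rho u y) = 0 := n_n_apply
  -- the product of the three is zero
  have h3 : ∀ v : V, n rho (f 0) (n rho (f 1) (n rho (f 2) v)) = 0 := by
    intro v
    by_contra hne
    obtain ⟨i, hi⟩ := hcon _ hne
    apply hi
    fin_cases i
    · exact hh _ _
    · show n rho (f 1) (n rho (f 0) (n rho (f 1) (n rho (f 2) v))) = 0
      rw [ff hs 1 0, hh, map_zero]
    · show n rho (f 2) (n rho (f 0) (n rho (f 1) (n rho (f 2) v))) = 0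
      rw [ff hs 2 0, ff hs 2 1, hh, map_zero, map_zero]
  have h2 : ∀ v : V, n rho (f 1) (n rho (f 2) v) = 0 := by
    intro v
    have h := fe_self hs 0 (n rho (f 1) (n rho (f 2) v))
    rw [h3, map_zero, zero_add] at h
    rw [← h, ← fe_of_ne hs (show (1 : Fin 3) ≠ 0 by decide),
      ← fe_of_ne hs (show (2 : Fin 3) ≠ 0 by decide), h3]
  have h1 : ∀ v : V, n rho (f 2) v = 0 := by
    intro v
    have h := fe_self hs 1 (n rho (f 2) v)
    rw [h2, map_zero, zero_add] at h
    rw [← h, ← fe_of_ne hs (show (2 : Fin 3) ≠ 1 by decide), h2]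
  obtain ⟨v, hv⟩ := exists_ne (0 : V)
  apply hv
  have h := fe_self hs 2 v
  rw [h1, h1, map_zero, zero_add] at h
  exact h.symm

theorem n_ef {x : Fin 8 → V}
    (hE : ∀ i I, n rho (e i) (x I) = if (I : ℕ).testBit i then 0 else x (I + 2 ^ (i : ℕ)))
    (hF : ∀ i I, n rho (f i) (x I) = if (I : ℕ).testBit i then x (I - 2 ^ (i : ℕ)) else 0)
    (i : Fin 3) (I : Fin 8) :
    n rho (e i) (n rho (f i) (x I)) = if (I : ℕ).testBit i then x I else 0 := by
  rw [hF]
  by_cases h : (I : ℕ).testBit i = true
  · have h1 : ∀ (i : Fin 3) (I : Fin 8), (I : ℕ).testBit i = true →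
        ((I - 2 ^ (i : ℕ) : Fin 8) : ℕ).testBit i = false := by decide
    rw [if_pos h, if_pos h, hE, if_neg (by rw [h1 i I h]; decide), sub_add_cancel]
  · rw [if_neg h, if_neg h, map_zero]

theorem n_fe {x : Fin 8 → V}
    (hE : ∀ i I, n rho (e i) (x I) = if (I : ℕ).testBit i then 0 else x (I + 2 ^ (i : ℕ)))
    (hF : ∀ i I, n rho (f i) (x I) = if (I : ℕ).testBit i then x (I - 2 ^ (i : ℕ)) else 0)
    (i : Fin 3) (I : Fin 8) :
    n rho (f i) (n rho (e i) (x I)) = if (I : ℕ).testBit i then 0 else x I := by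
  rw [hE]
  by_cases h : (I : ℕ).testBit i = true
  · rw [if_pos h, if_pos h, map_zero]
  · have h1 : ∀ (i : Fin 3) (I : Fin 8), ¬ (I : ℕ).testBit i = true →
        ((I + 2 ^ (i : ℕ) : Fin 8) : ℕ).testBit i = true := by decide
    rw [if_neg h, if_neg h, hF, if_pos (h1 i I h), add_sub_cancel_right]

/-- the projection to the part with a given bit -/
def proj (rho : Sp6 →* (V ≃ₗ[ZMod 2] V)) (i : Fin 3) (c : Bool) : Module.End (ZMod 2) V :=
  if c then n rho (e i) * n rho (f i) else n rho (f i) * n rho (e i)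

theorem proj_x {x : Fin 8 → V}
    (hE : ∀ i I, n rho (e i) (x I) = if (I : ℕ).testBit i then 0 else x (I + 2 ^ (i : ℕ)))
    (hF : ∀ i I, n rho (f i) (x I) = if (I : ℕ).testBit i then x (I - 2 ^ (i : ℕ)) else 0)
    (i : Fin 3) (c : Bool) (I : Fin 8) :
    proj rho i c (x I) = if (I : ℕ).testBit i = c then x I else 0 := by
  cases c
  · show n rho (f i) (n rho (e i) (x I)) = _
    rw [n_fe hE hF]
    cases (I : ℕ).testBit i <;> rfl
  · show n rho (e i) (n rho (f i) (x I)) = _
    rw [n_ef hE hF]

theorem x_ne_zero {x : Fin 8 → V}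
    (hF : ∀ i I, n rho (f i) (x I) = if (I : ℕ).testBit i then x (I - 2 ^ (i : ℕ)) else 0)
    (h0 : x 0 ≠ 0) (J : Fin 8) : x J ≠ 0 := by
  have s : ∀ (i : Fin 3) (J K : Fin 8), (J : ℕ).testBit i = true → J - 2 ^ (i : ℕ) = K →
      x K ≠ 0 → x J ≠ 0 := by
    intro i J K hi hK hne hJ
    apply hne
    rw [← hK]
    have h := hF i J
    rw [if_pos hi, hJ, map_zero] at h
    exact h.symm
  have h1 : x 1 ≠ 0 := s 0 1 0 rfl rfl h0
  have h2 : x 2 ≠ 0 := s 1 2 0 rfl rfl h0
  have h3 : x 3 ≠ 0 := s 0 3 2 rfl rfl h2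
  have h4 : x 4 ≠ 0 := s 2 4 0 rfl rfl h0
  have h5 : x 5 ≠ 0 := s 0 5 4 rfl rfl h4
  have h6 : x 6 ≠ 0 := s 1 6 4 rfl rfl h4
  have h7 : x 7 ≠ 0 := s 0 7 6 rfl rfl h6
  fin_cases J
  exacts [h0, h1, h2, h3, h4, h5, h6, h7]

theorem linearIndependent_x {x : Fin 8 → V}
    (hE : ∀ i I, n rho (e i) (x I) = if (I : ℕ).testBit i then 0 else x (I + 2 ^ (i : ℕ)))
    (hF : ∀ i I, n rho (f i) (x I) = if (I : ℕ).testBit i then x (I - 2 ^ (i : ℕ)) else 0)
    (h0 : x 0 ≠ 0) : LinearIndependent (ZMod 2) x := by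
  rw [Fintype.linearIndependent_iff]
  intro g hg J
  let P : Module.End (ZMod 2) V := proj rho 0 ((J : ℕ).testBit (0 : Fin 3)) *
    (proj rho 1 ((J : ℕ).testBit (1 : Fin 3)) * proj rho 2 ((J : ℕ).testBit (2 : Fin 3)))
  have hP : ∀ I, P (x I) = if I = J then x I else 0 := by
    intro I
    show proj rho 0 _ (proj rho 1 _ (proj rho 2 _ (x I))) = _
    have hbit : ∀ I J : Fin 8, (I : ℕ).testBit (2 : Fin 3) = (J : ℕ).testBit (2 : Fin 3) →
        (I : ℕ).testBit (1 : Fin 3) = (J : ℕ).testBit (1 : Fin 3) →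
        (I : ℕ).testBit (0 : Fin 3) = (J : ℕ).testBit (0 : Fin 3) → I = J := by decide
    rw [proj_x hE hF]
    by_cases h2 : (I : ℕ).testBit (2 : Fin 3) = (J : ℕ).testBit (2 : Fin 3)
    · rw [if_pos h2, proj_x hE hF]
      by_cases h1 : (I : ℕ).testBit (1 : Fin 3) = (J : ℕ).testBit (1 : Fin 3)
      · rw [if_pos h1, proj_x hE hF]
        by_cases h0 : (I : ℕ).testBit (0 : Fin 3) = (J : ℕ).testBit (0 : Fin 3)
        · rw [if_pos h0, if_pos (hbit I J h2 h1 h0)]
        · rw [if_neg h0, if_neg (fun h => h0 (by rw [h]))]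
      · rw [if_neg h1, map_zero, if_neg (fun h => h1 (by rw [h]))]
    · rw [if_neg h2, map_zero, map_zero, if_neg (fun h => h2 (by rw [h]))]
  have h1 := congrArg P hg
  rw [map_sum, map_zero, Finset.sum_eq_single J] at h1
  · rw [map_smul, hP, if_pos rfl] at h1
    exact (smul_eq_zero.1 h1).resolve_right (x_ne_zero hF h0 J)
  · intro I _ hI
    rw [map_smul, hP, if_neg hI, smul_zero]
  · intro h
    exact absurd (Finset.mem_univ J) h

theorem finrank_eq (hcard : Nat.card V = 2 ^ 8) : Module.finrank (ZMod 2) V = 8 := by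
  have : Finite V := (Nat.card_pos_iff.1 (by rw [hcard]; norm_num)).2
  have hfd : Module.Finite (ZMod 2) V := Module.Finite.of_finite
  have h := Module.natCard_eq_pow_finrank (K := ZMod 2) (V := V)
  rw [hcard, Nat.card_zmod] at h
  exact (Nat.pow_right_injective le_rfl h).symm

/-- (3) the basis of the spin module -/
theorem exists_basis (hs : SpinHyp rho) (hcard : Nat.card V = 2 ^ 8) :
    ∃ B : Module.Basis (Fin 8) (ZMod 2) V,
      (∀ i I, n rho (e i) (B I) =
        if (I : ℕ).testBit i then 0 else B (I + 2 ^ (i : ℕ))) ∧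
      (∀ i I, n rho (f i) (B I) =
        if (I : ℕ).testBit i then B (I - 2 ^ (i : ℕ)) else 0) := by
  have : Finite V := (Nat.card_pos_iff.1 (by rw [hcard]; norm_num)).2
  have hnt : Nontrivial V := by
    rw [← Finite.one_lt_card_iff_nontrivial, hcard]; norm_num
  obtain ⟨x0, hx0, h0⟩ := exists_x0 hs
  have hE := n_e_x hs x0
  have hF := n_f_x hs h0
  have hli := linearIndependent_x hE hF hx0
  refine ⟨basisOfLinearIndependentOfCardEqFinrank hli ?_, ?_, ?_⟩
  · rw [finrank_eq hcard, Fintype.card_fin]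
  · intro i I
    simp only [coe_basisOfLinearIndependentOfCardEqFinrank]
    exact hE i I
  · intro i I
    simp only [coe_basisOfLinearIndependentOfCardEqFinrank]
    exact hF i I

end BasisVectors

section Forms

variable {q : V → ZMod 2} {b : LinearMap.BilinForm (ZMod 2) V}

theorem zmod2_add_self (a : ZMod 2) : a + a = 0 := by revert a; decide

/-- an alternating form is symmetric -/
theorem b_comm_of (hbs : ∀ v, b v v = 0) (v w : V) : b v w = b w v := by
  have h := hbs (v + w)
  rw [map_add, map_add, LinearMap.add_apply, LinearMap.add_apply, hbs, hbs, zero_add,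
    add_zero] at h
  have h1 := zmod2_add_self (b w v)
  generalize b v w = x at h ⊢
  generalize b w v = y at h h1 ⊢
  revert x y; decide

theorem b_n_expand (hbr : ∀ g v w, b (rho g v) (rho g w) = b v w) (u : U) (v w : V) :
    b v (n rho u w) + b (n rho u v) w + b (n rho u v) (n rho u w) = 0 := by
  have h1 : ∀ y, rho (transv u 1) y = y + n rho u y := by
    intro y
    rw [n_apply, ← add_assoc, ZModModule.add_self y, zero_add]
  have h := hbr (transv u 1) v w
  rw [h1, h1, map_add, map_add, LinearMap.add_apply, LinearMap.add_apply] at h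
  generalize b v w = x1 at h ⊢
  generalize b (n rho u v) w = x2 at h ⊢
  generalize b v (n rho u w) = x3 at h ⊢
  generalize b (n rho u v) (n rho u w) = x4 at h ⊢
  revert x1 x2 x3 x4; decide

theorem b_n_n (hbr : ∀ g v w, b (rho g v) (rho g w) = b v w) (u : U) (v w : V) :
    b (n rho u v) (n rho u w) = 0 := by
  have h := b_n_expand hbr u (n rho u v) w
  rw [n_n_apply, map_zero, LinearMap.zero_apply, LinearMap.zero_apply, add_zero, add_zero] at h
  exact h

/-- `n_u` is self-adjoint -/
theorem b_n_left (hbr : ∀ g v w, b (rho g v) (rho g w) = b v w) (u : U) (v w : V) :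
    b (n rho u v) w = b v (n rho u w) := by
  have h := b_n_expand hbr u v w
  rw [b_n_n hbr, add_zero] at h
  generalize b (n rho u v) w = x2 at h ⊢
  generalize b v (n rho u w) = x3 at h ⊢
  revert x2 x3; decide

theorem rho_n (g : Sp6) (u : U) (v : V) :
    rho g (n rho u v) = n rho ((g : Matrix _ _ (ZMod 2)) *ᵥ u) (rho g v) :=
  LinearMap.congr_fun (D_mul_n rho g u) v

theorem b_self_n_inv (hbr : ∀ g v w, b (rho g v) (rho g w) = b v w) (g : Sp6) (u : U) (v : V) :
    b (rho g v) (n rho ((g : Matrix _ _ (ZMod 2)) *ᵥ u) (rho g v)) = b v (n rho u v) := by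
  rw [← rho_n, hbr]

theorem b_self_n_e0 (hs : SpinHyp rho) (hbr : ∀ g v w, b (rho g v) (rho g w) = b v w)
    (hbs : ∀ v, b v v = 0) (v : V) : b v (n rho (e 0) v) = 0 := by
  -- additive
  have hadd : ∀ x y, b (x + y) (n rho (e 0) (x + y)) =
      b x (n rho (e 0) x) + b y (n rho (e 0) y) := by
    intro x y
    have h1 : b x (n rho (e 0) y) = b y (n rho (e 0) x) := by
      rw [← b_n_left hbr, b_comm_of hbs]
    have h2 := zmod2_add_self (b y (n rho (e 0) x))
    rw [map_add, map_add, map_add, LinearMap.add_apply, LinearMap.add_apply, h1]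
    generalize b y (n rho (e 0) x) = t at h2 ⊢
    generalize b x (n rho (e 0) x) = t' at ⊢
    generalize b y (n rho (e 0) y) = t'' at ⊢
    revert t t' t''; decide
  -- invariant under d_w for w orthogonal to e 0
  have hinv : ∀ (w : U) (x : V), sf (e 0) w = 0 →
      b (rho (transv w 1) x) (n rho (e 0) (rho (transv w 1) x)) = b x (n rho (e 0) x) := by
    intro w x hw
    have h := b_self_n_inv hbr (transv w 1) (e 0) x
    rw [transv_mulVec, hw, zero_smul, add_zero] at h
    exact h
  have he1 : sf (e 0) (e 1) = 0 := sf_e_e 0 1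
  have hf1 : sf (e 0) (f 1) = 0 := by rw [sf_e_f]; rfl
  have h1 := n_anticomm_of_one hs (u := e 1) (w := f 1) (by rw [sf_e_f]; rfl)
  -- v = d d' v + d' d v
  have h2 : v = rho (transv (e 1) 1) (rho (transv (f 1) 1) v) +
      rho (transv (f 1) 1) (rho (transv (e 1) 1) v) := by
    have h3 : T rho (e 1) * T rho (f 1) + T rho (f 1) * T rho (e 1) = 1 := by
      rw [T_eq, T_eq]
      calc (1 + n rho (e 1)) * (1 + n rho (f 1)) + (1 + n rho (f 1)) * (1 + n rho (e 1))
          = (1 + 1) + (n rho (e 1) + n rho (e 1)) + (n rho (f 1) + n rho (f 1)) +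
            (n rho (e 1) * n rho (f 1) + n rho (f 1) * n rho (e 1)) := by noncomm_ring
        _ = 1 := by rw [h1]; simp only [add_self', zero_add]
    exact (LinearMap.congr_fun h3 v).symm
  have h4 : b v (n rho (e 0) v) = b v (n rho (e 0) v) + b v (n rho (e 0) v) := by
    conv_lhs => rw [h2, hadd, hinv _ _ he1, hinv _ _ hf1, hinv _ _ hf1, hinv _ _ he1]
  rw [h4, zmod2_add_self]

/-- `b(v, n_u v) = 0` -/
theorem b_self_n (hs : SpinHyp rho) (hbr : ∀ g v w, b (rho g v) (rho g w) = b v w)
    (hbs : ∀ v, b v v = 0) (u : U) (v : V) : b v (n rho u v) = 0 := by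
  by_cases hu : u = 0
  · rw [hu, n_zero, LinearMap.zero_apply, map_zero]
  · have he : e 0 ≠ 0 := by
      intro h
      have := congrFun h (Sum.inl 0)
      rw [e, Pi.single_eq_same] at this
      exact one_ne_zero this
    obtain ⟨A, -, hA⟩ := exists_transvGroup_mulVec_eq he hu
    have h := b_self_n_inv hbr A (e 0) ((rho A)⁻¹ v)
    rw [hA, b_self_n_e0 hs hbr hbs] at h
    have h2 : rho A ((rho A)⁻¹ v) = v := by
      show (rho A * (rho A)⁻¹) v = v
      rw [mul_inv_cancel]; rfl
    rw [h2] at h
    exact h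

/-- `q (n_u v) = 0` -/
theorem q_n (hs : SpinHyp rho) (hbr : ∀ g v w, b (rho g v) (rho g w) = b v w)
    (hbs : ∀ v, b v v = 0) (hq : ∀ v w, q (v + w) = q v + q w + b v w)
    (hqr : ∀ g v, q (rho g v) = q v) (u : U) (v : V) : q (n rho u v) = 0 := by
  have h1 : rho (transv u 1) v = v + n rho u v := by
    rw [n_apply, ← add_assoc, ZModModule.add_self v, zero_add]
  rw [n_apply, hq, hqr, zmod2_add_self, zero_add, h1, map_add, hbs, zero_add,
    b_self_n hs hbr hbs]

/-- (4) the quadratic form on the basis -/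
theorem q_basis (hs : SpinHyp rho) (hbr : ∀ g v w, b (rho g v) (rho g w) = b v w)
    (hbs : ∀ v, b v v = 0) (hq : ∀ v w, q (v + w) = q v + q w + b v w)
    (hqr : ∀ g v, q (rho g v) = q v) {x : Fin 8 → V}
    (hE : ∀ i I, n rho (e i) (x I) = if (I : ℕ).testBit i then 0 else x (I + 2 ^ (i : ℕ)))
    (hF : ∀ i I, n rho (f i) (x I) = if (I : ℕ).testBit i then x (I - 2 ^ (i : ℕ)) else 0)
    (I : Fin 8) : q (x I) = 0 := by
  have h : x I = n rho (e 0) (n rho (f 0) (x I)) ∨ x I = n rho (f 0) (n rho (e 0) (x I)) := by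
    rw [n_ef hE hF, n_fe hE hF]
    by_cases h : (I : ℕ).testBit (0 : Fin 3) = true
    · left; rw [if_pos h]
    · right; rw [if_neg h]
  rcases h with h | h <;> rw [h] <;> exact q_n hs hbr hbs hq hqr _ _

/-- (4) the bilinear form on the basis -/
theorem b_basis [Nontrivial V] (hbr : ∀ g v w, b (rho g v) (rho g w) = b v w)
    (hbnd : ∀ v, (∀ w, b v w = 0) → v = 0) (B : Module.Basis (Fin 8) (ZMod 2) V)
    (hE : ∀ i I, n rho (e i) (B I) = if (I : ℕ).testBit i then 0 else B (I + 2 ^ (i : ℕ)))
    (hF : ∀ i I, n rho (f i) (B I) = if (I : ℕ).testBit i then B (I - 2 ^ (i : ℕ)) else 0)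
    (I J : Fin 8) : b (B I) (B J) = if I + J = 7 then 1 else 0 := by
  have hsame : ∀ I J : Fin 8, ∀ i : Fin 3, (I : ℕ).testBit i = (J : ℕ).testBit i →
      b (B I) (B J) = 0 := by
    intro I J i hij
    by_cases h : (I : ℕ).testBit i = true
    · have h1 := n_ef hE hF i I
      rw [if_pos h] at h1
      rw [← h1, b_n_left hbr, hE, if_pos (by rw [← hij]; exact h), map_zero]
    · have h1 := n_fe hE hF i I
      rw [if_neg h] at h1
      rw [← h1, b_n_left hbr, hF, if_neg (by rw [← hij]; exact h), map_zero]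
  have hdec : ∀ I J : Fin 8, I + J ≠ 7 →
      ∃ i : Fin 3, (I : ℕ).testBit i = (J : ℕ).testBit i := by decide
  by_cases h7 : I + J = 7
  · rw [if_pos h7]
    -- move bits
    have hmove : ∀ (I J : Fin 8) (i : Fin 3), (I : ℕ).testBit i = true →
        (J : ℕ).testBit i = false →
        b (B I) (B J) = b (B (I - 2 ^ (i : ℕ))) (B (J + 2 ^ (i : ℕ))) := by
      intro I J i hI hJ
      have hd : ∀ (I : Fin 8) (i : Fin 3), (I : ℕ).testBit i = true →
        ((I - 2 ^ (i : ℕ) : Fin 8) : ℕ).testBit i = false := by decide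
      have h1 := hE i (I - 2 ^ (i : ℕ))
      rw [if_neg (by rw [hd I i hI]; decide), sub_add_cancel] at h1
      rw [← h1, b_n_left hbr, hE, if_neg (by rw [hJ]; decide)]
    have h07 : b (B 0) (B 7) = 1 := by
      rcases zmod2_cases (b (B 0) (B 7)) with h | h
      · exfalso
        have hz : B 0 = 0 := by
          apply hbnd
          intro w
          have hlin : b (B 0) = 0 := by
            apply B.ext
            intro J
            rw [LinearMap.zero_apply]
            by_cases hJ : J = 7
            · rw [hJ, h]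
            · obtain ⟨i, hi⟩ := hdec 0 J (by rw [zero_add]; exact hJ)
              exact hsame 0 J i hi
          rw [hlin, LinearMap.zero_apply]
        exact B.ne_zero 0 hz
      · exact h
    have m1 : b (B 1) (B 6) = b (B 0) (B 7) := hmove 1 6 0 rfl rfl
    have m2 : b (B 2) (B 5) = b (B 0) (B 7) := hmove 2 5 1 rfl rfl
    have m3 : b (B 3) (B 4) = b (B 2) (B 5) := hmove 3 4 0 rfl rfl
    have m4 : b (B 4) (B 3) = b (B 0) (B 7) := hmove 4 3 2 rfl rfl
    have m5 : b (B 5) (B 2) = b (B 4) (B 3) := hmove 5 2 0 rfl rfl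
    have m6 : b (B 6) (B 1) = b (B 4) (B 3) := hmove 6 1 1 rfl rfl
    have m7 : b (B 7) (B 0) = b (B 6) (B 1) := hmove 7 0 0 rfl rfl
    have hJ : J = 7 - I := by rw [← h7]; exact (add_sub_cancel_left I J).symm
    subst hJ
    fin_cases I
    · exact h07
    · exact m1.trans h07
    · exact m2.trans h07
    · exact m3.trans (m2.trans h07)
    · exact m4.trans h07
    · exact m5.trans (m4.trans h07)
    · exact m6.trans (m4.trans h07)
    · exact m7.trans (m6.trans (m4.trans h07))
  · rw [if_neg h7]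
    obtain ⟨i, hi⟩ := hdec I J h7
    exact hsame I J i hi

end Forms

end General

/-- everything together, in the situation of S1675: the basis of `V` adapted to the spin structure -/
theorem exists_basis_sit {G : Type*} [Group G] {Q : Subgroup G} {t : G} (S : Sit G Q t)
    (hs : SpinHyp S.rho) :
    ∃ B : Module.Basis (Fin 8) (ZMod 2) S.large.V,
      (∀ i I, n S.rho (e i) (B I) =
        if (I : ℕ).testBit i then 0 else B (I + 2 ^ (i : ℕ))) ∧
      (∀ i I, n S.rho (f i) (B I) =
        if (I : ℕ).testBit i then B (I - 2 ^ (i : ℕ)) else 0) ∧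
      (∀ I, S.large.q (B I) = 0) ∧
      (∀ I J, S.large.b (B I) (B J) = if I + J = 7 then 1 else 0) := by
  obtain ⟨B, hE, hF⟩ := exists_basis hs S.card_V
  have : Finite S.large.V := (Nat.card_pos_iff.1 (by rw [S.card_V]; norm_num)).2
  have hnt : Nontrivial S.large.V := by
    rw [← Finite.one_lt_card_iff_nontrivial, S.card_V]; norm_num
  exact ⟨B, hE, hF, q_basis hs S.b_rho S.large.b_self S.large.q_add' S.q_rho hE hF,
    b_basis S.b_rho (fun v hv => S.large.b_nondeg hv) B hE hF⟩

end Cfsg.Agent.Co2Type.Spin
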