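import Cfsg.Agent.Co2Type.TChecks

/-!
Every involution of `T` is conjugate in `Spor.Co2` to one of the three elements `mo2 mz idP`, `mo2 my idP`,
`mo2 mv idP` of `E`, of traces `-8`, `8`, `0`.
-/

set_option autoImplicit false

namespace Cfsg.Agent.Co2Type.TClass

open Cfsg Cfsg.Agent.SporadicA.GolayBase Cfsg.Agent.SporadicA.GolayPerm
open Cfsg.Agent.SporadicStructure.M24El Cfsg.Agent.SporadicA.Co0Mono
open Cfsg.Agent.SporadicStructure
open Cfsg.Agent.Co2Type.Mono Cfsg.Agent.Co2Type.TData Cfsg.Agent.Co2Type.TGroup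
open Cfsg.Agent.Co2Type.TChecks

/-! ### a non-monomial element -/

/-- The element of `Co0`. -/
noncomputable def k0 : Co0 := permCo0 (el sig) * XiMap.xiCo0 Tm isSextet

theorem xi_e8 (j p : GolayPt) :
    ((XiMap.xiCo0 Tm isSextet • Co0Base.e8 j : leechLattice) : GolayPt → ℤ) p = xe (idx j) (idx p) := by
  have h1 : XiMap.blockSum Tm (Pi.single j 8) (Tm p) = if Tm j = Tm p then 8 else 0 := by
    unfold XiMap.blockSum
    by_cases h : Tm j = Tm p
    · rw [if_pos h, Finset.sum_eq_single j]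
      · rw [Pi.single_eq_same]
      · intro b _ hb
        rw [Pi.single_eq_of_ne hb]
      · intro h2
        exact absurd (Finset.mem_filter.2 ⟨Finset.mem_univ j, h⟩ : j ∈ Finset.univ.filter
          (fun q => Tm q = Tm p)) h2
    · rw [if_neg h]
      apply Finset.sum_eq_zero
      intro b hb
      rw [Pi.single_eq_of_ne]
      rintro rfl
      exact h (Finset.mem_filter.1 hb).2
  have h2 : (Pi.single j 8 : GolayPt → ℤ) p = if idx j = idx p then 8 else 0 := by
    by_cases h : j = p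
    · subst h
      rw [Pi.single_eq_same, if_pos rfl]
    · rw [Pi.single_eq_of_ne (Ne.symm h), if_neg (fun h1 => h (idx_injective h1))]
  rw [XiMap.xiCo0_smul, Co0Base.e8_coe]
  unfold XiMap.xiFun XiMap.sgn xe
  rw [h1, h2]
  simp only [tm_zero_iff, tm_eq_iff]
  congr 1
  split_ifs <;> norm_num

theorem k0_e8 (j p : GolayPt) :
    ((k0 • Co0Base.e8 j : leechLattice) : GolayPt → ℤ) ((el sig : Equiv.Perm GolayPt) p) =
      xe (idx j) (idx p) := by
  unfold k0
  rw [mul_smul, permCo0_smul, permMap_apply, Equiv.symm_apply_apply, xi_e8]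

theorem mo_smul_e8' {m P : ℕ} (hm : isCode m = true) (i : GolayPt) :
    mo m P • Co0Base.e8 i =
      (if m.testBit (idx ((el P : Equiv.Perm GolayPt) i)) then (-1 : ℤ) else 1) •
        Co0Base.e8 ((el P : Equiv.Perm GolayPt) i) := by
  apply Subtype.ext
  funext j
  rw [mo_smul_e8 hm, AddSubgroup.coe_zsmul, Pi.smul_apply, Co0Base.e8_coe, Pi.single_apply, smul_eq_mul]
  by_cases h : (el P : Equiv.Perm GolayPt) i = j
  · subst h
    rw [if_pos rfl, if_pos rfl]
    split_ifs <;> norm_num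
  · rw [if_neg h, if_neg (Ne.symm h), mul_zero]

theorem relOK_spec {c P e : ℕ} (hc : isCode c = true) (hP : ok P = true) (he : isCode e = true)
    (h : relOK c P e = true) : k0 * mo c P = mo e idP * k0 := by
  apply Co0Base.co0_ext_e8
  intro i
  apply Subtype.ext
  funext j
  obtain ⟨q, rfl⟩ := (el sig : Equiv.Perm GolayPt).surjective j
  have h1 := of_decide_eq_true (List.all_eq_true.1 (List.all_eq_true.1 h (idx i)
    (List.mem_range.2 (idx_lt i))) (idx q) (List.mem_range.2 (idx_lt q)))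
  have hidx : idx ((el P : Equiv.Perm GolayPt) i) = papp P (idx i) := by
    rw [coe_el hP, idx_permOf]
  have hsig : idx ((el sig : Equiv.Perm GolayPt) q) = papp sig (idx q) := by
    rw [coe_el ok_sig, idx_permOf]
  rw [mul_smul, mo_smul_e8' hc, Co0Base.co0_smul_zsmul, AddSubgroup.coe_zsmul, Pi.smul_apply, k0_e8,
    hidx, smul_eq_mul, h1, mul_smul]
  unfold mo
  rw [el_idP, map_one, mul_one, signCo0_smul, signMap_apply, k0_e8, coe_cd he, word_apply, hsig]
  cases e.testBit (papp sig (idx q)) <;> simp [sgn_zero, sgn_one]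

theorem k0_leechU : k0 • Spor.leechU = Spor.leechU := by
  apply Subtype.ext
  funext j
  obtain ⟨q, rfl⟩ := (el sig : Equiv.Perm GolayPt).surjective j
  unfold k0
  rw [mul_smul, permCo0_smul, permMap_apply, Equiv.symm_apply_apply, XiMap.xiCo0_smul, leechU_apply,
    coe_el ok_sig, idx_permOf]
  exact k0_leechU_check q

/-- The element of `Spor.Co2`. -/
noncomputable def k2 : Spor.Co2 := ⟨k0, k0.2, k0_leechU⟩

theorem toCo0_k2 : toCo0 k2 = k0 := rfl

/-! ### conjugacy -/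

theorem isConj_of_rel {G : Type*} [Group G] {a x y : G} (h : a * x = y * a) : IsConj x y :=
  isConj_iff.2 ⟨a, by rw [h, mul_inv_cancel_right]⟩

theorem okP_pt3 (k : ℕ) : okP (pt3 k) = true ∧ pt3 k < 2 ^ 120 := by
  unfold pt3
  by_cases hk : k < PT.length
  · have := List.all_eq_true.1 PT_ok _ (List.getElem_mem hk)
    rw [Bool.and_eq_true] at this
    rw [List.getD_eq_getElem _ _ hk]
    exact ⟨this.1, Nat.blt_eq.mp this.2⟩
  · rw [List.getD_eq_default _ _ (by omega)]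
    exact ⟨okP_idP, idP_lt⟩

theorem k2_conj {c P e : ℕ} (hc : inE c = true) (he : inE e = true) (hP : okP P = true)
    (h : relOK c P e = true) : IsConj (mo2 c P) (mo2 e idP) := by
  refine isConj_of_rel (a := k2) ?_
  apply toCo0_injective
  rw [map_mul, map_mul, toCo0_k2, toCo0_mo2 hc hP, toCo0_mo2 he okP_idP]
  exact relOK_spec (isCode_of_inE hc) (ok_of_okP hP) (isCode_of_inE he) h

theorem reps_conj (r : ℕ × ℕ × ℕ) (hr : r ∈ reps) : inE r.2.1 = true ∧ inE r.2.2 = true ∧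
    IsConj (mo2 r.2.1 (pt3 r.1)) (mo2 r.2.2 idP) := by
  have h := List.all_eq_true.1 reps_check r hr
  rw [Bool.and_eq_true, Bool.and_eq_true] at h
  exact ⟨h.1.1, h.1.2, k2_conj h.1.1 h.1.2 (okP_pt3 _).1 h.2⟩

theorem okP_cosG (g : ℕ) : okP (cosG.getD g idP) = true := by
  by_cases hk : g < cosG.length
  · rw [List.getD_eq_getElem _ _ hk]
    exact List.all_eq_true.1 cosG_ok _ (List.getElem_mem hk)
  · rw [List.getD_eq_default _ _ (by omega)]
    exact okP_idP

theorem conj_aux {c d g P r : ℕ} (hc : inE c = true) (hd : inE d = true) (hg : okP g = true)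
    (hP : okP P = true) (hr : inE r = true) (h1 : pcomp g P = pcomp P g)
    (h2 : d ^^^ pimg g c = r ^^^ pimg P d) : IsConj (mo2 c P) (mo2 r P) := by
  refine isConj_of_rel (a := mo2 d g) ?_
  rw [mo2_mul hd hc hg hP, mo2_mul hr hd hP hg, h1, h2]

theorem cos_conj (k c g d r : ℕ) (hx : (k, c, g, d, r) ∈ cos) :
    ∃ e, inE e = true ∧ IsConj (mo2 c (pt3 k)) (mo2 e idP) := by
  have h := List.all_eq_true.1 cos_check (k, c, g, d, r) hx
  unfold cosOK at h
  rw [Bool.and_eq_true, Bool.and_eq_true, List.any_eq_true] at h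
  obtain ⟨⟨h1, h2⟩, ⟨k', c', e'⟩, hr, h3⟩ := h
  rw [Bool.and_eq_true, Bool.and_eq_true] at h3
  obtain ⟨⟨h4, h5⟩, h6⟩ := h3
  obtain ⟨r1, r2, r3⟩ := reps_conj _ hr
  have h4' : k' = k := Nat.eq_of_beq_eq_true h4
  subst h4'
  have h5' := Nat.eq_of_beq_eq_true h5
  have h6' := Nat.eq_of_beq_eq_true h6
  exact ⟨e', r2, (conj_aux h1 h2 (okP_cosG g) (okP_pt3 k').1 r1 h5' h6').trans r3⟩

theorem type_conj {k c : ℕ} (hk : k < 3) (hc : inE c = true) (h : pimg (pt3 k) c = c) :
    ∃ e, inE e = true ∧ IsConj (mo2 c (pt3 k)) (mo2 e idP) := by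
  have h1 := List.all_eq_true.1 cos_cover k (List.mem_range.2 hk)
  have h2 := allSp2_pimg (isPerm_of_ok (ok_of_okP (okP_pt3 k).1)) h1 (sp_B10 hc)
  rw [h, Nat.beq_refl, cond_true, List.any_eq_true] at h2
  obtain ⟨⟨k', c', g, d, r⟩, hx, hx2⟩ := h2
  rw [Bool.and_eq_true] at hx2
  have hk' : k' = k := Nat.eq_of_beq_eq_true hx2.1
  have hc' : c' = c := Nat.eq_of_beq_eq_true hx2.2
  subst hk' hc'
  exact cos_conj _ _ _ _ _ hx

/-! ### the involutions of `T` -/

/-- Elements of order 2 of `T` in coordinates. -/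
theorem sq_eq_one_iff {m P : ℕ} (hm : inE m = true) (hP : P ∈ L22) :
    mo2 m P * mo2 m P = 1 ↔ pcomp P P = idP ∧ pimg P m = m := by
  rw [mo2_mul hm hm (okP_of_mem hP) (okP_of_mem hP), ← mo2_one]
  constructor
  · intro h
    have h1 := mo2_injT (inE_xor hm (inE_pimg (okP_of_mem hP) hm)) inE_zero (pcomp_mem hP hP)
      idP_mem h
    exact ⟨h1.2, (Nat.xor_eq_zero_iff.1 h1.1).symm⟩
  · rintro ⟨h1, h2⟩
    rw [h1, h2, Nat.xor_self]

theorem exists_row {P : ℕ} (hP : P ∈ L22) (h : pcomp P P = idP) (h1 : P ≠ idP) :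
    ∃ r ∈ rows, r.P = P := by
  have h2 := List.all_eq_true.1 rows_cover P hP
  rw [h, Nat.beq_refl, cond_true, Bool.or_eq_true] at h2
  rcases h2 with h2 | h2
  · exact absurd (Nat.eq_of_beq_eq_true h2) h1
  · rw [List.any_eq_true] at h2
    obtain ⟨r, hr, hr2⟩ := h2
    exact ⟨r, hr, Nat.eq_of_beq_eq_true hr2⟩

theorem row_spec (r : Row) (hr : r ∈ rows) : r.P ∈ L22 ∧ okP r.h = true ∧ r.k < 3 ∧
    pcomp r.h r.P = pcomp (pt3 r.k) r.h ∧ pcomp r.P r.P = idP := by
  have h3 := List.all_eq_true.1 rows_check r hr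
  rw [Bool.and_eq_true, Bool.and_eq_true, Bool.and_eq_true, Bool.and_eq_true] at h3
  obtain ⟨⟨⟨⟨h4, h5⟩, h6⟩, h7⟩, h8⟩ := h3
  exact ⟨memL_iff.1 h4, h5, Nat.blt_eq.mp h6, Nat.eq_of_beq_eq_true h7, Nat.eq_of_beq_eq_true h8⟩

theorem conj_E_of_sq {m P : ℕ} (hm : inE m = true) (hP : P ∈ L22) (h : mo2 m P * mo2 m P = 1) :
    ∃ e, inE e = true ∧ IsConj (mo2 m P) (mo2 e idP) := by
  obtain ⟨h1, h2⟩ := (sq_eq_one_iff hm hP).1 h
  by_cases hid : P = idP
  · subst hid
    exact ⟨m, hm, IsConj.refl _⟩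
  · obtain ⟨r, hr, rfl⟩ := exists_row hP h1 hid
    obtain ⟨-, h5, h6, h7, -⟩ := row_spec r hr
    have hh := isPerm_of_ok (ok_of_okP h5)
    have hpt := isPerm_of_ok (ok_of_okP (okP_pt3 r.k).1)
    have hfix : pimg (pt3 r.k) (pimg r.h m) = pimg r.h m := by
      rw [← pimg_pcomp hpt hh, ← h7, pimg_pcomp hh (isPerm_of_mem hP), h2]
    obtain ⟨e, he, hc⟩ := type_conj h6 (inE_pimg h5 hm) hfix
    refine ⟨e, he, IsConj.trans (isConj_of_rel (a := mo2 0 r.h) ?_) hc⟩
    rw [mo2_mul inE_zero hm h5 (okP_of_mem hP), mo2_mul (inE_pimg h5 hm) inE_zero (okP_pt3 _).1 h5,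
      h7, pimg_zero hpt, Nat.xor_comm]

/-! ### the elements of `E` -/

theorem okP_mg (g : ℕ) : okP (mg.getD g idP) = true ∧ mg.getD g idP < 2 ^ 120 := by
  by_cases hk : g < mg.length
  · have := List.all_eq_true.1 mg_ok _ (List.getElem_mem hk)
    rw [Bool.and_eq_true] at this
    rw [List.getD_eq_getElem _ _ hk]
    exact ⟨this.1, Nat.blt_eq.mp this.2⟩
  · rw [List.getD_eq_default _ _ (by omega)]
    exact ⟨okP_idP, idP_lt⟩

theorem chkT_spec {t : Tr} : ∀ {a : ℕ}, inE a = true → chkT t a = true → ∀ {x : ℕ}, memT x t = true →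
    IsConj (mo2 a idP) (mo2 x idP) := by
  induction t with
  | leaf => intro a _ _ x h; exact Bool.noConfusion h
  | node g m c s ihc ihs =>
    intro a ha h x hx
    rw [chkT, Bool.and_eq_true, Bool.and_eq_true] at h
    obtain ⟨⟨h1, h2⟩, h3⟩ := h
    have h1' := Nat.eq_of_beq_eq_true h1
    have hm : inE m = true := by rw [← h1']; exact inE_pimg (okP_mg g).1 ha
    have hc : IsConj (mo2 a idP) (mo2 m idP) := by
      refine isConj_of_rel (a := mo2 0 (mg.getD g idP)) ?_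
      rw [mo2_conj_E inE_zero ha (okP_mg g).1 (okP_mg g).2, h1']
    rw [memT] at hx
    cases hb : Nat.beq m x with
    | true => rw [← Nat.eq_of_beq_eq_true hb]; exact hc
    | false =>
      rw [hb, cond_false, Bool.or_eq_true] at hx
      rcases hx with hx | hx
      · exact hc.trans (ihc hm h2 hx)
      · exact ihs ha h3 hx

/-- The classes of elements of `E`. -/
theorem E_classes {m : ℕ} (hm : inE m = true) (h0 : m ≠ 0) :
    IsConj (mo2 mz idP) (mo2 m idP) ∨ IsConj (mo2 my idP) (mo2 m idP) ∨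
      IsConj (mo2 mv idP) (mo2 m idP) := by
  have h := allSp_zero E_cover (sp_B10 hm)
  rw [Bool.or_eq_true, Bool.or_eq_true, Bool.or_eq_true, Bool.or_eq_true, Bool.or_eq_true,
    Bool.or_eq_true] at h
  rcases h with (((((h | h) | h) | h) | h) | h) | h
  · exact absurd (Nat.eq_of_beq_eq_true h) h0
  · rw [Nat.eq_of_beq_eq_true h]; exact Or.inl (IsConj.refl _)
  · rw [Nat.eq_of_beq_eq_true h]; exact Or.inr (Or.inl (IsConj.refl _))
  · rw [Nat.eq_of_beq_eq_true h]; exact Or.inr (Or.inr (IsConj.refl _))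
  · exact Or.inl (chkT_spec inE_mz chkZ h)
  · exact Or.inr (Or.inl (chkT_spec inE_my chkY h))
  · exact Or.inr (Or.inr (chkT_spec inE_mv chkV h))

/-- The classes of involutions of `T`. -/
theorem T_classes {t : Spor.Co2} (ht : t ∈ T) (h1 : t * t = 1) (h2 : t ≠ 1) :
    IsConj (mo2 mz idP) t ∨ IsConj (mo2 my idP) t ∨ IsConj (mo2 mv idP) t := by
  obtain ⟨m, P, hm, hP, rfl⟩ := mem_T_iff.1 ht
  obtain ⟨e, he, hc⟩ := conj_E_of_sq hm hP h1
  have he0 : e ≠ 0 := by
    rintro rfl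
    rw [mo2_one] at hc
    exact h2 (isConj_one_left.1 hc)
  rcases E_classes he he0 with h | h | h
  · exact Or.inl (h.trans hc.symm)
  · exact Or.inr (Or.inl (h.trans hc.symm))
  · exact Or.inr (Or.inr (h.trans hc.symm))

end Cfsg.Agent.Co2Type.TClass
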