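import Cfsg.Agent.Co2Type.Mono
import Cfsg.Agent.Co2Type.TData

/-!
The groups `T22 ≤ M24` of order 256 (a Sylow 2-subgroup of `M22:2`), `E` (order `2^10`) and `T = E:T22`
(order `2^18`) in `Spor.Co2`.
-/

set_option autoImplicit false

namespace Cfsg.Agent.Co2Type.TGroup

open Cfsg Cfsg.Agent.SporadicA.GolayBase Cfsg.Agent.SporadicA.GolayPerm
open Cfsg.Agent.SporadicStructure.M24El
open Cfsg.Agent.Co2Type.Mono Cfsg.Agent.Co2Type.TData
open scoped Pointwise

/-! ### Boolean tools -/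

/-- Membership of a number in a list. -/
def memL (a : ℕ) : List ℕ → Bool
  | [] => false
  | b :: l => cond (Nat.beq a b) true (memL a l)

theorem memL_iff {a : ℕ} {l : List ℕ} : memL a l = true ↔ a ∈ l := by
  induction l with
  | nil => simp [memL]
  | cons b l ih =>
    rw [memL, List.mem_cons, ← ih]
    cases h : Nat.beq a b with
    | true => simp [Nat.eq_of_beq_eq_true h]
    | false =>
      have : a ≠ b := fun h1 => by rw [h1, Nat.beq_refl] at h; exact Bool.noConfusion h
      simp [this]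

/-- No repetitions. -/
def nodupL : List ℕ → Bool
  | [] => true
  | a :: l => !(memL a l) && nodupL l

theorem nodup_of_nodupL {l : List ℕ} (h : nodupL l = true) : l.Nodup := by
  induction l with
  | nil => exact List.nodup_nil
  | cons a l ih =>
    rw [nodupL, Bool.and_eq_true, Bool.not_eq_true'] at h
    rw [List.nodup_cons]
    refine ⟨fun h1 => ?_, ih h.2⟩
    rw [memL_iff.2 h1] at h
    exact Bool.noConfusion h.1

/-- Equality of lists of numbers. -/
def eqL : List ℕ → List ℕ → Bool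
  | [], [] => true
  | a :: l, b :: m => cond (Nat.beq a b) (eqL l m) false
  | _, _ => false

theorem eq_of_eqL : ∀ {l m : List ℕ}, eqL l m = true → l = m
  | [], [], _ => rfl
  | a :: l, b :: m, h => by
    rw [eqL] at h
    cases h1 : Nat.beq a b with
    | true =>
      rw [h1, cond_true] at h
      rw [Nat.eq_of_beq_eq_true h1, eq_of_eqL h]
    | false =>
      rw [h1, cond_false] at h
      exact Bool.noConfusion h
  | [], _ :: _, h => Bool.noConfusion h
  | _ :: _, [], h => Bool.noConfusion h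

/-- The span (for exclusive or) of a list of masks. -/
def Sp : List ℕ → ℕ → Prop
  | [], a => a = 0
  | b :: l, a => Sp l a ∨ Sp l (a ^^^ b)

/-- A test for membership in the span. -/
def spB : List ℕ → ℕ → Bool
  | [], a => Nat.beq a 0
  | b :: l, a => cond (Nat.blt (Nat.xor a b) a) (spB l (Nat.xor a b)) (spB l a)

theorem sp_of_spB {l : List ℕ} : ∀ {a : ℕ}, spB l a = true → Sp l a := by
  induction l with
  | nil => intro a h; exact Nat.eq_of_beq_eq_true h
  | cons b l ih =>
    intro a h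
    rw [spB] at h
    cases h1 : Nat.blt (Nat.xor a b) a with
    | true => rw [h1, cond_true] at h; exact Or.inr (ih h)
    | false => rw [h1, cond_false] at h; exact Or.inl (ih h)

/-- `f` holds for `a ^^^ s`, `s` in the span of the list. -/
def allSp : List ℕ → (ℕ → Bool) → ℕ → Bool
  | [], f, a => f a
  | b :: l, f, a => allSp l f a && allSp l f (Nat.xor a b)

theorem allSp_spec {l : List ℕ} {f : ℕ → Bool} : ∀ {a : ℕ}, allSp l f a = true →
    ∀ s, Sp l s → f (a ^^^ s) = true := by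
  induction l with
  | nil =>
    intro a h s hs
    have hs' : s = 0 := hs
    rw [hs', Nat.xor_zero]
    exact h
  | cons b l ih =>
    intro a h s hs
    rw [allSp, Bool.and_eq_true] at h
    rcases hs with hs | hs
    · exact ih h.1 s hs
    · have := ih h.2 _ hs
      have e : (a ^^^ b) ^^^ (s ^^^ b) = a ^^^ s := by
        rw [Nat.xor_comm s b, Nat.xor_assoc, ← Nat.xor_assoc b b s, Nat.xor_self, Nat.zero_xor]
      exact e ▸ this

theorem allSp_zero {l : List ℕ} {f : ℕ → Bool} (h : allSp l f 0 = true) {s : ℕ} (hs : Sp l s) :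
    f s = true := by
  have := allSp_spec h s hs
  rwa [Nat.zero_xor] at this

/-- The same with a linear map given by the images of the basis. -/
def allSp2 : List (ℕ × ℕ) → (ℕ → ℕ → Bool) → ℕ → ℕ → Bool
  | [], f, a, a' => f a a'
  | b :: l, f, a, a' => allSp2 l f a a' && allSp2 l f (Nat.xor a b.1) (Nat.xor a' b.2)

theorem allSp2_spec {g : ℕ → ℕ} (hg : ∀ a b, g (a ^^^ b) = g a ^^^ g b) {f : ℕ → ℕ → Bool}
    {l : List ℕ} : ∀ {a : ℕ}, allSp2 (l.map fun b => (b, g b)) f a (g a) = true →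
    ∀ s, Sp l s → f (a ^^^ s) (g (a ^^^ s)) = true := by
  induction l with
  | nil =>
    intro a h s hs
    have hs' : s = 0 := hs
    rw [hs', Nat.xor_zero]
    exact h
  | cons b l ih =>
    intro a h s hs
    rw [List.map_cons, allSp2, Bool.and_eq_true] at h
    rcases hs with hs | hs
    · exact ih h.1 s hs
    · have h2 : allSp2 (l.map fun b => (b, g b)) f (a ^^^ b) (g (a ^^^ b)) = true := by
        rw [hg]
        exact h.2
      have := ih h2 _ hs
      have e : (a ^^^ b) ^^^ (s ^^^ b) = a ^^^ s := by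
        rw [Nat.xor_comm s b, Nat.xor_assoc, ← Nat.xor_assoc b b s, Nat.xor_self, Nat.zero_xor]
      rw [e] at this
      exact this

/-- Enumeration of the span together with the images under a permutation. -/
theorem allSp2_pimg {P : ℕ} (hP : isPerm P = true) {f : ℕ → ℕ → Bool} {l : List ℕ}
    (h : allSp2 (l.map fun b => (b, pimg P b)) f 0 0 = true) {s : ℕ} (hs : Sp l s) :
    f s (pimg P s) = true := by
  have h0 : allSp2 (l.map fun b => (b, pimg P b)) f 0 (pimg P 0) = true := by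
    rw [pimg_zero hP]; exact h
  have := allSp2_spec (pimg_xor hP) h0 s hs
  rwa [Nat.zero_xor] at this

/-- The span of `k` elements has at most `2 ^ k` elements. -/
theorem ncard_sp (l : List ℕ) : {a | Sp l a}.Finite ∧ {a | Sp l a}.ncard ≤ 2 ^ l.length := by
  induction l with
  | nil =>
    have : {a | Sp [] a} = {0} := rfl
    rw [this]
    simp
  | cons b l ih =>
    have h1 : {a | Sp (b :: l) a} = {a | Sp l a} ∪ (fun a => a ^^^ b) '' {a | Sp l a} := by
      ext a
      constructor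
      · rintro (h | h)
        · exact Or.inl h
        · exact Or.inr ⟨_, h, by simp only [Nat.xor_assoc, Nat.xor_self, Nat.xor_zero]⟩
      · rintro (h | ⟨c, hc, rfl⟩)
        · exact Or.inl h
        · right
          have : (c ^^^ b) ^^^ b = c := by rw [Nat.xor_assoc, Nat.xor_self, Nat.xor_zero]
          change Sp l ((c ^^^ b) ^^^ b)
          rw [this]
          exact hc
    rw [h1]
    refine ⟨ih.1.union (ih.1.image _), ?_⟩
    refine (Set.ncard_union_le _ _).trans ?_
    have := Set.ncard_image_le (f := fun a => a ^^^ b) ih.1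
    rw [List.length_cons, pow_succ]
    omega

/-! ### `E` -/

theorem B10_check : allR 12 0 (fun i => cond (Nat.beq (Nat.land (enc i) 8388609) 0)
    (spB B10 (enc i)) true) = true := by decide +kernel

/-- The masks of `E` are in the span of `B10`. -/
theorem sp_B10 {m : ℕ} (hm : inE m = true) : Sp B10 m := by
  unfold inE at hm
  rw [Bool.and_eq_true] at hm
  obtain ⟨i, hi, rfl⟩ := isCode_iff_exists.1 hm.1
  have h := allR_zero_spec B10_check i hi
  rw [hm.2, cond_true] at h
  exact sp_of_spB h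

theorem inE_B10 : allSp B10 inE 0 = true := by decide +kernel

theorem sp_B10_iff {m : ℕ} : Sp B10 m ↔ inE m = true := ⟨fun h => allSp_zero inE_B10 h, sp_B10⟩

/-! ### `T22` -/

theorem okP_L22 : (L22.all fun P => okP P && Nat.blt P (2 ^ 120)) = true := by decide +kernel

theorem okP_of_mem {P : ℕ} (h : P ∈ L22) : okP P = true := by
  have := List.all_eq_true.1 okP_L22 P h
  rw [Bool.and_eq_true] at this
  exact this.1

theorem ok_of_mem {P : ℕ} (h : P ∈ L22) : ok P = true := ok_of_okP (okP_of_mem h)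

theorem isPerm_of_ok {P : ℕ} (h : ok P = true) : isPerm P = true := (ok_iff.1 h).1

theorem isPerm_of_mem {P : ℕ} (h : P ∈ L22) : isPerm P = true := isPerm_of_ok (ok_of_mem h)

theorem lt_of_mem {P : ℕ} (h : P ∈ L22) : P < 2 ^ 120 := by
  have := List.all_eq_true.1 okP_L22 P h
  rw [Bool.and_eq_true] at this
  exact Nat.blt_eq.mp this.2

theorem nodup_L22 : L22.Nodup := nodup_of_nodupL (by decide +kernel)

theorem length_L22 : L22.length = 256 := by decide +kernel

theorem idP_mem : idP ∈ L22 := memL_iff.1 (by decide +kernel)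

theorem tg_closed : (tg.all fun g => L22.all fun P => memL (pcomp g P) L22) = true := by
  decide +kernel

/-- Doubling. -/
def dbl : List ℕ → List ℕ → List ℕ
  | [], L => L
  | g :: gs, L => dbl gs (L ++ L.map (pcomp g))

theorem dbl_eq : eqL (dbl tg [idP]) L22 = true := by decide +kernel

theorem tg_ok : ∀ g ∈ tg, ok g = true := by
  have : (tg.all ok) = true := by decide +kernel
  exact List.all_eq_true.1 this

/-- The group `T22`. -/
noncomputable def T22 : Subgroup M24 := Subgroup.closure {s | ∃ g ∈ tg, s = el g}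

theorem mem_dbl {K : Subgroup M24} : ∀ (gs L : List ℕ), (∀ g ∈ gs, ok g = true ∧ el g ∈ K) →
    (∀ P ∈ L, ok P = true ∧ el P ∈ K) → ∀ P ∈ dbl gs L, ok P = true ∧ el P ∈ K := by
  intro gs
  induction gs with
  | nil => intro L _ hL; exact hL
  | cons g gs ih =>
    intro L hg hL
    apply ih
    · intro g' hg'; exact hg g' (List.mem_cons_of_mem _ hg')
    · intro P hP
      rcases List.mem_append.1 hP with h | h
      · exact hL P h
      · obtain ⟨Q, hQ, rfl⟩ := List.mem_map.1 h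
        have h1 := hg g List.mem_cons_self
        have h2 := hL Q hQ
        exact ⟨ok_pcomp h1.1 h2.1, by rw [el_pcomp h1.1 h2.1]; exact K.mul_mem h1.2 h2.2⟩

theorem el_mem_T22 {P : ℕ} (h : P ∈ L22) : el P ∈ T22 := by
  have h1 := mem_dbl (K := T22) tg [idP]
    (fun g hg => ⟨tg_ok g hg, Subgroup.subset_closure ⟨g, hg, rfl⟩⟩) (fun P hP => by
      rw [List.mem_singleton] at hP
      subst hP
      exact ⟨ok_idP, by rw [el_idP]; exact T22.one_mem⟩)
  rw [eq_of_eqL dbl_eq] at h1
  exact (h1 P h).2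

theorem mem_T22_iff {s : M24} : s ∈ T22 ↔ ∃ P ∈ L22, s = el P := by
  constructor
  · intro h
    have key : ∀ s ∈ T22, (∀ Q ∈ L22, ∃ R ∈ L22, s * el Q = el R) := by
      intro s hs
      let S : Set M24 := {x | ∃ R ∈ L22, x = el R}
      have hle : T22 ≤ MulAction.stabilizer M24 S := by
        unfold T22
        rw [Subgroup.closure_le]
        rintro _ ⟨g, hg, rfl⟩
        have hfin : S.Finite := Set.toFinite _
        show el g • S = S
        apply Set.eq_of_subset_of_ncard_le _ (by rw [Set.ncard_smul_set]) hfin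
        rintro _ ⟨x, ⟨R, hR, rfl⟩, rfl⟩
        have h1 := List.all_eq_true.1 (List.all_eq_true.1 tg_closed g hg) R hR
        refine ⟨_, memL_iff.1 h1, ?_⟩
        rw [el_pcomp (tg_ok g hg) (ok_of_mem hR)]
        rfl
      intro Q hQ
      have h2 : s • S = S := hle hs
      have h3 : s * el Q ∈ s • S := ⟨el Q, ⟨Q, hQ, rfl⟩, rfl⟩
      rw [h2] at h3
      obtain ⟨R, hR, h4⟩ := h3
      exact ⟨R, hR, h4⟩
    obtain ⟨R, hR, h1⟩ := key s h idP idP_mem
    rw [el_idP, mul_one] at h1
    exact ⟨R, hR, h1⟩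
  · rintro ⟨P, hP, rfl⟩
    exact el_mem_T22 hP

theorem pcomp_mem {P Q : ℕ} (hP : P ∈ L22) (hQ : Q ∈ L22) : pcomp P Q ∈ L22 := by
  have h := T22.mul_mem (el_mem_T22 hP) (el_mem_T22 hQ)
  rw [← el_pcomp (ok_of_mem hP) (ok_of_mem hQ)] at h
  obtain ⟨R, hR, h1⟩ := mem_T22_iff.1 h
  rwa [el_inj (ok_pcomp (ok_of_mem hP) (ok_of_mem hQ)) (ok_of_mem hR) (pcomp_lt P Q) (lt_of_mem hR) h1]

theorem idP_lt : idP < 2 ^ 120 := lt_of_mem idP_mem

theorem exists_inv {P : ℕ} (hP : P ∈ L22) : ∃ Q ∈ L22, pcomp P Q = idP ∧ pcomp Q P = idP := by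
  have h := T22.inv_mem (el_mem_T22 hP)
  obtain ⟨Q, hQ, h1⟩ := mem_T22_iff.1 h
  refine ⟨Q, hQ, ?_, ?_⟩
  · apply el_inj (ok_pcomp (ok_of_mem hP) (ok_of_mem hQ)) ok_idP (pcomp_lt _ _) idP_lt
    rw [el_pcomp (ok_of_mem hP) (ok_of_mem hQ), ← h1, mul_inv_cancel, el_idP]
  · apply el_inj (ok_pcomp (ok_of_mem hQ) (ok_of_mem hP)) ok_idP (pcomp_lt _ _) idP_lt
    rw [el_pcomp (ok_of_mem hQ) (ok_of_mem hP), ← h1, inv_mul_cancel, el_idP]

/-! ### `T` and `E` -/

/-- A Sylow 2-subgroup of `Spor.Co2`. -/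
def T : Subgroup Spor.Co2 where
  carrier := {g | ∃ m P, inE m = true ∧ P ∈ L22 ∧ g = mo2 m P}
  one_mem' := ⟨0, idP, inE_zero, idP_mem, mo2_one.symm⟩
  mul_mem' := by
    rintro _ _ ⟨m, P, hm, hP, rfl⟩ ⟨n, Q, hn, hQ, rfl⟩
    exact ⟨_, _, inE_xor hm (inE_pimg (okP_of_mem hP) hn), pcomp_mem hP hQ,
      mo2_mul hm hn (okP_of_mem hP) (okP_of_mem hQ)⟩
  inv_mem' := by
    rintro _ ⟨m, P, hm, hP, rfl⟩
    obtain ⟨Q, hQ, h1, h2⟩ := exists_inv hP
    refine ⟨pimg Q m, Q, inE_pimg (okP_of_mem hQ) hm, hQ, ?_⟩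
    apply inv_eq_of_mul_eq_one_left
    rw [mo2_mul (inE_pimg (okP_of_mem hQ) hm) hm (okP_of_mem hQ) (okP_of_mem hP), h2,
      Nat.xor_self, mo2_one]

/-- The elementary abelian normal subgroup of order `2^10` of `T`. -/
def E : Subgroup Spor.Co2 where
  carrier := {g | ∃ m, inE m = true ∧ g = mo2 m idP}
  one_mem' := ⟨0, inE_zero, mo2_one.symm⟩
  mul_mem' := by
    rintro _ _ ⟨m, hm, rfl⟩ ⟨n, hn, rfl⟩
    exact ⟨_, inE_xor hm hn, mo2_mul_left hm hn okP_idP⟩
  inv_mem' := by
    rintro _ ⟨m, hm, rfl⟩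
    refine ⟨m, hm, ?_⟩
    apply inv_eq_of_mul_eq_one_left
    rw [mo2_mul_left hm hm okP_idP, Nat.xor_self, mo2_one]

theorem mem_T_iff {g : Spor.Co2} : g ∈ T ↔ ∃ m P, inE m = true ∧ P ∈ L22 ∧ g = mo2 m P := Iff.rfl

theorem mem_E_iff {g : Spor.Co2} : g ∈ E ↔ ∃ m, inE m = true ∧ g = mo2 m idP := Iff.rfl

theorem mo2_mem_T {m P : ℕ} (hm : inE m = true) (hP : P ∈ L22) : mo2 m P ∈ T := ⟨m, P, hm, hP, rfl⟩

theorem mo2_mem_E {m : ℕ} (hm : inE m = true) : mo2 m idP ∈ E := ⟨m, hm, rfl⟩

theorem E_le_T : E ≤ T := by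
  rintro _ ⟨m, hm, rfl⟩
  exact mo2_mem_T hm idP_mem

theorem mo2_injT {m n P Q : ℕ} (hm : inE m = true) (hn : inE n = true) (hP : P ∈ L22)
    (hQ : Q ∈ L22) (h : mo2 m P = mo2 n Q) : m = n ∧ P = Q :=
  mo2_inj hm hn (okP_of_mem hP) (okP_of_mem hQ) (lt_of_mem hP) (lt_of_mem hQ) h

theorem E_mul {m n : ℕ} (hm : inE m = true) (hn : inE n = true) :
    mo2 m idP * mo2 n idP = mo2 (m ^^^ n) idP := mo2_mul_left hm hn okP_idP

theorem pcomp_idP {P : ℕ} (hP : ok P = true) (h : P < 2 ^ 120) : pcomp P idP = P := by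
  apply el_inj (ok_pcomp hP ok_idP) hP (pcomp_lt _ _) h
  rw [el_pcomp hP ok_idP, el_idP, mul_one]

theorem idP_pcomp {P : ℕ} (hP : ok P = true) (h : P < 2 ^ 120) : pcomp idP P = P := by
  apply el_inj (ok_pcomp ok_idP hP) hP (pcomp_lt _ _) h
  rw [el_pcomp ok_idP hP, el_idP, one_mul]

/-- Conjugation of elements of `E` by monomial elements. -/
theorem mo2_conj_E {m n P : ℕ} (hm : inE m = true) (hn : inE n = true) (hP : okP P = true)
    (h : P < 2 ^ 120) : mo2 m P * mo2 n idP = mo2 (pimg P n) idP * mo2 m P := by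
  rw [mo2_mul hm hn hP okP_idP, mo2_mul_left (inE_pimg hP hn) hm hP, pcomp_idP (ok_of_okP hP) h,
    Nat.xor_comm]

end Cfsg.Agent.Co2Type.TGroup
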