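import Cfsg.Agent.Co2Type.CommFin
import Cfsg.Agent.Co2Type.SwapB
import Cfsg.Agent.Co2Type.P1Rels

/-!
# The swapped tuple (R03, piece C of `Co₂`; helper37)

`Tup t D b d e f g`: the tuple `(b,d,e,f,g)` of elements of `C = C(t)` lies in `F ∩ C(D 0)`, satisfies the
relations of the diagram (P1), and `(d e f g)^5 = D 0`, `b e g (D 0) ∈ F`.  If `x` swaps `t` and `D 0`, the tuple
`(b^x, …, g^x)` has this property (`tup_of_swap`); with (C-ii) (`TupHyp`) this gives all relations (P2)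
(`exists_h`).
-/

set_option autoImplicit false

namespace Cfsg.Agent.Co2Type.TupDef

open Cfsg.Agent.Co2Type.QModel Cfsg.Agent.Co2Type.Act Cfsg.Agent.Co2Type.Rels Cfsg.Agent.Co2Type.CCode
open Cfsg.Agent.Co2Type.FList Cfsg.Agent.Co2Type.CommChk Cfsg.Agent.Co2Type.CommOut
open Cfsg.Agent.Co2Type.P1Rels

/-- properties of the swapped tuple -/
structure Tup {C : Type*} [Group C] (t : C) (D : ℕ → C) (b d e f g : C) : Prop where
  Fb : InF t D b
  Fd : InF t D d
  Fe : InF t D e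
  Ff : InF t D f
  Fg : InF t D g
  ab : D 0 * b = b * D 0
  ad : D 0 * d = d * D 0
  ae : D 0 * e = e * D 0
  af : D 0 * f = f * D 0
  ag : D 0 * g = g * D 0
  be : b * e = e * b
  bf : b * f = f * b
  bg : b * g = g * b
  df : d * f = f * d
  eg : e * g = g * e
  bd : b * d * b = d * b * d
  de : d * e * d = e * d * e
  ef : e * f * e = f * e * f
  fg : f * g * f = g * f * g
  dg : d * g * d * g = g * d * g * d
  r5 : (d * e * f * g) ^ 5 = D 0
  Fx : InF t D (b * e * g * D 0)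

/-- the statement (C-ii): all such tuples are conjugate under `C(D 0)` to the explicit one -/
def TupHyp {C : Type*} [Group C] (t : C) (ev : QM →* C) (D : ℕ → C) : Prop :=
  ∀ b d e f g : C, Tup t D b d e f g → ∃ k : C, D 0 * k = k * D 0 ∧
    k⁻¹ * b * k = wv ev D w_bs ∧ k⁻¹ * d * k = wv ev D w_ds ∧ k⁻¹ * e * k = wv ev D w_es ∧
    k⁻¹ * f * k = wv ev D w_fs ∧ k⁻¹ * g * k = wv ev D w_gs

section

variable {G : Type*} [Group G] {t : G} {tc : Subgroup.centralizer ({t} : Set G)}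
  {ev : QM →* Subgroup.centralizer ({t} : Set G)} {D : ℕ → Subgroup.centralizer ({t} : Set G)}
  {R : Rels false tc ev D}

/-- conjugation by `x⁻¹` of an element commuting with `D 0`, as an element of `C(t)` -/
def cx (x : G) (hxa : x⁻¹ * (D 0 : G) * x = t) (u : Subgroup.centralizer ({t} : Set G))
    (hu : D 0 * u = u * D 0) : Subgroup.centralizer ({t} : Set G) :=
  ⟨x⁻¹ * (u : G) * x, by
    rw [Subgroup.mem_centralizer_singleton_iff]
    have h1 : (D 0 : G) * u = u * D 0 := congrArg Subtype.val hu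
    calc x⁻¹ * (u : G) * x * t = x⁻¹ * (u : G) * x * (x⁻¹ * (D 0 : G) * x) := by rw [hxa]
      _ = x⁻¹ * (u * (D 0 : G)) * x := by group
      _ = x⁻¹ * ((D 0 : G) * u) * x := by rw [h1]
      _ = (x⁻¹ * (D 0 : G) * x) * (x⁻¹ * (u : G) * x) := by group
      _ = t * (x⁻¹ * (u : G) * x) := by rw [hxa]⟩

theorem tup_of_swap (A : Data R) (htc : (tc : G) = t)
    (fus : ∀ y : Subgroup.centralizer ({t} : Set G), IsConj t (y : G) ↔ InF tc D y) {x : G}
    (hxt : x⁻¹ * t * x = D 0) (hxa : x⁻¹ * (D 0 : G) * x = t)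
    (hb : D 0 * wv ev D w_b = wv ev D w_b * D 0) (hd : D 0 * wv ev D w_d = wv ev D w_d * D 0)
    (he : D 0 * wv ev D w_e = wv ev D w_e * D 0) (hf : D 0 * wv ev D w_f = wv ev D w_f * D 0)
    (hg : D 0 * wv ev D w_g = wv ev D w_g * D 0) :
    Tup tc D (cx x hxa _ hb) (cx x hxa _ hd) (cx x hxa _ he) (cx x hxa _ hf) (cx x hxa _ hg) := by
  have inF : ∀ (u : Subgroup.centralizer ({t} : Set G)) (hu : D 0 * u = u * D 0), IsConj t (u : G) →
      InF tc D (cx x hxa u hu) := by
    intro u hu h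
    apply (fus _).1
    refine h.trans (isConj_iff.2 ⟨x⁻¹, ?_⟩)
    rw [inv_inv]; rfl
  have B := CommFin.bdata A fus
  have cj : ∀ w v : List ℕ, wN (w ++ ([0] ++ w.reverse)) = wN v → IsConj t ((wv ev D v : Subgroup.centralizer ({t} : Set G)) : G) := by
    intro w v h
    have h1 := conj_word A w [0] B.beta
    rw [wg_eq A h] at h1
    exact h1
  have hmul : ∀ (u v u' v' : Subgroup.centralizer ({t} : Set G)), u * v = v' * u' →
      ∀ (hu : D 0 * u = u * D 0) (hv : D 0 * v = v * D 0) (hu' : D 0 * u' = u' * D 0) (hv' : D 0 * v' = v' * D 0),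
      cx x hxa u hu * cx x hxa v hv = cx x hxa v' hv' * cx x hxa u' hu' := by
    intro u v u' v' h hu hv hu' hv'
    apply Subtype.ext
    show x⁻¹ * (u : G) * x * (x⁻¹ * (v : G) * x) = x⁻¹ * (v' : G) * x * (x⁻¹ * (u' : G) * x)
    have h1 : (u : G) * v = v' * u' := congrArg Subtype.val h
    calc x⁻¹ * (u : G) * x * (x⁻¹ * (v : G) * x) = x⁻¹ * ((u : G) * v) * x := by group
      _ = x⁻¹ * (v' * u') * x := by rw [h1]
      _ = _ := by group
  have hbr : ∀ (u v : Subgroup.centralizer ({t} : Set G)), u * v * u = v * u * v →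
      ∀ (hu : D 0 * u = u * D 0) (hv : D 0 * v = v * D 0),
      cx x hxa u hu * cx x hxa v hv * cx x hxa u hu = cx x hxa v hv * cx x hxa u hu * cx x hxa v hv := by
    intro u v h hu hv
    apply Subtype.ext
    show x⁻¹ * (u : G) * x * (x⁻¹ * (v : G) * x) * (x⁻¹ * (u : G) * x) =
      x⁻¹ * (v : G) * x * (x⁻¹ * (u : G) * x) * (x⁻¹ * (v : G) * x)
    have h1 : (u : G) * v * u = v * u * v := congrArg Subtype.val h
    calc x⁻¹ * (u : G) * x * (x⁻¹ * (v : G) * x) * (x⁻¹ * (u : G) * x) = x⁻¹ * ((u : G) * v * u) * x := by group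
      _ = x⁻¹ * (v * u * v) * x := by rw [h1]
      _ = _ := by group
  have ha : ∀ (u : Subgroup.centralizer ({t} : Set G)) (hu : D 0 * u = u * D 0),
      D 0 * cx x hxa u hu = cx x hxa u hu * D 0 := by
    intro u hu
    apply Subtype.ext
    show (D 0 : G) * (x⁻¹ * (u : G) * x) = x⁻¹ * (u : G) * x * (D 0 : G)
    have h1 : t * (u : G) = u * t := (Subgroup.mem_centralizer_singleton_iff.1 u.2).symm
    rw [← hxt]
    calc x⁻¹ * t * x * (x⁻¹ * (u : G) * x) = x⁻¹ * (t * (u : G)) * x := by group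
      _ = x⁻¹ * (u * t) * x := by rw [h1]
      _ = _ := by group
  have we : ∀ {w w' : List ℕ}, wN w = wN w' → wv ev D w = wv ev D w' := fun h => wv_eq A h
  have wm : ∀ {u v u' v' : List ℕ}, wN (u ++ v) = wN (u' ++ v') →
      wv ev D u * wv ev D v = wv ev D u' * wv ev D v' := by
    intro u v u' v' h
    rw [← wv_append, ← wv_append]; exact wv_eq A h
  have wb : ∀ {u v : List ℕ}, wN (u ++ v ++ u) = wN (v ++ u ++ v) →
      wv ev D u * wv ev D v * wv ev D u = wv ev D v * wv ev D u * wv ev D v := by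
    intro u v h
    rw [← wv_append, ← wv_append, ← wv_append, ← wv_append]; exact wv_eq A h
  refine
    { Fb := inF _ _ (cj [2,6,1,2,0,1] w_b (by decide +kernel))
      Fd := inF _ _ (cj [10,2,1,10,2,0,1] w_d (by decide +kernel))
      Fe := inF _ _ (cj [2,3,1,2,0,1] w_e (by decide +kernel))
      Ff := inF _ _ (cj [3,4,2,3,1,2,0,1] w_f (by decide +kernel))
      Fg := inF _ _ (cj [4,5,3,4,2,3,1,2,0,1] w_g (by decide +kernel))
      ab := ha _ _
      ad := ha _ _
      ae := ha _ _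
      af := ha _ _
      ag := ha _ _
      be := hmul _ _ _ _ (wm (by decide +kernel)) _ _ _ _
      bf := hmul _ _ _ _ (wm (by decide +kernel)) _ _ _ _
      bg := hmul _ _ _ _ (wm (by decide +kernel)) _ _ _ _
      df := hmul _ _ _ _ (wm (by decide +kernel)) _ _ _ _
      eg := hmul _ _ _ _ (wm (by decide +kernel)) _ _ _ _
      bd := hbr _ _ (wb (by decide +kernel)) _ _
      de := hbr _ _ (wb (by decide +kernel)) _ _
      ef := hbr _ _ (wb (by decide +kernel)) _ _
      fg := hbr _ _ (wb (by decide +kernel)) _ _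
      dg := ?_
      r5 := ?_
      Fx := ?_ }
  · apply Subtype.ext
    have h1 : wv ev D w_d * wv ev D w_g * wv ev D w_d * wv ev D w_g =
        wv ev D w_g * wv ev D w_d * wv ev D w_g * wv ev D w_d := by
      rw [← wv_append, ← wv_append, ← wv_append, ← wv_append, ← wv_append, ← wv_append]
      exact wv_eq A (by decide +kernel)
    have h2 := congrArg Subtype.val h1
    show x⁻¹ * wg ev D w_d * x * (x⁻¹ * wg ev D w_g * x) * (x⁻¹ * wg ev D w_d * x) *
        (x⁻¹ * wg ev D w_g * x) =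
      x⁻¹ * wg ev D w_g * x * (x⁻¹ * wg ev D w_d * x) * (x⁻¹ * wg ev D w_g * x) *
        (x⁻¹ * wg ev D w_d * x)
    calc _ = x⁻¹ * (wg ev D w_d * wg ev D w_g * wg ev D w_d * wg ev D w_g) * x := by group
      _ = x⁻¹ * (wg ev D w_g * wg ev D w_d * wg ev D w_g * wg ev D w_d) * x := by
        rw [show wg ev D w_d * wg ev D w_g * wg ev D w_d * wg ev D w_g =
          wg ev D w_g * wg ev D w_d * wg ev D w_g * wg ev D w_d from h2]
      _ = _ := by group
  · apply Subtype.ext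
    have h1 : (wv ev D w_d * wv ev D w_e * wv ev D w_f * wv ev D w_g) ^ 5 = tc := by
      rw [← wv_append, ← wv_append, ← wv_append, ← wv_rep, ← wv_t (R := R)]
      exact wv_eq A (by decide +kernel)
    have h2 : (wg ev D w_d * wg ev D w_e * wg ev D w_f * wg ev D w_g) ^ 5 = t :=
      (congrArg Subtype.val h1).trans htc
    show (x⁻¹ * wg ev D w_d * x * (x⁻¹ * wg ev D w_e * x) * (x⁻¹ * wg ev D w_f * x) *
        (x⁻¹ * wg ev D w_g * x)) ^ 5 = (D 0 : G)
    have e : x⁻¹ * wg ev D w_d * x * (x⁻¹ * wg ev D w_e * x) * (x⁻¹ * wg ev D w_f * x) *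
        (x⁻¹ * wg ev D w_g * x) =
        x⁻¹ * (wg ev D w_d * wg ev D w_e * wg ev D w_f * wg ev D w_g) * x⁻¹⁻¹ := by group
    rw [e, conj_pow, h2, inv_inv, hxt]
  · apply (fus _).1
    have h1 : wv ev D w_b * wv ev D w_e * wv ev D w_g * tc = wv ev D [15, 3, 5, 6] := by
      rw [← wv_t (R := R), ← wv_append, ← wv_append, ← wv_append]
      exact wv_eq A (by decide +kernel)
    have h2 : wg ev D w_b * wg ev D w_e * wg ev D w_g * t = wg ev D [15, 3, 5, 6] := by
      have h3 : wg ev D w_b * wg ev D w_e * wg ev D w_g * (tc : G) = wg ev D [15, 3, 5, 6] :=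
        congrArg Subtype.val h1
      rwa [htc] at h3
    refine B.alpha.trans (isConj_iff.2 ⟨x⁻¹, ?_⟩)
    show x⁻¹ * wg ev D [15, 3, 5, 6] * x⁻¹⁻¹ = x⁻¹ * wg ev D w_b * x * (x⁻¹ * wg ev D w_e * x) *
      (x⁻¹ * wg ev D w_g * x) * (D 0 : G)
    rw [← h2, ← hxt]
    group

/-- **Piece C of `Co₂`**: all relations (P2) from a swap, the fusion statement and (C-ii) -/
theorem exists_h (A : Data R) (htc : (tc : G) = t)
    (fus : ∀ y : Subgroup.centralizer ({t} : Set G), IsConj t (y : G) ↔ InF tc D y) {x : G}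
    (hx : x * t * x⁻¹ = D 0) (hx' : x * (D 0 : G) * x⁻¹ = t) (hT : TupHyp tc ev D) :
    ∃ h : G, IsConj t h ∧ h * h = 1 ∧
      h * wg ev D w_a = wg ev D w_a * h ∧ h * wg ev D w_b = wg ev D w_b * h ∧
      h * wg ev D w_c = wg ev D w_c * h ∧ h * wg ev D w_d = wg ev D w_d * h ∧
      h * wg ev D w_e = wg ev D w_e * h ∧ h * wg ev D w_f = wg ev D w_f * h ∧
      (h * t) ^ 3 = 1 ∧ (wg ev D w_g * h) ^ 4 = 1 ∧
      (wg ev D w_g * h * t) ^ 3 = wg ev D w_b * wg ev D w_e := by
  have hxt : x⁻¹ * t * x = D 0 := by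
    calc x⁻¹ * t * x = x⁻¹ * (x * (D 0 : G) * x⁻¹) * x := by rw [hx']
      _ = D 0 := by group
  have hxa : x⁻¹ * (D 0 : G) * x = t := by
    calc x⁻¹ * (D 0 : G) * x = x⁻¹ * (x * t * x⁻¹) * x := by rw [hx]
      _ = t := by group
  have w0 : wv ev D w_a = D 0 := wv_D (by norm_num)
  have hc : ∀ w : List ℕ, wN (w_a ++ w) = wN (w ++ w_a) → D 0 * wv ev D w = wv ev D w * D 0 := by
    intro w h
    rw [← w0, ← wv_append, ← wv_append]; exact wv_eq A h
  have hb := hc w_b (by decide +kernel)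
  have hd := hc w_d (by decide +kernel)
  have he := hc w_e (by decide +kernel)
  have hf := hc w_f (by decide +kernel)
  have hg := hc w_g (by decide +kernel)
  obtain ⟨k, hk, kb, kd, ke, kf, kg⟩ := hT _ _ _ _ _ (tup_of_swap A htc fus hxt hxa hb hd he hf hg)
  have B := CommFin.bdata A fus
  have a0 : wg ev D w_a = (D 0 : G) := congrArg Subtype.val w0
  have hkG : (D 0 : G) * k = k * (D 0 : G) := congrArg Subtype.val hk
  have hkt : (k : G) * t = t * k := Subgroup.mem_centralizer_singleton_iff.1 k.2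
  refine relations A B htc (x := x * k) ?_ ?_ ?_ ?_ ?_ ?_ ?_
  · rw [a0]
    calc (x * (k : G))⁻¹ * t * (x * k) = (k : G)⁻¹ * (x⁻¹ * t * x) * k := by group
      _ = (k : G)⁻¹ * ((D 0 : G) * k) := by rw [hxt, mul_assoc]
      _ = D 0 := by rw [hkG, inv_mul_cancel_left]
  · rw [a0]
    calc (x * (k : G))⁻¹ * (D 0 : G) * (x * k) = (k : G)⁻¹ * (x⁻¹ * (D 0 : G) * x) * k := by group
      _ = (k : G)⁻¹ * (t * k) := by rw [hxa, mul_assoc]
      _ = t := by rw [← hkt, inv_mul_cancel_left]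
  · have := congrArg Subtype.val kb
    calc (x * (k : G))⁻¹ * wg ev D w_b * (x * k) = (k : G)⁻¹ * (x⁻¹ * wg ev D w_b * x) * k := by group
      _ = wg ev D w_bs := this
  · have := congrArg Subtype.val kd
    calc (x * (k : G))⁻¹ * wg ev D w_d * (x * k) = (k : G)⁻¹ * (x⁻¹ * wg ev D w_d * x) * k := by group
      _ = wg ev D w_ds := this
  · have := congrArg Subtype.val ke
    calc (x * (k : G))⁻¹ * wg ev D w_e * (x * k) = (k : G)⁻¹ * (x⁻¹ * wg ev D w_e * x) * k := by group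
      _ = wg ev D w_es := this
  · have := congrArg Subtype.val kf
    calc (x * (k : G))⁻¹ * wg ev D w_f * (x * k) = (k : G)⁻¹ * (x⁻¹ * wg ev D w_f * x) * k := by group
      _ = wg ev D w_fs := this
  · have := congrArg Subtype.val kg
    calc (x * (k : G))⁻¹ * wg ev D w_g * (x * k) = (k : G)⁻¹ * (x⁻¹ * wg ev D w_g * x) * k := by group
      _ = wg ev D w_gs := this

end

end Cfsg.Agent.Co2Type.TupDef
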