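import Cfsg.Agent.Co2Type.FList

/-!
# Piece (C-ii) of the recognition of `Co₂` (R03, helper757)

All five-tuples `(b', d', f', g', e')` of elements of `F ∩ C_C(D 0)` with the orders of the products of
`(b, d, f, g, e) = (D 6, X₃ D 2, D 4, D 5, D 3)`, with `(d' e' f' g')^5 = D 0` and `b' e' g' D 0 ∈ F` are conjugate
under `C_C(D 0)` to one explicit tuple.
-/

set_option autoImplicit false

namespace Cfsg.Agent.Co2Type.Tuple

open Cfsg.Agent.Co2Type.QModel Cfsg.Agent.Co2Type.Act Cfsg.Agent.Co2Type.Rels Cfsg.Agent.Co2Type.CCode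
open Cfsg.Agent.Co2Type.FList
open Cfsg.Agent.Lib.PackMat (force allBelow allBelow_spec force_eq)

/-- a node of the search tree: prefix, generators of its stabiliser (word, code, code of the inverse), table of the
candidates (code, path), representatives -/
abbrev Node : Type := List ℕ × List (List ℕ × ℕ × ℕ) × List (ℕ × List ℕ) × List ℕ

def nodes : List Node := [
  ([],
   [([10,2], 0x8060282e0080602a0e08, 0x8060282e0080602a0e08),
  ([8,12], 0x80200802008020080222, 0x80200802008020080222),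
  ([12,2], 0x8060282e0080602a0e20, 0x8060282e0080602a0ea0),
  ([3,4], 0x12a8a808038aa28882200, 0xaa2a8882382a08802000),
  ([8,6,4], 0xaa2a888220a028080202, 0xaa2a888220a028080202),
  ([5,3,2], 0xa078202c12a9fca02c00, 0x20d8282e1a2bd82a0e00),
  ([10,12,1,2,3,0,1,2,6,2,3,1,2,0,1], 0x80600806088a608a2628, 0x80600806088a608a26a8),
  ([3,4,2], 0x12a9fca02d8ae7ea2ec00, 0x225daa8ef8a63a82e000),
  ([3,4,5,4], 0x18aa288822a0280802000, 0xa0280803a8aa0882200),
  ([8,3,2,6,4], 0x214ca02c22dcea2ec02, 0x224ca20cda87b202c080)],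
   [(0x80200802008020080300, []),
  (0x80600806008060080600, []),
  (0x80600806008060080602, []),
  (0x80600806008060080608, [4,0]),
  (0x80600806008060080620, [3]),
  (0x80600806008060080680, [9]),
  (0x8060080600806008060a, [0]),
  (0x80600806008060080622, [6]),
  (0x80600806008060080782, [6,3,0]),
  (0x80600806008060080728, [9,0]),
  (0x80600806008060080688, [9,3]),
  (0x8060080600806008078a, [8,0]),
  (0x806008060080600806a0, [7]),
  (0x8060080600806008072a, [7,0]),
  (0x806008060080600807a8, [5,0]),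
  (0x806008060080600806aa, [6,0]),
  (0x806008060080600807a2, [3,0]),
  (0x8060282e0080602a0e00, []),
  (0x8060282e0080602a0e08, [2,1]),
  (0x8060282e0080602a0e80, [2]),
  (0x20c8202c18224ca02c00, [3,3]),
  (0x20c8202c002848220c00, [4,2,1]),
  (0x8060282e0080602a0e88, [1]),
  (0x20c8202c18224ca02d8a, [0,5]),
  (0x20c8202c002848220c0a, [4]),
  (0x20c8202c18224ca02ca0, [3,3,1]),
  (0x20c8202c002848220ca0, [4,2]),
  (0x20c8202c18224ca02d2a, [5,5,1]),
  (0xa028080218aa28882200, [5]),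
  (0x1a86a688e38a26ca82e00, [3]),
  (0x8060282e088a64a82e00, [4,3,1]),
  (0xa028080200a028080200, [0,4]),
  (0x80600806088a608a2600, [3,6,9]),
  (0x20c8202c002848220caa, [4,1]),
  (0xa028080218aa28882382, [5,1]),
  (0x1a86a688e38a26ca82f82, [0,7]),
  (0x8060282e088a64a82fa8, [5,4]),
  (0xa028080200a028080202, [2,4,1]),
  (0x80600806088a608a2620, [7,6,7]),
  (0xa028080218aa28882220, [5,2]),
  (0x1a86a688e38a26ca82eaa, [3,2]),
  (0x8060282e088a64a82e80, [5,4,2]),
  (0xa028080200a028080220, [0,4,1]),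
  (0x80600806088a608a2680, [3,6,9,1]),
  (0xa028080218aa288823a2, [6,5]),
  (0x1a86a688e38a26ca82f28, [3,1]),
  (0x8060282e088a64a82f28, [4,3]),
  (0x1288a0080382a08802000, [7]),
  (0x1284a608c202848220c00, [8]),
  (0x8c2608c280a44a02c00, [9,5,2]),
  (0x80600806088a608a26a0, [3,6,7]),
  (0x8c200a4280a40822400, [8,6,9]),
  (0xa028080200a028080222, [2,4]),
  (0x1288a0080382a0880218a, [9,2]),
  (0x1284a608c202848220da2, [8,1]),
  (0x8c2608c280a44a02da2, [3,4]),
  (0x8c200a4280a40822422, [6,3,7]),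
  (0x1288a0080382a08802022, [9,1]),
  (0x1284a608c202848220c0a, [8,2]),
  (0x8c2608c280a44a02c88, [9,5]),
  (0x8c200a4280a40822488, [6,3,9]),
  (0x1288a0080382a088021a8, [9]),
  (0x1284a608c202848220da8, [1,8]),
  (0x8c2608c280a44a02d2a, [7,4]),
  (0x88220882208020080200, [3,7]),
  (0x1a8aa088220a028080200, [5,3]),
  (0x88e2688e2080602a0e00, [4,8,2]),
  (0x8c200a4280a408224aa, [8,6,7]),
  (0x88e208a6208060080600, [5,6,9]),
  (0x1a86a08a620a868080600, [6,9]),
  (0x88220882208020080208, [9,7]),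
  (0x1a8aa088220a02808032a, [2,8]),
  (0x88e2688e2080602a0f82, [8,4,1]),
  (0x88e208a6208060080602, [5,6,7]),
  (0x1a86a08a620a868080602, [6,9,2]),
  (0x88220882208020080202, [7,9]),
  (0x1a8aa088220a028080202, [0,8]),
  (0x88e2688e2080602a0e08, [4,8]),
  (0x88e208a6208060080608, [6,5,9]),
  (0x1a86a08a620a86808072a, [6,9,1]),
  (0x8822088220802008020a, [3,9]),
  (0x1a8aa088220a028080328, [9,8]),
  (0x88e2688e2080602a0f8a, [8,4]),
  (0x8020080280200802000, [5,7]),
  (0x88e208a620806008060a, [6,5,7]),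
  (0x1a86a08a620a868080728, [6,7]),
  (0x1284a00a4382248822400, [6,5,3]),
  (0x1288a60a8202008200800, [6,3]),
  (0x8020080280200802088, [5,9,2]),
  (0x1284a00a4382248822422, [6,0,8]),
  (0x1288a60a820200820080a, [6,3,2]),
  (0x8020080280200802022, [5,9]),
  (0x1284a00a438224882258a, [6,2,8]),
  (0x1288a60a82020082009a2, [6,0,7]),
  (0x80200802802008020aa, [5,9,1]),
  (0x80200802088220882200, [8,7]),
  (0x1284a00a43822488225a8, [6,9,8]),
  (0x1288a60a82020082009a8, [6,3,1]),
  (0x1a8aa68aa38aa2caa2a00, [6,1,8]),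
  (0xa0e8080618a2688a2600, [9,6,8]),
  (0x882268aa208020280a00, [6,7,4]),
  (0x80200802088220882280, [8,9,2]),
  (0x1a8aa68aa38aa2caa2aaa, [6,8,1]),
  (0xa0e8080618a2688a2620, [7,6,8]),
  (0x882268aa208020280a08, [4,6,3]),
  (0x80200802088220882220, [8,9,1]),
  (0x1a8aa68aa38aa2caa2b82, [6,8,2]),
  (0xa0e8080618a2688a2782, [7,6,8,2]),
  (0x882268aa208020280b82, [6,9,5]),
  (0x802008020882208822a0, [8,9]),
  (0x1a8aa68aa38aa2caa2b28, [6,8]),
  (0xa0e8080618a2688a27a2, [7,6,8,1]),
  (0x882268aa208020280b8a, [4,6,3,1]),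
  (0x20082008182a0ca22800, [8,6,3]),
  (0x80260a8280204a22800, [6,8,4,1]),
  (0x20082008182a0ca228a0, [3,6,8]),
  (0x80260a8280204a22888, [6,8,4]),
  (0x20082008182a0ca2298a, [8,6,3,2]),
  (0x80260a8280204a229a2, [6,4,8,2]),
  (0x20082008182a0ca2292a, [3,6,8,1]),
  (0x80260a8280204a2292a, [6,4,8]),
  (0x8020280a008020280a00, [3,8,6,3]),
  (0x8020280a088224aa2a00, [4,6,8]),
  (0x8020280a008020280a80, [5,3,6,8]),
  (0x8020280a088224aa2a80, [4,6,8,2]),
  (0x8020280a008020280a08, [8,3,6,8]),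
  (0x8020280a088224aa2ba8, [4,6,8,1]),
  (0x8020280a008020280a88, [3,3,6,8]),
  (0x8020280a088224aa2b28, [3,6,8,4]),
  (0x20082008002008200800, [3,4,6,8]),
  (0x200820080020082008a0, [9,8,6,3]),
  (0x2008200800200820080a, [9,3,6,8]),
  (0x200820080020082008aa, [9,8,6,3,2]),
  (0xa0e8080600a868080600, [5,4,6,8]),
  (0xa0e8080600a868080620, [9,4,6,8]),
  (0xa0e8080600a868080602, [7,4,6,8,1]),
  (0xa0e8080600a868080622, [5,4,6,8,1]),
  (0x802008021288a0080300, [6,4,6]),
  (0x802008021288a0080220, [4,6]),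
  (0x802008021a86a688e300, [0,4,6]),
  (0x1a2a8880212a8a8080300, [6,2,0]),
  (0x802008021a86a688e2a0, [7,3,6]),
  (0x1a2a8880212a8a8080222, [6]),
  (0x80200802008c2608c300, [4,2,6]),
  (0x12acee2acfa2ecea2ed00, [6,0]),
  (0x182a08802008020080300, [6,8]),
  (0x80200802008c2608c280, [4,6,0]),
  (0x12acee2acfa2ecea2ecaa, [2,6]),
  (0x182a08802008020080202, [3,6]),
  (0x80e46a2ec08c662acf00, [6,4,0]),
  (0x80340220c20890080300, [5,6,0]),
  (0x18a26ca82e08020080300, [1,7,6]),
  (0x80e46a2ec08c662ace88, [9,4,6]),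
  (0x80340220c20890080328, [6,5,0]),
  (0x18a26ca82e0802008020a, [7,6]),
  (0xaabe82a0e22898080300, [3,6,0]),
  (0x80a44a02c08020080300, [6,9,3]),
  (0x8074220cca06d2a8ef00, [7,6,4,0]),
  (0xaabe82a0e2289808032a, [3,2,6]),
  (0x80a44a02c08020080208, [9,6]),
  (0x8074220cca06d2a8efa8, [5,7,6]),
  (0x229888020aaeba82e100, [7,6,0]),
  (0xa56aa8ee0847220cd00, [6,9,3,0]),
  (0x229888020aaeba82e1a2, [7,2,6]),
  (0xa56aa8ee0847220cd8a, [8,7,6]),
  (0x80200802008c200a4300, []),
  (0x290880200843202c100, [8,6,0]),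
  (0x80200802008c200a4220, []),
  (0x80200802008c200a4280, [5,0]),
  (0x290880200843202c182, [9,6,0]),
  (0x80200802008c200a42a0, [0]),
  (0x80e40826408c600a4700, [3]),
  (0x80e40826408c600a4622, [3]),
  (0x80e40826408c600a4688, [9]),
  (0x80e40826408c600a46aa, [7]),
  (0x80340822408830080300, [3,3]),
  (0x80a40822408020080300, [8]),
  (0x80340822408830080202, [3,3]),
  (0x80a40822408020080202, [8]),
  (0x8034082240883008032a, [3,7]),
  (0x80a40822408020080208, [8,0]),
  (0x80340822408830080328, [3,9]),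
  (0x80a4082240802008020a, [6,7]),
  (0x807408164088700a1700, [7,3]),
  (0x807408264084700a4700, [8,8]),
  (0x807408164088700a160a, [7,3]),
  (0x807408264084700a4622, [8,8]),
  (0x807408164088700a17a2, [7,7]),
  (0x807408264084700a478a, [6,3,7]),
  (0x807408164088700a17a8, [7,9]),
  (0x807408264084700a47a8, [8,8,0]),
  (0x80340812408430085300, [5,3]),
  (0x80a408124080200a1300, [9,3]),
  (0x80b008020084300a4300, [8,3]),
  (0x803408124084300852aa, [5,3]),
  (0x80a408124080200a1208, [9,3]),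
  (0x80b008020084300a4220, [8,3]),
  (0x80340812408430085382, [5,9]),
  (0x80a408124080200a1382, [9,7]),
  (0x80b008020084300a4382, [8,7]),
  (0x80340812408430085328, [5,7]),
  (0x80a408124080200a138a, [9,9]),
  (0x80b008020084300a43a2, [8,9]),
  (0x80f00836008470085700, [7,8]),
  (0x80e40816408c60085700, [9,8,3]),
  (0x80f008360084700856a0, [7,8]),
  (0x80e40816408c60085688, [9,8,3]),
  (0x80f0083600847008578a, [7,8,0]),
  (0x80e40816408c600857a2, [5,9,3]),
  (0x80f0083600847008572a, [3,5,3]),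
  (0x80e40816408c6008572a, [5,9,7]),
  (0x802008320080200a1300, [3,7,8]),
  (0x80200832008c20085300, [9,8]),
  (0x182308802008830080300, [2,0]),
  (0x802008320080200a1280, [5,7,8]),
  (0x80200832008c20085280, [9,8]),
  (0x182308802008830080202, []),
  (0x802008320080200a1208, [8,7,8]),
  (0x80200832008c200853a8, [9,8,0]),
  (0x802008320080200a1288, [3,7,8]),
  (0x80200832008c20085328, [4,5,7]),
  (0x80f008360088700a1700, [9,7,8]),
  (0x18af6cab6e088700a1700, [1,0]),
  (0x1a238880212a0b8080300, [8,2,0]),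
  (0x80f008360088700a16a0, [8,9,8,0]),
  (0x18af6cab6e088700a160a, [0]),
  (0x1a238880212a0b8080222, [8]),
  (0x80f008360088700a160a, [8,9,8]),
  (0x80f008360088700a16aa, [9,7,8]),
  (0x80a44a32c080200a1300, [4,1,0]),
  (0x80b00802008830080300, [5,9,8]),
  (0x12a1ee298fa269ea0f900, [0,8]),
  (0x8074223cca0ad2aabf00, [5,1,0]),
  (0x80b008021280b0080300, [6,3]),
  (0x80a44a32c080200a1208, [4,0]),
  (0x80b00802008830080220, [5,9,8]),
  (0x12a1ee298fa269ea0f8aa, [7,3]),
  (0x8074223cca0ad2aabfa8, [5,0]),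
  (0x80b008021280b0080220, [3]),
  (0x80b00802008830080202, [7,9,8,0]),
  (0x80b00802008830080222, [7,9,8]),
  (0x80e46a1ec08c6628df00, [4,7]),
  (0xa86aabae08022229900, [4,3,0]),
  (0x80f008361a8ef68af700, [0,3]),
  (0x80340210c20490085300, [0,5,0]),
  (0x22dc88164aaafa82b500, [3,1,0]),
  (0x80e46a1ec08c6628de88, [9,3]),
  (0xa86aabae0802222998a, [8,8,9]),
  (0x80f008361a8ef68af6a0, [7]),
  (0x80340210c20490085328, [7,3,0]),
  (0x22dc88164aaafa82b5a2, [3,0]),
  (0x80200832008c260ad300, [1,9]),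
  (0xaa6e8294e224c8085700, [9,3,0]),
  (0x2008802008022008100, [5,4,7]),
  (0x2848812408022029100, [6,3,0]),
  (0x80200832008026089300, [5,0,3]),
  (0xaafa82b4a22cd8085700, [7,1,0]),
  (0x214881240843200d100, [2,8,0]),
  (0x80200832008c260ad280, [9]),
  (0xaa6e8294e224c808572a, [4,7,0]),
  (0x2008802008022008182, [5,9,3]),
  (0x2848812408022029182, [3,4,0]),
  (0x80200832008026089280, [5,7]),
  (0xaafa82b4a22cd808572a, [7,0]),
  (0x214881240843200d182, [0,8,0]),
  (0x80f008361a82f688b700, [4,3,7]),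
  (0x220888020aa2aa80a100, [7,9,7]),
  (0x80200230820c80085300, [9,1,0]),
  (0xa02aa8aa08022208900, [9,9,3]),
  (0x224c88164aa6ea80f500, [4,8,0]),
  (0x80206a1a808026289b00, [3,0,3]),
  (0xad2aabea0847222dd00, [8,1,0]),
  (0x80f008361a82f688b6a0, [9,7,0]),
  (0x220888020aa2aa80a1a2, [5,4,0]),
  (0x80200230820c80085328, [9,0]),
  (0xa02aa8aa0802220898a, [7,4,0]),
  (0x224c88164aa6ea80f5a2, [8,9,3]),
  (0x80206a1a808026289a88, [3,7]),
  (0xad2aabea0847222dd8a, [8,0]),
  (0x80b00802128cb00a4300, [5,1,9]),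
  (0x12a5ae29cba22dea0bd00, [9,7]),
  (0x802022088a0282a8ab00, [0,9,0]),
  (0x802022388a0e82aafb00, [8,4,1,0]),
  (0x80204a22808020080300, [6,3,7]),
  (0xaa2a8280a22088080300, [6,8,0]),
  (0x80204a128080200a1300, [8,0,3]),
  (0x80b00802128cb00a4220, [5,9]),
  (0x12a5ae29cba22dea0bcaa, [3,9]),
  (0x802022088a0282a8aba8, [9,4,0]),
  (0x802022388a0e82aafba8, [8,4,0]),
  (0x80204a22808020080208, [9,7,9]),
  (0xaa2a8280a2208808032a, [7,8,9]),
  (0x80204a128080200a1208, [8,7]),
  (0x1a27c882652a4f80a4700, [9,9]),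
  (0x18a72ca96a088700a1700, [9,8,0]),
  (0x18aa2caa2a08020080300, [6,9,7]),
  (0x80200200820080080300, [5,9,7]),
  (0x80206a2a8080262a8b00, [6,8,7]),
  (0x1a27c882652a4f80a4622, [7,9]),
  (0x18a72ca96a088700a160a, [8,9]),
  (0x18aa2caa2a0802008020a, [6,3,9]),
  (0x80200200820080080328, [5,3,9]),
  (0x80206a2a8080262a8a88, [5,7,4,0]),
  (0x182248822408020080300, [6,7,9]),
  (0x182b48822408830080300, [2,8,9]),
  (0x12a8ae2a8ba2a8ea2a900, [6,8,9]),
  (0x802008020080260a8300, [3,6,8,0]),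
  (0x182248822408020080202, [3,7,9]),
  (0x182b48822408830080202, [5,9,0]),
  (0x12a8ae2a8ba2a8ea2a8aa, [5,7,9]),
  (0x802008020080260a8280, [8,7,4,0]),
  (0x1a2ec882652ace80a4700, [5,0,9,0]),
  (0x802008021a8aa68aa300, [9,6,8,0]),
  (0x1a2ec882652ace80a4622, [5,9,4,0]),
  (0x802008021a8aa68aa2a0, [8,9,4,0]),
  (0x802008021284a00a4300, [8,9,9]),
  (0x802008021284a00a4220, [8,7,9])],
   [0x182308802008830080202, 0x80200802008020080300, 0x80600806008060080600, 0x80600806008060080602, 0x8060282e0080602a0e00, 0x80200802008c200a4300, 0x80200802008c200a4220]),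
  ([0x182308802008830080202],
   [([8], 0x80200802008020080202, 0x80200802008020080202),
  ([4], 0x88220882208020080200, 0x88220882208020080200),
  ([6], 0xa028080200a028080200, 0xa028080200a028080200),
  ([5,3], 0xa028080212a8a8080200, 0xa028080212a8a8080200),
  ([3,4,1,2,3,0,1,2,6,2,3,4,1,2,3,0,1], 0x1a86a08a620a868080600, 0x1a86a08a620a868080600),
  ([8,5,3], 0xa028080212a8a8080202, 0xa028080212a8a8080202),
  ([4,5,3], 0xaa2a88823288a0080200, 0x18aa2888232a8a8080200),
  ([10,5,4,1,2,3,0,1,2,6,5,1,2,3,4,1,2,3,0,1], 0x18a6388a632a1e8080608, 0xaaeb88a63289e0080728)],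
   [(0x802008021a86a688e300, [6,4,0]),
  (0x802008021a86a688e2a0, [6,4]),
  (0x80200802008c2608c300, [4,1,0]),
  (0x12acee2acfa2ecea2ed00, [4,2,0]),
  (0x80200802008c2608c280, [4,1]),
  (0x12acee2acfa2ecea2ecaa, [4,2]),
  (0x80e46a2ec08c662acf00, [4,0]),
  (0x80e46a2ec08c662ace88, [4]),
  (0x8074220cca06d2a8ef00, [7,5]),
  (0x8074220cca06d2a8efa8, [7,3]),
  (0x229888020aaeba82e100, [7,6]),
  (0xa56aa8ee0847220cd00, [5,4]),
  (0x229888020aaeba82e1a2, [7,6,0]),
  (0xa56aa8ee0847220cd8a, [3,4]),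
  (0x290880200843202c100, [1,5,4]),
  (0x290880200843202c182, [7,6,2]),
  (0x12a1ee298fa269ea0f900, [6,0]),
  (0x8074223cca0ad2aabf00, [1,0]),
  (0x12a1ee298fa269ea0f8aa, [6]),
  (0x8074223cca0ad2aabfa8, [1]),
  (0x80e46a1ec08c6628df00, [6,2,0]),
  (0xa86aabae08022229900, [2,1,0]),
  (0x80f008361a8ef68af700, [4,7]),
  (0x22dc88164aaafa82b500, [0]),
  (0x80e46a1ec08c6628de88, [6,2]),
  (0xa86aabae0802222998a, [2,1]),
  (0x80f008361a8ef68af6a0, [1,6]),
  (0x22dc88164aaafa82b5a2, []),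
  (0x80200832008c260ad300, [7,7]),
  (0x2008802008022008100, [1,7]),
  (0x2848812408022029100, [2,0]),
  (0x80200832008026089300, [6,6,0]),
  (0x214881240843200d100, [5]),
  (0x80200832008c260ad280, [7,7,0]),
  (0x2008802008022008182, [4,6]),
  (0x2848812408022029182, [2]),
  (0x80200832008026089280, [6,6]),
  (0x214881240843200d182, [3]),
  (0x80f008361a82f688b700, [7,7,3]),
  (0x220888020aa2aa80a100, [6,7]),
  (0xa02aa8aa08022208900, [7]),
  (0x224c88164aa6ea80f500, [5,2]),
  (0x80206a1a808026289b00, [6,5]),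
  (0xad2aabea0847222dd00, [1,5]),
  (0x80f008361a82f688b6a0, [6,6,2]),
  (0x220888020aa2aa80a1a2, [6,7,0]),
  (0xa02aa8aa0802220898a, [7,0]),
  (0x224c88164aa6ea80f5a2, [3,2]),
  (0x80206a1a808026289a88, [6,3]),
  (0xad2aabea0847222dd8a, [1,3]),
  (0x12a5ae29cba22dea0bd00, [6,5,2]),
  (0x802022088a0282a8ab00, [2,7]),
  (0x802022388a0e82aafb00, [1,5,2]),
  (0x12a5ae29cba22dea0bcaa, [7,4,1]),
  (0x802022088a0282a8aba8, [7,2]),
  (0x802022388a0e82aafba8, [1,3,2]),
  (0x80206a2a8080262a8b00, [3,7]),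
  (0x80206a2a8080262a8a88, [5,7]),
  (0x12a8ae2a8ba2a8ea2a900, [4,5]),
  (0x802008020080260a8300, [2,7,1]),
  (0x12a8ae2a8ba2a8ea2a8aa, [4,3]),
  (0x802008020080260a8280, [7,2,1]),
  (0x802008021a8aa68aa300, [7,1]),
  (0x802008021a8aa68aa2a0, [7,1,0])],
   [0x22dc88164aaafa82b5a2]),
  ([0x182308802008830080202, 0x22dc88164aaafa82b5a2],
   [([12], 0x80200802008020080220, 0x80200802008020080220),
  ([8,10], 0x8020080200802008020a, 0x8020080200802008020a),
  ([6,4,5,2,3,4,1,2,3,0,1,2,6,2,3,4,1,2,3,0,1,2,6,3,4,2], 0xaa7f82b4b289e0085600, 0x18a63cab6e225d80a1600)],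
   [(0x80200802008020080300, []),
  (0x80600806008060080600, []),
  (0x80600806008060080620, []),
  (0x8060080600806008060a, [2,2]),
  (0x8060080600806008072a, [2]),
  (0x18af6cab6e088700a1700, [2,2]),
  (0x18af6cab6e088700a160a, [2,2,1]),
  (0x80b008021280b0080300, []),
  (0x80b008021280b0080220, [1]),
  (0xaafa82b4a22cd8085700, [2]),
  (0xaafa82b4a22cd808572a, [2,1])],
   [0x80b008021280b0080300, 0x80200802008020080300, 0x80600806008060080600, 0x80600806008060080620]),
  ([0x182308802008830080202, 0x22dc88164aaafa82b5a2, 0x80b008021280b0080300],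
   [([12], 0x80200802008020080220, 0x80200802008020080220),
  ([6,1,2,3,0,1,2,6,4,5,3,4,2,3,1,2,6,2,3,4,5,1,2,3,4,2,3,1,2,0,1], 0x80b008021280b0080200, 0x80b008021280b0080200)],
   [(0xaa6e8294e224c8085700, [1]),
  (0xaa6e8294e224c808572a, [1,0]),
  (0x18a72ca96a088700a1700, []),
  (0x18a72ca96a088700a160a, [0])],
   [0x18a72ca96a088700a1700]),
  ([0x182308802008830080202, 0x22dc88164aaafa82b5a2, 0x80b008021280b0080300, 0x18a72ca96a088700a1700],
   [],
   [(0x80a44a32c080200a1300, []),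
  (0x80a44a32c080200a1208, []),
  (0x80204a128080200a1300, []),
  (0x80204a128080200a1208, [])],
   [0x80a44a32c080200a1300, 0x80a44a32c080200a1208, 0x80204a128080200a1300, 0x80204a128080200a1208]),
  ([0x182308802008830080202, 0x22dc88164aaafa82b5a2, 0x80200802008020080300],
   [],
   [],
   []),
  ([0x182308802008830080202, 0x22dc88164aaafa82b5a2, 0x80600806008060080600],
   [],
   [],
   []),
  ([0x182308802008830080202, 0x22dc88164aaafa82b5a2, 0x80600806008060080620],
   [],
   [],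
   []),
  ([0x80200802008020080300],
   [],
   [],
   []),
  ([0x80600806008060080600],
   [],
   [],
   []),
  ([0x80600806008060080602],
   [],
   [],
   []),
  ([0x8060282e0080602a0e00],
   [([10], 0x80200802008020080208, 0x80200802008020080208),
  ([14], 0x80200802008020080280, 0x80200802008020080280),
  ([2], 0x8060282e0080602a0e00, 0x8060282e0080602a0e00),
  ([4], 0x88220882208020080200, 0x88220882208020080200),
  ([5], 0x80200802088220882200, 0x80200802088220882200),
  ([3,2,6,2,3], 0x8060282e088a64a82e00, 0x8060282e088a64a82e00),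
  ([1,2,3,0,1,2,6,2,3,1,2,0,1], 0x80600806088a608a2600, 0x80600806088a608a2600),
  ([4,2], 0x88662a8ee080602a0e00, 0x88662a8ee080602a0e00),
  ([4,5], 0x88220882280200802000, 0x8020080288220882200),
  ([14,4,3,2,6,5,2,3], 0x88662a8ee08c2608c280, 0x88a64a82e08c662ace88),
  ([10,4,1,2,3,0,1,2,6,5,2,3,1,2,0,1], 0x88660886608c200a4208, 0x88a608a2608c600a4608)],
   [(0x20c8202c18224ca02c00, []),
  (0x20c8202c002848220c00, [5,2]),
  (0x20c8202c18224ca02d8a, [0]),
  (0x20c8202c002848220c0a, [9,7,1]),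
  (0x20c8202c18224ca02ca0, [1]),
  (0x20c8202c002848220ca0, [7,5,0]),
  (0x20c8202c18224ca02d2a, [1,0]),
  (0xa028080218aa28882200, [2]),
  (0x1a86a688e38a26ca82e00, [3]),
  (0xa028080200a028080200, [5]),
  (0x20c8202c002848220caa, [9,7]),
  (0xa028080218aa28882382, [2,0]),
  (0x1a86a688e38a26ca82f82, [3,0]),
  (0xa028080200a028080202, [0,5]),
  (0xa028080218aa28882220, [2,1]),
  (0x1a86a688e38a26ca82eaa, [3,1]),
  (0xa028080200a028080220, [5,1]),
  (0xa028080218aa288823a2, [2,1,0]),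
  (0x1a86a688e38a26ca82f28, [1,3]),
  (0x1288a0080382a08802000, [7]),
  (0x1284a608c202848220c00, [8]),
  (0xa028080200a028080222, [5,0]),
  (0x1288a0080382a0880218a, [7,0]),
  (0x1284a608c202848220da2, [9]),
  (0x1288a0080382a08802022, [7,1]),
  (0x1284a608c202848220c0a, [8,1]),
  (0x1288a0080382a088021a8, [1,7]),
  (0x1284a608c202848220da8, [9,0]),
  (0x1a8aa088220a028080200, [8,2]),
  (0x1a86a08a620a868080600, [6,7]),
  (0x1a8aa088220a02808032a, [9,2]),
  (0x1a86a08a620a868080602, [6,7,1]),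
  (0x1a8aa088220a028080202, [8,2,1]),
  (0x1a86a08a620a86808072a, [6,7,0]),
  (0x1a8aa088220a028080328, [7,9]),
  (0x1a86a08a620a868080728, [6,1,7]),
  (0x1284a00a4382248822400, [10,2,0]),
  (0x1288a60a8202008200800, [6,3]),
  (0x1284a00a4382248822422, [1,10,2]),
  (0x1288a60a820200820080a, [10,8]),
  (0x1284a00a438224882258a, [10,2]),
  (0x1288a60a82020082009a2, [10,9]),
  (0x1284a00a43822488225a8, [10,2,1]),
  (0x1288a60a82020082009a8, [10,9,0]),
  (0x1a8aa68aa38aa2caa2a00, [10,0]),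
  (0xa0e8080618a2688a2600, [7,10,0]),
  (0x1a8aa68aa38aa2caa2aaa, [1,10]),
  (0xa0e8080618a2688a2620, [7,1,10]),
  (0x1a8aa68aa38aa2caa2b82, [10]),
  (0xa0e8080618a2688a2782, [7,10]),
  (0x1a8aa68aa38aa2caa2b28, [10,1]),
  (0xa0e8080618a2688a27a2, [7,10,1]),
  (0x20082008182a0ca22800, [10,10]),
  (0x20082008182a0ca228a0, [10,10,1]),
  (0x20082008182a0ca2298a, [3,10]),
  (0x20082008182a0ca2292a, [8,10]),
  (0x20082008002008200800, [5,7,10,0]),
  (0x200820080020082008a0, [9,10,2]),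
  (0x2008200800200820080a, [5,7,10,1]),
  (0x200820080020082008aa, [5,7,10]),
  (0xa0e8080600a868080600, [9,10,1]),
  (0xa0e8080600a868080620, [9,10]),
  (0xa0e8080600a868080602, [9,1,10]),
  (0xa0e8080600a868080622, [9,10,0])],
   [0x20c8202c18224ca02c00]),
  ([0x8060282e0080602a0e00, 0x20c8202c18224ca02c00],
   [([5], 0x80200802088220882200, 0x80200802088220882200),
  ([4,3,2,6,2,3,4], 0x8c2608c280a44a02c00, 0x8c2608c280a44a02c00),
  ([1,2,3,0,1,2,6,2,3,1,2,0,1], 0x80600806088a608a2600, 0x80600806088a608a2600)],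
   [(0x80200802008020080300, []),
  (0x80600806008060080600, []),
  (0x80600806088a608a2600, []),
  (0x8c2608c280a44a02c00, [2,1]),
  (0x88e2688e2080602a0e00, [2,0,1]),
  (0x80200802088220882200, [1,2,0,1]),
  (0x882268aa208020280a00, [1]),
  (0x80260a8280204a22800, [0,1]),
  (0x80200802008c200a4300, []),
  (0x80a408124080200a1300, [1]),
  (0x80e40816408c60085700, [0,1])],
   [0x80200802008020080300, 0x80600806008060080600, 0x80600806088a608a2600, 0x80200802008c200a4300]),
  ([0x8060282e0080602a0e00, 0x20c8202c18224ca02c00, 0x80200802008020080300],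
   [],
   [],
   []),
  ([0x8060282e0080602a0e00, 0x20c8202c18224ca02c00, 0x80600806008060080600],
   [],
   [],
   []),
  ([0x8060282e0080602a0e00, 0x20c8202c18224ca02c00, 0x80600806088a608a2600],
   [([5], 0x80200802088220882200, 0x80200802088220882200),
  ([1,2,3,0,1,2,6,2,3,1,2,0,1], 0x80600806088a608a2600, 0x80600806088a608a2600)],
   [(0x8c2608c280a44a02c88, []),
  (0x88e2688e2080602a0e08, [0]),
  (0x882268aa208020280a08, [1]),
  (0x80260a8280204a22888, [1,0])],
   [0x8c2608c280a44a02c88]),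
  ([0x8060282e0080602a0e00, 0x20c8202c18224ca02c00, 0x80600806088a608a2600, 0x8c2608c280a44a02c88],
   [],
   [(0x8c200a4280a40822400, []),
  (0x8c200a4280a40822488, []),
  (0x8020080280200802000, []),
  (0x8020080280200802088, [])],
   [0x8c200a4280a40822400, 0x8c200a4280a40822488, 0x8020080280200802000, 0x8020080280200802088]),
  ([0x8060282e0080602a0e00, 0x20c8202c18224ca02c00, 0x80200802008c200a4300],
   [],
   [],
   []),
  ([0x80200802008c200a4300],
   [],
   [],
   []),
  ([0x80200802008c200a4220],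
   [],
   [],
   [])]


/-- code of the product of a pair of codes -/
noncomputable def sqN (p : ℕ) : ℕ := mulN p p

/-- the element with code `p` has order `o` (`o = 2, 3, 4`) -/
noncomputable def testO (o p : ℕ) : Bool := force p fun p =>
  cond (Nat.beq o 2) (cond (Nat.beq p one) false (Nat.beq (mulN p p) one))
    (cond (Nat.beq o 3) (cond (Nat.beq p one) false (force (mulN p p) fun q => Nat.beq (mulN p q) one))
      (force (mulN p p) fun q => cond (Nat.beq q one) false (Nat.beq (mulN q q) one)))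

/-- the orders -/
def ords (k : ℕ) : List ℕ :=
  match k with
  | 1 => [3]
  | 2 => [2, 2]
  | 3 => [2, 4, 3]
  | 4 => [2, 3, 3, 2]
  | _ => []

/-- all tests of the new element `c` against the prefix -/
noncomputable def passes (pre : List ℕ) (os : List ℕ) (c : ℕ) : Bool :=
  List.rec (motive := fun _ => List ℕ → Bool) (fun _ => true)
    (fun p _ ih os => List.rec (motive := fun _ => Bool) true (fun o os' _ => cond (testO o (mulN p c)) (ih os') false) os)
    pre os

theorem passes_nil (os : List ℕ) (c : ℕ) : passes [] os c = true := rfl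
theorem passes_cons (p : ℕ) (pre : List ℕ) (o : ℕ) (os : List ℕ) (c : ℕ) :
    passes (p :: pre) (o :: os) c = cond (testO o (mulN p c)) (passes pre os c) false := rfl
theorem passes_cons_nil (p : ℕ) (pre : List ℕ) (c : ℕ) : passes (p :: pre) [] c = true := rfl

/-- the `i`-th generator -/
def getG (gens : List (List ℕ × ℕ × ℕ)) (i : ℕ) : List ℕ × ℕ × ℕ :=
  List.rec (motive := fun _ => ℕ → List ℕ × ℕ × ℕ) (fun _ => ([], one, one))
    (fun g _ ih i => Nat.rec (motive := fun _ => List ℕ × ℕ × ℕ) g (fun i _ => ih i) i) gens i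

theorem getG_nil (i : ℕ) : getG [] i = ([], one, one) := rfl
theorem getG_zero (g : List ℕ × ℕ × ℕ) (gs : List (List ℕ × ℕ × ℕ)) : getG (g :: gs) 0 = g := rfl
theorem getG_succ (g : List ℕ × ℕ × ℕ) (gs : List (List ℕ × ℕ × ℕ)) (i : ℕ) : getG (g :: gs) (i + 1) = getG gs i := rfl

/-- conjugation along a path -/
noncomputable def pathN (gens : List (List ℕ × ℕ × ℕ)) (c : ℕ) (path : List ℕ) : ℕ :=
  List.rec (motive := fun _ => ℕ → ℕ) (fun c => c)
    (fun i _ ih c => ih (mulN (getG gens i).2.1 (mulN c (getG gens i).2.2))) path c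

theorem pathN_nil (gens : List (List ℕ × ℕ × ℕ)) (c : ℕ) : pathN gens c [] = c := rfl
theorem pathN_cons (gens : List (List ℕ × ℕ × ℕ)) (c i : ℕ) (path : List ℕ) :
    pathN gens c (i :: path) = pathN gens (mulN (getG gens i).2.1 (mulN c (getG gens i).2.2)) path := rfl

/-- list equality -/
def eqL (x y : List ℕ) : Bool :=
  List.rec (motive := fun _ => List ℕ → Bool)
    (fun y => List.rec (motive := fun _ => Bool) true (fun _ _ _ => false) y)
    (fun a _ ih y => List.rec (motive := fun _ => Bool) false (fun b y' _ => cond (Nat.beq a b) (ih y') false) y) x y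

theorem eqL_spec : ∀ {x y : List ℕ}, eqL x y = true → x = y
  | [], [], _ => rfl
  | [], _ :: _, h => absurd (show false = true from h) (by decide)
  | _ :: _, [], h => absurd (show false = true from h) (by decide)
  | a :: x, b :: y, h => by
    change cond (Nat.beq a b) (eqL x y) false = true at h
    cases hab : Nat.beq a b with
    | false => rw [hab] at h; simp at h
    | true =>
      rw [hab, cond_true] at h
      rw [Nat.eq_of_beq_eq_true hab, eqL_spec h]

/-- membership in `F` on codes -/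
noncomputable def inFb (c : ℕ) : Bool :=
  cond (Nat.beq c (gN 15)) true (force (Nat.shiftRight c 9) fun l => force (Nat.land c 511) fun q =>
    cond (anyL (fun p => cond (Nat.beq p.1 l) (tb p.2 q) false) tabB) true
      (anyL (fun p => cond (Nat.beq p.1 l) (tb p.2 q) false) tabA))

/-- the target tuple -/
def target : List ℕ := [0x182308802008830080202, 0x22dc88164aaafa82b5a2, 0x80b008021280b0080300, 0x18a72ca96a088700a1700,
  0x80a44a32c080200a1300]

/-- `k`-th entry -/
def nth (x : List ℕ) (k : ℕ) : ℕ := x.getD k one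

/-- the last condition on a complete tuple `(b, d, f, g, e)` -/
noncomputable def fin (x : List ℕ) : Bool :=
  force (mulN (nth x 1) (mulN (nth x 4) (mulN (nth x 2) (nth x 3)))) fun w =>
  force (mulN w w) fun w2 =>
  cond (Nat.beq (mulN w (mulN w2 w2)) (gN 0)) (inFb (mulN (nth x 0) (mulN (nth x 4) (mulN (nth x 3) (gN 0))))) false

/-- the check of a node -/
noncomputable def chkNode (nodes : List Node) (N : Node) : Bool :=
  cond (allL (fun g => cond (Nat.beq (wN g.1) g.2.1) (cond (Nat.beq (wN g.1.reverse) g.2.2)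
      (cond (Nat.beq (mulN g.2.1 (gN 0)) (mulN (gN 0) g.2.1))
        (allL (fun p => Nat.beq (mulN g.2.1 p) (mulN p g.2.1)) N.1) false) false) false) N.2.1)
    (cond (allL (fun c => cond (passes N.1 (ords N.1.length) c)
        (anyL (fun en => cond (Nat.beq en.1 c) (anyL (fun r => Nat.beq r (pathN N.2.1 c en.2)) N.2.2.2) false) N.2.2.1) true)
        listK)
      (allL (fun r => cond (Nat.beq N.1.length 4) (cond (fin (N.1 ++ [r])) (eqL (N.1 ++ [r]) target) true)
        (anyL (fun N' => eqL N'.1 (N.1 ++ [r])) nodes)) N.2.2.2) false) false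

theorem chkNodes : allL (chkNode nodes) nodes = true := by decide +kernel

/-! ### the argument -/

section

variable {C : Type*} [Group C] {t : C} {ev : QM →* C} {D : ℕ → C} {R : Rels false t ev D}

theorem testO_spec (A : Data R) {o : ℕ} (ho : o = 2 ∨ o = 3 ∨ o = 4) {z : C} (hz : orderOf z = o) :
    testO o (cd ev D z) = true := by
  have h1 : ∀ w : C, w ≠ 1 → Nat.beq (cd ev D w) one = false := by
    intro w hw
    cases h : Nat.beq (cd ev D w) one with
    | false => rfl
    | true =>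
      have := Nat.eq_of_beq_eq_true h
      rw [← cd_one A] at this
      exact absurd ((cd_inj A).1 this) hw
  have h2 : ∀ w : C, w = 1 → Nat.beq (cd ev D w) one = true := by
    rintro w rfl
    rw [cd_one A, Nat.beq_refl]
  have hpow : ∀ n : ℕ, 0 < n → n < o → z ^ n ≠ 1 := by
    intro n hn hno
    rw [← hz] at hno
    exact pow_ne_one_of_lt_orderOf hn.ne' hno
  have hone : z ^ o = 1 := by rw [← hz]; exact pow_orderOf_eq_one z
  unfold testO
  rw [force_eq]
  rcases ho with rfl | rfl | rfl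
  · have e1 := h1 z (by have := hpow 1 (by norm_num) (by norm_num); rwa [pow_one] at this)
    have e2 := h2 (z * z) (by rw [← pow_two]; exact hone)
    rw [← cd_mul A, e1, e2]
    rfl
  · have e1 := h1 z (by have := hpow 1 (by norm_num) (by norm_num); rwa [pow_one] at this)
    have e2 := h2 (z * (z * z)) (by rw [← pow_two, ← pow_succ']; exact hone)
    rw [force_eq, force_eq, ← cd_mul A, ← cd_mul A, e1, e2]
    rfl
  · have e1 := h1 (z * z) (by have := hpow 2 (by norm_num) (by norm_num); rwa [pow_two] at this)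
    have e2 := h2 (z * z * (z * z)) (by rw [← pow_two, ← pow_two, ← pow_mul]; exact hone)
    rw [force_eq, force_eq, ← cd_mul A, ← cd_mul A, ← cd_mul A, e1, e2]
    rfl

/-- the tuples `(b', d', f', g', e')` -/
structure Good (t : C) (D : ℕ → C) (y : ℕ → C) : Prop where
  mem : ∀ i < 5, InF t D (y i)
  comm : ∀ i < 5, D 0 * y i = y i * D 0
  o01 : orderOf (y 0 * y 1) = 3
  o02 : orderOf (y 0 * y 2) = 2
  o12 : orderOf (y 1 * y 2) = 2
  o03 : orderOf (y 0 * y 3) = 2
  o13 : orderOf (y 1 * y 3) = 4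
  o23 : orderOf (y 2 * y 3) = 3
  o04 : orderOf (y 0 * y 4) = 2
  o14 : orderOf (y 1 * y 4) = 3
  o24 : orderOf (y 2 * y 4) = 3
  o34 : orderOf (y 3 * y 4) = 2
  w : (y 1 * y 4 * y 2 * y 3) ^ 5 = D 0
  beg : InF t D (y 0 * y 4 * y 3 * D 0)

theorem orderOf_conj (k z w : C) : orderOf (k * z * k⁻¹ * (k * w * k⁻¹)) = orderOf (z * w) := by
  have e : k * z * k⁻¹ * (k * w * k⁻¹) = k * (z * w) * k⁻¹ := by group
  rw [e]
  exact (MulAut.conj k).orderOf_eq (z * w)

include R in
theorem Good.conj {y : ℕ → C} (h : Good t D y) {k : C} (hk : k * D 0 = D 0 * k) :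
    Good t D (fun i => k * y i * k⁻¹) := by
  have hk' : k * D 0 * k⁻¹ = D 0 := by rw [hk, mul_inv_cancel_right]
  refine ⟨fun i hi => InF_conj (h.mem i hi) R.cent k, fun i hi => ?_, ?_, ?_, ?_, ?_, ?_, ?_, ?_, ?_, ?_, ?_, ?_, ?_⟩
  · calc D 0 * (k * y i * k⁻¹) = k * D 0 * k⁻¹ * (k * y i * k⁻¹) := by rw [hk']
      _ = k * (D 0 * y i) * k⁻¹ := by group
      _ = k * (y i * D 0) * k⁻¹ := by rw [h.comm i hi]
      _ = k * y i * k⁻¹ * (k * D 0 * k⁻¹) := by group
      _ = k * y i * k⁻¹ * D 0 := by rw [hk']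
  · rw [orderOf_conj]; exact h.o01
  · rw [orderOf_conj]; exact h.o02
  · rw [orderOf_conj]; exact h.o12
  · rw [orderOf_conj]; exact h.o03
  · rw [orderOf_conj]; exact h.o13
  · rw [orderOf_conj]; exact h.o23
  · rw [orderOf_conj]; exact h.o04
  · rw [orderOf_conj]; exact h.o14
  · rw [orderOf_conj]; exact h.o24
  · rw [orderOf_conj]; exact h.o34
  · have e : k * y 1 * k⁻¹ * (k * y 4 * k⁻¹) * (k * y 2 * k⁻¹) * (k * y 3 * k⁻¹) =
        k * (y 1 * y 4 * y 2 * y 3) * k⁻¹ := by group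
    show (k * y 1 * k⁻¹ * (k * y 4 * k⁻¹) * (k * y 2 * k⁻¹) * (k * y 3 * k⁻¹)) ^ 5 = D 0
    rw [e, conj_pow, h.w, hk']
  · have e : k * y 0 * k⁻¹ * (k * y 4 * k⁻¹) * (k * y 3 * k⁻¹) * D 0 =
        k * (y 0 * y 4 * y 3 * D 0) * k⁻¹ := by
      calc k * y 0 * k⁻¹ * (k * y 4 * k⁻¹) * (k * y 3 * k⁻¹) * D 0
          = k * y 0 * k⁻¹ * (k * y 4 * k⁻¹) * (k * y 3 * k⁻¹) * (k * D 0 * k⁻¹) := by rw [hk']
        _ = k * (y 0 * y 4 * y 3 * D 0) * k⁻¹ := by group
    show InF t D (k * y 0 * k⁻¹ * (k * y 4 * k⁻¹) * (k * y 3 * k⁻¹) * D 0)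
    rw [e]
    exact InF_conj h.beg R.cent k

/-- the codes of the first `k` entries -/
noncomputable def pre (ev : QM →* C) (D : ℕ → C) (y : ℕ → C) (k : ℕ) : List ℕ := (List.range k).map fun i => cd ev D (y i)

theorem pre_succ (y : ℕ → C) (k : ℕ) : pre ev D y (k + 1) = pre ev D y k ++ [cd ev D (y k)] := by
  unfold pre
  rw [List.range_succ, List.map_append]
  rfl

theorem pre_length (y : ℕ → C) (k : ℕ) : (pre ev D y k).length = k := by
  unfold pre
  rw [List.length_map, List.length_range]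

theorem passes_spec (A : Data R) {y : ℕ → C} (h : Good t D y) {k : ℕ} (hk : k < 5) :
    passes (pre ev D y k) (ords k) (cd ev D (y k)) = true := by
  have T2 : ∀ {z w : C}, orderOf (z * w) = 2 → testO 2 (mulN (cd ev D z) (cd ev D w)) = true := by
    intro z w hzw
    rw [← cd_mul A]; exact testO_spec A (Or.inl rfl) hzw
  have T3 : ∀ {z w : C}, orderOf (z * w) = 3 → testO 3 (mulN (cd ev D z) (cd ev D w)) = true := by
    intro z w hzw
    rw [← cd_mul A]; exact testO_spec A (Or.inr (Or.inl rfl)) hzw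
  have T4 : ∀ {z w : C}, orderOf (z * w) = 4 → testO 4 (mulN (cd ev D z) (cd ev D w)) = true := by
    intro z w hzw
    rw [← cd_mul A]; exact testO_spec A (Or.inr (Or.inr rfl)) hzw
  interval_cases k
  · rfl
  · show passes [cd ev D (y 0)] [3] (cd ev D (y 1)) = true
    rw [passes_cons, T3 h.o01]; rfl
  · show passes [cd ev D (y 0), cd ev D (y 1)] [2, 2] (cd ev D (y 2)) = true
    rw [passes_cons, T2 h.o02, cond_true, passes_cons, T2 h.o12]; rfl
  · show passes [cd ev D (y 0), cd ev D (y 1), cd ev D (y 2)] [2, 4, 3] (cd ev D (y 3)) = true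
    rw [passes_cons, T2 h.o03, cond_true, passes_cons, T4 h.o13, cond_true, passes_cons, T3 h.o23]; rfl
  · show passes [cd ev D (y 0), cd ev D (y 1), cd ev D (y 2), cd ev D (y 3)] [2, 3, 3, 2] (cd ev D (y 4)) = true
    rw [passes_cons, T2 h.o04, cond_true, passes_cons, T3 h.o14, cond_true, passes_cons, T3 h.o24, cond_true,
      passes_cons, T2 h.o34]; rfl

theorem cond_and {a : Bool} {b : Bool} (h : cond a b false = true) : a = true ∧ b = true := by
  cases a with
  | false => simp at h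
  | true => exact ⟨rfl, h⟩

theorem getG_cases (gens : List (List ℕ × ℕ × ℕ)) (i : ℕ) :
    getG gens i ∈ gens ∨ getG gens i = ([], one, one) := by
  induction gens generalizing i with
  | nil => exact Or.inr (getG_nil i)
  | cons g gs ih =>
    cases i with
    | zero => exact Or.inl List.mem_cons_self
    | succ i =>
      rw [getG_succ]
      rcases ih i with h | h
      · exact Or.inl (List.mem_cons_of_mem _ h)
      · exact Or.inr h

theorem path_spec (A : Data R) {N1 : List ℕ} {gens : List (List ℕ × ℕ × ℕ)}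
    (hg : allL (fun g => cond (Nat.beq (wN g.1) g.2.1) (cond (Nat.beq (wN g.1.reverse) g.2.2)
      (cond (Nat.beq (mulN g.2.1 (gN 0)) (mulN (gN 0) g.2.1))
        (allL (fun p => Nat.beq (mulN g.2.1 p) (mulN p g.2.1)) N1) false) false) false) gens = true)
    (path : List ℕ) : ∀ z : C, ∃ h : C, h * D 0 = D 0 * h ∧ (∀ u : C, cd ev D u ∈ N1 → h * u = u * h) ∧
      cd ev D (h * z * h⁻¹) = pathN gens (cd ev D z) path := by
  induction path with
  | nil =>
    intro z
    refine ⟨1, by simp, by simp, ?_⟩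
    rw [pathN_nil, one_mul, inv_one, mul_one]
  | cons i path ih =>
    intro z
    have key : ∃ γ : C, γ * D 0 = D 0 * γ ∧ (∀ u : C, cd ev D u ∈ N1 → γ * u = u * γ) ∧
        cd ev D γ = (getG gens i).2.1 ∧ cd ev D γ⁻¹ = (getG gens i).2.2 := by
      rcases getG_cases gens i with h | h
      · have h1 := allL_spec hg _ h
        generalize getG gens i = g at h1
        obtain ⟨e1, h2⟩ := cond_and h1
        obtain ⟨e2, h3⟩ := cond_and h2
        obtain ⟨e3, e4⟩ := cond_and h3
        refine ⟨wv ev D g.1, ?_, ?_, ?_, ?_⟩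
        · rw [← cd_inj A, cd_mul A, cd_mul A, cd_wv A, Nat.eq_of_beq_eq_true e1, cd_D A (by norm_num)]
          exact Nat.eq_of_beq_eq_true e3
        · intro u hu
          have h5 := allL_spec e4 _ hu
          rw [← cd_inj A, cd_mul A, cd_mul A, cd_wv A, Nat.eq_of_beq_eq_true e1]
          exact Nat.eq_of_beq_eq_true h5
        · rw [cd_wv A]; exact Nat.eq_of_beq_eq_true e1
        · rw [← wv_reverse A, cd_wv A]; exact Nat.eq_of_beq_eq_true e2
      · rw [h]
        exact ⟨1, by simp, by simp, cd_one A, by rw [inv_one]; exact cd_one A⟩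
    obtain ⟨γ, g1, g2, g3, g4⟩ := key
    obtain ⟨h, h1, h2, h3⟩ := ih (γ * z * γ⁻¹)
    refine ⟨h * γ, ?_, ?_, ?_⟩
    · rw [mul_assoc, g1, ← mul_assoc, h1, mul_assoc]
    · intro u hu
      rw [mul_assoc, g2 u hu, ← mul_assoc, h2 u hu, mul_assoc]
    · rw [pathN_cons, ← g3, ← g4, ← cd_mul A, ← cd_mul A, ← mul_assoc, ← h3]
      congr 1
      group

/-- one step -/
theorem step (A : Data R) {y : ℕ → C} (h : Good t D y) {k : ℕ} (hk : k < 5) {N : Node} (hN : N ∈ nodes)
    (hpre : N.1 = pre ev D y k) : ∃ c : C, c * D 0 = D 0 * c ∧ (∀ i < k, c * y i = y i * c) ∧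
      cd ev D (c * y k * c⁻¹) ∈ N.2.2.2 := by
  have h0 := allL_spec chkNodes N hN
  obtain ⟨hg, h1⟩ := cond_and h0
  obtain ⟨he, _⟩ := cond_and h1
  have hc := cd_mem_listK A (h.mem k hk) (h.comm k hk)
  have h2 := allL_spec he _ hc
  have hlen : N.1.length = k := by rw [hpre, pre_length]
  rw [hlen, hpre, passes_spec A h hk, cond_true] at h2
  obtain ⟨en, hen, h3⟩ := anyL_spec h2
  obtain ⟨e1, h4⟩ := cond_and h3
  obtain ⟨r, hr, h5⟩ := anyL_spec h4
  obtain ⟨c, c1, c2, c3⟩ := path_spec A hg en.2 (y k)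
  refine ⟨c, c1, fun i hi => c2 _ ?_, ?_⟩
  · rw [hpre]
    exact List.mem_map.2 ⟨i, List.mem_range.2 hi, rfl⟩
  · rw [c3, ← Nat.eq_of_beq_eq_true h5]
    exact hr

theorem inFb_spec {c : ℕ} (h : FC c) : inFb c = true := by
  have key : ∀ T : List (ℕ × ℕ), InT T c →
      anyL (fun p => cond (Nat.beq p.1 (Nat.shiftRight c 9)) (tb p.2 (Nat.land c 511)) false) T = true := by
    rintro T ⟨p, hp, q, hq, hb, rfl⟩
    have e1 : Nat.shiftRight (q + 512 * p.1) 9 = p.1 := by
      show (q + 512 * p.1) >>> 9 = p.1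
      rw [Nat.shiftRight_eq_div_pow]; omega
    have e2 : Nat.land (q + 512 * p.1) 511 = q := by
      show (q + 512 * p.1) &&& 511 = q
      rw [show (511 : ℕ) = 2 ^ 9 - 1 by norm_num, Nat.and_two_pow_sub_one_eq_mod]; omega
    rw [e1, e2]
    clear e1 e2
    induction T with
    | nil => simp at hp
    | cons a T ih =>
      show cond (cond (Nat.beq a.1 p.1) (tb a.2 q) false) true
        (anyL (fun p' => cond (Nat.beq p'.1 p.1) (tb p'.2 q) false) T) = true
      rcases List.mem_cons.1 hp with rfl | hp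
      · rw [Nat.beq_refl, cond_true, tb_eq, hb]; rfl
      · rw [ih hp]
        cases cond (Nat.beq a.1 p.1) (tb a.2 q) false <;> rfl
  unfold inFb
  rcases h with rfl | h | h
  · rw [Nat.beq_refl]; rfl
  · rw [force_eq, force_eq, key _ h]
    cases Nat.beq c (gN 15) <;> rfl
  · rw [force_eq, force_eq, key _ h]
    generalize anyL (fun p => cond (Nat.beq p.1 (Nat.shiftRight c 9)) (tb p.2 (Nat.land c 511)) false) tabB = b1
    cases Nat.beq c (gN 15) <;> cases b1 <;> rfl

theorem fin_spec (A : Data R) {y : ℕ → C} (h : Good t D y) : fin (pre ev D y 5) = true := by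
  have n0 : nth (pre ev D y 5) 0 = cd ev D (y 0) := rfl
  have n1 : nth (pre ev D y 5) 1 = cd ev D (y 1) := rfl
  have n2 : nth (pre ev D y 5) 2 = cd ev D (y 2) := rfl
  have n3 : nth (pre ev D y 5) 3 = cd ev D (y 3) := rfl
  have n4 : nth (pre ev D y 5) 4 = cd ev D (y 4) := rfl
  unfold fin
  rw [n0, n1, n2, n3, n4, force_eq, force_eq, ← cd_mul A, ← cd_mul A, ← cd_mul A, ← cd_mul A, ← cd_mul A, ← cd_mul A,
    ← cd_D A (show 0 < 7 by norm_num), ← cd_mul A, ← cd_mul A, ← cd_mul A]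
  have e1 : y 1 * (y 4 * (y 2 * y 3)) * (y 1 * (y 4 * (y 2 * y 3)) * (y 1 * (y 4 * (y 2 * y 3))) *
      (y 1 * (y 4 * (y 2 * y 3)) * (y 1 * (y 4 * (y 2 * y 3))))) = D 0 := by
    rw [← h.w]
    simp only [pow_succ, pow_zero, one_mul, mul_assoc]
  have e2 : y 0 * (y 4 * (y 3 * D 0)) = y 0 * y 4 * y 3 * D 0 := by simp only [mul_assoc]
  rw [e1, Nat.beq_refl, cond_true, e2]
  exact inFb_spec (FC_of_InF A h.beg)

/-- **Conjugacy of the good tuples.** -/
theorem exists_conj (A : Data R) {y : ℕ → C} (h : Good t D y) :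
    ∃ c : C, c * D 0 = D 0 * c ∧ pre ev D (fun i => c * y i * c⁻¹) 5 = target := by
  -- induction over the levels
  have key : ∀ k : ℕ, k < 5 → ∃ c : C, c * D 0 = D 0 * c ∧
      ∃ N ∈ nodes, N.1 = pre ev D (fun i => c * y i * c⁻¹) k := by
    intro k
    induction k with
    | zero =>
      intro _
      refine ⟨1, by simp, nodes.head (by decide), List.head_mem _, rfl⟩
    | succ k ih =>
      intro hk
      obtain ⟨c, hc, N, hN, hpre⟩ := ih (by omega)
      have hG := h.conj (R := R) hc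
      obtain ⟨c', h1, h2, h3⟩ := step A hG (by omega) hN hpre
      refine ⟨c' * c, by rw [mul_assoc, hc, ← mul_assoc, h1, mul_assoc], ?_⟩
      have h0 := allL_spec chkNodes N hN
      obtain ⟨_, h4⟩ := cond_and h0
      obtain ⟨_, h5⟩ := cond_and h4
      have h6 := allL_spec h5 _ h3
      have hlen : N.1.length = k := by rw [hpre, pre_length]
      have hne : Nat.beq N.1.length 4 = false := by
        rw [hlen]
        cases hb : Nat.beq k 4 with
        | false => rfl
        | true => have := Nat.eq_of_beq_eq_true hb; omega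
      rw [hne, cond_false] at h6
      obtain ⟨N', hN', h7⟩ := anyL_spec h6
      refine ⟨N', hN', ?_⟩
      rw [eqL_spec h7, pre_succ, hpre]
      congr 1
      · unfold pre
        apply List.map_congr_left
        intro i hi
        have hi' := h2 i (List.mem_range.1 hi)
        congr 1
        calc c * y i * c⁻¹ = (c * y i * c⁻¹) * c' * c'⁻¹ := by group
          _ = c' * (c * y i * c⁻¹) * c'⁻¹ := by rw [hi']
          _ = c' * c * y i * (c' * c)⁻¹ := by group
      · congr 2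
        group
  obtain ⟨c, hc, N, hN, hpre⟩ := key 4 (by norm_num)
  have hG := h.conj (R := R) hc
  obtain ⟨c', h1, h2, h3⟩ := step A hG (by norm_num) hN hpre
  have hcc : c' * c * D 0 = D 0 * (c' * c) := by rw [mul_assoc, hc, ← mul_assoc, h1, mul_assoc]
  refine ⟨c' * c, hcc, ?_⟩
  have h0 := allL_spec chkNodes N hN
  obtain ⟨_, h4⟩ := cond_and h0
  obtain ⟨_, h5⟩ := cond_and h4
  have h6 := allL_spec h5 _ h3
  have hlen : N.1.length = 4 := by rw [hpre, pre_length]
  rw [hlen, Nat.beq_refl, cond_true] at h6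
  have e : N.1 ++ [cd ev D (c' * (c * y 4 * c⁻¹) * c'⁻¹)] = pre ev D (fun i => c' * c * y i * (c' * c)⁻¹) 5 := by
    rw [pre_succ, hpre]
    congr 1
    · unfold pre
      apply List.map_congr_left
      intro i hi
      have hi' := h2 i (List.mem_range.1 hi)
      congr 1
      calc c * y i * c⁻¹ = (c * y i * c⁻¹) * c' * c'⁻¹ := by group
        _ = c' * (c * y i * c⁻¹) * c'⁻¹ := by rw [hi']
        _ = c' * c * y i * (c' * c)⁻¹ := by group
    · congr 2
      group
  rw [e, fin_spec A (h.conj (R := R) hcc), cond_true] at h6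
  exact eqL_spec h6

end

end Cfsg.Agent.Co2Type.Tuple
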