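import Cfsg.Agent.Co2Type.Tuple
import Cfsg.Agent.Co2Type.CommOut

/-!
# Piece (C-ii): a swap of `t` and `D 0` can be corrected to the explicit one (R03, helper757)

Input: Letter B (`t^G ∩ C`) and an `x₀` with `x₀⁻¹ t x₀ = D 0`, `x₀⁻¹ (D 0) x₀ = t`.
Output: `x` with `x⁻¹ u x = u*` for `u = t, a, b, d, e, f, g` (hypotheses of `CommOut.relations`).
-/

set_option autoImplicit false

namespace Cfsg.Agent.Co2Type.TupleOut

open Cfsg.Agent.Co2Type.QModel Cfsg.Agent.Co2Type.Act Cfsg.Agent.Co2Type.Rels Cfsg.Agent.Co2Type.CCode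
open Cfsg.Agent.Co2Type.FList Cfsg.Agent.Co2Type.Tuple Cfsg.Agent.Co2Type.CommChk Cfsg.Agent.Co2Type.CommOut

section orders

variable {C : Type*} [Group C] {t : C} {ev : QM →* C} {D : ℕ → C} {R : Rels false t ev D}

theorem wv_ne_one (A : Data R) {w : List ℕ} (h : Nat.beq (wN w) one = false) : wv ev D w ≠ 1 := by
  intro e
  have h1 : wN w = one := by rw [← cd_wv A, e, cd_one A]
  rw [h1, Nat.beq_refl] at h
  exact Bool.noConfusion h

theorem wv_eq_one (A : Data R) {w : List ℕ} (h : wN w = one) : wv ev D w = 1 := by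
  rw [← cd_inj A, cd_wv A, cd_one A, h]

theorem order2 (A : Data R) {w : List ℕ} (h1 : Nat.beq (wN w) one = false) (h2 : wN (w ++ w) = one) :
    orderOf (wv ev D w) = 2 := by
  have : Fact (Nat.Prime 2) := ⟨Nat.prime_two⟩
  refine orderOf_eq_prime ?_ (wv_ne_one A h1)
  rw [pow_two, ← wv_append]
  exact wv_eq_one A h2

theorem order3 (A : Data R) {w : List ℕ} (h1 : Nat.beq (wN w) one = false) (h2 : wN (w ++ (w ++ w)) = one) :
    orderOf (wv ev D w) = 3 := by
  have : Fact (Nat.Prime 3) := ⟨Nat.prime_three⟩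
  refine orderOf_eq_prime ?_ (wv_ne_one A h1)
  rw [pow_succ', pow_two, ← wv_append, ← wv_append]
  exact wv_eq_one A h2

theorem order4 (A : Data R) {w : List ℕ} (h1 : Nat.beq (wN (w ++ w)) one = false)
    (h2 : wN ((w ++ w) ++ (w ++ w)) = one) : orderOf (wv ev D w) = 4 := by
  have : Fact (Nat.Prime 2) := ⟨Nat.prime_two⟩
  have h := orderOf_eq_prime_pow (p := 2) (n := 1) (x := wv ev D w) ?_ ?_
  · simpa using h
  · rw [pow_one, pow_two, ← wv_append]
    exact wv_ne_one A h1
  · have e : (wv ev D w) ^ 2 ^ (1 + 1) = wv ev D w * wv ev D w * (wv ev D w * wv ev D w) := by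
      rw [show (2 : ℕ) ^ (1 + 1) = 2 * 2 by norm_num, pow_mul, pow_two, pow_two]
    rw [e, ← wv_append, ← wv_append]
    exact wv_eq_one A h2

end orders

/-- the five words `b, d, f, g, e` -/
def ww (i : ℕ) : List ℕ :=
  match i with
  | 0 => w_b
  | 1 => w_d
  | 2 => w_f
  | 3 => w_g
  | 4 => w_e
  | _ => []

/-- the five words `b*, d*, f*, g*, e*` -/
def wws (i : ℕ) : List ℕ :=
  match i with
  | 0 => w_bs
  | 1 => w_ds
  | 2 => w_fs
  | 3 => w_gs
  | 4 => w_es
  | _ => []

theorem target_eq : ∀ i < 5, nth target i = wN (wws i) := by decide +kernel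

theorem ww_comm : ∀ i < 6, wN (0 :: ww i) = wN (ww i ++ [0]) := by decide +kernel

variable {G : Type*} [Group G] {t : G} {tc : Subgroup.centralizer ({t} : Set G)}
  {ev : QM →* Subgroup.centralizer ({t} : Set G)} {D : ℕ → Subgroup.centralizer ({t} : Set G)}
  {R : Rels false tc ev D}

theorem exists_x (A : Data R) (htc : (tc : G) = t)
    (hfus : ∀ y : Subgroup.centralizer ({t} : Set G), IsConj t (y : G) → InF tc D y)
    (hbeta : IsConj t (D 0 : G))
    (halpha : IsConj t ((tc * D 3 * D 5 * D 6 : Subgroup.centralizer ({t} : Set G)) : G))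
    {x0 : G} (h1 : x0⁻¹ * t * x0 = D 0) (h2 : x0⁻¹ * (D 0 : G) * x0 = t) :
    ∃ x : G, x⁻¹ * t * x = wg ev D w_a ∧ x⁻¹ * wg ev D w_a * x = t ∧
      x⁻¹ * wg ev D w_b * x = wg ev D w_bs ∧ x⁻¹ * wg ev D w_d * x = wg ev D w_ds ∧
      x⁻¹ * wg ev D w_e * x = wg ev D w_es ∧ x⁻¹ * wg ev D w_f * x = wg ev D w_fs ∧
      x⁻¹ * wg ev D w_g * x = wg ev D w_gs := by
  have hwa : wv ev D w_a = D 0 := by
    show wv ev D [0] = D 0
    rw [wv, wv, mul_one, gv_lt (by norm_num)]
  have hwga : wg ev D w_a = (D 0 : G) := by unfold wg; rw [hwa]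
  have hwt : wv ev D [15] = tc := by
    rw [wv, wv, mul_one, gv_t (R := R)]
  -- the map `u ↦ x₀⁻¹ u x₀` from `C_C(D 0)` to `C`
  let K : Subgroup (Subgroup.centralizer ({t} : Set G)) := Subgroup.centralizer {D 0}
  have hK : ∀ u : K, ((u : Subgroup.centralizer ({t} : Set G)) : G) * D 0 = D 0 * ((u : Subgroup.centralizer ({t} : Set G)) : G) := by
    intro u
    have := Subgroup.mem_centralizer_singleton_iff.1 u.2
    exact congrArg Subtype.val this
  have hmem : ∀ u : K, x0⁻¹ * ((u : Subgroup.centralizer ({t} : Set G)) : G) * x0 ∈ Subgroup.centralizer ({t} : Set G) := by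
    intro u
    rw [Subgroup.mem_centralizer_singleton_iff]
    calc x0⁻¹ * ((u : Subgroup.centralizer ({t} : Set G)) : G) * x0 * t
        = x0⁻¹ * ((u : Subgroup.centralizer ({t} : Set G)) : G) * x0 * (x0⁻¹ * (D 0 : G) * x0) := by rw [h2]
      _ = x0⁻¹ * (((u : Subgroup.centralizer ({t} : Set G)) : G) * D 0) * x0 := by group
      _ = x0⁻¹ * (D 0 * ((u : Subgroup.centralizer ({t} : Set G)) : G)) * x0 := by rw [hK]
      _ = (x0⁻¹ * (D 0 : G) * x0) * (x0⁻¹ * ((u : Subgroup.centralizer ({t} : Set G)) : G) * x0) := by group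
      _ = t * (x0⁻¹ * ((u : Subgroup.centralizer ({t} : Set G)) : G) * x0) := by rw [h2]
  let φ : K →* Subgroup.centralizer ({t} : Set G) :=
    { toFun := fun u => ⟨x0⁻¹ * ((u : Subgroup.centralizer ({t} : Set G)) : G) * x0, hmem u⟩
      map_one' := by
        apply Subtype.ext
        show x0⁻¹ * (1 : G) * x0 = 1
        group
      map_mul' := fun u v => by
        apply Subtype.ext
        show x0⁻¹ * (((u : Subgroup.centralizer ({t} : Set G)) : G) * ((v : Subgroup.centralizer ({t} : Set G)) : G)) * x0 =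
          x0⁻¹ * ((u : Subgroup.centralizer ({t} : Set G)) : G) * x0 * (x0⁻¹ * ((v : Subgroup.centralizer ({t} : Set G)) : G) * x0)
        group }
  have hφ : ∀ u : K, ((φ u : Subgroup.centralizer ({t} : Set G)) : G) = x0⁻¹ * ((u : Subgroup.centralizer ({t} : Set G)) : G) * x0 :=
    fun _ => rfl
  have hinj : Function.Injective φ := by
    intro u v h
    have h3 := congrArg (Subtype.val : Subgroup.centralizer ({t} : Set G) → G) h
    rw [hφ, hφ] at h3
    apply Subtype.ext
    apply Subtype.ext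
    calc ((u : Subgroup.centralizer ({t} : Set G)) : G)
        = x0 * (x0⁻¹ * ((u : Subgroup.centralizer ({t} : Set G)) : G) * x0) * x0⁻¹ := by group
      _ = x0 * (x0⁻¹ * ((v : Subgroup.centralizer ({t} : Set G)) : G) * x0) * x0⁻¹ := by rw [h3]
      _ = _ := by group
  have hKw : ∀ w : List ℕ, wN (0 :: w) = wN (w ++ [0]) → wv ev D w ∈ K := by
    intro w hw
    rw [Subgroup.mem_centralizer_singleton_iff]
    have := wv_eq A hw
    rw [wv, wv_append, gv_lt (by norm_num)] at this
    have e : wv ev D [0] = D 0 := hwa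
    rw [e] at this
    exact this.symm
  have hww : ∀ i, wN (0 :: ww i) = wN (ww i ++ [0]) := by
    intro i
    rcases Nat.lt_or_ge i 5 with hi | hi
    · exact ww_comm i (by omega)
    · have : ww i = [] := by
        unfold ww
        split <;> first | omega | rfl
      rw [this]
      rfl
  let k : ℕ → K := fun i => ⟨wv ev D (ww i), hKw _ (hww i)⟩
  have hk : ∀ i, ((k i : K) : Subgroup.centralizer ({t} : Set G)) = wv ev D (ww i) := fun _ => rfl
  have htK : tc ∈ K := by
    rw [Subgroup.mem_centralizer_singleton_iff]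
    exact (R.cent _).symm
  let kt : K := ⟨tc, htK⟩
  have hkt : φ kt = D 0 := by
    apply Subtype.ext
    rw [hφ]
    show x0⁻¹ * (tc : G) * x0 = D 0
    rw [htc, h1]
  have hord : ∀ i j, orderOf (φ (k i) * φ (k j)) = orderOf (wv ev D (ww i ++ ww j)) := by
    intro i j
    rw [← map_mul, orderOf_injective φ hinj, ← Subgroup.orderOf_coe, Subgroup.coe_mul, hk, hk, wv_append]
  have hconjG : ∀ u : K, IsConj t ((u : Subgroup.centralizer ({t} : Set G)) : G) → InF tc D (φ u) := by
    intro u hu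
    apply hfus
    rw [hφ]
    exact hu.trans (isConj_iff.2 ⟨x0⁻¹, by rw [inv_inv]⟩)
  -- the letters are conjugate to `t`
  have hletter : ∀ u : List ℕ, IsConj t (wg ev D (u ++ ([0] ++ u.reverse))) := fun u =>
    conj_word A u [0] (by
      have : wg ev D [0] = (D 0 : G) := hwga
      rw [this]; exact hbeta)
  have hb : ∀ i < 5, IsConj t (wg ev D (ww i)) := by
    intro i hi
    interval_cases i
    · have e : wg ev D (ww 0) = wg ev D ([2,6,1,2,0,1] ++ ([0] ++ [2,6,1,2,0,1].reverse)) := wg_eq A (by decide +kernel)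
      rw [e]; exact hletter _
    · have e : wg ev D (ww 1) = wg ev D ([8,1,2,0,1] ++ ([0] ++ [8,1,2,0,1].reverse)) := wg_eq A (by decide +kernel)
      rw [e]; exact hletter _
    · have e : wg ev D (ww 2) = wg ev D ([3,4,2,3,1,2,0,1] ++ ([0] ++ [3,4,2,3,1,2,0,1].reverse)) := wg_eq A (by decide +kernel)
      rw [e]; exact hletter _
    · have e : wg ev D (ww 3) = wg ev D ([4,5,3,4,2,3,1,2,0,1] ++ ([0] ++ [4,5,3,4,2,3,1,2,0,1].reverse)) :=
        wg_eq A (by decide +kernel)
      rw [e]; exact hletter _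
    · have e : wg ev D (ww 4) = wg ev D ([2,3,1,2,0,1] ++ ([0] ++ [2,3,1,2,0,1].reverse)) := wg_eq A (by decide +kernel)
      rw [e]; exact hletter _
  have hgood : Good tc D (fun i => φ (k i)) := by
    refine ⟨?_, ?_, ?_, ?_, ?_, ?_, ?_, ?_, ?_, ?_, ?_, ?_, ?_, ?_⟩
    · intro i hi
      exact hconjG (k i) (hb i hi)
    · intro i hi
      show D 0 * φ (k i) = φ (k i) * D 0
      rw [← hkt, ← map_mul, ← map_mul]
      congr 1
      apply Subtype.ext
      rw [Subgroup.coe_mul, Subgroup.coe_mul]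
      exact (R.cent _).symm
    · show orderOf (φ (k 0) * φ (k 1)) = 3
      rw [hord]; exact order3 A (by decide +kernel) (by decide +kernel)
    · show orderOf (φ (k 0) * φ (k 2)) = 2
      rw [hord]; exact order2 A (by decide +kernel) (by decide +kernel)
    · show orderOf (φ (k 1) * φ (k 2)) = 2
      rw [hord]; exact order2 A (by decide +kernel) (by decide +kernel)
    · show orderOf (φ (k 0) * φ (k 3)) = 2
      rw [hord]; exact order2 A (by decide +kernel) (by decide +kernel)
    · show orderOf (φ (k 1) * φ (k 3)) = 4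
      rw [hord]; exact order4 A (by decide +kernel) (by decide +kernel)
    · show orderOf (φ (k 2) * φ (k 3)) = 3
      rw [hord]; exact order3 A (by decide +kernel) (by decide +kernel)
    · show orderOf (φ (k 0) * φ (k 4)) = 2
      rw [hord]; exact order2 A (by decide +kernel) (by decide +kernel)
    · show orderOf (φ (k 1) * φ (k 4)) = 3
      rw [hord]; exact order3 A (by decide +kernel) (by decide +kernel)
    · show orderOf (φ (k 2) * φ (k 4)) = 3
      rw [hord]; exact order3 A (by decide +kernel) (by decide +kernel)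
    · show orderOf (φ (k 3) * φ (k 4)) = 2
      rw [hord]; exact order2 A (by decide +kernel) (by decide +kernel)
    · show (φ (k 1) * φ (k 4) * φ (k 2) * φ (k 3)) ^ 5 = D 0
      rw [← hkt, ← map_mul, ← map_mul, ← map_mul, ← map_pow]
      congr 1
      apply Subtype.ext
      rw [Subgroup.coe_pow, Subgroup.coe_mul, Subgroup.coe_mul, Subgroup.coe_mul, hk, hk, hk, hk]
      show (wv ev D (ww 1) * wv ev D (ww 4) * wv ev D (ww 2) * wv ev D (ww 3)) ^ 5 = tc
      rw [← wv_append, ← wv_append, ← wv_append, ← hwt, pow_succ, pow_succ, pow_succ, pow_succ, pow_one, ← wv_append,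
        ← wv_append, ← wv_append, ← wv_append]
      exact wv_eq A (by decide +kernel)
    · show InF tc D (φ (k 0) * φ (k 4) * φ (k 3) * D 0)
      rw [← hkt, ← map_mul, ← map_mul, ← map_mul]
      apply hconjG
      show IsConj t ((wv ev D (ww 0) * wv ev D (ww 4) * wv ev D (ww 3) * tc : Subgroup.centralizer ({t} : Set G)) : G)
      have e : wv ev D (ww 0) * wv ev D (ww 4) * wv ev D (ww 3) * tc = tc * D 3 * D 5 * D 6 := by
        have e1 : tc * D 3 * D 5 * D 6 = wv ev D [15, 3, 5, 6] := by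
          simp only [wv, gv_t (R := R), gv_lt (ev := ev) (D := D) (show 3 < 7 by norm_num),
            gv_lt (ev := ev) (D := D) (show 5 < 7 by norm_num), gv_lt (ev := ev) (D := D) (show 6 < 7 by norm_num),
            mul_one, mul_assoc]
        rw [e1, ← hwt, ← wv_append, ← wv_append, ← wv_append]
        exact wv_eq A (by decide +kernel)
      rw [e]; exact halpha
  obtain ⟨c, hc, hpre⟩ := exists_conj A hgood
  have hstar : ∀ i < 5, c * φ (k i) * c⁻¹ = wv ev D (wws i) := by
    intro i hi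
    rw [← cd_inj A, cd_wv A, ← target_eq i hi, ← hpre]
    interval_cases i <;> rfl
  -- the corrected swap
  have hcG : (c : G) * (D 0 : G) = (D 0 : G) * c := congrArg Subtype.val hc
  have hct : (c : G) * t = t * c := Subgroup.mem_centralizer_singleton_iff.1 c.2
  have fin : ∀ i < 5, (x0 * (c : G)⁻¹)⁻¹ * wg ev D (ww i) * (x0 * (c : G)⁻¹) = wg ev D (wws i) := by
    intro i hi
    have h3 := congrArg (Subtype.val : Subgroup.centralizer ({t} : Set G) → G) (hstar i hi)
    rw [Subgroup.coe_mul, Subgroup.coe_mul, Subgroup.coe_inv, hφ, hk] at h3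
    unfold wg
    rw [← h3]
    group
  refine ⟨x0 * (c : G)⁻¹, ?_, ?_, fin 0 (by norm_num), fin 1 (by norm_num), fin 4 (by norm_num), fin 2 (by norm_num),
    fin 3 (by norm_num)⟩
  · rw [hwga]
    calc (x0 * (c : G)⁻¹)⁻¹ * t * (x0 * (c : G)⁻¹) = c * (x0⁻¹ * t * x0) * (c : G)⁻¹ := by group
      _ = c * (D 0 : G) * (c : G)⁻¹ := by rw [h1]
      _ = D 0 := by rw [hcG, mul_inv_cancel_right]
  · rw [hwga]
    calc (x0 * (c : G)⁻¹)⁻¹ * (D 0 : G) * (x0 * (c : G)⁻¹) = c * (x0⁻¹ * (D 0 : G) * x0) * (c : G)⁻¹ := by group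
      _ = c * t * (c : G)⁻¹ := by rw [h2]
      _ = t := by rw [hct, mul_inv_cancel_right]

end Cfsg.Agent.Co2Type.TupleOut
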