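import Cfsg.Agent.Co2Type.WeakB1c

/-!
# `t` is weakly closed in `Q` in the spin case (R03, Co2 type, letter B, helper595)
-/

set_option autoImplicit false
open Cfsg

namespace Cfsg.Agent.Co2Type.WeakB1

open Cfsg.Agent.Co2Type.Quad Cfsg.Agent.Co2Type.Setup Cfsg.Agent.Co2Type.Spin
open Cfsg.Agent.Co2Type.Code Cfsg.Agent.Co2Type.Levi Cfsg.Agent.Co2Type.Pair
open Cfsg.Agent.SporRec.TwoSp6

variable {G : Type*} [Group G] {Q Q' : Subgroup G} {t t' : G} {S : Sit G Q t} {P : Ctx S}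

namespace Bad

variable (b : Bad P Q' t')

/-- the action of the element `r` with functional `(1,0,0)` on codes of `W` -/
def rc (c : ℕ) : ℕ := if c.testBit 6 then c ^^^ 128 else c

theorem rc_tr : ∀ i < 3, ∀ c < 256, c &&& 23 = 0 →
    stU (2 ^ i) c &&& 23 = 0 ∧ rc (stU (2 ^ i) c) = stU (2 ^ i) (rc c) := by decide +kernel

theorem rc_K1 : ∀ i < 3, ∀ j < 3, i ≠ j ∧ j ≠ 0 → ∀ c < 256, c &&& 23 = 0 →
    KV i j c &&& 23 = 0 := by decide +kernel

theorem rc_K2 : ∀ i < 3, ∀ j < 3, i ≠ j ∧ j ≠ 0 → ∀ c < 256, c &&& 23 = 0 →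
    rc (KV i j c) = KV i j (rc c) := by decide +kernel

theorem rc_lt : ∀ c < 256, rc c < 256 := by decide +kernel

include b

/-- the case `J = W` is impossible -/
theorem false_of_big [Finite G] (h8 : inJ P Q' (enc P.B 8)) (h32 : inJ P Q' (enc P.B 32))
    (h64 : inJ P Q' (enc P.B 64)) : False := by
  classical
  set D' := dsub Q' t with hD'
  have hcomm : ∀ d : D', (d : G) * t = t * d := fun d => (mem_dsub.1 d.2).2
  have hadd := S.large.add_self
  -- `W` is moved by multiples of `B7`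
  have hmove : ∀ (d : D') (v : S.large.V), inJ P Q' v →
      S.rho (S.ps (hcomm d)) v = v ∨ S.rho (S.ps (hcomm d)) v = v + P.B 7 := by
    rintro d _ ⟨x, hx, rfl⟩
    rw [S.rho_ps, ← b.B7, ← S.large.pr_mul, S.large.pr_eq_pr, S.large.pr_eq_pr]
    rcases b.h'.comm d (mem_dsub.1 d.2).1 x hx with h | h
    · left; left
      show (d : G) * x * (d : G)⁻¹ = x
      rw [h, mul_inv_cancel_right]
    · right; left
      show (d : G) * x * (d : G)⁻¹ = x * t'
      have hdt' : Commute (d : G) t' := b.h'.comm_z d (mem_dsub.1 d.2).1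
      rw [h, mul_assoc _ t', ← hdt'.inv_left.eq]; group
  let F : D' → S.large.V × (S.large.V × S.large.V) := fun d =>
    (S.rho (S.ps (hcomm d)) (enc P.B 8), (S.rho (S.ps (hcomm d)) (enc P.B 32),
      S.rho (S.ps (hcomm d)) (enc P.B 64)))
  let T : Finset (S.large.V × (S.large.V × S.large.V)) :=
    ({enc P.B 8, enc P.B 8 + P.B 7} : Finset S.large.V) ×ˢ
      (({enc P.B 32, enc P.B 32 + P.B 7} : Finset S.large.V) ×ˢ
        ({enc P.B 64, enc P.B 64 + P.B 7} : Finset S.large.V))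
  have hFT : ∀ d, F d ∈ T := by
    intro d
    simp only [F, T, Finset.mem_product, Finset.mem_insert, Finset.mem_singleton]
    exact ⟨hmove d _ h8, hmove d _ h32, hmove d _ h64⟩
  have hTc : T.card ≤ 8 := by
    simp only [T, Finset.card_product]
    calc _ ≤ 2 * (2 * 2) := Nat.mul_le_mul Finset.card_le_two
          (Nat.mul_le_mul Finset.card_le_two Finset.card_le_two)
      _ = 8 := by norm_num
  have hKc : Nat.card ((Q ⊓ Q').subgroupOf D') = 2 ^ 5 := by
    have hle : Q ⊓ Q' ≤ D' := fun x hx => mem_dsub'_of_mem_inf S.large hx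
    rw [Nat.card_congr (Subgroup.subgroupOfEquivOfLe hle).toEquiv]
    exact b.card_inf_of_big h8 h32 h64
  have hinv : ∀ d : D', (d : G)⁻¹ * t = t * (d : G)⁻¹ := fun d => hcomm d⁻¹
  have hps : ∀ x y : D', S.ps (hcomm (x⁻¹ * y)) = (S.ps (hcomm x))⁻¹ * S.ps (hcomm y) := by
    intro x y
    rw [← S.ps_inv (hcomm x) (hinv x)]
    exact S.ps_mul (hinv x) (hcomm y) (hcomm (x⁻¹ * y))
  have hpsm : ∀ x y : D', S.ps (hcomm (x * y)) = S.ps (hcomm x) * S.ps (hcomm y) := by
    intro x y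
    exact S.ps_mul (hcomm x) (hcomm y) (hcomm (x * y))
  have hFK : ∀ x y : D', F x = F y → x⁻¹ * y ∈ (Q ⊓ Q').subgroupOf D' := by
    intro x y hxy
    have e8 : S.rho (S.ps (hcomm x)) (enc P.B 8) = S.rho (S.ps (hcomm y)) (enc P.B 8) :=
      congrArg (fun z => z.1) hxy
    have e32 : S.rho (S.ps (hcomm x)) (enc P.B 32) = S.rho (S.ps (hcomm y)) (enc P.B 32) :=
      congrArg (fun z => z.2.1) hxy
    have e64 : S.rho (S.ps (hcomm x)) (enc P.B 64) = S.rho (S.ps (hcomm y)) (enc P.B 64) :=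
      congrArg (fun z => z.2.2) hxy
    have key : ∀ v, S.rho (S.ps (hcomm x)) v = S.rho (S.ps (hcomm y)) v →
        S.rho (S.ps (hcomm (x⁻¹ * y))) v = v := by
      intro v hv
      rw [hps, map_mul, LinearEquiv.mul_apply, ← hv, ← LinearEquiv.mul_apply, ← map_mul,
        inv_mul_cancel, map_one]
      rfl
    rw [Subgroup.mem_subgroupOf]
    exact b.mem_of_fix h8 h32 h64 (x⁻¹ * y).2 (hcomm (x⁻¹ * y)) (key _ e8) (key _ e32) (key _ e64)
  have hcard : T.card * Nat.card ((Q ⊓ Q').subgroupOf D') ≤ Nat.card D' := by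
    rw [hKc, b.card_D']
    calc T.card * 2 ^ 5 ≤ 8 * 2 ^ 5 := Nat.mul_le_mul_right _ hTc
      _ = 2 ^ 8 := by norm_num
  -- `psi` is determined by `F`
  have hFps : ∀ x y : D', F x = F y → S.ps (hcomm x) = S.ps (hcomm y) := by
    intro x y hxy
    have h1 := hFK x y hxy
    rw [Subgroup.mem_subgroupOf, Pair.mem_inf] at h1
    have h2 := (S.ps_eq_one (hcomm (x⁻¹ * y))).2 h1.1
    rw [hps, inv_mul_eq_one] at h2
    exact h2
  obtain ⟨d, hd⟩ := surj_of_fibre ((Q ⊓ Q').subgroupOf D') T F hFT hFK hcard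
    (c := (enc P.B 8, (enc P.B 32, enc P.B 64 + P.B 7))) (by
      simp only [T, Finset.mem_product, Finset.mem_insert, Finset.mem_singleton]
      exact ⟨Or.inl trivial, Or.inl trivial, Or.inr trivial⟩)
  have d8 : S.rho (S.ps (hcomm d)) (enc P.B 8) = enc P.B 8 := congrArg (fun z => z.1) hd
  have d32 : S.rho (S.ps (hcomm d)) (enc P.B 32) = enc P.B 32 := congrArg (fun z => z.2.1) hd
  have d64 : S.rho (S.ps (hcomm d)) (enc P.B 64) = enc P.B 192 := by
    have h1 : S.rho (S.ps (hcomm d)) (enc P.B 64) = enc P.B 64 + P.B 7 :=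
      congrArg (fun z => z.2.2) hd
    rw [h1, ← P.enc_128, ← enc_xor]
    rfl
  have d128 : S.rho (S.ps (hcomm d)) (enc P.B 128) = enc P.B 128 := by
    rw [P.enc_128]; exact b.rho_ps_B7 d.2 (hcomm d)
  -- the action of `r = psi d` on `W`
  have hr : ∀ c < 256, c &&& 23 = 0 → S.rho (S.ps (hcomm d)) (enc P.B c) = enc P.B (rc c) := by
    intro c hc hcW
    have h1 : ∀ c < 256, c &&& 23 = 0 → rc c = (if c.testBit 3 then 8 else 0) ^^^
        ((if c.testBit 5 then 32 else 0) ^^^ ((if c.testBit 6 then 192 else 0) ^^^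
        (if c.testBit 7 then 128 else 0))) := by decide +kernel
    rw [h1 c hc hcW]
    conv_lhs => rw [W_expand c hc hcW]
    rw [enc_xor, enc_xor, enc_xor, map_add, map_add, map_add, enc_xor, enc_xor, enc_xor]
    have g : ∀ (p : Bool) (k l : ℕ), S.rho (S.ps (hcomm d)) (enc P.B k) = enc P.B l →
        S.rho (S.ps (hcomm d)) (enc P.B (if p then k else 0)) = enc P.B (if p then l else 0) := by
      intro p k l hk
      split_ifs
      · exact hk
      · rw [enc_zero, map_zero]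
    rw [g _ _ _ d8, g _ _ _ d32, g _ _ _ d64, g _ _ _ d128]
  -- commutation with lifts
  have hcm : ∀ k : Sp6, S.rho k (P.B 7) = P.B 7 →
      (∀ c ∈ ([8, 32, 64] : List ℕ), S.rho (S.ps (hcomm d)) (S.rho k (enc P.B c)) =
        S.rho k (S.rho (S.ps (hcomm d)) (enc P.B c))) →
      k * S.ps (hcomm d) = S.ps (hcomm d) * k := by
    intro k hk hkc
    obtain ⟨a, ha, ha', rfl⟩ := S.exists_lift b.mem b.h'.z_ne b.ne k (by rw [b.B7]; exact hk)
    have hai : a⁻¹ * t = t * a⁻¹ := (show Commute a t from ha).inv_left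
    have hai' : a⁻¹ * t' = t' * a⁻¹ := (show Commute a t' from ha').inv_left
    have hmem : a⁻¹ * d * (a⁻¹)⁻¹ ∈ dsub Q' t := conj_mem_dsub b.h' hai' hai d.2
    have hd' : a⁻¹ * d * (a⁻¹)⁻¹ * t = t * (a⁻¹ * d * (a⁻¹)⁻¹) := (mem_dsub.1 hmem).2
    have hps' : S.ps (hcomm ⟨_, hmem⟩) = (S.ps ha)⁻¹ * S.ps (hcomm d) * S.ps ha := by
      rw [← S.ps_inv ha hai]
      have h1 : a⁻¹ * (d : G) * t = t * (a⁻¹ * d) := by
        rw [mul_assoc, hcomm d, ← mul_assoc, hai, mul_assoc]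
      have h2 : a⁻¹ * (d : G) * a * t = t * (a⁻¹ * d * a) := by
        rw [mul_assoc, ha, ← mul_assoc, h1, mul_assoc]
      rw [← S.ps_mul hai (hcomm d) h1, ← S.ps_mul h1 ha h2]
      unfold Sit.ps
      congr 1
      apply Subtype.ext
      show a⁻¹ * (d : G) * (a⁻¹)⁻¹ = a⁻¹ * d * a
      rw [inv_inv]
    have hFF : F ⟨_, hmem⟩ = F d := by
      have key : ∀ c ∈ ([8, 32, 64] : List ℕ), S.rho (S.ps (hcomm ⟨_, hmem⟩)) (enc P.B c) =
          S.rho (S.ps (hcomm d)) (enc P.B c) := by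
        intro c hc
        rw [hps', map_mul, map_mul, LinearEquiv.mul_apply, LinearEquiv.mul_apply, hkc c hc,
          ← LinearEquiv.mul_apply, ← map_mul, inv_mul_cancel, map_one]
        rfl
      show (_, (_, _)) = (_, (_, _))
      rw [key 8 (by simp), key 32 (by simp), key 64 (by simp)]
    have h3 := hFps _ _ hFF
    rw [hps', mul_assoc, inv_mul_eq_iff_eq_mul] at h3
    exact h3.symm
  have hctr : ∀ i < 3, Sp.tr (Sp.enc (2 ^ i)) * S.ps (hcomm d) =
      S.ps (hcomm d) * Sp.tr (Sp.enc (2 ^ i)) := by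
    intro i hi
    apply hcm _ (rho_tr_B7 P hi)
    intro c hc
    have hc2 : c < 256 ∧ c &&& 23 = 0 := by
      simp only [List.mem_cons, List.not_mem_nil, or_false] at hc
      rcases hc with rfl | rfl | rfl <;> decide
    obtain ⟨w1, w2⟩ := rc_tr i hi c hc2.1 hc2.2
    rw [P.rho_enc _ hc2.1, hr _ (stU_lt _ hc2.1) w1, w2, hr _ hc2.1 hc2.2,
      P.rho_enc _ (rc_lt c hc2.1)]
  have hcK : ∀ i < 3, ∀ j < 3, i ≠ j → j ≠ 0 → K i j * S.ps (hcomm d) =
      S.ps (hcomm d) * K i j := by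
    intro i hi j hj hij hj0
    apply hcm _ (rho_K_B7 P hi hj hij)
    intro c hc
    have hc2 : c < 256 ∧ c &&& 23 = 0 := by
      simp only [List.mem_cons, List.not_mem_nil, or_false] at hc
      rcases hc with rfl | rfl | rfl <;> decide
    have w1 := rc_K1 i hi j hj ⟨hij, hj0⟩ c hc2.1 hc2.2
    have w2 := rc_K2 i hi j hj ⟨hij, hj0⟩ c hc2.1 hc2.2
    rw [rho_K P _ _ hc2.1, hr _ (KV_lt _ _ hc2.1) w1, w2, hr _ hc2.1 hc2.2,
      rho_K P _ _ (rc_lt c hc2.1)]
  -- hence `r = d_{e_0}`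
  have hre : S.ps (hcomm d) = Sp.tr (e 0) := by
    rcases eq_tr_e0 hctr (hcK 0 (by norm_num) 1 (by norm_num) (by norm_num) (by norm_num))
      (hcK 0 (by norm_num) 2 (by norm_num) (by norm_num) (by norm_num))
      (hcK 1 (by norm_num) 2 (by norm_num) (by norm_num) (by norm_num))
      (hcK 2 (by norm_num) 1 (by norm_num) (by norm_num) (by norm_num)) with h | h
    · exfalso
      have h2 := d64
      rw [h, map_one] at h2
      have h3 : (64 : ℕ) = 192 := enc_inj P.B (by norm_num) (by norm_num) h2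
      norm_num at h3
    · exact h
  -- conjugates of `r`
  have hconj : ∀ (k : Sp6) (u : U), S.rho k (P.B 7) = P.B 7 →
      (∃ x : D', S.ps (hcomm x) = Sp.tr u) → ∃ x : D', S.ps (hcomm x) = Sp.tr (Sp.act k u) := by
    rintro k u hk ⟨x, hx⟩
    obtain ⟨a, ha, ha', rfl⟩ := S.exists_lift b.mem b.h'.z_ne b.ne k (by rw [b.B7]; exact hk)
    have hai : a⁻¹ * t = t * a⁻¹ := (show Commute a t from ha).inv_left
    have hmem : a * x * a⁻¹ ∈ dsub Q' t := conj_mem_dsub b.h' ha' ha x.2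
    refine ⟨⟨_, hmem⟩, ?_⟩
    have h1 : a * (x : G) * t = t * (a * x) := by
      rw [mul_assoc, hcomm x, ← mul_assoc, ha, mul_assoc]
    rw [← Sp.conj_tr, ← hx, ← S.ps_inv ha hai, ← S.ps_mul ha (hcomm x) h1]
    exact S.ps_mul h1 hai (mem_dsub.1 hmem).2
  have hm1 : ∃ x : D', S.ps (hcomm x) = Sp.tr (Sp.enc 1) := by
    refine ⟨d, ?_⟩
    rw [hre]
    exact congrArg Sp.tr (e_eq 0 (by norm_num)).symm
  have hm3 : ∃ x : D', S.ps (hcomm x) = Sp.tr (Sp.enc 3) := by
    have := hconj (K 1 0) _ (rho_K_B7 P (by norm_num) (by norm_num) (by norm_num)) hm1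
    rw [act_K] at this
    exact this
  have hm2 : ∃ x : D', S.ps (hcomm x) = Sp.tr (Sp.enc 2) := by
    have := hconj (K 0 1) _ (rho_K_B7 P (by norm_num) (by norm_num) (by norm_num)) hm3
    rw [act_K] at this
    exact this
  obtain ⟨x1, hx1⟩ := hm1
  obtain ⟨x2, hx2⟩ := hm2
  obtain ⟨x3, hx3⟩ := hm3
  have hps3 : S.ps (hcomm (x1 * (x2 * x3))) =
      Sp.tr (Sp.enc 1) * (Sp.tr (Sp.enc 2) * Sp.tr (Sp.enc 3)) := by
    rw [hpsm, hpsm, hx1, hx2, hx3]
  have hrho : ∀ c < 256, S.rho (S.ps (hcomm (x1 * (x2 * x3)))) (enc P.B c) =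
      enc P.B (stU 1 (stU 2 (stU 3 c))) := by
    intro c hc
    rw [hps3, map_mul, map_mul, LinearEquiv.mul_apply, LinearEquiv.mul_apply, P.rho_enc _ hc,
      P.rho_enc _ (stU_lt _ hc), P.rho_enc _ (stU_lt _ (stU_lt _ hc))]
  have hone : S.ps (hcomm 1) = 1 := by
    rw [S.ps_eq_one]; exact one_mem Q
  have hFF : F (x1 * (x2 * x3)) = F 1 := by
    show (_, (_, _)) = (_, (_, _))
    rw [hrho 8 (by norm_num), hrho 32 (by norm_num), hrho 64 (by norm_num), hone, map_one]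
    have c8 : stU 1 (stU 2 (stU 3 8)) = 8 := by decide +kernel
    have c32 : stU 1 (stU 2 (stU 3 32)) = 32 := by decide +kernel
    have c64 : stU 1 (stU 2 (stU 3 64)) = 64 := by decide +kernel
    rw [c8, c32, c64]
    rfl
  have h1 := hFps _ _ hFF
  rw [hone] at h1
  have h2 := hrho 1 (by norm_num)
  rw [h1, map_one] at h2
  have h3 := enc_inj P.B (by norm_num) (stU_lt _ (stU_lt _ (stU_lt _ (by norm_num)))) h2
  revert h3
  decide +kernel

theorem elim [Finite G] : False := by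
  rcases b.J_cases with h | ⟨h8, h32, h64⟩
  · exact b.false_of_small h
  · exact b.false_of_big h8 h32 h64

end Bad

/-- In the spin case `t` is weakly closed in `Q`. -/
theorem wc [Finite G] (S : Sit G Q t) (hs : SpinHyp S.rho) : Pair.WC Q t := by
  intro g hg
  by_contra hne
  obtain ⟨P⟩ := exists_ctx S hs
  have hgt1 : g * t * g⁻¹ ≠ 1 := (S.large.conj g).z_ne
  -- move `pr t'` to `B 7`
  have hv : S.large.pr ⟨g * t * g⁻¹, hg⟩ ≠ 0 := by
    intro h
    rcases S.large.pr_eq_zero.1 h with h1 | h1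
    · exact hgt1 h1
    · exact hne h1
  have hq : S.large.q (S.large.pr ⟨g * t * g⁻¹, hg⟩) = 0 := by
    rw [S.large.q_eq_zero]
    exact (S.large.conj g).z_sq
  obtain ⟨k, hk⟩ := P.exists_rho_B7 hv hq
  obtain ⟨c, rfl⟩ := S.psi_surj k
  rw [S.rho_psi, S.large.act_pr] at hk
  have hct : (c : G) * t = t * c := Subgroup.mem_centralizer_singleton_iff.1 c.2
  have e : (c : G) * (g * t * g⁻¹) * (c : G)⁻¹ = (c * g) * t * (c * g)⁻¹ := by group
  have hmem : ((c : G) * g) * t * (c * g)⁻¹ ∈ Q := by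
    rw [← e]; exact S.large.conj_mem c hct _ hg
  have hne' : ((c : G) * g) * t * (c * g)⁻¹ ≠ t := by
    intro h
    apply hne
    rw [← e] at h
    calc g * t * g⁻¹ = (c : G)⁻¹ * (c * (g * t * g⁻¹) * (c : G)⁻¹) * c := by group
      _ = (c : G)⁻¹ * (t * c) := by rw [h]; group
      _ = t := by rw [← hct]; group
  have hB7 : S.large.pr ⟨((c : G) * g) * t * (c * g)⁻¹, hmem⟩ = P.B 7 := by
    rw [← hk]
    congr 1
    exact Subtype.ext e.symm
  have S' := S.conj ((c : G) * g)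
  have hmem' := mem_of_mem P S' hmem hne' hB7
  exact Bad.elim (P := P) ⟨S'.large, S'.card, hmem, hmem', hne', hB7⟩

end Cfsg.Agent.Co2Type.WeakB1
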