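import Cfsg.Prelude.Def_CaseTheorems
import Cfsg.Prelude.Def_TwoFusion
import Cfsg.Agent.S0215
import Cfsg.Agent.S1180

/-!
# Use of the `Z*`-theorem (R03)

A finite group without odd core and with trivial centre contains, for every involution `t`, a conjugate of `t`
different from `t` and commuting with `t`.
-/

set_option autoImplicit false

namespace Cfsg.Agent.Co2Type.ZUse

open Subgroup

theorem exists_fused {G : Type*} [Group G] [Finite G] (hO : Cfsg.oddCore G = ⊥) (hZ : Subgroup.center G = ⊥)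
    {t : G} (ht : t * t = 1) (ht1 : t ≠ 1) : ∃ g : G, g * t * g⁻¹ ≠ t ∧ g * t * g⁻¹ * t = t * (g * t * g⁻¹) := by
  by_contra hcon
  push Not at hcon
  have hiso : ∀ g : G, t * (g * t * g⁻¹) = (g * t * g⁻¹) * t → g * t * g⁻¹ = t := by
    intro g hg
    by_contra hne
    exact hcon g hne hg.symm
  have : Fact (Nat.Prime 2) := ⟨Nat.prime_two⟩
  have hz : orderOf t = 2 := orderOf_eq_prime (by rw [pow_two, ht]) ht1
  have hiso' : Cfsg.IsIsolatedInvolution t := ⟨hz, fun g hg => hiso g hg⟩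
  have hp : IsPGroup 2 (zpowers t) := by
    rw [IsPGroup.iff_card]
    exact ⟨1, by rw [Nat.card_zpowers, hz, pow_one]⟩
  obtain ⟨P, hP⟩ := hp.exists_le_sylow
  have hzP : t ∈ P := hP (mem_zpowers t)
  obtain ⟨N, hN, hodd, hcomm⟩ := Cfsg.Agent.S0215.result P t hz hzP fun g hg =>
    Cfsg.Agent.S1180.eq_of_conj_mem_isPGroup t hiso' (P : Subgroup G) P.isPGroup' hzP g hg
  have hNle : N ≤ Cfsg.pPrimeCore 2 G :=
    Cfsg.Agent.Lib.Cores.le_pPrimeCore hN (Nat.coprime_two_right.2 hodd)
  have hNb : N = ⊥ := le_bot_iff.1 (hNle.trans (le_of_eq hO))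
  have htc : t ∈ Subgroup.center G := by
    rw [Subgroup.mem_center_iff]
    intro g
    have h1 := hcomm g
    rw [hNb, Subgroup.mem_bot] at h1
    have h2 : t * g = g * t := by
      calc t * g = (t * g * t⁻¹ * g⁻¹) * (g * t) := by group
        _ = g * t := by rw [h1, one_mul]
    exact h2.symm
  rw [hZ, Subgroup.mem_bot] at htc
  exact ht1 htc

end Cfsg.Agent.Co2Type.ZUse
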