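import Cfsg.Agent.Co2Type.InvClass2
import Cfsg.Agent.Co2Type.Pair
import Cfsg.Agent.Co2Type.ZUse
import Cfsg.Agent.Co2Type.WeakB1d

/-!
# The twisted extension does not occur (R03; helper871's principle C1)
-/

set_option autoImplicit false

namespace Cfsg.Agent.Co2Type.TwistDead

open Cfsg Cfsg.Agent.Co2Type.Quad Cfsg.Agent.Co2Type.Setup Cfsg.Agent.Co2Type.Spin
open Cfsg.Agent.Co2Type.QModel Cfsg.Agent.Co2Type.Act Cfsg.Agent.Co2Type.Coord
open Cfsg.Agent.Co2Type.Rels Cfsg.Agent.Co2Type.InvData Cfsg.Agent.Co2Type.Abs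
open Cfsg.Agent.Co2Type.Abs.Pre Cfsg.Agent.Co2Type.ExistsRels Cfsg.Agent.Co2Type.InvClass
open Cfsg.Agent.ClassicalGeometry.SympBasic

/-- the data `(y, n)` : commutator of the representative `(k, m)` with the element of code `y` -/
def yc (k : ℕ) : ℕ := if k = 2 then 4 else 1

/-- commutator code -/
def nc (k m : ℕ) : ℕ := qmul (qmul m (autw (rw' k) (yc k))) (qmul m (yc k))

theorem nc_ok : ∀ k, k < 4 → ∀ m, m < 2 → qmul m m = 0 ∧ qmul (yc k) (yc k) = 0 ∧ nc k m < 512 ∧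
    nc k m ≠ 0 ∧ nc k m ≠ 256 ∧ qmul (nc k m) (nc k m) = 0 := by decide +kernel

section

variable {C : Type*} [Group C] {t : C} {ev : QM →* C} {psi : C →* Sp6} {D : ℕ → C} {eps : Bool}

theorem inv_of_qmul (ev : QM →* C) {m : ℕ} (h : qmul m m = 0) : (ev (dec m))⁻¹ = ev (dec m) := by
  apply inv_eq_of_mul_eq_one_left
  rw [← map_mul, ← dec_qmul, h, dec_zero, map_one]

/-- commutator with a representative -/
theorem comm_rp (R : Rels eps t ev D) (P : Pre t ev psi)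
    (hpsi : ∀ j, j < 7 → psi (D j) = transv (uv j) 1) {k m : ℕ} (hk : k < 4) (hm : m < 2) :
    rp ev D k m * ev (dec (yc k)) * (rp ev D k m)⁻¹ * (ev (dec (yc k)))⁻¹ = ev (dec (nc k m)) := by
  have F := fam R P hpsi
  obtain ⟨h1, h2, -⟩ := nc_ok k hk m hm
  have h3 := conj_wd ev D F.conj (fun j _ => P.conj_z (D j)) (rw' k) (rw_lt k) (yc k)
  calc rp ev D k m * ev (dec (yc k)) * (rp ev D k m)⁻¹ * (ev (dec (yc k)))⁻¹
      = ev (dec m) * (wd D (rw' k) * ev (dec (yc k)) * (wd D (rw' k))⁻¹) * (ev (dec m))⁻¹ *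
        (ev (dec (yc k)))⁻¹ := by rw [rp]; group
    _ = ev (dec m * dec (autw (rw' k) (yc k)) * (dec m * dec (yc k))) := by
        rw [h3, inv_of_qmul ev h1, inv_of_qmul ev h2]; simp only [map_mul, mul_assoc]
    _ = ev (dec (nc k m)) := by rw [nc, dec_qmul, dec_qmul, dec_qmul]

/-- an involution outside `Q` has an involution outside `⟨t⟩` among its commutators with `Q` -/
theorem exists_comm (R : Rels eps t ev D) (P : Pre t ev psi)
    (hpsi : ∀ j, j < 7 → psi (D j) = transv (uv j) 1) {x : C} (hx : x * x = 1)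
    (hxQ : x ∉ ev.range) : ∃ q : C, x * q * x⁻¹ * q⁻¹ ∈ ev.range ∧
      (x * q * x⁻¹ * q⁻¹) * (x * q * x⁻¹ * q⁻¹) = 1 ∧ x * q * x⁻¹ * q⁻¹ ≠ 1 ∧
      x * q * x⁻¹ * q⁻¹ ≠ t := by
  obtain ⟨k, hk, -, g, h⟩ := inv_rp R P hpsi hx hxQ
  obtain ⟨m, hm, h⟩ : ∃ m, m < 2 ∧ Eqv t (g * x * g⁻¹) (rp ev D k m) := by
    rcases h with h | ⟨-, h⟩
    · exact ⟨0, by norm_num, h⟩
    · exact ⟨1, by norm_num, h⟩
  obtain ⟨h1, h2, h3, h4, h5, h6⟩ := nc_ok k hk m hm
  set y := ev (dec (yc k)) with hy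
  have e : (g * x * g⁻¹) * y * (g * x * g⁻¹)⁻¹ * y⁻¹ = ev (dec (nc k m)) := by
    rw [← comm_rp R P hpsi hk hm]
    rcases h with h | h
    · rw [h]
    · rw [h]
      calc rp ev D k m * t * y * (rp ev D k m * t)⁻¹ * y⁻¹
          = rp ev D k m * (t * y) * t⁻¹ * (rp ev D k m)⁻¹ * y⁻¹ := by group
        _ = rp ev D k m * y * (rp ev D k m)⁻¹ * y⁻¹ := by rw [← P.cent]; group
  have e2 : x * (g⁻¹ * y * g) * x⁻¹ * (g⁻¹ * y * g)⁻¹ = g⁻¹ * ev (dec (nc k m)) * g := by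
    rw [← e]; group
  refine ⟨g⁻¹ * y * g, ?_⟩
  rw [e2]
  refine ⟨?_, ?_, ?_, ?_⟩
  · rw [← P.psi_ker, map_mul, map_mul, (P.psi_ker _).2 ⟨_, rfl⟩, mul_one, ← map_mul,
      inv_mul_cancel, map_one]
  · calc g⁻¹ * ev (dec (nc k m)) * g * (g⁻¹ * ev (dec (nc k m)) * g)
        = g⁻¹ * (ev (dec (nc k m)) * ev (dec (nc k m))) * g := by group
      _ = 1 := by rw [← map_mul, ← dec_qmul, h6, dec_zero, map_one]; group
  · intro h7
    have h8 : ev (dec (nc k m)) = 1 := by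
      calc ev (dec (nc k m)) = g * (g⁻¹ * ev (dec (nc k m)) * g) * g⁻¹ := by group
        _ = 1 := by rw [h7]; group
    exact h4 (dec_inj h3 (by norm_num) ((P.ev_inj (h8.trans (map_one ev).symm)).trans dec_zero.symm))
  · intro h7
    have h8 : ev (dec (nc k m)) = ev (dec 256) := by
      calc ev (dec (nc k m)) = g * (g⁻¹ * ev (dec (nc k m)) * g) * g⁻¹ := by group
        _ = ev (dec 256) := by rw [h7, P.cent, mul_inv_cancel_right, P.ev_z]
    exact h5 (dec_inj h3 (by norm_num) (P.ev_inj h8))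

end

variable {G : Type*} [Group G] {Q : Subgroup G} {t : G}

/-- the hypothesis `hq` of `C1.eq_of_mul`, both extensions -/
theorem exists_comm_inv (S : Sit G Q t) {eps : Bool} {ev : QM →* Subgroup.centralizer ({t} : Set G)}
    {D : ℕ → Subgroup.centralizer ({t} : Set G)} (R : Rels eps (tc t) ev D)
    (hpsi : ∀ j, j < 7 → S.psi (D j) = transv (uv j) 1) (P : Pre (tc t) ev S.psi) {x : G}
    (hx : x * x = 1) (hxt : x * t = t * x) (hxQ : x ∉ Q) :
    ∃ q : G, q * t = t * q ∧ x * q * x⁻¹ * q⁻¹ ∈ Q ∧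
      (x * q * x⁻¹ * q⁻¹) * (x * q * x⁻¹ * q⁻¹) = 1 ∧ x * q * x⁻¹ * q⁻¹ ≠ 1 ∧
      x * q * x⁻¹ * q⁻¹ ≠ t := by
  let y : Subgroup.centralizer ({t} : Set G) := ⟨x, Subgroup.mem_centralizer_singleton_iff.2 hxt⟩
  have hy : y * y = 1 := Subtype.ext hx
  have hyQ : y ∉ ev.range := by
    intro h1
    rw [← P.psi_ker, S.psi_ker] at h1
    exact hxQ h1
  obtain ⟨q, h1, h2, h3, h4⟩ := exists_comm R P hpsi hy hyQ
  refine ⟨q, Subgroup.mem_centralizer_singleton_iff.1 q.2, ?_, ?_, ?_, ?_⟩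
  · exact (S.psi_ker _).1 ((P.psi_ker _).2 h1)
  · exact congrArg Subtype.val h2
  · intro h5
    exact h3 (Subtype.ext h5)
  · intro h5
    exact h4 (Subtype.ext h5)

/-- principle C1 (helper871) -/
theorem c1 (S : Sit G Q t) {eps : Bool} {ev : QM →* Subgroup.centralizer ({t} : Set G)}
    {D : ℕ → Subgroup.centralizer ({t} : Set G)} (R : Rels eps (tc t) ev D)
    (hpsi : ∀ j, j < 7 → S.psi (D j) = transv (uv j) 1) (P : Pre (tc t) ev S.psi)
    (hwc : Pair.WC Q t)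
    (h : ∀ x : Subgroup.centralizer ({t} : Set G), IsConj t (x : G) → (x : G) ≠ t →
      IsConj t ((x : G) * t)) :
    ∀ x : Subgroup.centralizer ({t} : Set G), IsConj t (x : G) → (x : G) = t := by
  intro x hx
  by_contra hne
  have htt : t * t = 1 := S.large.z_sq
  have hsq : ∀ y : G, IsConj t y → y * y = 1 := by
    intro y hy
    obtain ⟨g, rfl⟩ := isConj_iff.1 hy
    calc g * t * g⁻¹ * (g * t * g⁻¹) = g * (t * t) * g⁻¹ := by group
      _ = 1 := by rw [htt]; group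
  -- products of commuting conjugates
  have hprod : ∀ a b : G, IsConj t a → IsConj t b → a * b = b * a → a ≠ b → IsConj t (a * b) := by
    intro a b ha hb hab hne'
    obtain ⟨g, rfl⟩ := isConj_iff.1 ha
    have hb' : IsConj t (g⁻¹ * b * g) := by
      refine hb.trans (isConj_iff.2 ⟨g⁻¹, ?_⟩)
      rw [inv_inv]
    have hbc : (g⁻¹ * b * g) * t = t * (g⁻¹ * b * g) := by
      calc (g⁻¹ * b * g) * t = g⁻¹ * (b * (g * t * g⁻¹)) * g := by group
        _ = g⁻¹ * ((g * t * g⁻¹) * b) * g := by rw [hab]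
        _ = t * (g⁻¹ * b * g) := by group
    have hbn : g⁻¹ * b * g ≠ t := by
      intro h1
      apply hne'
      rw [← h1]; group
    have h1 := h ⟨g⁻¹ * b * g, Subgroup.mem_centralizer_singleton_iff.2 hbc⟩ hb' hbn
    refine h1.trans (isConj_iff.2 ⟨g, ?_⟩)
    show g * (g⁻¹ * b * g * t) * g⁻¹ = g * t * g⁻¹ * b
    rw [hab]; group
  have hxx : x * x = 1 := Subtype.ext (hsq _ hx)
  have hxQ : x ∉ ev.range := by
    intro h1
    rw [← P.psi_ker, S.psi_ker] at h1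
    exact hne (hwc.eq_of_mem h1 hx)
  obtain ⟨q, h1, h2, h3, h4⟩ := exists_comm R P hpsi hxx hxQ
  have h5 : ((x * q * x⁻¹ * q⁻¹ : Subgroup.centralizer ({t} : Set G)) : G) =
      (x : G) * ((q : G) * x * (q : G)⁻¹) := by
    have : x⁻¹ = x := inv_eq_of_mul_eq_one_left hxx
    rw [this]
    show (x : G) * q * x * (q : G)⁻¹ = (x : G) * (q * x * (q : G)⁻¹)
    group
  have hx' : IsConj t ((q : G) * x * (q : G)⁻¹) := hx.trans (isConj_iff.2 ⟨q, rfl⟩)
  have hx2 : ((q : G) * x * (q : G)⁻¹) * ((q : G) * x * (q : G)⁻¹) = 1 := hsq _ hx'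
  have h6 : (x : G) * (q * x * (q : G)⁻¹) * (x * (q * x * (q : G)⁻¹)) = 1 := by
    rw [← h5]
    exact congrArg Subtype.val h2
  have hcomm : (x : G) * (q * x * (q : G)⁻¹) = (q * x * (q : G)⁻¹) * x := by
    set b : G := q * x * (q : G)⁻¹
    calc (x : G) * b = (x : G) * b * (x * b * (x * b)) * ((b * b) * (b * b))⁻¹ := by
          rw [h6, hx2]; group
      _ = (x * b * (x * b)) * (x * b) * ((b * b) * (b * b))⁻¹ := by group
      _ = (x : G) * b * ((b * b) * (b * b))⁻¹ := by rw [h6]; group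
      _ = (b * b)⁻¹ * ((x : G) * b) := by rw [hx2]; group
      _ = b⁻¹ * (b⁻¹ * (x : G)⁻¹) * (((x : G) * x)) * b := by group
      _ = b⁻¹ * (((x : G) * b)⁻¹) * b := by rw [show (x : G) * x = 1 from congrArg Subtype.val hxx]; group
      _ = b⁻¹ * ((x : G) * b) * b := by
          rw [inv_eq_of_mul_eq_one_left h6]
      _ = b * (b * b)⁻¹ * x * (b * b) := by group
      _ = b * x := by rw [hx2]; group
  have hne2 : (x : G) ≠ q * x * (q : G)⁻¹ := by
    intro h7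
    apply h3
    apply Subtype.ext
    rw [h5, ← h7]
    exact congrArg Subtype.val hxx
  have h8 := hprod _ _ hx hx' hcomm hne2
  rw [← h5] at h8
  have h9 : ((x * q * x⁻¹ * q⁻¹ : Subgroup.centralizer ({t} : Set G)) : G) ∈ Q :=
    (S.psi_ker _).1 ((P.psi_ker _).2 h1)
  exact h4 (Subtype.ext (hwc.eq_of_mem h9 h8))

/-- the twisted extension does not occur -/
theorem eps_false [Finite G] (hO : Cfsg.oddCore G = ⊥) (hZ : Subgroup.center G = ⊥)
    (S : Sit G Q t) (hs : SpinHyp S.rho) {eps : Bool}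
    {ev : QM →* Subgroup.centralizer ({t} : Set G)}
    {D : ℕ → Subgroup.centralizer ({t} : Set G)} (R : Rels eps (tc t) ev D)
    (hpsi : ∀ j, j < 7 → S.psi (D j) = transv (uv j) 1) (P : Pre (tc t) ev S.psi) :
    eps = false := by
  have hwc := WeakB1.wc S hs
  cases eps
  · rfl
  exfalso
  have hiso := c1 S R hpsi P hwc (by
    intro x hx hne
    have hxx : x * x = 1 := by
      apply Subtype.ext
      obtain ⟨g, hg⟩ := isConj_iff.1 hx
      show (x : G) * x = 1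
      rw [← hg]
      calc g * t * g⁻¹ * (g * t * g⁻¹) = g * (t * t) * g⁻¹ := by group
        _ = 1 := by rw [S.large.z_sq]; group
    have hxQ : x ∉ ev.range := by
      intro h1
      rw [← P.psi_ker, S.psi_ker] at h1
      exact hne (hwc.eq_of_mem h1 hx)
    obtain ⟨k, hk⟩ := twist_conj R P hpsi hxx hxQ
    refine hx.trans (isConj_iff.2 ⟨k, ?_⟩)
    exact congrArg Subtype.val hk)
  obtain ⟨g, h1, h2⟩ := ZUse.exists_fused hO hZ S.large.z_sq S.large.z_ne
  exact h1 (hiso ⟨g * t * g⁻¹, Subgroup.mem_centralizer_singleton_iff.2 h2⟩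
    (isConj_iff.2 ⟨g, rfl⟩))

end Cfsg.Agent.Co2Type.TwistDead
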