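import Cfsg.Agent.Co2Type.Rels
import Cfsg.Agent.SporRec.TwoSp6.Cox

/-!
# Order bound and uniqueness for the relations of `2^{1+8}_+ . Sp6(2)`

`Rels.card_le`: a group with `Rels eps t ev D` has order at most `743178240 = 2^9 · |Sp6(2)|`.
`Rels.unique`: two groups of this order with `Rels eps` are isomorphic, matching `ev` and the `D j`.
-/

set_option autoImplicit false

namespace Cfsg.Agent.Co2Type.Unique

open Cfsg.Agent.Co2Type.QModel Cfsg.Agent.Co2Type.Act Cfsg.Agent.Co2Type.Rels Cfsg.Agent.SporRec.TwoSp6.Cox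

/-- The code of an element of the model. -/
def code (v : Fin 8 → ZMod 2) (a : ZMod 2) : ℕ :=
  (v 0).val + 2 * (v 1).val + 4 * (v 2).val + 8 * (v 3).val + 16 * (v 4).val + 32 * (v 5).val + 64 * (v 6).val +
    128 * (v 7).val + 256 * a.val

theorem dec_code (x : QM) : dec (code x.v x.a) = x := by
  have key : ∀ v : Fin 8 → ZMod 2, ∀ a : ZMod 2, (dec (code v a)).v = v ∧ (dec (code v a)).a = a := by decide +kernel
  exact QM.ext (key x.v x.a).1 (key x.v x.a).2

instance : Finite QM := Finite.of_injective (fun x : QM => (x.v, x.a)) (by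
  rintro ⟨v, a⟩ ⟨w, b⟩ h
  simp only [Prod.mk.injEq] at h
  obtain ⟨rfl, rfl⟩ := h
  rfl)

theorem card_QM : Nat.card QM = 512 := by
  have e : QM ≃ (Fin 8 → ZMod 2) × ZMod 2 :=
    { toFun := fun x => (x.v, x.a)
      invFun := fun p => ⟨p.1, p.2⟩
      left_inv := fun _ => rfl
      right_inv := fun _ => rfl }
  rw [Nat.card_congr e, Nat.card_prod, Nat.card_fun, Nat.card_eq_fintype_card, Nat.card_eq_fintype_card]
  simp [ZMod.card]

/-- Matching of the nodes with those of `CoxeterMatrix.E₇`. -/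
def sg (i : Fin 7) : ℕ := [0, 6, 1, 2, 3, 4, 5].getD i.val 0

theorem sg_lt : ∀ i, sg i < 7 := by decide

theorem sg_two : ∀ i j : Fin 7, m7 i j = 2 → sg i ≠ sg j ∧ adj (sg i) (sg j) = false := by decide

theorem sg_three : ∀ i j : Fin 7, m7 i j = 3 → adj (sg i) (sg j) = true := by decide

theorem sg_surj : ∀ j < 7, ∃ i, sg i = j := by decide

section

variable {eps : Bool} {C : Type*} [Group C] {t : C} {ev : QM →* C} {D : ℕ → C} (R : Rels eps t ev D)

include R

theorem t_sq : t * t = 1 := by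
  rw [← R.ev_z, ← map_mul, ← dec_qmul, show qmul 256 256 = 0 by decide, dec_zero, map_one]

theorem tw_cases : tw eps t = 1 ∨ tw eps t = t := by
  unfold tw
  cases eps <;> simp

theorem tw_mem : tw eps t ∈ ev.range := by
  rcases (tw_cases R) with h | h
  · rw [h]; exact one_mem _
  · rw [h, ← R.ev_z]; exact ⟨_, rfl⟩

theorem tw_comm (g : C) : g * tw eps t = tw eps t * g := by
  rcases (tw_cases R) with h | h
  · rw [h, mul_one, one_mul]
  · rw [h, R.cent]

theorem conj_t (g : C) : g * ev (dec 256) * g⁻¹ = ev (dec 256) := by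
  rw [R.ev_z, R.cent, mul_inv_cancel_right]

theorem conj_mem {j : ℕ} (hj : j < 7) {x : C} (hx : x ∈ ev.range) :
    D j * x * (D j)⁻¹ ∈ ev.range ∧ (D j)⁻¹ * x * D j ∈ ev.range := by
  obtain ⟨q, rfl⟩ := hx
  have h1 : D j * ev q * (D j)⁻¹ ∈ ev.range := by
    rw [← dec_code q, conj_dec ev (D j) j (R.conj j hj) (conj_t R _) _]
    exact ⟨_, rfl⟩
  refine ⟨h1, ?_⟩
  have h2 : (D j)⁻¹ * ev q * D j = D j * ev q * (D j)⁻¹ := by
    have hs := R.sq j hj
    have hc := tw_comm R (ev q)
    rw [← hs] at hc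
    calc (D j)⁻¹ * ev q * D j = (D j)⁻¹ * (ev q * (D j * D j)) * (D j)⁻¹ := by group
      _ = (D j)⁻¹ * ((D j * D j) * ev q) * (D j)⁻¹ := by rw [hc]
      _ = D j * ev q * (D j)⁻¹ := by group
  rw [h2]; exact h1

theorem normal : ev.range.Normal := by
  have key : ∀ g : C, ∀ x ∈ ev.range, g * x * g⁻¹ ∈ ev.range ∧ g⁻¹ * x * g ∈ ev.range := by
    intro g
    have hg : g ∈ Subgroup.closure (Set.range ev ∪ {g | ∃ j, j < 7 ∧ g = D j}) := by
      rw [R.gen]; exact Subgroup.mem_top g
    induction hg using Subgroup.closure_induction with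
    | one =>
      intro x hx
      simpa using hx
    | mem y hy =>
      rcases hy with ⟨q, rfl⟩ | ⟨j, hj, rfl⟩
      · intro x hx
        exact ⟨mul_mem (mul_mem ⟨q, rfl⟩ hx) (inv_mem ⟨q, rfl⟩), mul_mem (mul_mem (inv_mem ⟨q, rfl⟩) hx) ⟨q, rfl⟩⟩
      · intro x hx
        exact conj_mem R hj hx
    | mul a b _ _ iha ihb =>
      intro x hx
      constructor
      · have := (iha _ (ihb x hx).1).1
        have e : a * b * x * (a * b)⁻¹ = a * (b * x * b⁻¹) * a⁻¹ := by group
        rw [e]; exact this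
      · have := (ihb _ (iha x hx).2).2
        have e : (a * b)⁻¹ * x * (a * b) = b⁻¹ * (a⁻¹ * x * a) * b := by group
        rw [e]; exact this
    | inv a _ iha =>
      intro x hx
      have := iha x hx
      rw [inv_inv]
      exact ⟨this.2, this.1⟩
  exact ⟨fun x hx g => (key g x hx).1⟩

/-- **Order bound.** -/
theorem card_le : Finite C ∧ Nat.card C ≤ 743178240 := by
  have hN := normal R
  set q := QuotientGroup.mk' ev.range with hq
  have hq1 : ∀ x ∈ ev.range, q x = 1 := by
    intro x hx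
    rw [← MonoidHom.mem_ker, hq, QuotientGroup.ker_mk']; exact hx
  have htw : q (tw eps t) = 1 := hq1 _ (tw_mem R)
  have hsq : ∀ j, j < 7 → q (D j) * q (D j) = 1 := by
    intro j hj
    rw [← map_mul, R.sq j hj, htw]
  have hcm : ∀ i j, i < 7 → j < 7 → i ≠ j → adj i j = false → q (D i) * q (D j) = q (D j) * q (D i) := by
    intro i j hi hj hij ha
    rw [← map_mul, R.comm i j hi hj hij ha, map_mul, htw, one_mul, map_mul]
  have h := Cfsg.Agent.SporRec.TwoSp6.Cox.card_le (fun i => q (D (sg i))) (liftable_of _ ?_ ?_ ?_) ?_ ?_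
  · obtain ⟨h1, h2⟩ := h
    have hc : Nat.card C = Nat.card (C ⧸ ev.range) * Nat.card ev.range :=
      Subgroup.card_eq_card_quotient_mul_card_subgroup _
    have hr : Nat.card ev.range = 512 := by
      rw [← card_QM]
      exact (Nat.card_congr (MonoidHom.ofInjective R.ev_inj).toEquiv).symm
    rw [hr] at hc
    have h3 : 0 < Nat.card (C ⧸ ev.range) := Nat.card_pos
    refine ⟨Nat.finite_of_card_ne_zero (by omega), by omega⟩
  · intro i
    exact hsq _ (sg_lt i)
  · intro i j hij
    obtain ⟨h1, h2⟩ := sg_two i j hij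
    exact hcm _ _ (sg_lt i) (sg_lt j) h1 h2
  · intro i j hij
    rw [← map_mul, ← map_mul, ← map_mul, ← map_mul, R.braid _ _ (sg_lt i) (sg_lt j) (sg_three i j hij)]
  · have hP : q (wd D w0) = 1 := by rw [R.w0_eq, map_one]
    have e : w0 = [0,1,2,3,4,5,6] ++ ([0,1,2,3,4,5,6] ++ ([0,1,2,3,4,5,6] ++ ([0,1,2,3,4,5,6] ++ ([0,1,2,3,4,5,6] ++
      ([0,1,2,3,4,5,6] ++ ([0,1,2,3,4,5,6] ++ ([0,1,2,3,4,5,6] ++ [0,1,2,3,4,5,6]))))))) := rfl
    rw [e] at hP
    simp only [wd_append, map_mul] at hP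
    have e2 : q (wd D [0,1,2,3,4,5,6]) = q (D 0) * q (D 1) * q (D 2) * q (D 3) * q (D 4) * q (D 5) * q (D 6) := by
      simp only [wd, map_mul, mul_one, mul_assoc]
    have e3 : prod7 (fun i => q (D (sg i))) = q (D 6) * q (wd D [0,1,2,3,4,5,6]) * (q (D 6))⁻¹ := by
      rw [e2]
      show q (D 0) * q (D 6) * q (D 1) * q (D 2) * q (D 3) * q (D 4) * q (D 5) = _
      rw [hcm 0 6 (by norm_num) (by norm_num) (by norm_num) (by decide)]
      group
    rw [e3]
    generalize q (wd D [0,1,2,3,4,5,6]) = P at hP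
    have e4 : ∀ (g P : C ⧸ ev.range) (n : ℕ), (g * P * g⁻¹) ^ n = g * P ^ n * g⁻¹ := by
      intro g P n
      exact conj_pow
    rw [e4]
    have e5 : P ^ 9 = 1 := by
      rw [← hP]
      simp only [pow_succ, pow_zero, one_mul, mul_assoc]
    rw [e5]; group
  · rw [eq_top_iff]
    intro y hy
    clear hy
    obtain ⟨x, rfl⟩ := QuotientGroup.mk'_surjective ev.range y
    have hx : x ∈ Subgroup.closure (Set.range ev ∪ {g | ∃ j, j < 7 ∧ g = D j}) := by
      rw [R.gen]; exact Subgroup.mem_top x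
    show q x ∈ _
    induction hx using Subgroup.closure_induction with
    | one => rw [map_one]; exact one_mem _
    | mem y hy =>
      rcases hy with ⟨r, rfl⟩ | ⟨j, hj, rfl⟩
      · rw [hq1 _ ⟨r, rfl⟩]; exact one_mem _
      · obtain ⟨i, rfl⟩ := sg_surj j hj
        exact Subgroup.subset_closure ⟨i, rfl⟩
    | mul a b _ _ iha ihb => rw [map_mul]; exact mul_mem iha ihb
    | inv a _ iha => rw [map_inv]; exact inv_mem iha

end

/-- **Uniqueness.** -/
theorem unique {eps : Bool} {C : Type*} [Group C] {t : C} {ev : QM →* C} {D : ℕ → C} (R : Rels eps t ev D)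
    (hC : Nat.card C = 743178240) {C' : Type*} [Group C'] {t' : C'} {ev' : QM →* C'} {D' : ℕ → C'}
    (R' : Rels eps t' ev' D') (hC' : Nat.card C' = 743178240) :
    ∃ e : C ≃* C', (∀ x, e (ev x) = ev' x) ∧ (∀ j, j < 7 → e (D j) = D' j) ∧ e t = t' := by
  have fC : Finite C := Nat.finite_of_card_ne_zero (by rw [hC]; norm_num)
  have fC' : Finite C' := Nat.finite_of_card_ne_zero (by rw [hC']; norm_num)
  set F : Subgroup (C × C') :=
    Subgroup.closure (Set.range (fun x => (ev x, ev' x)) ∪ {g | ∃ j, j < 7 ∧ g = (D j, D' j)}) with hF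
  have hm1 : ∀ x, (ev x, ev' x) ∈ F := fun x => Subgroup.subset_closure (Or.inl ⟨x, rfl⟩)
  have hm2 : ∀ j, j < 7 → (D j, D' j) ∈ F := fun j hj => Subgroup.subset_closure (Or.inr ⟨j, hj, rfl⟩)
  set evF : QM →* F :=
    { toFun := fun x => ⟨(ev x, ev' x), hm1 x⟩
      map_one' := Subtype.ext (Prod.ext (map_one ev) (map_one ev'))
      map_mul' := fun x y => Subtype.ext (Prod.ext (map_mul ev x y) (map_mul ev' x y)) } with hevF
  set DF : ℕ → F := fun j => if hj : j < 7 then ⟨(D j, D' j), hm2 j hj⟩ else 1 with hDF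
  have hDFv : ∀ j, j < 7 → ((DF j : F) : C × C') = (D j, D' j) := by
    intro j hj
    rw [hDF]
    simp only [dif_pos hj]
  have hevv : ∀ x, ((evF x : F) : C × C') = (ev x, ev' x) := fun _ => rfl
  have htv : ((evF (dec 256) : F) : C × C') = (t, t') := by
    rw [hevv, R.ev_z, R'.ev_z]
  have htwv : ((tw eps (evF (dec 256)) : F) : C × C') = (tw eps t, tw eps t') := by
    unfold tw
    cases eps
    · rfl
    · simp only [if_true]
      exact htv
  have hwd : ∀ w : List ℕ, (∀ j ∈ w, j < 7) → ((wd DF w : F) : C × C') = (wd D w, wd D' w) := by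
    intro w
    induction w with
    | nil => intro _; rfl
    | cons j w ih =>
      intro hw
      rw [wd, Subgroup.coe_mul, hDFv j (hw j List.mem_cons_self), ih fun k hk => hw k (List.mem_cons_of_mem _ hk)]
      rfl
  have RF : Rels eps (evF (dec 256)) evF DF := by
    refine ⟨?_, rfl, ?_, ?_, ?_, ?_, ?_, ?_, ?_⟩
    · intro x y hxy
      have := congrArg (fun g : F => (g : C × C').1) hxy
      exact R.ev_inj this
    · intro g
      apply Subtype.ext
      rw [Subgroup.coe_mul, Subgroup.coe_mul, htv]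
      exact Prod.ext (R.cent _) (R'.cent _)
    · intro j hj I
      apply Subtype.ext
      rw [Subgroup.coe_mul, Subgroup.coe_mul, Subgroup.coe_inv, hDFv j hj, hevv, hevv]
      exact Prod.ext (R.conj j hj I) (R'.conj j hj I)
    · intro j hj
      apply Subtype.ext
      rw [Subgroup.coe_mul, hDFv j hj, htwv]
      exact Prod.ext (R.sq j hj) (R'.sq j hj)
    · intro i j hi hj ha
      apply Subtype.ext
      rw [Subgroup.coe_mul, Subgroup.coe_mul, Subgroup.coe_mul, Subgroup.coe_mul, hDFv j hj, hDFv i hi]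
      exact Prod.ext (R.braid i j hi hj ha) (R'.braid i j hi hj ha)
    · intro i j hi hj hij ha
      apply Subtype.ext
      rw [Subgroup.coe_mul, Subgroup.coe_mul, Subgroup.coe_mul, htwv, hDFv j hj, hDFv i hi]
      exact Prod.ext (R.comm i j hi hj hij ha) (R'.comm i j hi hj hij ha)
    · apply Subtype.ext
      rw [hwd _ (by decide), R.w0_eq, R'.w0_eq]
      rfl
    · rw [eq_top_iff]
      rintro ⟨x, hx⟩ -
      have key : ∀ y (hy : y ∈ Subgroup.closure (Set.range (fun x => (ev x, ev' x)) ∪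
          {g | ∃ j, j < 7 ∧ g = (D j, D' j)})),
          (⟨y, hF ▸ hy⟩ : F) ∈ Subgroup.closure (Set.range evF ∪ {g | ∃ j, j < 7 ∧ g = DF j}) := by
        intro y hy
        induction hy using Subgroup.closure_induction with
        | one => exact one_mem _
        | mem y hy =>
          rcases hy with ⟨x, rfl⟩ | ⟨j, hj, rfl⟩
          · exact Subgroup.subset_closure (Or.inl ⟨x, rfl⟩)
          · exact Subgroup.subset_closure (Or.inr ⟨j, hj, Subtype.ext (hDFv j hj).symm⟩)
        | mul x y hx hy ihx ihy => exact mul_mem ihx ihy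
        | inv x hx ihx => exact inv_mem ihx
      exact key x (hF ▸ hx)
  obtain ⟨fF, cF⟩ := card_le RF
  set p1 : F →* C := (MonoidHom.fst C C').comp F.subtype with hp1
  set p2 : F →* C' := (MonoidHom.snd C C').comp F.subtype with hp2
  have s1 : Function.Surjective p1 := by
    rw [← MonoidHom.range_eq_top, eq_top_iff, ← R.gen, Subgroup.closure_le]
    rintro _ (⟨x, rfl⟩ | ⟨j, hj, rfl⟩)
    · exact ⟨evF x, rfl⟩
    · exact ⟨DF j, congrArg Prod.fst (hDFv j hj)⟩
  have s2 : Function.Surjective p2 := by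
    rw [← MonoidHom.range_eq_top, eq_top_iff, ← R'.gen, Subgroup.closure_le]
    rintro _ (⟨x, rfl⟩ | ⟨j, hj, rfl⟩)
    · exact ⟨evF x, rfl⟩
    · exact ⟨DF j, congrArg Prod.snd (hDFv j hj)⟩
  have c1 : Nat.card F = Nat.card C :=
    le_antisymm (by rw [hC]; exact cF) (Nat.card_le_card_of_surjective p1 s1)
  have c2 : Nat.card F = Nat.card C' :=
    le_antisymm (by rw [hC']; exact cF) (Nat.card_le_card_of_surjective p2 s2)
  have b1 : Function.Bijective p1 := (Nat.bijective_iff_surjective_and_card p1).2 ⟨s1, c1⟩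
  have b2 : Function.Bijective p2 := (Nat.bijective_iff_surjective_and_card p2).2 ⟨s2, c2⟩
  let e1 : F ≃* C := MulEquiv.ofBijective p1 b1
  let e2 : F ≃* C' := MulEquiv.ofBijective p2 b2
  have h1 : ∀ x, e1.symm (ev x) = evF x := by
    intro x
    rw [MulEquiv.symm_apply_eq]; rfl
  have h2 : ∀ j, j < 7 → e1.symm (D j) = DF j := by
    intro j hj
    rw [MulEquiv.symm_apply_eq]
    exact (congrArg Prod.fst (hDFv j hj)).symm
  refine ⟨e1.symm.trans e2, fun x => ?_, fun j hj => ?_, ?_⟩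
  · rw [MulEquiv.trans_apply, h1]; rfl
  · rw [MulEquiv.trans_apply, h2 j hj]
    exact congrArg Prod.snd (hDFv j hj)
  · rw [MulEquiv.trans_apply, ← R.ev_z, h1]
    exact congrArg Prod.snd htv

end Cfsg.Agent.Co2Type.Unique
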