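import Cfsg.Agent.Co2Type.Up4Chk0

set_option autoImplicit false
set_option maxRecDepth 100000

namespace Cfsg.Agent.Co2Type.Up4All

open Cfsg.Agent.SporadicRecognition.CosetCert Cfsg.Agent.Co2Type.Up4Data

theorem part : Part C 0 C.N 120 := Cfsg.Agent.Co2Type.Up4Chk0.all

end Cfsg.Agent.Co2Type.Up4All
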