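import Cfsg.Agent.Co2Type.Up4Data

set_option autoImplicit false
set_option maxRecDepth 100000

namespace Cfsg.Agent.Co2Type.Up4Chk0

open Cfsg.Agent.SporadicRecognition.CosetCert Cfsg.Agent.Co2Type.Up4Data

theorem c0 : Part C 0 64 64 := runChunk_sound C 64 (by decide +kernel : runChunk C 8 255 0x73430102020102020102021302630201836302010243010253010203010202027302010202010203010202130202330153010202010223020202010283633301024301025301020301022302730201020201020301020213020233015301020201022302024301027343010202010202010202130263020153010203010223130202010201020202020102027343010202010203010202130263330153010203010223130202010201022302020102025301020201022302024301020102021302010203020202015301020301022313024301020102021302010203020233010102230202010202020201020102231302010203020201020202020102020202 1 1 0 0 64 = 65)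

theorem c1 : Part C 64 120 56 := runChunk_sound C 56 (by decide +kernel : runChunk C 8 255 0x202020183020201026302010202330102020102026302018302330173020102830202010202330102430102026302010202010202010202836302010202330102430102026302017302010253010202830233017302010202633301020201020201020283020201024301020201020301020202830233017343010202633301020201020201020283630201024301025301020301020202026302017302010253010202830233010243010202010203010223027302010202010202010202130202020102633301730201025301020283023301024301020201020301022302 1 1 0 64 56 = 57)

theorem all : Part C 0 120 120 := (c0).append C c1

end Cfsg.Agent.Co2Type.Up4Chk0
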