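import Cfsg.Agent.Co2Type.Up7Data

set_option autoImplicit false
set_option maxRecDepth 100000

namespace Cfsg.Agent.Co2Type.Up7Chk0

open Cfsg.Agent.SporadicRecognition.CosetCert Cfsg.Agent.Co2Type.Up7Data

theorem c0 : Part C 0 2 2 := runChunk_sound C 2 (by decide +kernel : runChunk C 7 127 0xd386cd193060aac56a94a85 1 1 0 0 2 = 3)

theorem all : Part C 0 2 2 := c0

end Cfsg.Agent.Co2Type.Up7Chk0
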