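import Cfsg.Agent.SporadicRecognition.CosetCert

set_option autoImplicit false
set_option maxRecDepth 100000

namespace Cfsg.Agent.Co2Type.Up7Data

open Cfsg.Agent.SporadicRecognition.CosetCert

noncomputable def tree : Tr := (.L 0xfddeb6caeaa66fe265544d245f)

noncomputable def wtree : WT := (.N 3 (.N 1 (.L 0 [6,0,6]) (.N 2 (.L 1 [6,1,6]) (.L 2 [6,2,6]))) (.N 4 (.L 3 [6,3,6]) (.N 5 (.L 4 [6,4,6]) (.L 5 [6,5,6]))))

noncomputable def stree : ST := (.N 3 (.N 1 (.L 0 [] []) (.N 2 (.L 1 [] []) (.L 2 [] []))) (.N 4 (.L 3 [] []) (.N 5 (.L 4 [] []) (.L 5 [] []))))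

noncomputable def C : Cert where
  data := tree
  lm := 15
  rb := 52
  fb := 6
  mask := 63
  B := 4
  k := 7
  N := 2
  inv := fun x => x
  words := wtree
  subs := stree

def rels : List (List Nat) := [[6,0,6,0], [0,3,0,3], [0,2,0,2], [0,4,0,4], [0,5,0,5], [3,1,3,1], [3,4,3,4], [3,5,3,5], [3,6,3,6], [1,4,1,4], [1,5,1,5], [1,6,1,6], [2,5,2,5], [2,6,2,6], [4,6,4,6], [5,6,5,6], [0,1,0,1,0,1], [1,2,1,2,1,2], [2,3,2,3,2,3], [2,4,2,4,2,4], [4,5,4,5,4,5]]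

def subw : List (List Nat) := [[0], [1], [2], [3], [4], [5]]

end Cfsg.Agent.Co2Type.Up7Data
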