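import Cfsg.Agent.Co2Type.Up9Chk0
import Cfsg.Agent.Co2Type.Up9Chk1
import Cfsg.Agent.Co2Type.Up9Chk2
import Cfsg.Agent.Co2Type.Up9Chk3
import Cfsg.Agent.Co2Type.Up9Chk4
import Cfsg.Agent.Co2Type.Up9Chk5
import Cfsg.Agent.Co2Type.Up9Chk6
import Cfsg.Agent.Co2Type.Up9Chk7
import Cfsg.Agent.Co2Type.Up9Chk8
import Cfsg.Agent.Co2Type.Up9Chk9
import Cfsg.Agent.Co2Type.Up9Chk10
import Cfsg.Agent.Co2Type.Up9Chk11
import Cfsg.Agent.Co2Type.Up9Chk12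
import Cfsg.Agent.Co2Type.Up9Chk13
import Cfsg.Agent.Co2Type.Up9Chk14
import Cfsg.Agent.Co2Type.Up9Chk15
import Cfsg.Agent.Co2Type.Up9Chk16
import Cfsg.Agent.Co2Type.Up9Chk17
import Cfsg.Agent.Co2Type.Up9Chk18
import Cfsg.Agent.Co2Type.Up9Chk19
import Cfsg.Agent.Co2Type.Up9Chk20
import Cfsg.Agent.Co2Type.Up9Chk21
import Cfsg.Agent.Co2Type.Up9Chk22
import Cfsg.Agent.Co2Type.Up9Chk23
import Cfsg.Agent.Co2Type.Up9Chk24
import Cfsg.Agent.Co2Type.Up9Chk25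
import Cfsg.Agent.Co2Type.Up9Chk26
import Cfsg.Agent.Co2Type.Up9Chk27
import Cfsg.Agent.Co2Type.Up9Chk28
import Cfsg.Agent.Co2Type.Up9Chk29
import Cfsg.Agent.Co2Type.Up9Chk30
import Cfsg.Agent.Co2Type.Up9Chk31
import Cfsg.Agent.Co2Type.Up9Chk32
import Cfsg.Agent.Co2Type.Up9Chk33
import Cfsg.Agent.Co2Type.Up9Chk34
import Cfsg.Agent.Co2Type.Up9Chk35
import Cfsg.Agent.Co2Type.Up9Chk36
import Cfsg.Agent.Co2Type.Up9Chk37
import Cfsg.Agent.Co2Type.Up9Chk38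
import Cfsg.Agent.Co2Type.Up9Chk39

set_option autoImplicit false
set_option maxRecDepth 100000

namespace Cfsg.Agent.Co2Type.Up9All

open Cfsg.Agent.SporadicRecognition.CosetCert Cfsg.Agent.Co2Type.Up9Data

theorem part : Part C 0 C.N 56925 := (((((((((((((((((((((((((((((((((((((((Cfsg.Agent.Co2Type.Up9Chk0.all).append C Cfsg.Agent.Co2Type.Up9Chk1.all).append C Cfsg.Agent.Co2Type.Up9Chk2.all).append C Cfsg.Agent.Co2Type.Up9Chk3.all).append C Cfsg.Agent.Co2Type.Up9Chk4.all).append C Cfsg.Agent.Co2Type.Up9Chk5.all).append C Cfsg.Agent.Co2Type.Up9Chk6.all).append C Cfsg.Agent.Co2Type.Up9Chk7.all).append C Cfsg.Agent.Co2Type.Up9Chk8.all).append C Cfsg.Agent.Co2Type.Up9Chk9.all).append C Cfsg.Agent.Co2Type.Up9Chk10.all).append C Cfsg.Agent.Co2Type.Up9Chk11.all).append C Cfsg.Agent.Co2Type.Up9Chk12.all).append C Cfsg.Agent.Co2Type.Up9Chk13.all).append C Cfsg.Agent.Co2Type.Up9Chk14.all).append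 C Cfsg.Agent.Co2Type.Up9Chk15.all).append C Cfsg.Agent.Co2Type.Up9Chk16.all).append C Cfsg.Agent.Co2Type.Up9Chk17.all).append C Cfsg.Agent.Co2Type.Up9Chk18.all).append C Cfsg.Agent.Co2Type.Up9Chk19.all).append C Cfsg.Agent.Co2Type.Up9Chk20.all).append C Cfsg.Agent.Co2Type.Up9Chk21.all).append C Cfsg.Agent.Co2Type.Up9Chk22.all).append C Cfsg.Agent.Co2Type.Up9Chk23.all).append C Cfsg.Agent.Co2Type.Up9Chk24.all).append C Cfsg.Agent.Co2Type.Up9Chk25.all).append C Cfsg.Agent.Co2Type.Up9Chk26.all).append C Cfsg.Agent.Co2Type.Up9Chk27.all).append C Cfsg.Agent.Co2Type.Up9Chk28.all).append C Cfsg.Agent.Co2Type.Up9Chk29.all).append C Cfsg.Agent.Co2Type.Up9Chk30.all).append C Cfsg.Agent.Co2Type.Up9Chk31.all).append C Cfsg.Agent.Co2Type.Up9Chk32.all).append C Cfsg.Agent.Co2Type.Up9Chk33.all).append C Cfsg.Agent.Co2Type.Up9Chk34.all).append C Cfsg.Agent.Co2Type.Up9Chk35.all).append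 C Cfsg.Agent.Co2Type.Up9Chk36.all).append C Cfsg.Agent.Co2Type.Up9Chk37.all).append C Cfsg.Agent.Co2Type.Up9Chk38.all).append C Cfsg.Agent.Co2Type.Up9Chk39.all

end Cfsg.Agent.Co2Type.Up9All
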