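import Cfsg.Agent.SporadicRecognition.CosetChain
import Cfsg.Agent.Co2Type.PresDef
import Cfsg.Agent.Co2Type.Up4All
import Cfsg.Agent.Co2Type.Up6All
import Cfsg.Agent.Co2Type.Up7All
import Cfsg.Agent.Co2Type.Up8All

/-!
# Order bound for groups satisfying the presentation `PC` of `2^{1+8}_+ : Sp₆(2)` (R03, helper907)
-/

set_option autoImplicit false
set_option maxRecDepth 100000

namespace Cfsg.Agent.Co2Type.UpBound

open Cfsg.Agent.SporadicRecognition.CosetCert Cfsg.Agent.SporadicRecognition.CosetCertHyp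
  Cfsg.Agent.SporadicRecognition.CosetChain Cfsg.Agent.Co2Type.PresDef

variable {G : Type*} [Group G]

theorem sq_of_rel (x : ℕ → G) (hx : ∀ r ∈ relC, ev x r = 1) : ∀ k, k < 8 → x k * x k = 1 := by
  have h2 : ∀ k, k < 8 → [k, k] ∈ relC := by decide
  intro k hk
  have := hx _ (h2 k hk)
  rwa [ev2] at this

/-- the closure of the first `n` letters -/
def cl (x : ℕ → G) (n : ℕ) : Subgroup G := Subgroup.closure (x '' {k | k < n})

theorem cl_zero (x : ℕ → G) : cl x 0 = ⊥ := by
  unfold cl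
  rw [show {k : ℕ | k < 0} = ∅ from by ext k; simp, Set.image_empty, Subgroup.closure_empty]

/-- one step -/
theorem step (C : Cert) (x : ℕ → G) (rels : List (List ℕ)) (hx : ∀ r ∈ rels, ev x r = 1)
    (hsq : ∀ k, k < C.k → x k * x k = 1) (hCinv : ∀ k, C.inv k = k) (j : ℕ) (subw : List (List ℕ))
    (hs : ∀ s ∈ subw, ∀ y ∈ s, y < j)
    (hcheck : checkHyp C (restr C.k rels) (restr C.k subw) = true)
    {n : ℕ} (hP : Part C 0 C.N n) {m : ℕ} (hfin : Finite (cl x j)) (hm : Nat.card (cl x j) ≤ m) :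
    Finite (cl x C.k) ∧ Nat.card (cl x C.k) ≤ n * m := by
  have h := card_step C x rels subw (cl x j) (fun k hk => ⟨by rw [hCinv]; exact hk, by rw [hCinv]; exact hsq k hk⟩)
    (fun r hr _ => hx r hr) (fun s hs' _ => sub_letters x j subw hs s hs') hcheck hP hfin
  exact ⟨h.1, h.2.trans (Nat.mul_le_mul_left _ hm)⟩

theorem cl4 (x : ℕ → G) (hx : ∀ r ∈ relC, ev x r = 1) : Finite (cl x 4) ∧ Nat.card (cl x 4) ≤ 120 := by
  have h0 : Finite (cl x 0) := by rw [cl_zero]; infer_instance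
  have h0' : Nat.card (cl x 0) ≤ 1 := by rw [cl_zero]; simp
  have := step Up4Data.C x relC hx (fun k hk => sq_of_rel x hx k (lt_of_lt_of_le hk (by decide)))
    (fun _ => rfl) 0 Up4Data.subw (by decide) (by decide +kernel) Up4All.part h0 h0'
  exact this

theorem cl6 (x : ℕ → G) (hx : ∀ r ∈ relC, ev x r = 1) : Finite (cl x 6) ∧ Nat.card (cl x 6) ≤ 51840 := by
  obtain ⟨h0, h0'⟩ := cl4 x hx
  have := step Up6Data.C x relC hx (fun k hk => sq_of_rel x hx k (lt_of_lt_of_le hk (by decide)))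
    (fun _ => rfl) 4 Up6Data.subw (by decide) (by decide +kernel) Up6All.part h0 h0'
  exact this

theorem cl7 (x : ℕ → G) (hx : ∀ r ∈ relC, ev x r = 1) : Finite (cl x 7) ∧ Nat.card (cl x 7) ≤ 103680 := by
  obtain ⟨h0, h0'⟩ := cl6 x hx
  have := step Up7Data.C x relC hx (fun k hk => sq_of_rel x hx k (lt_of_lt_of_le hk (by decide)))
    (fun _ => rfl) 6 Up7Data.subw (by decide) (by decide +kernel) Up7All.part h0 h0'
  exact this

/-- a group generated by `x 0, ..., x 7` satisfying `relC` has order at most `|2^{1+8}:Sp6(2)|` -/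
theorem cl8 (x : ℕ → G) (hx : ∀ r ∈ relC, ev x r = 1) :
    Finite (cl x 8) ∧ Nat.card (cl x 8) ≤ 743178240 := by
  obtain ⟨h0, h0'⟩ := cl7 x hx
  have := step Up8Data.C x relC hx (fun k hk => sq_of_rel x hx k (lt_of_lt_of_le hk (by decide)))
    (fun _ => rfl) 7 Up8Data.subw (by decide) (by decide +kernel) Up8All.part h0 h0'
  exact this

end Cfsg.Agent.Co2Type.UpBound
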