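import Cfsg.Agent.Co2Type.UpBound
import Cfsg.Agent.Co2Type.Up9All

/-!
# A group satisfying the presentation `PG` has order at most `|Co₂|` (R03, helper907)
-/

set_option autoImplicit false
set_option maxRecDepth 100000

namespace Cfsg.Agent.Co2Type.UpMain

open Cfsg.Agent.SporadicRecognition.CosetCert Cfsg.Agent.SporadicRecognition.CosetCertHyp
  Cfsg.Agent.SporadicRecognition.CosetChain Cfsg.Agent.Co2Type.PresDef Cfsg.Agent.Co2Type.UpBound

variable {G : Type*} [Group G]

/-- the relator `(beghi)^3` used by the certificate -/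
def rl : List ℕ := [3,4,7,8,6,3,4,7,8,6,3,4,7,8,6]

theorem comm_of_ev (x : ℕ → G) {p q : ℕ} (hp : x p * x p = 1) (hq : x q * x q = 1)
    (h : ev x [p, q, p, q] = 1) : Commute (x p) (x q) := by
  rw [ev4, ← mul_assoc] at h
  have h1 : x p * x q = (x p * x q)⁻¹ := (inv_eq_of_mul_eq_one_left h).symm
  rw [mul_inv_rev, inv_eq_of_mul_eq_one_left hp, inv_eq_of_mul_eq_one_left hq] at h1
  exact h1

theorem rl_eq (x : ℕ → G) (hx : ∀ r ∈ relG, ev x r = 1) : ev x rl = 1 := by
  have hC : ∀ r ∈ relC, ev x r = 1 := fun r hr => hx r (List.mem_append_left _ hr)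
  have hsq := sq_of_rel x hC
  have h8 : x 8 * x 8 = 1 := by
    have := hx [8, 8] (by decide)
    rwa [ev2] at this
  have c34 : Commute (x 3) (x 4) := comm_of_ev x (hsq 3 (by decide)) (hsq 4 (by decide)) (hx _ (by decide))
  have c37 : Commute (x 3) (x 7) := comm_of_ev x (hsq 3 (by decide)) (hsq 7 (by decide)) (hx _ (by decide))
  have c38 : Commute (x 3) (x 8) := comm_of_ev x (hsq 3 (by decide)) h8 (hx _ (by decide))
  have c36 : Commute (x 3) (x 6) := comm_of_ev x (hsq 3 (by decide)) (hsq 6 (by decide)) (hx _ (by decide))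
  have c47 : Commute (x 4) (x 7) := comm_of_ev x (hsq 4 (by decide)) (hsq 7 (by decide)) (hx _ (by decide))
  have c48 : Commute (x 4) (x 8) := comm_of_ev x (hsq 4 (by decide)) h8 (hx _ (by decide))
  have c46 : Commute (x 4) (x 6) := comm_of_ev x (hsq 4 (by decide)) (hsq 6 (by decide)) (hx _ (by decide))
  have h3 : Commute (x 3 * x 4) (x 7 * x 8 * x 6) :=
    (((c37.mul_right c38).mul_right c36).mul_left ((c47.mul_right c48).mul_right c46))
  have h5 : x 3 * x 4 * (x 7 * x 8 * x 6) ^ 3 = 1 := by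
    have := hx [3,4,7,8,6,7,8,6,7,8,6] (by decide)
    rw [← this]
    simp [ev, pow_succ, mul_assoc]
  have h6 : (x 3 * x 4) ^ 3 = x 3 * x 4 := by
    rw [c34.mul_pow]
    simp only [pow_succ, pow_zero, one_mul, hsq 3 (by decide), hsq 4 (by decide)]
  have h7 : ev x rl = (x 3 * x 4 * (x 7 * x 8 * x 6)) ^ 3 := by
    simp [ev, rl, pow_succ, mul_assoc]
  rw [h7, h3.mul_pow, h6, h5]

theorem cl9 (x : ℕ → G) (hx : ∀ r ∈ relG, ev x r = 1) :
    Finite (cl x 9) ∧ Nat.card (cl x 9) ≤ 42305421312000 := by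
  have hC : ∀ r ∈ relC, ev x r = 1 := fun r hr => hx r (List.mem_append_left _ hr)
  obtain ⟨h0, h0'⟩ := cl8 x hC
  have h8 : x 8 * x 8 = 1 := by
    have := hx [8, 8] (by decide)
    rwa [ev2] at this
  have hsq : ∀ k, k < Up9Data.C.k → x k * x k = 1 := by
    intro k hk
    have hk : k < 9 := hk
    rcases Nat.lt_succ_iff_lt_or_eq.mp hk with h | h
    · exact sq_of_rel x hC k h
    · rw [h, h8]
  have hx' : ∀ r ∈ rl :: relG, ev x r = 1 := by
    intro r hr
    rcases List.mem_cons.mp hr with h | h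
    · rw [h]; exact rl_eq x hx
    · exact hx r h
  have := step Up9Data.C x (rl :: relG) hx' hsq
    (fun _ => rfl) 8 Up9Data.subw (by decide) (by decide +kernel) Up9All.part h0 h0'
  exact this

section

variable {a b c d e f g h i : G}

theorem image_eight : lett a b c d e f g h i '' {k | k < 8} = {a, b, c, d, e, f, g, i} := by
  ext y
  simp only [Set.mem_image, Set.mem_ofPred_eq, Set.mem_insert_iff, Set.mem_singleton_iff]
  constructor
  · rintro ⟨k, hk, rfl⟩
    have : k = 0 ∨ k = 1 ∨ k = 2 ∨ k = 3 ∨ k = 4 ∨ k = 5 ∨ k = 6 ∨ k = 7 := by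
      have : k < 8 := hk
      omega
    rcases this with h | h | h | h | h | h | h | h <;> subst h <;> simp [lett]
  · rintro (h | h | h | h | h | h | h | h) <;> subst h
    · exact ⟨0, by decide, rfl⟩
    · exact ⟨3, by decide, rfl⟩
    · exact ⟨1, by decide, rfl⟩
    · exact ⟨2, by decide, rfl⟩
    · exact ⟨4, by decide, rfl⟩
    · exact ⟨5, by decide, rfl⟩
    · exact ⟨7, by decide, rfl⟩
    · exact ⟨6, by decide, rfl⟩

theorem image_nine : lett a b c d e f g h i '' {k | k < 9} = {a, b, c, d, e, f, g, h, i} := by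
  ext y
  simp only [Set.mem_image, Set.mem_ofPred_eq, Set.mem_insert_iff, Set.mem_singleton_iff]
  constructor
  · rintro ⟨k, hk, rfl⟩
    have : k = 0 ∨ k = 1 ∨ k = 2 ∨ k = 3 ∨ k = 4 ∨ k = 5 ∨ k = 6 ∨ k = 7 ∨ k = 8 := by
      have : k < 9 := hk
      omega
    rcases this with h | h | h | h | h | h | h | h | h <;> subst h <;> simp [lett]
  · rintro (h | h | h | h | h | h | h | h | h) <;> subst h
    · exact ⟨0, by decide, rfl⟩
    · exact ⟨3, by decide, rfl⟩
    · exact ⟨1, by decide, rfl⟩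
    · exact ⟨2, by decide, rfl⟩
    · exact ⟨4, by decide, rfl⟩
    · exact ⟨5, by decide, rfl⟩
    · exact ⟨7, by decide, rfl⟩
    · exact ⟨8, by decide, rfl⟩
    · exact ⟨6, by decide, rfl⟩

theorem card_le_PC (P : PC a b c d e f g i) :
    Finite (Subgroup.closure ({a, b, c, d, e, f, g, i} : Set G)) ∧
      Nat.card (Subgroup.closure ({a, b, c, d, e, f, g, i} : Set G)) ≤ 743178240 := by
  have := cl8 (lett a b c d e f g 1 i) (fun r hr => P.rel r hr)
  unfold cl at this
  rwa [image_eight] at this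

/-- Main theorem: nine elements of any group satisfying `PG` generate a finite group of order at most `|Co₂|`. -/
theorem card_le (P : PG a b c d e f g h i) :
    Finite (Subgroup.closure ({a, b, c, d, e, f, g, h, i} : Set G)) ∧
      Nat.card (Subgroup.closure ({a, b, c, d, e, f, g, h, i} : Set G)) ≤ 42305421312000 := by
  have := cl9 (lett a b c d e f g h i) (fun r hr => P.rel r hr)
  unfold cl at this
  rwa [image_nine] at this

end

end Cfsg.Agent.Co2Type.UpMain
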