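import Cfsg.Agent.Co2Type.Levi
import Cfsg.Agent.Co2Type.PairCard

/-!
# `t` is weakly closed in `Q` (R03, Co2 type, letter B, helper595)

Suppose `t' = g t g⁻¹ ∈ Q`, `t' ≠ t`; without loss `pr t' = B 7`.  By `Levi.mem_of_mem` also `t ∈ Q'`.
`J = pr (Q ∩ Q')` is totally singular and invariant under the stabiliser of `B 7`, so it is
`⟨B 7⟩` or `W = ⟨B 3, B 5, B 6, B 7⟩`; both are impossible.
-/

set_option autoImplicit false
open Cfsg

namespace Cfsg.Agent.Co2Type.WeakB1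

open Cfsg.Agent.Co2Type.Quad Cfsg.Agent.Co2Type.Setup Cfsg.Agent.Co2Type.Spin
open Cfsg.Agent.Co2Type.Code Cfsg.Agent.Co2Type.Levi Cfsg.Agent.Co2Type.Pair
open Cfsg.Agent.SporRec.TwoSp6

variable {G : Type*} [Group G] {Q Q' : Subgroup G} {t t' : G} {S : Sit G Q t}

/-- the data of the contradiction -/
structure Bad (P : Ctx S) (Q' : Subgroup G) (t' : G) : Prop where
  h' : Large Q' t'
  card' : Nat.card Q' = 2 ^ 9
  mem : t' ∈ Q
  mem' : t ∈ Q'
  ne : t' ≠ t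
  B7 : S.large.pr ⟨t', mem⟩ = P.B 7

variable {P : Ctx S}

/-- `J = pr (Q ∩ Q')` -/
def inJ (P : Ctx S) (Q' : Subgroup G) (v : S.large.V) : Prop :=
  ∃ x : Q, (x : G) ∈ Q' ∧ S.large.pr x = v

namespace Bad

variable (b : Bad P Q' t')

include b

theorem J_B7 : inJ P Q' (P.B 7) := ⟨⟨t', b.mem⟩, b.h'.z_mem, b.B7⟩

theorem J_add {v w : S.large.V} (hv : inJ P Q' v) (hw : inJ P Q' w) : inJ P Q' (v + w) := by
  obtain ⟨x, hx, rfl⟩ := hv
  obtain ⟨y, hy, rfl⟩ := hw
  exact ⟨x * y, mul_mem hx hy, S.large.pr_mul x y⟩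

theorem J_sing {v : S.large.V} (hv : inJ P Q' v) : S.large.q v = 0 := by
  obtain ⟨x, hx, rfl⟩ := hv
  rw [S.large.q_eq_zero]
  exact inf_sq S.large b.h' b.ne (mem_inf.2 ⟨x.2, hx⟩)

theorem J_perp {v w : S.large.V} (hv : inJ P Q' v) (hw : inJ P Q' w) : S.large.b v w = 0 := by
  have h1 := S.large.q_add' v w
  rw [b.J_sing hv, b.J_sing hw, b.J_sing (b.J_add hv hw), zero_add, zero_add] at h1
  exact h1.symm

theorem J_rho {k : Sp6} (hk : S.rho k (P.B 7) = P.B 7) {v : S.large.V} (hv : inJ P Q' v) :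
    inJ P Q' (S.rho k v) := by
  obtain ⟨a, ha, ha', rfl⟩ := S.exists_lift b.mem b.h'.z_ne b.ne k (by rw [b.B7]; exact hk)
  obtain ⟨x, hx, rfl⟩ := hv
  rw [S.rho_ps]
  exact ⟨_, (mem_inf.1 (conj_mem_inf S.large b.h' ha ha' (mem_inf.2 ⟨x.2, hx⟩))).2, rfl⟩

theorem Jc_xor {c d : ℕ} (hc : inJ P Q' (enc P.B c)) (hd : inJ P Q' (enc P.B d)) :
    inJ P Q' (enc P.B (c ^^^ d)) := by
  rw [enc_xor]; exact b.J_add hc hd

theorem Jc_E {i c : ℕ} (hi : i < 3) (hc : c < 256) (h : inJ P Q' (enc P.B c)) :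
    inJ P Q' (enc P.B (nE i c)) := by
  have h1 := b.J_rho (rho_tr_B7 P hi) h
  rw [P.rho_enc _ hc] at h1
  have h2 := b.Jc_xor h h1
  have h3 : ∀ i < 3, ∀ c < 256, c ^^^ stU (2 ^ i) c = nE i c := by decide +kernel
  rwa [h3 i hi c hc] at h2

theorem Jc_EF {i j c : ℕ} (hi : i < 3) (hj : j < 3) (hij : i ≠ j) (hc : c < 256)
    (h : inJ P Q' (enc P.B c)) : inJ P Q' (enc P.B (nE i (nF j c))) := by
  have h1 := b.J_rho (rho_K_B7 P hi hj hij) h
  rw [rho_K P i j hc, KV_eq i hi j hj hij c hc] at h1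
  have h2 := b.Jc_xor h h1
  rwa [← Nat.xor_assoc, Nat.xor_self, Nat.zero_xor] at h2

theorem Jc_perp {c d : ℕ} (hc : inJ P Q' (enc P.B c)) (hd : inJ P Q' (enc P.B d)) :
    bN c d = false := by
  have h1 := b.J_perp hc hd
  rw [P.b_enc] at h1
  exact Ctx.bz_eq_zero h1

theorem Jc_128 : inJ P Q' (enc P.B 128) := by rw [P.enc_128]; exact b.J_B7

omit b in
theorem cert1 : ∀ c < 256, (c.testBit 0 = true → bN c 128 = true) := by decide +kernel

omit b in
theorem cert1b : ∀ c < 256, (c.testBit 1 = true → nE 2 (nF 0 (nE 1 c)) = 64 ∧ bN c 64 = true) := by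
  decide +kernel

omit b in
theorem cert1c : ∀ c < 256, (c.testBit 2 = true → nE 2 (nF 1 (nE 0 c)) = 32 ∧ bN c 32 = true) := by
  decide +kernel

omit b in
theorem cert1d : ∀ c < 256, (c.testBit 4 = true → nE 1 (nF 2 (nE 0 c)) = 8 ∧ bN c 8 = true) := by
  decide +kernel

omit b in
theorem cert1e : ∀ c < 256, (c &&& 23 = 0 → c.testBit 3 = true → nE 2 (nF 0 c) = 64) := by
  decide +kernel

omit b in
theorem cert1f : ∀ c < 256, (c &&& 23 = 0 → c.testBit 5 = true → nE 1 (nF 0 c) = 64) := by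
  decide +kernel

omit b in
theorem cert1g : ∀ c < 256, (c &&& 23 = 0 → c.testBit 6 = true → nE 0 (nF 1 c) = 32) := by
  decide +kernel

omit b in
theorem cert2 : ∀ c < 256, c.testBit 0 = false → c.testBit 1 = false → c.testBit 2 = false →
    c.testBit 4 = false → c &&& 23 = 0 := by decide +kernel

omit b in
theorem cert3 : ∀ c < 256, c &&& 23 = 0 → c = 0 ∨ c = 128 ∨ c.testBit 3 = true ∨
    c.testBit 5 = true ∨ c.testBit 6 = true := by decide +kernel

/-- elements of `J` lie in `W` -/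
theorem Jc_W {c : ℕ} (hc : c < 256) (h : inJ P Q' (enc P.B c)) : c &&& 23 = 0 := by
  have c0 := cert1 c hc
  have c1 := cert1b c hc
  have c2 := cert1c c hc
  have c4 := cert1d c hc
  apply cert2 c hc
  · cases hb : c.testBit 0
    · rfl
    · have := b.Jc_perp h b.Jc_128
      rw [c0 hb] at this
      exact absurd this (by decide)
  · cases hb : c.testBit 1
    · rfl
    · have h1 := b.Jc_EF (i := 2) (j := 0) (by norm_num) (by norm_num) (by norm_num)
        (nE_lt 1 hc) (b.Jc_E (i := 1) (by norm_num) hc h)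
      obtain ⟨e1, e2⟩ := c1 hb
      have h2 : inJ P Q' (enc P.B 64) := by rw [← e1]; exact h1
      rw [b.Jc_perp h h2] at e2
      exact absurd e2 (by decide)
  · cases hb : c.testBit 2
    · rfl
    · have h1 := b.Jc_EF (i := 2) (j := 1) (by norm_num) (by norm_num) (by norm_num)
        (nE_lt 0 hc) (b.Jc_E (i := 0) (by norm_num) hc h)
      obtain ⟨e1, e2⟩ := c2 hb
      have h2 : inJ P Q' (enc P.B 32) := by rw [← e1]; exact h1
      rw [b.Jc_perp h h2] at e2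
      exact absurd e2 (by decide)
  · cases hb : c.testBit 4
    · rfl
    · have h1 := b.Jc_EF (i := 1) (j := 2) (by norm_num) (by norm_num) (by norm_num)
        (nE_lt 0 hc) (b.Jc_E (i := 0) (by norm_num) hc h)
      obtain ⟨e1, e2⟩ := c4 hb
      have h2 : inJ P Q' (enc P.B 8) := by rw [← e1]; exact h1
      rw [b.Jc_perp h h2] at e2
      exact absurd e2 (by decide)

/-- (C1): `J` is `⟨B 7⟩` or `W` -/
theorem J_cases : (∀ c < 256, inJ P Q' (enc P.B c) → c = 0 ∨ c = 128) ∨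
    (inJ P Q' (enc P.B 8) ∧ inJ P Q' (enc P.B 32) ∧ inJ P Q' (enc P.B 64)) := by
  by_cases hall : ∀ c < 256, inJ P Q' (enc P.B c) → c = 0 ∨ c = 128
  · exact Or.inl hall
  right
  push Not at hall
  obtain ⟨c, hc, hJ, hc0, hc128⟩ := hall
  have hW := b.Jc_W hc hJ
  have c3 := cert1e c hc
  have c5 := cert1f c hc
  have c6 := cert1g c hc
  have h64to8 : inJ P Q' (enc P.B 64) → inJ P Q' (enc P.B 8) := by
    intro h
    have h1 := b.Jc_EF (i := 0) (j := 2) (by norm_num) (by norm_num) (by norm_num)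
      (by norm_num : (64 : ℕ) < 256) h
    exact h1
  have h64to32 : inJ P Q' (enc P.B 64) → inJ P Q' (enc P.B 32) := by
    intro h
    have h1 := b.Jc_EF (i := 0) (j := 1) (by norm_num) (by norm_num) (by norm_num)
      (by norm_num : (64 : ℕ) < 256) h
    exact h1
  have h32to64 : inJ P Q' (enc P.B 32) → inJ P Q' (enc P.B 64) := by
    intro h
    have h1 := b.Jc_EF (i := 1) (j := 0) (by norm_num) (by norm_num) (by norm_num)
      (by norm_num : (32 : ℕ) < 256) h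
    exact h1
  have h64 : inJ P Q' (enc P.B 64) := by
    rcases cert3 c hc hW with h | h | h | h | h
    · exact absurd h hc0
    · exact absurd h hc128
    · rw [← c3 hW h]
      exact b.Jc_EF (by norm_num) (by norm_num) (by norm_num) hc hJ
    · rw [← c5 hW h]
      exact b.Jc_EF (by norm_num) (by norm_num) (by norm_num) hc hJ
    · apply h32to64
      rw [← c6 hW h]
      exact b.Jc_EF (by norm_num) (by norm_num) (by norm_num) hc hJ
  exact ⟨h64to8 h64, h64to32 h64, h64⟩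

/-- `[D', v] ≤ J` for `v ⊥ B 7` -/
theorem comm_J {d : G} (hd : d ∈ dsub Q' t) (hdt : d * t = t * d) {v : S.large.V}
    (hv : S.large.b v (P.B 7) = 0) : inJ P Q' (S.rho (S.ps hdt) v + v) := by
  obtain ⟨x, rfl⟩ := S.large.pr_surjective v
  rw [← b.B7, S.large.b_pr] at hv
  have hx : (x : G) ∈ dsub Q t' := mem_dsub.2 ⟨x.2, hv⟩
  have hxi : (x : G)⁻¹ ∈ dsub Q t' := inv_mem hx
  have h1 := commutator_mem S.large b.h' hxi hd
  -- x⁻¹ d x d⁻¹
  have h2 := mem_inf.1 h1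
  refine ⟨⟨_, h2.1⟩, h2.2, ?_⟩
  rw [S.rho_ps]
  have h3 : (⟨(x : G)⁻¹ * d * ((x : G)⁻¹)⁻¹ * d⁻¹, h2.1⟩ : Q) =
      x⁻¹ * ⟨d * x * d⁻¹, S.large.conj_mem d hdt x x.2⟩ := by
    apply Subtype.ext
    show (x : G)⁻¹ * d * ((x : G)⁻¹)⁻¹ * d⁻¹ = (x : G)⁻¹ * (d * x * d⁻¹)
    group
  rw [h3, S.large.pr_mul, S.large.pr_inv, S.large.neg_eq, add_comm]

theorem rho_ps_B7 {d : G} (hd : d ∈ dsub Q' t) (hdt : d * t = t * d) :
    S.rho (S.ps hdt) (P.B 7) = P.B 7 := by
  rw [← b.B7, S.rho_ps]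
  congr 1
  apply Subtype.ext
  show d * t' * d⁻¹ = t'
  rw [b.h'.comm_z d (mem_dsub.1 hd).1]; group

theorem card_D' : Nat.card (dsub Q' t) = 2 ^ 8 := by
  have h1 := card_dsub b.h' b.mem' S.large.z_ne (Ne.symm b.ne)
  rw [b.card'] at h1
  omega

end Bad

end Cfsg.Agent.Co2Type.WeakB1
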