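import Cfsg.Agent.Co2Type.WeakB1

/-!
# The case `J = ⟨B 7⟩` (R03, Co2 type, letter B, helper595)
-/

set_option autoImplicit false
open Cfsg

namespace Cfsg.Agent.Co2Type.WeakB1

open Cfsg.Agent.Co2Type.Quad Cfsg.Agent.Co2Type.Setup Cfsg.Agent.Co2Type.Spin
open Cfsg.Agent.Co2Type.Code Cfsg.Agent.Co2Type.Levi Cfsg.Agent.Co2Type.Pair
open Cfsg.Agent.SporRec.TwoSp6

variable {G : Type*} [Group G] {Q Q' : Subgroup G} {t t' : G} {S : Sit G Q t}

/-- `k = N n_a + n_a N` for `N = 1 + d_u k`, `(u, a) = 1`, `k a = a` -/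
theorem rank_aux (hs : SpinHyp S.rho) {u a : U} {k : Sp6} (h1 : sf u a = 1)
    (h2 : Sp.act k a = a) (v : S.large.V) :
    S.rho k v = (S.rho (Sp.tr u * k) (n S.rho a v) + n S.rho a v) +
      n S.rho a (S.rho (Sp.tr u * k) v + v) := by
  have e1 : D S.rho k * n S.rho a = n S.rho a * D S.rho k := by
    rw [D_mul_n]
    have : (k : Matrix _ _ (ZMod 2)).mulVec a = a := h2
    rw [this]
  have e2 : D S.rho (Sp.tr u * k) = T S.rho u * D S.rho k := by
    rw [D_mul]; rfl
  have e3 : T S.rho u * n S.rho a + n S.rho a * T S.rho u = 1 := by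
    rw [T_eq]
    calc (1 + n S.rho u) * n S.rho a + n S.rho a * (1 + n S.rho u)
        = (n S.rho a + n S.rho a) + (n S.rho u * n S.rho a + n S.rho a * n S.rho u) := by noncomm_ring
      _ = 1 := by rw [add_self', zero_add, n_anticomm hs, h1, one_smul]
  have e4 : D S.rho k = (D S.rho (Sp.tr u * k) * n S.rho a + n S.rho a) +
      n S.rho a * (D S.rho (Sp.tr u * k) + 1) := by
    rw [e2]
    calc D S.rho k = (T S.rho u * n S.rho a + n S.rho a * T S.rho u) * D S.rho k := by
          rw [e3, one_mul]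
      _ = T S.rho u * (n S.rho a * D S.rho k) + n S.rho a * (T S.rho u * D S.rho k) := by
          noncomm_ring
      _ = T S.rho u * D S.rho k * n S.rho a + n S.rho a * (T S.rho u * D S.rho k) := by
          rw [← e1]; noncomm_ring
      _ = T S.rho u * D S.rho k * n S.rho a + n S.rho a * (T S.rho u * D S.rho k) +
          (n S.rho a + n S.rho a) := by rw [add_self', add_zero]
      _ = _ := by noncomm_ring
  exact LinearMap.congr_fun e4 v

theorem rank_false (hs : SpinHyp S.rho) {u a : U} {k : Sp6} (h1 : sf u a = 1)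
    (h2 : Sp.act k a = a) (T4 : Finset S.large.V) (hT : ∀ v, S.rho (Sp.tr u * k) v + v ∈ T4)
    (hc : T4.card ≤ 4) : False := by
  classical
  let Φ : S.large.V → T4 × T4 := fun v => (⟨_, hT (n S.rho a v)⟩, ⟨_, hT v⟩)
  have hinj : Function.Injective Φ := by
    intro v w hvw
    have e1 := congrArg (fun x : T4 × T4 => (x.1 : S.large.V)) hvw
    have e2 := congrArg (fun x : T4 × T4 => (x.2 : S.large.V)) hvw
    simp only [Φ] at e1 e2
    have e3 := rank_aux hs h1 h2 v
    rw [e1, e2, ← rank_aux hs h1 h2 w] at e3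
    exact (S.rho k).injective e3
  have hle := Nat.card_le_card_of_injective Φ hinj
  rw [S.card_V, Nat.card_prod, Nat.card_eq_fintype_card, Fintype.card_coe] at hle
  have : T4.card * T4.card ≤ 4 * 4 := Nat.mul_le_mul hc hc
  omega

/-- an involution `r ≠ 1` of `Sp6(2)` with `|(r-1)V| ≤ 4` satisfies `q((r-1)v) = 0` -/
theorem q_of_small (hs : SpinHyp S.rho) {r : Sp6} (hr : r * r = 1) (hr1 : r ≠ 1)
    (T4 : Finset S.large.V) (hT : ∀ v, S.rho r v + v ∈ T4) (hc : T4.card ≤ 4) (v : S.large.V) :
    S.large.q (S.rho r v + v) = 0 := by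
  rcases Invol.classify hr hr1 with ⟨u, hu, rfl⟩ | ⟨u, w, hu, hw, hwu, huw, rfl⟩ |
    ⟨u, w, hu, hw, hwu, huw, rfl⟩ | ⟨u, w, s, hind, hort, rfl⟩
  · exfalso
    obtain ⟨a, ha⟩ := Sp.exists_om_one hu
    refine rank_false hs (u := u) (a := a) (k := 1) ha (Sp.act_one a) T4 ?_ hc
    rwa [mul_one]
  · exfalso
    obtain ⟨a, ha, ha'⟩ := Sp.exists_om_one_zero hu (Ne.symm hwu)
    refine rank_false hs (u := u) (a := a) (k := Sp.tr w) ha ?_ T4 hT hc
    rw [Sp.act_tr, Sp.om_symm, ha', zero_smul, add_zero]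
  · have h1 : S.rho (Sp.tr u * Sp.tr w * Sp.tr (u + w)) v + v = n S.rho u (n S.rho w v) := by
      have e1 : D S.rho (Sp.tr u * Sp.tr w * Sp.tr (u + w)) + 1 = n S.rho u * n S.rho w := by
        have e2 : D S.rho (Sp.tr u * Sp.tr w * Sp.tr (u + w)) =
            T S.rho u * T S.rho w * T S.rho (u + w) := by
          rw [D_mul, D_mul]; rfl
        have e3 : n S.rho (u + w) = n S.rho u + n S.rho w := by
          rw [n_add hs S.card_V]
          have : sf u w = 0 := huw
          rw [this, zero_smul, add_zero]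
        have e4 := n_mul_self S.rho u
        have e5 := n_mul_self S.rho w
        have e6 : n S.rho w * n S.rho u = n S.rho u * n S.rho w :=
          n_comm_of_zero S.rho huw
        rw [e2, T_eq, T_eq, T_eq, e3]
        calc (1 + n S.rho u) * (1 + n S.rho w) * (1 + (n S.rho u + n S.rho w)) + 1
            = (1 + 1) + (n S.rho u + n S.rho u) + (n S.rho w + n S.rho w) +
              n S.rho u * n S.rho u + n S.rho w * n S.rho w + n S.rho u * n S.rho w +
              (n S.rho w * n S.rho u + n S.rho u * n S.rho w) +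
              n S.rho u * (n S.rho w * n S.rho u) + n S.rho u * (n S.rho w * n S.rho w) := by
                noncomm_ring
          _ = n S.rho u * n S.rho w := by
            rw [e4, e5, e6, add_self', add_self', add_self', add_self', mul_zero,
              ← mul_assoc (n S.rho u), e4, zero_mul]
            simp only [zero_add, add_zero, add_self']
      exact LinearMap.congr_fun e1 v
    rw [h1]
    exact q_n hs S.b_rho S.large.b_self S.large.q_add' S.q_rho _ _
  · exfalso
    obtain ⟨a, ha, ha1, ha2⟩ := Invol.exists_om_triple (u := w) (w := s) (t := u) (by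
      obtain ⟨i1, i2, i3, i4, i5, i6, i7⟩ := hind
      refine ⟨i2, i4, i6, i1, Ne.symm i3, Ne.symm i5, ?_⟩
      intro h
      apply i7
      rw [h, add_comm w s, add_assoc, Sp.add_self, add_zero])
    refine rank_false hs (u := u) (a := a) (k := Sp.tr w * Sp.tr s) ha ?_ T4 ?_ hc
    · have f1 : Sp.act (Sp.tr s) a = a := by
        rw [Sp.act_tr, Sp.om_symm, ha2, zero_smul, add_zero]
      have f2 : Sp.act (Sp.tr w) a = a := by
        rw [Sp.act_tr, Sp.om_symm, ha1, zero_smul, add_zero]
      rw [Sp.act_mul, f1, f2]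
    · intro v
      rw [← mul_assoc]; exact hT v

variable {P : Ctx S}

namespace Bad

variable (b : Bad P Q' t')

include b

/-- elements of `R = psi(D')` have square `1` -/
theorem ps_sq {d : G} (hd : d ∈ dsub Q' t) (hdt : d * t = t * d) :
    S.ps hdt * S.ps hdt = 1 := by
  have h2 : d * d * t = t * (d * d) := by rw [mul_assoc, hdt, ← mul_assoc, hdt, mul_assoc]
  rw [← S.ps_mul hdt hdt h2, S.ps_eq_one]
  rcases b.h'.sq d (mem_dsub.1 hd).1 with h | h
  · rw [h]; exact one_mem Q
  · rw [h]; exact b.mem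

/-- the target set of (C2) -/
def TC2 : Finset ℕ := (Finset.range 256).filter (fun c => c.testBit 0 = false ∧ c.testBit 7 = qN c)

omit b in
theorem card_TC2 : TC2.card = 64 := by decide +kernel

omit b in
theorem certq : ∀ c < 256, c.testBit 0 = false → qN (1 ^^^ c) = false → c.testBit 7 = qN c := by
  decide +kernel

omit b in
theorem certb : ∀ c < 256, bN c 128 = c.testBit 0 := by decide +kernel

/-- the case `J = ⟨B 7⟩` is impossible -/
theorem false_of_small [Finite G] (hJ : ∀ c < 256, inJ P Q' (enc P.B c) → c = 0 ∨ c = 128) :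
    False := by
  classical
  have hJv : ∀ v, inJ P Q' v → v = 0 ∨ v = P.B 7 := by
    intro v hv
    rcases hJ (cd P.B v) (cd_lt P.B v) (by rw [enc_cd]; exact hv) with h | h
    · left; rw [← enc_cd P.B v, h, enc_zero]
    · right; rw [← enc_cd P.B v, h, P.enc_128]
  have hB07 : S.large.b (P.B 0) (P.B 7) = 1 := by rw [P.hb, if_pos (by rfl)]
  have h128 := P.enc_128
  have h1c : enc P.B 1 = P.B 0 := enc_pow P.B 0
  have hadd := S.large.add_self
  set D' := dsub Q' t with hD'
  have hcomm : ∀ d : D', (d : G) * t = t * d := fun d => (mem_dsub.1 d.2).2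
  -- `B7^⊥` is moved by multiples of `B7`
  have hperp : ∀ (d : D') (v : S.large.V), S.large.b v (P.B 7) = 0 →
      S.rho (S.ps (hcomm d)) v = v ∨ S.rho (S.ps (hcomm d)) v = v + P.B 7 := by
    intro d v hv
    rcases hJv _ (b.comm_J d.2 (hcomm d) hv) with h | h
    · left
      have := congrArg (fun x => x + v) h
      simp only [add_assoc, hadd v, add_zero, zero_add] at this
      exact this
    · right
      have := congrArg (fun x => x + v) h
      simp only [add_assoc, hadd v, add_zero] at this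
      rw [this, add_comm]
  -- an element fixing `B0` lies in `Q`
  have hfix0 : ∀ d : D', S.rho (S.ps (hcomm d)) (P.B 0) = P.B 0 → (d : G) ∈ Q := by
    intro d hd0
    rw [← S.ps_eq_one (hcomm d)]
    apply S.rho_injective
    rw [map_one]
    apply LinearEquiv.toLinearMap_injective
    apply P.B.ext
    intro I
    show S.rho (S.ps (hcomm d)) (P.B I) = P.B I
    by_cases hI : I = 0
    · rw [hI]; exact hd0
    · have hbI : S.large.b (P.B I) (P.B 7) = 0 := by
        rw [P.hb, if_neg]
        intro h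
        exact hI (by simpa using h)
      rcases hperp d (P.B I) hbI with h | h
      · exact h
      · exfalso
        have h2 := S.b_rho (S.ps (hcomm d)) (P.B I) (P.B 0)
        rw [h, hd0, map_add, LinearMap.add_apply, S.large.b_comm (P.B 7), hB07] at h2
        have h3 : ∀ a : ZMod 2, a + 1 ≠ a := by decide
        exact h3 _ h2
  -- order of the kernel
  have hKc : Nat.card ((Q ⊓ Q').subgroupOf D') ≤ 4 := by
    have hsub : ∀ x ∈ (Q ⊓ Q').subgroupOf D', (x : G) ∈ ({1, t, t', t' * t} : Finset G) := by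
      intro x hx
      rw [Subgroup.mem_subgroupOf, Pair.mem_inf] at hx
      have h2 := hJv (S.large.pr ⟨x, hx.1⟩) ⟨⟨x, hx.1⟩, hx.2, rfl⟩
      simp only [Finset.mem_insert, Finset.mem_singleton]
      rcases h2 with h2 | h2
      · rcases S.large.pr_eq_zero.1 h2 with h3 | h3
        · exact Or.inl h3
        · exact Or.inr (Or.inl h3)
      · rw [← b.B7, S.large.pr_eq_pr] at h2
        rcases h2 with h3 | h3
        · exact Or.inr (Or.inr (Or.inl h3))
        · exact Or.inr (Or.inr (Or.inr h3))
    let g : (Q ⊓ Q').subgroupOf D' → ({1, t, t', t' * t} : Finset G) := fun x => ⟨_, hsub x x.2⟩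
    have hg : Function.Injective g := by
      intro x y hxy
      apply Subtype.ext
      apply Subtype.ext
      exact congrArg (fun z : ({1, t, t', t' * t} : Finset G) => (z : G)) hxy
    refine (Nat.card_le_card_of_injective g hg).trans ?_
    rw [Nat.card_eq_fintype_card, Fintype.card_coe]
    exact Finset.card_le_four
  -- the counting map
  let F : D' → ℕ := fun d => cd P.B (S.rho (S.ps (hcomm d)) (P.B 0) + P.B 0)
  have hFT : ∀ d, F d ∈ TC2 := by
    intro d
    have hlt : F d < 256 := cd_lt _ _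
    have he : enc P.B (F d) = S.rho (S.ps (hcomm d)) (P.B 0) + P.B 0 := enc_cd _ _
    have hb0 : (F d).testBit 0 = false := by
      have h2 : S.large.b (enc P.B (F d)) (enc P.B 128) = 0 := by
        rw [he, h128, map_add, LinearMap.add_apply]
        have h3 := S.b_rho (S.ps (hcomm d)) (P.B 0) (P.B 7)
        rw [b.rho_ps_B7 d.2 (hcomm d)] at h3
        rw [h3]
        exact zmod2_add_self _
      rw [P.b_enc, certb _ hlt] at h2
      exact Ctx.bz_eq_zero h2
    have hq0 : qN (1 ^^^ F d) = false := by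
      have h2 : enc P.B (1 ^^^ F d) = S.rho (S.ps (hcomm d)) (P.B 0) := by
        rw [enc_xor, he, h1c, add_comm (S.rho _ _), ← add_assoc, hadd, zero_add]
      have h3 := S.q_rho (S.ps (hcomm d)) (P.B 0)
      rw [← h2, P.hq, P.q_enc (Nat.xor_lt_two_pow (n := 8) (by norm_num) hlt)] at h3
      exact Ctx.bz_eq_zero h3
    rw [TC2, Finset.mem_filter, Finset.mem_range]
    exact ⟨hlt, hb0, certq _ hlt hb0 hq0⟩
  have hFK : ∀ x y : D', F x = F y → x⁻¹ * y ∈ (Q ⊓ Q').subgroupOf D' := by
    intro x y hxy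
    have h2 := cd_inj P.B hxy
    have h3 := add_right_cancel h2
    have hx' : (x : G)⁻¹ * t = t * (x : G)⁻¹ := by
      have := hcomm x⁻¹
      exact this
    have h4 : S.rho (S.ps (hcomm (x⁻¹ * y))) (P.B 0) = P.B 0 := by
      have e : S.ps (hcomm (x⁻¹ * y)) = (S.ps (hcomm x))⁻¹ * S.ps (hcomm y) := by
        rw [← S.ps_inv (hcomm x) hx']
        exact S.ps_mul hx' (hcomm y) (hcomm (x⁻¹ * y))
      rw [e, map_mul, LinearEquiv.mul_apply, ← h3, ← LinearEquiv.mul_apply, ← map_mul,
        inv_mul_cancel, map_one]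
      rfl
    rw [Subgroup.mem_subgroupOf, Pair.mem_inf]
    exact ⟨hfix0 _ h4, (mem_dsub.1 (x⁻¹ * y).2).1⟩
  have hcard : TC2.card * Nat.card ((Q ⊓ Q').subgroupOf D') ≤ Nat.card D' := by
    rw [card_TC2, b.card_D']
    calc 64 * Nat.card ((Q ⊓ Q').subgroupOf D') ≤ 64 * 4 := Nat.mul_le_mul_left _ hKc
      _ = 2 ^ 8 := by norm_num
  obtain ⟨d, hd⟩ := surj_of_fibre ((Q ⊓ Q').subgroupOf D') TC2 F hFT hFK hcard
    (c := 194) (by decide +kernel)
  have he : S.rho (S.ps (hcomm d)) (P.B 0) + P.B 0 = enc P.B 194 := by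
    rw [← hd, enc_cd]
  have hq : S.large.q (enc P.B 194) = 1 := by
    rw [P.q_enc (by norm_num)]; rfl
  have hr1 : S.ps (hcomm d) ≠ 1 := by
    intro h
    rw [h, map_one] at he
    have h2 : enc P.B 194 = 0 := by rw [← he]; exact hadd _
    rw [h2, S.large.q_zero] at hq
    exact absurd hq (by decide)
  have hT : ∀ v, S.rho (S.ps (hcomm d)) v + v ∈
      ({0, P.B 7, enc P.B 194, enc P.B 194 + P.B 7} : Finset S.large.V) := by
    intro v
    simp only [Finset.mem_insert, Finset.mem_singleton]
    rcases zmod2_cases (S.large.b v (P.B 7)) with hv | hv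
    · rcases hperp d v hv with h | h
      · left; rw [h, hadd]
      · right; left; rw [h, add_comm v, add_assoc, hadd, add_zero]
    · have hv' : S.large.b (v + P.B 0) (P.B 7) = 0 := by
        rw [map_add, LinearMap.add_apply, hv, hB07]; decide
      have e1 : S.rho (S.ps (hcomm d)) v + v =
          (S.rho (S.ps (hcomm d)) (v + P.B 0) + (v + P.B 0)) + enc P.B 194 := by
        rw [← he, map_add]
        have h2 := hadd (S.rho (S.ps (hcomm d)) (P.B 0))
        have h3 := hadd (P.B 0)
        calc S.rho (S.ps (hcomm d)) v + v = S.rho (S.ps (hcomm d)) v + v +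
              (S.rho (S.ps (hcomm d)) (P.B 0) + S.rho (S.ps (hcomm d)) (P.B 0)) +
              (P.B 0 + P.B 0) := by rw [h2, h3, add_zero, add_zero]
          _ = _ := by abel
      rw [e1]
      rcases hperp d _ hv' with h | h
      · right; right; left; rw [h, hadd, zero_add]
      · right; right; right
        rw [h, add_comm (v + P.B 0) (P.B 7), add_assoc (P.B 7), hadd, add_zero, add_comm]
  have hfin := q_of_small P.hs (b.ps_sq d.2 (hcomm d)) hr1 _ hT Finset.card_le_four (P.B 0)
  rw [he, hq] at hfin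
  exact absurd hfin (by decide)

end Bad

end Cfsg.Agent.Co2Type.WeakB1
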