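import Cfsg.Agent.Co2Type.WeakB1b

/-!
# The case `J = W`, and the weak closure theorem (R03, Co2 type, letter B, helper595)
-/

set_option autoImplicit false
open Cfsg

namespace Cfsg.Agent.Co2Type.WeakB1

open Cfsg.Agent.Co2Type.Quad Cfsg.Agent.Co2Type.Setup Cfsg.Agent.Co2Type.Spin
open Cfsg.Agent.Co2Type.Code Cfsg.Agent.Co2Type.Levi Cfsg.Agent.Co2Type.Pair
open Cfsg.Agent.SporRec.TwoSp6

/-! ### identification of a transvection in `Sp6(2)` -/

theorem tr_inj {u w : U} (hu : u ≠ 0) (h : Sp.tr u = Sp.tr w) : u = w := by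
  obtain ⟨x, hx⟩ := Sp.exists_om_one hu
  have h1 := Sp.act_tr u x
  rw [h, Sp.act_tr, Sp.om_symm x u, hx, one_smul] at h1
  have h2 := add_left_cancel h1
  rcases Sp.om_cases x w with h3 | h3
  · rw [h3, zero_smul] at h2
    exact absurd h2.symm hu
  · rw [h3, one_smul] at h2
    exact h2.symm

theorem act_eq_of_comm {r : Sp6} {u : U} (hu : u ≠ 0) (h : Sp.tr u * r = r * Sp.tr u) :
    Sp.act r u = u := by
  have h1 := Sp.conj_tr r u
  rw [← h, mul_inv_cancel_right] at h1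
  exact (tr_inj hu h1).symm

theorem e_eq (i : ℕ) (hi : i < 3) : (Sp.enc (2 ^ i) : U) = e ⟨i, hi⟩ := by
  interval_cases i <;> (funext j; rcases j with j | j <;> fin_cases j <;> rfl)

theorem f_eq (i : ℕ) (hi : i < 3) : (Sp.enc (2 ^ (3 + i)) : U) = f ⟨i, hi⟩ := by
  interval_cases i <;> (funext j; rcases j with j | j <;> fin_cases j <;> rfl)

theorem act_K_apply {i j : ℕ} (hi : i < 3) (hj : j < 3) (hij : i ≠ j) (x : U) :
    Sp.act (K i j) x = x + (Sp.om x (f ⟨j, hj⟩) • e ⟨i, hi⟩ + Sp.om x (e ⟨i, hi⟩) • f ⟨j, hj⟩) := by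
  rw [K, Sp.enc_xor, e_eq i hi, f_eq j hj, ← mul_assoc]
  apply Invol.tr3_apply
  have h1 : sf (e ⟨i, hi⟩) (f ⟨j, hj⟩) = 0 := by
    rw [sf_e_f, if_neg]
    intro h
    exact hij (congrArg Fin.val h)
  exact h1

/-- `r f_j = f_j + λ e_i` if `r` commutes with `K i j` -/
theorem act_f_of_comm {r : Sp6} {i j : ℕ} (hi : i < 3) (hj : j < 3) (hij : i ≠ j)
    (he : Sp.act r (e ⟨i, hi⟩) = e ⟨i, hi⟩) (h : K i j * r = r * K i j) :
    ∃ a : ZMod 2, Sp.act r (f ⟨j, hj⟩) = f ⟨j, hj⟩ + a • e ⟨i, hi⟩ := by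
  have h1 : Sp.act (K i j) (Sp.act r (f ⟨i, hi⟩)) = Sp.act r (Sp.act (K i j) (f ⟨i, hi⟩)) := by
    rw [← Sp.act_mul, h, Sp.act_mul]
  have hne : (⟨i, hi⟩ : Fin 3) ≠ ⟨j, hj⟩ := fun h => hij (congrArg Fin.val h)
  have e1 : Sp.om (f ⟨i, hi⟩) (f ⟨j, hj⟩) = 0 := sf_f_f _ _
  have e2 : Sp.om (f ⟨i, hi⟩) (e ⟨i, hi⟩) = 1 := by
    have := sf_f_e ⟨i, hi⟩ ⟨i, hi⟩
    rw [if_pos rfl] at this
    exact this
  have e3 : Sp.om (Sp.act r (f ⟨i, hi⟩)) (e ⟨i, hi⟩) = 1 := by
    have h5 := Sp.act_om r (f ⟨i, hi⟩) (e ⟨i, hi⟩)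
    rw [he, e2] at h5
    exact h5
  rw [act_K_apply hi hj hij, act_K_apply hi hj hij, e1, e2, e3, zero_smul, zero_add, one_smul,
    Sp.act_add] at h1
  have h2 := add_left_cancel h1
  refine ⟨Sp.om (Sp.act r (f ⟨i, hi⟩)) (f ⟨j, hj⟩), ?_⟩
  rw [← h2, add_comm]

theorem eq_of_two {a c : ZMod 2} {i j : Fin 3} (hij : i ≠ j) {x y : U} (h1 : y = x + a • e i)
    (h2 : y = x + c • e j) : y = x := by
  have h3 : a • e i = c • e j := by
    rw [h1] at h2
    exact add_left_cancel h2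
  have h4 := congrArg (fun z => Sp.om z (f i)) h3
  rw [Invol.om_smul', Invol.om_smul'] at h4
  have e1 : Sp.om (e i) (f i) = 1 := by
    have := sf_e_f i i
    rwa [if_pos rfl] at this
  have e2 : Sp.om (e j) (f i) = 0 := by
    have := sf_e_f j i
    rwa [if_neg (Ne.symm hij)] at this
  rw [e1, e2, mul_one, mul_zero] at h4
  rw [h1, h4, zero_smul, add_zero]

theorem U_basis (x : U) : x = x (Sum.inl 0) • e 0 + x (Sum.inl 1) • e 1 + x (Sum.inl 2) • e 2 +
      (x (Sum.inr 0) • f 0 + x (Sum.inr 1) • f 1 + x (Sum.inr 2) • f 2) := by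
  funext i
  rcases i with i | i <;> fin_cases i <;> simp [e, f]

/-- the element of `R` with functional `(1,0,0)` is `d_{e_0}` (or `1`) -/
theorem eq_tr_e0 {r : Sp6} (he : ∀ i < 3, Sp.tr (Sp.enc (2 ^ i)) * r = r * Sp.tr (Sp.enc (2 ^ i)))
    (h01 : K 0 1 * r = r * K 0 1) (h02 : K 0 2 * r = r * K 0 2) (h12 : K 1 2 * r = r * K 1 2)
    (h21 : K 2 1 * r = r * K 2 1) : r = 1 ∨ r = Sp.tr (e 0) := by
  have hne : ∀ i : Fin 3, e i ≠ 0 := by
    intro i h
    have := congrFun h (Sum.inl i)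
    rw [e, Pi.single_eq_same] at this
    exact one_ne_zero this
  have hE : ∀ i : Fin 3, Sp.act r (e i) = e i := by
    intro i
    have h1 := he i i.2
    rw [e_eq i i.2] at h1
    exact act_eq_of_comm (hne i) h1
  have hf1 : Sp.act r (f 1) = f 1 := by
    obtain ⟨a, ha⟩ := act_f_of_comm (i := 0) (j := 1) (by norm_num) (by norm_num) (by norm_num)
      (hE 0) h01
    obtain ⟨c, hc⟩ := act_f_of_comm (i := 2) (j := 1) (by norm_num) (by norm_num) (by norm_num)
      (hE 2) h21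
    exact eq_of_two (i := 0) (j := 2) (by decide) ha hc
  have hf2 : Sp.act r (f 2) = f 2 := by
    obtain ⟨a, ha⟩ := act_f_of_comm (i := 0) (j := 2) (by norm_num) (by norm_num) (by norm_num)
      (hE 0) h02
    obtain ⟨c, hc⟩ := act_f_of_comm (i := 1) (j := 2) (by norm_num) (by norm_num) (by norm_num)
      (hE 1) h12
    exact eq_of_two (i := 0) (j := 1) (by decide) ha hc
  -- `r f_0 = f_0 + c e_0`
  have hom : ∀ x y : U, Sp.om (Sp.act r x) (Sp.act r y) = Sp.om x y := Sp.act_om r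
  have hf0 : ∃ c : ZMod 2, Sp.act r (f 0) = f 0 + c • e 0 := by
    refine ⟨Sp.om (Sp.act r (f 0)) (f 0), ?_⟩
    apply Seven.eq_of_om
    intro x
    have hx := U_basis x
    have k1 : ∀ i, Sp.om (e i) (Sp.act r (f 0)) = Sp.om (e i) (f 0) := by
      intro i
      have := hom (e i) (f 0)
      rwa [hE] at this
    have k2 : Sp.om (f 1) (Sp.act r (f 0)) = 0 := by
      have := hom (f 1) (f 0)
      rw [hf1] at this
      rw [this]; exact sf_f_f 1 0
    have k3 : Sp.om (f 2) (Sp.act r (f 0)) = 0 := by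
      have := hom (f 2) (f 0)
      rw [hf2] at this
      rw [this]; exact sf_f_f 2 0
    have m1 : Sp.om (e 0) (f 0) = 1 := by
      have := sf_e_f 0 0
      rwa [if_pos rfl] at this
    have m2 : Sp.om (e 1) (f 0) = 0 := by
      have := sf_e_f 1 0
      rwa [if_neg (by decide)] at this
    have m3 : Sp.om (e 2) (f 0) = 0 := by
      have := sf_e_f 2 0
      rwa [if_neg (by decide)] at this
    have m4 : Sp.om (f 0) (f 0) = 0 := sf_f_f 0 0
    have m5 : Sp.om (f 1) (f 0) = 0 := sf_f_f 1 0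
    have m6 : Sp.om (f 2) (f 0) = 0 := sf_f_f 2 0
    have m7 : ∀ i, Sp.om (e i) (e 0) = 0 := fun i => sf_e_e i 0
    have m8 : Sp.om (f 0) (e 0) = 1 := by
      have := sf_f_e 0 0
      rwa [if_pos rfl] at this
    have m9 : Sp.om (f 1) (e 0) = 0 := by
      have := sf_f_e 1 0
      rwa [if_neg (by decide)] at this
    have m10 : Sp.om (f 2) (e 0) = 0 := by
      have := sf_f_e 2 0
      rwa [if_neg (by decide)] at this
    have m11 : Sp.om (f 0) (Sp.act r (f 0)) = Sp.om (Sp.act r (f 0)) (f 0) := Sp.om_symm _ _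
    rw [hx]
    simp only [Sp.om_add, Sp.om_add', Invol.om_smul, Invol.om_smul', k1, k2, k3, m1, m2, m3, m4, m5,
      m6, m7, m8, m9, m10, m11, mul_zero, mul_one, add_zero, zero_add]
    ring
  obtain ⟨c, hc⟩ := hf0
  have hact : ∀ (s : Sp6) (x : U), Sp.act s x = x (Sum.inl 0) • Sp.act s (e 0) +
      x (Sum.inl 1) • Sp.act s (e 1) + x (Sum.inl 2) • Sp.act s (e 2) +
      (x (Sum.inr 0) • Sp.act s (f 0) + x (Sum.inr 1) • Sp.act s (f 1) +
        x (Sum.inr 2) • Sp.act s (f 2)) := by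
    intro s x
    conv_lhs => rw [U_basis x]
    simp only [Sp.act_add, Invol.act_smul]
  rcases zmod2_cases c with rfl | rfl
  · left
    apply Sp.act_ext
    intro x
    rw [hact r, hact 1, hE, hE, hE, hf1, hf2, hc, zero_smul, add_zero]
    simp only [Sp.act_one]
  · right
    apply Sp.act_ext
    intro x
    have t1 : ∀ i, Sp.act (Sp.tr (e 0)) (e i) = e i := by
      intro i
      have : Sp.om (e i) (e 0) = 0 := sf_e_e i 0
      rw [Sp.act_tr, this, zero_smul, add_zero]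
    have t2 : Sp.act (Sp.tr (e 0)) (f 0) = f 0 + (1 : ZMod 2) • e 0 := by
      have : Sp.om (f 0) (e 0) = 1 := by
        have := sf_f_e 0 0
        rwa [if_pos rfl] at this
      rw [Sp.act_tr, this]
    have t3 : Sp.act (Sp.tr (e 0)) (f 1) = f 1 := by
      have : Sp.om (f 1) (e 0) = 0 := by
        have := sf_f_e 1 0
        rwa [if_neg (by decide)] at this
      rw [Sp.act_tr, this, zero_smul, add_zero]
    have t4 : Sp.act (Sp.tr (e 0)) (f 2) = f 2 := by
      have : Sp.om (f 2) (e 0) = 0 := by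
        have := sf_f_e 2 0
        rwa [if_neg (by decide)] at this
      rw [Sp.act_tr, this, zero_smul, add_zero]
    rw [hact r, hact (Sp.tr (e 0)), hE, hE, hE, hf1, hf2, hc, t1, t1, t1, t2, t3, t4]

variable {G : Type*} [Group G] {Q Q' : Subgroup G} {t t' : G} {S : Sit G Q t} {P : Ctx S}

namespace Bad

variable (b : Bad P Q' t')

include b

omit b in
/-- codes of `W` -/
theorem W_expand : ∀ c < 256, c &&& 23 = 0 → c = (if c.testBit 3 then 8 else 0) ^^^
    ((if c.testBit 5 then 32 else 0) ^^^ ((if c.testBit 6 then 64 else 0) ^^^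
      (if c.testBit 7 then 128 else 0))) := by decide +kernel

/-- the order of `Q ∩ Q'` in the case `J = W` -/
theorem card_inf_of_big (h8 : inJ P Q' (enc P.B 8)) (h32 : inJ P Q' (enc P.B 32))
    (h64 : inJ P Q' (enc P.B 64)) : Nat.card (Q ⊓ Q' : Subgroup G) = 2 ^ 5 := by
  classical
  have h1 := card_two_mul S.large (Q ⊓ Q') inf_le_left (mem_inf.2 ⟨S.large.z_mem, b.mem'⟩)
  have hW : ∀ c < 256, c &&& 23 = 0 → inJ P Q' (enc P.B c) := by
    intro c hc hcW
    rw [W_expand c hc hcW]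
    have h0 : inJ P Q' (enc P.B 0) := by
      rw [enc_zero]; exact ⟨1, one_mem Q', S.large.pr_one⟩
    refine b.Jc_xor ?_ (b.Jc_xor ?_ (b.Jc_xor ?_ ?_))
    · split_ifs; exacts [h8, h0]
    · split_ifs; exacts [h32, h0]
    · split_ifs; exacts [h64, h0]
    · split_ifs; exacts [b.Jc_128, h0]
  let T := (Finset.range 256).filter (fun c => c &&& 23 = 0)
  have hTc : T.card = 16 := by decide +kernel
  have h2 : Nat.card {v : S.large.V // ∃ x : Q, (x : G) ∈ Q ⊓ Q' ∧ S.large.pr x = v} = 16 := by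
    rw [← hTc, ← Fintype.card_coe, ← Nat.card_eq_fintype_card]
    apply Nat.card_congr
    have hg : ∀ c : T, ∃ x : Q, (x : G) ∈ Q ⊓ Q' ∧ S.large.pr x = enc P.B c := by
      intro c
      obtain ⟨hc1, hc2⟩ := Finset.mem_filter.1 c.2
      obtain ⟨x, hx, hxe⟩ := hW c (Finset.mem_range.1 hc1) hc2
      exact ⟨x, mem_inf.2 ⟨x.2, hx⟩, hxe⟩
    let g : T → {v : S.large.V // ∃ x : Q, (x : G) ∈ Q ⊓ Q' ∧ S.large.pr x = v} :=
      fun c => ⟨enc P.B c, hg c⟩
    refine (Equiv.ofBijective g ⟨?_, ?_⟩).symm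
    · intro c d hcd
      obtain ⟨hc1, hc2⟩ := Finset.mem_filter.1 c.2
      obtain ⟨hd1, hd2⟩ := Finset.mem_filter.1 d.2
      apply Subtype.ext
      exact enc_inj P.B (Finset.mem_range.1 hc1) (Finset.mem_range.1 hd1)
        (congrArg Subtype.val hcd)
    · rintro ⟨v, x, hx, hxe⟩
      have hJ : inJ P Q' (enc P.B (cd P.B v)) := by
        rw [enc_cd]
        exact ⟨x, (mem_inf.1 hx).2, hxe⟩
      refine ⟨⟨cd P.B v, Finset.mem_filter.2 ⟨Finset.mem_range.2 (cd_lt _ _),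
        b.Jc_W (cd_lt _ _) hJ⟩⟩, ?_⟩
      apply Subtype.ext
      exact enc_cd _ _
  rw [h1, h2]
  norm_num

/-- an element of `D'` fixing `B 3`, `B 5`, `B 6` lies in `Q ∩ Q'` -/
theorem mem_of_fix [Finite G] (h8 : inJ P Q' (enc P.B 8)) (h32 : inJ P Q' (enc P.B 32))
    (h64 : inJ P Q' (enc P.B 64)) {d : G} (hd : d ∈ dsub Q' t) (hdt : d * t = t * d)
    (f8 : S.rho (S.ps hdt) (enc P.B 8) = enc P.B 8)
    (f32 : S.rho (S.ps hdt) (enc P.B 32) = enc P.B 32)
    (f64 : S.rho (S.ps hdt) (enc P.B 64) = enc P.B 64) : d ∈ Q ⊓ Q' := by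
  have hdQ := (mem_dsub.1 hd).1
  have hcI := b.card_inf_of_big h8 h32 h64
  refine mem_of_comm b.h' (Q ⊓ Q') inf_le_right (mem_inf.2 ⟨b.mem, b.h'.z_mem⟩) ?_ (m := 4)
    ?_ ?_ hdQ ?_
  · intro x hx y hy
    have e1 := inf_sq S.large b.h' b.ne hx
    have e2 := inf_sq S.large b.h' b.ne hy
    have e3 := inf_sq S.large b.h' b.ne (mul_mem hx hy)
    calc x * y = x * (x * y * (x * y)) * y := by rw [e3, mul_one]
      _ = (x * x) * (y * x) * (y * y) := by group
      _ = y * x := by rw [e1, e2, one_mul, mul_one]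
  · rw [b.card']; norm_num
  · rw [hcI]; norm_num
  · intro x hx
    obtain ⟨hxQ, hxQ'⟩ := mem_inf.1 hx
    -- `psi d` fixes `pr x`
    have f128 : S.rho (S.ps hdt) (enc P.B 128) = enc P.B 128 := by
      rw [P.enc_128]; exact b.rho_ps_B7 hd hdt
    have hW : ∀ c < 256, c &&& 23 = 0 → S.rho (S.ps hdt) (enc P.B c) = enc P.B c := by
      intro c hc hcW
      rw [W_expand c hc hcW, enc_xor, enc_xor, enc_xor, map_add, map_add, map_add]
      have g : ∀ (p : Bool) (k : ℕ), S.rho (S.ps hdt) (enc P.B k) = enc P.B k →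
          S.rho (S.ps hdt) (enc P.B (if p then k else 0)) = enc P.B (if p then k else 0) := by
        intro p k hk
        split_ifs
        · exact hk
        · rw [enc_zero, map_zero]
      rw [g _ _ f8, g _ _ f32, g _ _ f64, g _ _ f128]
    have hJ : inJ P Q' (enc P.B (cd P.B (S.large.pr ⟨x, hxQ⟩))) := by
      rw [enc_cd]; exact ⟨⟨x, hxQ⟩, hxQ', rfl⟩
    have h1 := hW _ (cd_lt P.B _) (b.Jc_W (cd_lt P.B _) hJ)
    rw [enc_cd, S.rho_ps, S.large.pr_eq_pr] at h1
    simp only at h1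
    rcases h1 with h1 | h1
    · rw [mul_inv_eq_iff_eq_mul] at h1
      exact h1
    · exfalso
      -- the commutator lies in `⟨t'⟩` too
      rcases b.h'.comm d hdQ x hxQ' with h2 | h2
      · rw [h2, mul_inv_cancel_right] at h1
        exact S.large.z_ne (left_eq_mul.1 h1)
      · have h3 : d * x * d⁻¹ = x * t' := by
          have hdt' : Commute d t' := b.h'.comm_z d hdQ
          rw [h2, mul_assoc, ← hdt'.inv_left.eq]; group
        rw [h1] at h3
        exact b.ne (mul_left_cancel h3).symm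

end Bad

end Cfsg.Agent.Co2Type.WeakB1
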