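import Cfsg.Agent.Co2Type.Good

/-!
# The `Z*`-theorem modulo a central involution
-/

set_option autoImplicit false

namespace Cfsg.Agent.Co2Type.ZMod2

/-- a central involution lies in every Sylow 2-subgroup -/
theorem central_mem {M : Type*} [Group M] [Finite M] (P : Sylow 2 M) {v : M} (hv : v * v = 1) (hv1 : v ≠ 1)
    (hc : ∀ m : M, m * v = v * m) : v ∈ P := by
  have hov : orderOf v = 2 := orderOf_eq_prime (by rw [pow_two, hv]) hv1
  have hp : IsPGroup 2 (Subgroup.zpowers v) := by
    rw [IsPGroup.iff_card]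
    exact ⟨1, by rw [Nat.card_zpowers, hov, pow_one]⟩
  have h2 : IsPGroup 2 (Subgroup.zpowers v ⊔ P : Subgroup M) := by
    refine hp.to_sup_of_normal_right' P.2 ?_
    rw [Subgroup.zpowers_le, Subgroup.mem_normalizer_iff]
    intro x
    rw [← hc x, mul_inv_cancel_right]
  have h3 := P.3 h2 le_sup_right
  have h4 : v ∈ (Subgroup.zpowers v ⊔ P : Subgroup M) := Subgroup.mem_sup_left (Subgroup.mem_zpowers v)
  rw [h3] at h4
  exact h4

/-- a group of order `2 n`, `n` odd, with a central involution `v`: the elements of odd order form a normal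
subgroup `K` with `M = K ∪ K v` -/
theorem exists_odd {M : Type*} [Group M] [Finite M] {v : M} (hv : v * v = 1) (hv1 : v ≠ 1)
    (hc : ∀ m : M, m * v = v * m) {n : ℕ} (hn : Odd n) (hcard : Nat.card M = 2 * n) :
    ∃ K : Subgroup M, Odd (Nat.card K) ∧ (∀ m : M, m ∈ K ∨ m * v ∈ K) ∧ (∀ m : M, Odd (orderOf m) → m ∈ K) := by
  classical
  have : Fact (Nat.Prime 2) := ⟨Nat.prime_two⟩
  obtain ⟨P⟩ : Nonempty (Sylow 2 M) := inferInstance
  have hov : orderOf v = 2 := orderOf_eq_prime (by rw [pow_two, hv]) hv1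
  -- the order of `P`
  have hP2 : Nat.card P = 2 := by
    rw [P.card_eq_multiplicity, hcard]
    have h1 : (2 * n).factorization 2 = 1 := by
      rw [Nat.factorization_mul (by norm_num) hn.pos.ne', Finsupp.add_apply, Nat.Prime.factorization_self Nat.prime_two,
        Nat.factorization_eq_zero_of_not_dvd (fun h => (Nat.not_even_iff_odd.2 hn) (even_iff_two_dvd.2 h))]
    rw [h1, pow_one]
  have hvP : v ∈ P := central_mem P hv hv1 hc
  have hPv : ∀ x ∈ P, x = 1 ∨ x = v := by
    intro x hx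
    obtain ⟨a, b, hab, huniv⟩ := Nat.card_eq_two_iff.1 hP2
    have key : ∀ w : P, w = a ∨ w = b := by
      intro w
      have : w ∈ ({a, b} : Set P) := by rw [huniv]; trivial
      simpa using this
    have hne : (⟨v, hvP⟩ : P) ≠ 1 := fun h => hv1 (congrArg Subtype.val h)
    have : (⟨x, hx⟩ : P) = 1 ∨ (⟨x, hx⟩ : P) = ⟨v, hvP⟩ := by
      rcases key ⟨x, hx⟩ with h | h <;> rcases key 1 with h2 | h2 <;> rcases key ⟨v, hvP⟩ with h3 | h3
      · exact absurd (h3.trans h2.symm) hne
      · left; exact h.trans h2.symm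
      · right; exact h.trans h3.symm
      · exact absurd (h3.trans h2.symm) hne
      · exact absurd (h3.trans h2.symm) hne
      · right; exact h.trans h3.symm
      · left; exact h.trans h2.symm
      · exact absurd (h3.trans h2.symm) hne
    rcases this with h | h
    · left; exact congrArg Subtype.val h
    · right; exact congrArg Subtype.val h
  have hPc : Subgroup.normalizer (P : Set M) ≤ Subgroup.centralizer (P : Set M) := by
    intro g _
    rw [Subgroup.mem_centralizer_iff]
    intro x hx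
    rcases hPv x hx with rfl | rfl
    · simp
    · exact (hc g).symm
  refine ⟨(MonoidHom.transferSylow P hPc).ker, ?_, ?_, ?_⟩
  · have := MonoidHom.not_dvd_card_ker_transferSylow P hPc
    rw [← Nat.not_even_iff_odd, even_iff_two_dvd]; exact this
  · intro m
    have h1 := (MonoidHom.ker_transferSylow_isComplement' P hPc)
    obtain ⟨⟨k, x⟩, hkx⟩ := h1.2 m
    have hkx' : (k : M) * x = m := hkx
    rcases hPv x x.2 with h | h
    · left
      rw [← hkx', h, mul_one]; exact k.2
    · right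
      rw [← hkx', h, mul_assoc, hv, mul_one]; exact k.2
  · intro m hm
    rw [MonoidHom.mem_ker]
    set x := MonoidHom.transferSylow P hPc m with hx
    have h1 : orderOf x ∣ orderOf m := orderOf_map_dvd _ m
    have h2 := orderOf_dvd_natCard x
    rw [hP2] at h2
    rcases (Nat.dvd_prime Nat.prime_two).1 h2 with h3 | h3
    · exact orderOf_eq_one_iff.1 h3
    · exfalso
      rw [h3] at h1
      exact (Nat.not_even_iff_odd.2 hm) (even_iff_two_dvd.2 h1)

theorem card_comap_mk' {C : Type*} [Group C] [Finite C] (Z : Subgroup C) [Z.Normal] (H : Subgroup (C ⧸ Z)) :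
    Nat.card (H.comap (QuotientGroup.mk' Z)) = Nat.card Z * Nat.card H := by
  have h1 := (H.comap (QuotientGroup.mk' Z)).card_mul_index
  rw [Subgroup.index_comap_of_surjective H (QuotientGroup.mk'_surjective Z)] at h1
  have h2 := H.card_mul_index
  have h3 := Subgroup.card_eq_card_quotient_mul_card_subgroup Z
  have h4 : 0 < H.index := Nat.pos_of_ne_zero (Subgroup.index_ne_zero_of_finite)
  rw [h3, ← h2] at h1
  have : Nat.card (H.comap (QuotientGroup.mk' Z)) * H.index = (Nat.card Z * Nat.card H) * H.index := by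
    rw [h1]; ring
  exact Nat.eq_of_mul_eq_mul_right h4 this

/-- `Z*`-theorem modulo a central involution -/
theorem zstar_mod {L : Type*} [Group L] [Finite L] (P : Sylow 2 L) {v z : L} (hv : v * v = 1) (hv1 : v ≠ 1)
    (hc : ∀ m : L, m * v = v * m) (hz : z * z = 1) (hz1 : z ≠ 1) (hzv : z ≠ v) (hzP : z ∈ P)
    (hiso : ∀ l : L, l * z * l⁻¹ ∈ P → l * z * l⁻¹ = z ∨ l * z * l⁻¹ = z * v) :
    ∃ K : Subgroup L, K.Normal ∧ Odd (Nat.card K) ∧
      ∀ l : L, z * l * z⁻¹ * l⁻¹ ∈ K ∨ z * l * z⁻¹ * l⁻¹ * v ∈ K := by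
  classical
  have : Fact (Nat.Prime 2) := ⟨Nat.prime_two⟩
  have hov : orderOf v = 2 := orderOf_eq_prime (by rw [pow_two, hv]) hv1
  set Z : Subgroup L := Subgroup.zpowers v with hZ
  have hmemZ : ∀ x, x ∈ Z ↔ x = 1 ∨ x = v := by
    intro x
    rw [hZ, Subgroup.mem_zpowers_iff]
    constructor
    · rintro ⟨k, rfl⟩
      rcases Int.even_or_odd' k with ⟨m, rfl | rfl⟩
      · left; rw [zpow_mul, zpow_ofNat, pow_two, hv, one_zpow]
      · right; rw [zpow_add, zpow_mul, zpow_ofNat, pow_two, hv, one_zpow, zpow_one, one_mul]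
    · rintro (rfl | rfl)
      · exact ⟨0, zpow_zero _⟩
      · exact ⟨1, zpow_one _⟩
  have hZn : Z.Normal := by
    constructor
    intro x hx g
    have : g * x * g⁻¹ = x := by
      rcases (hmemZ x).1 hx with rfl | rfl
      · group
      · rw [hc, mul_inv_cancel_right]
    rw [this]; exact hx
  have hZcard : Nat.card Z = 2 := by rw [hZ, Nat.card_zpowers, hov]
  let π := QuotientGroup.mk' Z
  have hπs : Function.Surjective π := QuotientGroup.mk'_surjective Z
  have hker : ∀ x, π x = 1 ↔ x = 1 ∨ x = v := by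
    intro x
    rw [← hmemZ]
    exact QuotientGroup.eq_one_iff x
  let P' : Sylow 2 (L ⧸ Z) := P.mapSurjective hπs
  have hP' : ∀ x : L, π x ∈ P' → x ∈ P := by
    intro x hx
    have hx' : π x ∈ (P : Subgroup L).map π := hx
    obtain ⟨y, hy, hyx⟩ := hx'
    have h1 : π (y⁻¹ * x) = 1 := by rw [map_mul, map_inv, hyx, inv_mul_cancel]
    have hvP : v ∈ P := central_mem P hv hv1 hc
    have h2 : y⁻¹ * x ∈ (P : Subgroup L) := by
      rcases (hker _).1 h1 with h | h
      · rw [h]; exact one_mem _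
      · rw [h]; exact hvP
    have h3 := mul_mem hy h2
    rwa [mul_inv_cancel_left] at h3
  have hz' : orderOf (π z) = 2 := by
    apply orderOf_eq_prime
    · rw [pow_two, ← map_mul, hz, map_one]
    · intro h
      rcases (hker z).1 h with h | h
      · exact hz1 h
      · exact hzv h
  obtain ⟨N, hN, hodd, hcomm⟩ := Cfsg.Agent.S0215.result P' (π z) hz' ⟨z, hzP, rfl⟩ (by
    intro g hg
    obtain ⟨l, rfl⟩ := hπs g
    have h1 : π (l * z * l⁻¹) ∈ P' := by rw [map_mul, map_mul, map_inv]; exact hg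
    rcases hiso l (hP' _ h1) with h | h
    · rw [← map_inv, ← map_mul, ← map_mul, h]
    · rw [← map_inv, ← map_mul, ← map_mul, h, map_mul, (hker v).2 (Or.inr rfl), mul_one])
  set M : Subgroup L := N.comap π with hM
  have hMn : M.Normal := hN.comap π
  have hvM : v ∈ M := by
    rw [hM, Subgroup.mem_comap, (hker v).2 (Or.inr rfl)]; exact one_mem _
  have hMcard : Nat.card M = 2 * Nat.card N := by
    rw [hM, card_comap_mk' Z N, hZcard]
  have hvv : (⟨v, hvM⟩ : M) * ⟨v, hvM⟩ = 1 := Subtype.ext hv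
  obtain ⟨K, hK1, hK2, hK3⟩ := exists_odd hvv (fun h => hv1 (congrArg Subtype.val h))
    (fun m => Subtype.ext (hc m)) hodd hMcard
  refine ⟨K.map M.subtype, ?_, ?_, ?_⟩
  · constructor
    rintro _ ⟨k, hk, rfl⟩ g
    have h1 : g * (k : L) * g⁻¹ ∈ M := hMn.conj_mem _ k.2 g
    refine ⟨⟨_, h1⟩, hK3 _ ?_, rfl⟩
    have h2 : orderOf (⟨g * (k : L) * g⁻¹, h1⟩ : M) = orderOf (k : L) := by
      rw [← Subgroup.orderOf_coe]
      exact (MulAut.conj g).orderOf_eq (k : L)
    rw [h2, Subgroup.orderOf_coe]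
    exact Odd.of_dvd_nat hK1 (Subgroup.orderOf_dvd_natCard K hk)
  · rw [Subgroup.card_map_of_injective (Subgroup.subtype_injective _)]
    exact hK1
  · intro l
    have h1 : z * l * z⁻¹ * l⁻¹ ∈ M := by
      rw [hM, Subgroup.mem_comap, map_mul, map_mul, map_mul, map_inv, map_inv]
      exact hcomm (π l)
    rcases hK2 ⟨_, h1⟩ with h | h
    · left; exact ⟨_, h, rfl⟩
    · right; exact ⟨_, h, rfl⟩

end Cfsg.Agent.Co2Type.ZMod2
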